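import Mathlib
import Groth.Prelude
import Groth.Agent.H44.MacLaneAll
import Groth.Agent.H25.GeomRedDesc

/-!
# Generic smoothness of geometrically reduced algebras of finite type over a field
-/

set_option autoImplicit false
universe u
open CategoryTheory CategoryTheory.Limits AlgebraicGeometry TensorProduct

namespace Groth.Agent.H38.GenSmooth

section Ring

variable {k : Type u} [Field k] {B : Type u} [CommRing B] [Algebra k B]

/-- Localizations of a geometrically reduced algebra are geometrically reduced. -/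
lemma isGeometricallyReduced_localization [Algebra.IsGeometricallyReduced k B] (M : Submonoid B)
    (L : Type u) [CommRing L] [Algebra B L] [Algebra k L] [IsScalarTower k B L]
    [IsLocalization M L] : Algebra.IsGeometricallyReduced k L := by
  rw [Algebra.isGeometricallyReduced_field_iff]
  have hB : IsReduced (AlgebraicClosure k ⊗[k] B) :=
    (Algebra.isGeometricallyReduced_field_iff k B).mp inferInstance
  let : Algebra (AlgebraicClosure k ⊗[k] B) (AlgebraicClosure k ⊗[k] L) :=
    (Algebra.TensorProduct.map (AlgHom.id (AlgebraicClosure k) (AlgebraicClosure k))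
      (IsScalarTower.toAlgHom k B L)).toRingHom.toAlgebra
  have : IsScalarTower (AlgebraicClosure k) (AlgebraicClosure k ⊗[k] B)
      (AlgebraicClosure k ⊗[k] L) := IsScalarTower.of_algebraMap_eq (fun x => by
    show _ = (Algebra.TensorProduct.map (AlgHom.id (AlgebraicClosure k) (AlgebraicClosure k))
      (IsScalarTower.toAlgHom k B L)) (algebraMap _ _ x)
    simp [Algebra.TensorProduct.algebraMap_apply])
  have hloc := IsLocalization.tensorProduct_tensorProduct_right k (AlgebraicClosure k) M L
    (by
      ext x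
      show (Algebra.TensorProduct.map (AlgHom.id (AlgebraicClosure k) (AlgebraicClosure k))
        (IsScalarTower.toAlgHom k B L)) (1 ⊗ₜ x) = 1 ⊗ₜ (algebraMap B L x)
      simp)
  exact isReduced_localizationPreserves
    (M.map (Algebra.TensorProduct.includeRight (R := k) (A := AlgebraicClosure k)))
    (AlgebraicClosure k ⊗[k] L) hB

/-- In a geometrically reduced algebra over a field, the localization at a minimal prime is
formally smooth over the field. -/
lemma formallySmooth_localization_of_minimal [Algebra.IsGeometricallyReduced k B]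
    (q : Ideal B) (hq : q ∈ minimalPrimes B) :
    haveI := hq.1.1
    Algebra.FormallySmooth k (Localization.AtPrime q) := by
  haveI := hq.1.1
  haveI : IsReduced B := Algebra.isReduced_of_isGeometricallyReduced k
  have : Ring.KrullDimLE 0 (Localization.AtPrime q) := .of_isLocalization _ hq _
  let : Field (Localization.AtPrime q) := Ring.KrullDimLE.isField_of_isReduced.toField
  have hg : Algebra.IsGeometricallyReduced k (Localization.AtPrime q) :=
    isGeometricallyReduced_localization q.primeCompl (Localization.AtPrime q)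
  exact Groth.Agent.H44.MacLane.formallySmooth_iff_isGeometricallyReduced.mpr hg

end Ring

section SpecLocus

variable {k : Type u} [Field k] {B : Type u} [CommRing B] [Algebra k B]

/-- A point of `Spec B` at which the localization of `B` is formally smooth over `k` lies in the
smooth locus of `Spec B ⟶ Spec k`. -/
lemma mem_smoothLocus_specMap
    [LocallyOfFinitePresentation (Spec.map (CommRingCat.ofHom (algebraMap k B)))]
    (x : PrimeSpectrum B)
    (h : Algebra.FormallySmooth k (Localization.AtPrime x.asIdeal)) :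
    (x : Spec (CommRingCat.of B)) ∈ (Spec.map (CommRingCat.ofHom (algebraMap k B))).smoothLocus := by
  let φ : CommRingCat.of k ⟶ CommRingCat.of B := CommRingCat.ofHom (algebraMap k B)
  show ((Spec.map φ).stalkMap x).hom.FormallySmooth
  let q : Ideal B := x.asIdeal
  let p : Ideal k := (PrimeSpectrum.comap φ.hom x).asIdeal
  have : q.LiesOver p := ⟨rfl⟩
  let := Localization.AtPrime.algebraOfLiesOver p q
  have h2 : Algebra.FormallySmooth (Localization.AtPrime p) (Localization.AtPrime q) :=
    Algebra.FormallySmooth.iff_restrictScalars.mp h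
  rw [← RingHom.formallySmooth_algebraMap] at h2
  exact (RingHom.FormallySmooth.respectsIso.arrow_mk_iso_iff
    (Scheme.arrowStalkMapSpecIso φ x)).mpr h2

/-- Generic smoothness: the smooth locus of a geometrically reduced algebra of finite
presentation over a field is dense. -/
lemma dense_smoothLocus_of_geomReduced
    [LocallyOfFinitePresentation (Spec.map (CommRingCat.ofHom (algebraMap k B)))]
    [Algebra.IsGeometricallyReduced k B] :
    Dense ((Spec.map (CommRingCat.ofHom (algebraMap k B))).smoothLocus :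
      Set (Spec (CommRingCat.of B))) := by
  intro (x : PrimeSpectrum B)
  obtain ⟨q, hq, hqx⟩ := Ideal.exists_minimalPrimes_le
    (bot_le : (⊥ : Ideal B) ≤ x.asIdeal)
  have hqp := hq.1.1
  let y : PrimeSpectrum B := ⟨q, hq.1.1⟩
  have hy : (y : Spec (CommRingCat.of B)) ∈
      (Spec.map (CommRingCat.ofHom (algebraMap k B))).smoothLocus :=
    mem_smoothLocus_specMap y (formallySmooth_localization_of_minimal q hq)
  have hsp : y ⤳ x := (PrimeSpectrum.le_iff_specializes y x).mp hqx
  exact closure_mono (Set.singleton_subset_iff.mpr hy) hsp.mem_closure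

end SpecLocus

section Data

/-- For an algebra of finite type over a field there is a finite purely inseparable extension
`k'` such that `(k' ⊗ A)_red` is geometrically reduced over `k'`. -/
lemma exists_finite_purelyInseparable_geomReduced_of_finiteType (k : Type u) [Field k]
    (A : Type u) [CommRing A] [Algebra k A] [Algebra.FiniteType k A] :
    ∃ (k' : Type u) (_ : Field k') (_ : Algebra k k'), FiniteDimensional k k' ∧
      IsPurelyInseparable k k' ∧
      Algebra.IsGeometricallyReduced k' ((k' ⊗[k] A) ⧸ nilradical (k' ⊗[k] A)) := by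
  let P := perfectClosure k (AlgebraicClosure k)
  haveI : Algebra.FiniteType P (P ⊗[k] A) := inferInstance
  haveI : IsNoetherianRing (P ⊗[k] A) := Algebra.FiniteType.isNoetherianRing P (P ⊗[k] A)
  exact Groth.Agent.H25.GeomRed.exists_finite_purelyInseparable_geomReduced A P
    (IsNoetherian.noetherian _)

end Data

section Affine

/-- The affine case of generic smoothness after a finite purely inseparable extension. -/
theorem affine_case (k : Type u) [Field k] (A : Type u) [CommRing A] [Algebra k A]
    [Algebra.FiniteType k A] :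
    ∃ (U : (Spec (CommRingCat.of A)).Opens) (_ : Dense (U : Set (Spec (CommRingCat.of A))))
      (k' : Type u) (_ : Field k') (_ : Algebra k k') (_ : Module.Finite k k')
      (_ : IsPurelyInseparable k k') (Z : Scheme.{u}) (_ : IsReduced Z)
      (i : Z ⟶ pullback (U.ι ≫ Spec.map (CommRingCat.ofHom (algebraMap k A)))
        (Spec.map (CommRingCat.ofHom (algebraMap k k')))),
      IsClosedImmersion i ∧ Function.Surjective i.base ∧
      Smooth (i ≫ pullback.snd (U.ι ≫ Spec.map (CommRingCat.ofHom (algebraMap k A)))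
        (Spec.map (CommRingCat.ofHom (algebraMap k k')))) := by
  obtain ⟨k', _, _, hfin, hpi, hgeo⟩ :=
    exists_finite_purelyInseparable_geomReduced_of_finiteType k A
  let T := k' ⊗[k] A
  let B := T ⧸ nilradical T
  let fA : Spec (CommRingCat.of A) ⟶ Spec (CommRingCat.of k) :=
    Spec.map (CommRingCat.ofHom (algebraMap k A))
  let q : Spec (CommRingCat.of k') ⟶ Spec (CommRingCat.of k) :=
    Spec.map (CommRingCat.ofHom (algebraMap k k'))
  let cm : A ⊗[k] k' ≃ₐ[k] k' ⊗[k] A := Algebra.TensorProduct.comm k A k'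
  let ρ : A ⊗[k] k' →+* B := (Ideal.Quotient.mk (nilradical T)).comp cm.toAlgHom.toRingHom
  have hρsurj : Function.Surjective ρ :=
    Ideal.Quotient.mk_surjective.comp cm.surjective
  let g : Spec (CommRingCat.of B) ⟶ Spec (CommRingCat.of k') :=
    Spec.map (CommRingCat.ofHom (algebraMap k' B))
  let ν : A →+* B := ρ.comp (Algebra.TensorProduct.includeLeftRingHom)
  let j : Spec (CommRingCat.of B) ⟶ pullback fA q :=
    Spec.map (CommRingCat.ofHom ρ) ≫ (pullbackSpecIso k A k').inv
  have hj_snd : j ≫ pullback.snd fA q = g := by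
    show (Spec.map (CommRingCat.ofHom ρ) ≫ (pullbackSpecIso k A k').inv) ≫ pullback.snd _ _ = _
    rw [Category.assoc, pullbackSpecIso_inv_snd, ← Spec.map_comp]
    congr 1
  have hj_fst : j ≫ pullback.fst fA q = Spec.map (CommRingCat.ofHom ν) := by
    show (Spec.map (CommRingCat.ofHom ρ) ≫ (pullbackSpecIso k A k').inv) ≫ pullback.fst _ _ = _
    rw [Category.assoc, pullbackSpecIso_inv_fst, ← Spec.map_comp]
    rfl
  -- `Spec B → Spec A` is a homeomorphism
  have hH : ∀ b : B, ∃ n > 0, b ^ n ∈ ν.range := by
    intro b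
    obtain ⟨t, rfl⟩ := hρsurj b
    obtain ⟨n, hn, a, ha⟩ := IsPurelyInseparable.exists_pow_mem_range_tensorProduct (k := k)
      (K := k') (R := A) t
    refine ⟨n, hn, a, ?_⟩
    show ρ (Algebra.TensorProduct.includeLeftRingHom a) = (ρ t) ^ n
    rw [← map_pow, ← ha]
    rfl
  have hker : RingHom.ker ν ≤ nilradical A := by
    intro a ha
    rw [RingHom.mem_ker] at ha
    have h1 : (1 : k') ⊗ₜ[k] a ∈ nilradical T := by
      have : ρ (a ⊗ₜ[k] (1 : k')) = 0 := ha
      have h2 : (Ideal.Quotient.mk (nilradical T)) ((1 : k') ⊗ₜ[k] a) = 0 := by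
        rw [← this]; simp [ρ, cm]
      exact Ideal.Quotient.eq_zero_iff_mem.mp h2
    rw [mem_nilradical] at h1 ⊢
    have hinj : Function.Injective
        (Algebra.TensorProduct.includeRight : A →ₐ[k] k' ⊗[k] A) :=
      Algebra.TensorProduct.includeRight_injective (algebraMap k k').injective
    exact (IsNilpotent.map_iff hinj).mp h1
  have hhomeo : IsHomeomorph (PrimeSpectrum.comap ν) :=
    PrimeSpectrum.isHomeomorph_comap ν hH hker
  -- `Spec ρ` is surjective
  have hρspec : Function.Surjective (PrimeSpectrum.comap ρ) := by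
    rw [← Set.range_eq_univ, range_comap_of_surjective _ ρ hρsurj,
      Set.eq_univ_iff_forall]
    intro x
    rw [PrimeSpectrum.mem_zeroLocus]
    intro t ht
    have h1 : cm t ∈ nilradical T := Ideal.Quotient.eq_zero_iff_mem.mp ht
    have h2 : IsNilpotent t := by
      rw [mem_nilradical] at h1
      exact (IsNilpotent.map_iff cm.injective).mp h1
    exact nilradical_le_prime x.asIdeal (mem_nilradical.mpr h2)
  -- finite presentation and the smooth locus
  haveI : Algebra.FiniteType k' T := inferInstance
  haveI : Algebra.FiniteType k' B :=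
    Algebra.FiniteType.of_surjective (Ideal.Quotient.mkₐ k' (nilradical T))
      (Ideal.Quotient.mkₐ_surjective _ _)
  haveI : Algebra.FinitePresentation k' B :=
    Algebra.FinitePresentation.of_finiteType.mp inferInstance
  haveI hlfp : LocallyOfFinitePresentation g := by
    rw [HasRingHomProperty.Spec_iff (P := @LocallyOfFinitePresentation)]
    exact RingHom.finitePresentation_algebraMap.mpr inferInstance
  haveI : IsReduced B := Algebra.isReduced_of_isGeometricallyReduced k'
  have hdense : Dense (g.smoothLocus : Set (Spec (CommRingCat.of B))) :=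
    dense_smoothLocus_of_geomReduced
  let h : Spec (CommRingCat.of B) ⟶ Spec (CommRingCat.of A) := Spec.map (CommRingCat.ofHom ν)
  have hh : IsHomeomorph h.base := hhomeo
  let U : (Spec (CommRingCat.of A)).Opens :=
    ⟨h.base '' (g.smoothLocus : Set _), hh.isOpenMap _ g.smoothLocus.2⟩
  have hUdense : Dense (U : Set (Spec (CommRingCat.of A))) :=
    hh.surjective.denseRange.dense_image hh.continuous hdense
  let ι' : pullback (U.ι ≫ fA) q ⟶ pullback fA q :=
    pullback.map (U.ι ≫ fA) q fA q U.ι (𝟙 _) (𝟙 _) (by simp) (by simp)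
  haveI hι' : IsOpenImmersion ι' := by
    have : MorphismProperty.IsStableUnderComposition @IsOpenImmersion :=
      MorphismProperty.IsMultiplicative.toIsStableUnderComposition
    exact MorphismProperty.pullbackMap (P := @IsOpenImmersion)
      (inferInstance : IsOpenImmersion U.ι) (inferInstance : IsOpenImmersion (𝟙 _)) rfl
      (Category.id_comp _).symm
  have hrι' : Set.range ι' = (pullback.fst fA q) ⁻¹' (U : Set _) := by
    have := Scheme.Pullback.range_map (U.ι ≫ fA) q fA q U.ι (𝟙 _) (𝟙 _) (by simp) (by simp)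
    rw [this]
    simp [Scheme.Opens.range_ι]
  haveI hjc : IsClosedImmersion j := by
    haveI := IsClosedImmersion.spec_of_surjective (CommRingCat.ofHom ρ) hρsurj
    infer_instance
  have hjsurj : Function.Surjective j.base := by
    intro y
    obtain ⟨b, hb⟩ := hρspec ((pullbackSpecIso k A k').hom y)
    let b' : ↥(Spec (CommRingCat.of B)) := b
    refine ⟨b', ?_⟩
    show ((Spec.map (CommRingCat.ofHom ρ)) ≫ (pullbackSpecIso k A k').inv) b' = y
    rw [Scheme.Hom.comp_apply]
    have : (Spec.map (CommRingCat.ofHom ρ)) b' = (pullbackSpecIso k A k').hom y := hb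
    rw [this, ← Scheme.Hom.comp_apply, Iso.hom_inv_id]
    rfl
  refine ⟨U, hUdense, k', inferInstance, inferInstance, hfin, hpi, pullback j ι', ?_,
    pullback.snd j ι', inferInstance, ?_, ?_⟩
  · haveI : IsReduced (Spec (CommRingCat.of B)) := inferInstance
    exact isReduced_of_isOpenImmersion (pullback.fst j ι')
  · intro y
    obtain ⟨b, hb⟩ := hjsurj (ι' y)
    obtain ⟨z, hz1, hz2⟩ := Scheme.Pullback.exists_preimage_pullback b y hb
    exact ⟨z, hz2⟩
  · have e1 : pullback.snd j ι' ≫ pullback.snd (U.ι ≫ fA) q = pullback.fst j ι' ≫ g := by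
      have h1 : ι' ≫ pullback.snd fA q = pullback.snd (U.ι ≫ fA) q := by
        show pullback.map (U.ι ≫ fA) q fA q U.ι (𝟙 _) (𝟙 _) _ _ ≫ pullback.snd fA q = _
        rw [pullback.lift_snd, Category.comp_id]
      rw [← h1, ← Category.assoc, ← pullback.condition, Category.assoc, hj_snd]
    show Smooth (pullback.snd j ι' ≫ pullback.snd (U.ι ≫ fA) q)
    rw [e1]
    rw [← Scheme.Hom.smoothLocus_eq_top_iff, ← Scheme.Hom.preimage_smoothLocus_eq]
    rw [eq_top_iff]
    rintro z -
    show (pullback.fst j ι') z ∈ g.smoothLocus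
    have h2 : j ((pullback.fst j ι') z) ∈ Set.range ι' :=
      ⟨(pullback.snd j ι') z, by
        rw [← Scheme.Hom.comp_apply, ← pullback.condition, Scheme.Hom.comp_apply]⟩
    rw [hrι'] at h2
    have h3 : h ((pullback.fst j ι') z) ∈ (U : Set _) := by
      have : h = j ≫ pullback.fst fA q := hj_fst.symm
      rw [this, Scheme.Hom.comp_apply]
      exact h2
    obtain ⟨w, hw, hwz⟩ := h3
    rw [← hh.injective hwz]
    exact hw

end Affine

section Global

/-- A Noetherian scheme has a dense affine open subscheme. -/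
lemma exists_dense_affineOpen (X : Scheme.{u}) [TopologicalSpace.NoetherianSpace X] :
    ∃ U : X.Opens, IsAffineOpen U ∧ Dense (U : Set X) := by
  have hwf : WellFoundedGT (TopologicalSpace.Opens X) := ‹_›
  obtain ⟨U, hU, hmax⟩ := hwf.wf.has_min {U : X.Opens | IsAffineOpen U} ⟨⊥, isAffineOpen_bot X⟩
  refine ⟨U, hU, ?_⟩
  by_contra hnd
  have hne : ((closure (U : Set X))ᶜ).Nonempty := by
    rw [Set.nonempty_compl]
    intro h
    exact hnd (dense_iff_closure_eq.mpr h)
  obtain ⟨x, hx⟩ := hne
  obtain ⟨_, ⟨V, hV, rfl⟩, hxV, hVW⟩ :=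
    X.isBasis_affineOpens.exists_subset_of_mem_open hx isClosed_closure.isOpen_compl
  have hdisj : Disjoint U V := by
    rw [← TopologicalSpace.Opens.coe_disjoint, Set.disjoint_left]
    intro y hyU hyV
    exact hVW hyV (subset_closure hyU)
  have haff : IsAffineOpen (U ⊔ V) := hU.sup_of_disjoint hV hdisj
  refine hmax (U ⊔ V) haff (lt_of_le_of_ne le_sup_left ?_)
  intro heq
  have hxU : x ∈ U := by
    rw [heq]
    exact Or.inr hxV
  exact hx (subset_closure hxU)

variable {X₀ X S S' : Scheme.{u}}

/-- Transport along an open immersion. -/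
lemma transport_openImmersion (e : X₀ ⟶ X) [IsOpenImmersion e] (f : X ⟶ S) (q : S' ⟶ S)
    (U' : X₀.Opens) {Z : Scheme.{u}} (i' : Z ⟶ pullback (U'.ι ≫ e ≫ f) q)
    [IsClosedImmersion i'] (hs : Function.Surjective i'.base)
    (hsm : Smooth (i' ≫ pullback.snd (U'.ι ≫ e ≫ f) q)) :
    ∃ i : Z ⟶ pullback ((e ''ᵁ U').ι ≫ f) q,
      IsClosedImmersion i ∧ Function.Surjective i.base ∧
        Smooth (i ≫ pullback.snd ((e ''ᵁ U').ι ≫ f) q) := by
  let θ : pullback (U'.ι ≫ e ≫ f) q ⟶ pullback ((e ''ᵁ U').ι ≫ f) q :=
    pullback.map _ _ _ _ (e.isoImage U').hom (𝟙 _) (𝟙 _)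
      (by rw [Category.comp_id, Scheme.Hom.isoImage_hom_ι_assoc])
      (by simp)
  haveI : IsIso θ := by
    show IsIso (pullback.map _ _ _ _ _ _ _ _ _)
    infer_instance
  refine ⟨i' ≫ θ, inferInstance, ?_, ?_⟩
  · intro y
    obtain ⟨z, hz⟩ := hs ((inv θ) y)
    refine ⟨z, ?_⟩
    rw [Scheme.Hom.comp_apply, hz, ← Scheme.Hom.comp_apply, IsIso.inv_hom_id]
    rfl
  · have : θ ≫ pullback.snd ((e ''ᵁ U').ι ≫ f) q = pullback.snd (U'.ι ≫ e ≫ f) q := by
      show pullback.map _ _ _ _ _ _ _ _ _ ≫ _ = _
      rw [pullback.lift_snd, Category.comp_id]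
    rw [Category.assoc, this]
    exact hsm

/-- Transport along an open immersion with dense range, in the form used below. -/
lemma transport_dense (e : X₀ ⟶ X) [IsOpenImmersion e] (he : DenseRange e.base) (f : X ⟶ S)
    (f₀ : X₀ ⟶ S) (hf₀ : f₀ = e ≫ f) (q : S' ⟶ S)
    (U' : X₀.Opens) (hU' : Dense (U' : Set X₀)) {Z : Scheme.{u}}
    (i' : Z ⟶ pullback (U'.ι ≫ f₀) q)
    (hc : IsClosedImmersion i') (hs : Function.Surjective i'.base)
    (hsm : Smooth (i' ≫ pullback.snd (U'.ι ≫ f₀) q)) :
    ∃ (U : X.Opens) (_ : Dense (U : Set X)) (i : Z ⟶ pullback (U.ι ≫ f) q),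
      IsClosedImmersion i ∧ Function.Surjective i.base ∧
        Smooth (i ≫ pullback.snd (U.ι ≫ f) q) := by
  subst hf₀
  obtain ⟨i, h1, h2, h3⟩ := transport_openImmersion e f q U' i' hs hsm
  refine ⟨e ''ᵁ U', ?_, i, h1, h2, h3⟩
  have := he.dense_image e.continuous hU'
  simpa using this

/-- Generic smoothness of the reduction after a finite purely inseparable extension. -/
theorem main (k : Type u) [Field k] {X : Scheme.{u}}
    (f : X ⟶ Spec (CommRingCat.of k)) [LocallyOfFiniteType f] [QuasiCompact f] :
    ∃ (U : X.Opens) (_ : Dense (U : Set X)) (k' : Type u) (_ : Field k') (_ : Algebra k k')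
      (_ : Module.Finite k k') (_ : IsPurelyInseparable k k') (Z : Scheme.{u}) (_ : IsReduced Z)
      (i : Z ⟶ pullback (U.ι ≫ f) (Spec.map (CommRingCat.ofHom (algebraMap k k')))),
      IsClosedImmersion i ∧ Function.Surjective i.base ∧
      Smooth (i ≫ pullback.snd (U.ι ≫ f) (Spec.map (CommRingCat.ofHom (algebraMap k k')))) := by
  haveI : CompactSpace X := (quasiCompact_iff_compactSpace f).mp inferInstance
  haveI : IsLocallyNoetherian X := LocallyOfFiniteType.isLocallyNoetherian f
  haveI : IsNoetherian X := { }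
  obtain ⟨U₀, hU₀, hU₀d⟩ := exists_dense_affineOpen X
  obtain ⟨φ, hφ⟩ := Spec.map_surjective (hU₀.fromSpec ≫ f)
  letI : Algebra k Γ(X, U₀) := φ.hom.toAlgebra
  haveI : LocallyOfFiniteType (Spec.map φ) := by rw [hφ]; infer_instance
  have hft : φ.hom.FiniteType :=
    (HasRingHomProperty.Spec_iff (P := @LocallyOfFiniteType)).mp ‹_›
  haveI : Algebra.FiniteType k Γ(X, U₀) := hft
  obtain ⟨U', hU'd, k', hk'1, hk'2, hfin, hpi, Z, hZ, i', hi'1, hi'2, hi'3⟩ :=
    affine_case k Γ(X, U₀)
  have hde : DenseRange hU₀.fromSpec.base := by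
    rw [DenseRange, hU₀.range_fromSpec]
    exact hU₀d
  obtain ⟨U, hUd, i, h1, h2, h3⟩ := transport_dense hU₀.fromSpec hde f
    (Spec.map (CommRingCat.ofHom (algebraMap k Γ(X, U₀)))) hφ
    (Spec.map (CommRingCat.ofHom (algebraMap k k'))) U' hU'd i' hi'1 hi'2 hi'3
  exact ⟨U, hUd, k', hk'1, hk'2, hfin, hpi, Z, hZ, i, h1, h2, h3⟩

end Global

end Groth.Agent.H38.GenSmooth
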