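import Mathlib
import Groth.Prelude
import Groth.Agent.H25.StalkBC
import Groth.Agent.H38.GenSmooth

/-!
# Geometric reducedness can be checked at generic points
-/

set_option autoImplicit false
universe u
open CategoryTheory CategoryTheory.Limits AlgebraicGeometry TensorProduct

namespace Groth.Agent.H38.GeomRedPoints

section Ring

variable {k : Type u} [Field k] {A : Type u} [CommRing A] [Algebra k A]

/-- Coordinates of the image of `z : A ⊗ Ω` in `L ⊗ Ω` with respect to the bases induced by a
`k`-basis of `Ω`. -/
lemma repr_map {Ω : Type u} [Field Ω] [Algebra k Ω] {ι : Type*} (b : Module.Basis ι k Ω)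
    (L : Type u) [CommRing L] [Algebra A L] [Algebra k L] [IsScalarTower k A L]
    (z : A ⊗[k] Ω) (i : ι) :
    (Algebra.TensorProduct.basis L b).repr
      (Algebra.TensorProduct.map (IsScalarTower.toAlgHom k A L) (AlgHom.id k Ω) z) i =
      algebraMap A L ((Algebra.TensorProduct.basis A b).repr z i) := by
  induction z using TensorProduct.induction_on with
  | zero => simp
  | tmul a m =>
    simp only [Algebra.TensorProduct.map_tmul, IsScalarTower.coe_toAlgHom', AlgHom.coe_id, id_eq,
      Algebra.TensorProduct.basis_repr_tmul, Finsupp.smul_apply, Finsupp.mapRange_apply,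
      smul_eq_mul, map_mul]
    rw [← IsScalarTower.algebraMap_apply k A L]
  | add x y hx hy => simp [hx, hy]

/-- A reduced algebra over a field all of whose localizations at minimal primes are geometrically
reduced is geometrically reduced. -/
theorem isGeometricallyReduced_of_minimalPrimes [IsReduced A]
    (h : ∀ p ∈ minimalPrimes A, ∃ (L : Type u) (_ : CommRing L) (_ : Algebra A L)
      (_ : Algebra k L) (_ : IsScalarTower k A L) (_ : p.IsPrime) (_ : IsLocalization.AtPrime L p),
      Algebra.IsGeometricallyReduced k L) :
    Algebra.IsGeometricallyReduced k A := by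
  rw [Algebra.isGeometricallyReduced_field_iff]
  let Ω := AlgebraicClosure k
  suffices hred : IsReduced (A ⊗[k] Ω) from
    isReduced_of_injective (Algebra.TensorProduct.comm k Ω A)
      (Algebra.TensorProduct.comm k Ω A).injective
  let b := Module.Basis.ofVectorSpace k Ω
  refine ⟨fun z hz => ?_⟩
  have hcoord : ∀ i, (Algebra.TensorProduct.basis A b).repr z i = 0 := by
    intro i
    have hmem : (Algebra.TensorProduct.basis A b).repr z i ∈ nilradical A := by
      rw [nilradical, ← Ideal.sInf_minimalPrimes, Ideal.mem_sInf]
      intro p hp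
      obtain ⟨L, _, _, _, _, hpp, hloc, hg⟩ := h p hp
      have hredL : IsReduced (L ⊗[k] Ω) := by
        have h1 : IsReduced (Ω ⊗[k] L) := (Algebra.isGeometricallyReduced_field_iff k L).mp hg
        exact isReduced_of_injective (Algebra.TensorProduct.comm k L Ω)
          (Algebra.TensorProduct.comm k L Ω).injective
      have h0 : Algebra.TensorProduct.map (IsScalarTower.toAlgHom k A L) (AlgHom.id k Ω) z = 0 :=
        (hz.map _).eq_zero
      have h1 := repr_map b L z i
      rw [h0] at h1
      simp only [map_zero, Finsupp.coe_zero, Pi.zero_apply] at h1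
      obtain ⟨s, hs⟩ := (IsLocalization.map_eq_zero_iff p.primeCompl L _).mp h1.symm
      exact (hpp.mem_or_mem (hs ▸ p.zero_mem)).resolve_left s.2
    rw [nilradical_eq_zero] at hmem
    exact hmem
  have : (Algebra.TensorProduct.basis A b).repr z = 0 := Finsupp.ext hcoord
  exact (Algebra.TensorProduct.basis A b).repr.map_eq_zero_iff.mp this

end Ring

section Scheme

attribute [local instance] Curv2.stalkAlgebra

variable (k : Type u) [Field k] (X : Scheme.{u}) [X.Over (Spec (CommRingCat.of k))]

/-- The `k`-algebra structure on the sections of a `k`-scheme over an open subset. -/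
noncomputable abbrev sectionAlgebra (U : X.Opens) : Algebra k Γ(X, U) :=
  ((X.presheaf.map (homOfLE (le_top : U ≤ ⊤)).op).hom.comp
    (Coh.toGlobal (X ↘ Spec (CommRingCat.of k)))).toAlgebra

lemma isScalarTower_section_stalk (U : X.Opens) (x : U) :
    letI := sectionAlgebra k X U
    IsScalarTower k Γ(X, U) (X.presheaf.stalk (x : X)) := by
  letI := sectionAlgebra k X U
  refine IsScalarTower.of_algebraMap_eq (fun c => ?_)
  show (X.presheaf.germ ⊤ (x : X) trivial).hom (Coh.toGlobal (X ↘ Spec (CommRingCat.of k)) c) =
    (X.presheaf.germ U (x : X) x.2).hom ((X.presheaf.map (homOfLE (le_top : U ≤ ⊤)).op).hom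
      (Coh.toGlobal (X ↘ Spec (CommRingCat.of k)) c))
  exact (TopCat.Presheaf.germ_res_apply X.presheaf (homOfLE (le_top : U ≤ ⊤)) (x : X) x.2 _).symm

/-- If the sections over an affine open are geometrically reduced, so are the local rings at its
points. -/
lemma isGeometricallyReduced_stalk_of_section {U : X.Opens} (hU : IsAffineOpen U)
    (hA : @Algebra.IsGeometricallyReduced k Γ(X, U) _ _ (sectionAlgebra k X U)) (x : U) :
    Algebra.IsGeometricallyReduced k (X.presheaf.stalk (x : X)) := by
  letI := sectionAlgebra k X U
  haveI := isScalarTower_section_stalk k X U x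
  haveI := hU.isLocalization_stalk x
  exact Groth.Agent.H38.GenSmooth.isGeometricallyReduced_localization
    (hU.primeIdealOf x).asIdeal.primeCompl (X.presheaf.stalk (x : X))

/-- A point without proper generalizations is the generic point of an irreducible component. -/
lemma closure_mem_irreducibleComponents {T : Type*} [TopologicalSpace T] [QuasiSober T] (y : T)
    (hy : ∀ z : T, z ⤳ y → z = y) : closure ({y} : Set T) ∈ irreducibleComponents T := by
  refine ⟨isIrreducible_singleton.closure, fun Z hZ hle => ?_⟩
  obtain ⟨z, hz⟩ := QuasiSober.sober hZ.closure isClosed_closure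
  have hzy : z ⤳ y := by
    rw [specializes_iff_mem_closure, hz.def]
    exact subset_closure (hle (subset_closure rfl))
  rw [hy z hzy] at hz
  show Z ⊆ closure {y}
  rw [hz.def]
  exact subset_closure

/-- Geometric reducedness of all local rings gives geometric reducedness of the scheme. -/
theorem geometricallyReduced_of_stalks
    (h : ∀ x : X, Algebra.IsGeometricallyReduced k (X.presheaf.stalk x)) :
    GeometricallyReduced (X ↘ Spec (CommRingCat.of k)) := by
  refine ⟨geometrically_iff_of_commRing_of_isClosedUnderIsomorphisms.mpr fun K _ _ => ?_⟩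
  haveI : ∀ x' : ↥(Curv2.bc k X K), _root_.IsReduced ((Curv2.bc k X K).presheaf.stalk x') := by
    intro x'
    have htfae := (Groth.Agent.H25.GeomRed.tfae_geometricallyReduced (k := k)
      (S := X.presheaf.stalk (Curv2.bcFst k X K x'))).out 1 2
    have h3 : ∀ (L : Type u) [Field L] [Algebra k L],
        _root_.IsReduced (L ⊗[k] X.presheaf.stalk (Curv2.bcFst k X K x')) :=
      htfae.mp (h _)
    exact Groth.Agent.H25.StalkBC.stalk_isReduced_of_isReduced_tensor k X K x' _ rfl (h3 K)
  exact isReduced_of_isReduced_stalk (Curv2.bc k X K)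

/-- A reduced scheme over `k` which is geometrically reduced at the generic points of its
irreducible components is geometrically reduced. -/
theorem geometricallyReduced_of_generic_points [IsReduced X]
    (h : ∀ Z ∈ irreducibleComponents (X : Type u), ∀ η : X, IsGenericPoint η Z →
      Curv2.IsGeomReducedAt k X η) :
    GeometricallyReduced (X ↘ Spec (CommRingCat.of k)) := by
  apply geometricallyReduced_of_stalks
  intro x
  obtain ⟨_, ⟨U, hU, rfl⟩, hxU, -⟩ :=
    X.isBasis_affineOpens.exists_subset_of_mem_open (Set.mem_univ x) isOpen_univ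
  refine isGeometricallyReduced_stalk_of_section k X hU ?_ ⟨x, hxU⟩
  letI := sectionAlgebra k X U
  haveI : _root_.IsReduced Γ(X, U) := inferInstance
  apply isGeometricallyReduced_of_minimalPrimes
  intro p hp
  have hpp : p.IsPrime := hp.1.1
  let y : PrimeSpectrum Γ(X, U) := ⟨p, hpp⟩
  have hyU : hU.fromSpec y ∈ U := by
    have : hU.fromSpec y ∈ Set.range hU.fromSpec := ⟨y, rfl⟩
    rwa [hU.range_fromSpec] at this
  letI : Algebra Γ(X, U) (X.presheaf.stalk (hU.fromSpec y)) :=
    TopCat.Presheaf.algebra_section_stalk X.presheaf ⟨hU.fromSpec y, hyU⟩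
  refine ⟨X.presheaf.stalk (hU.fromSpec y), inferInstance, inferInstance, inferInstance,
    isScalarTower_section_stalk k X U ⟨hU.fromSpec y, hyU⟩, hpp,
    hU.isLocalization_stalk' y hyU, ?_⟩
  rw [← Groth.Agent.H25.StalkBC.isGeomReducedAt_iff_stalk]
  refine h (closure {hU.fromSpec y}) (closure_mem_irreducibleComponents _ ?_) _ rfl
  intro z hz
  have hzU : z ∈ U := hz.mem_open U.2 hyU
  obtain ⟨w, rfl⟩ : z ∈ Set.range hU.fromSpec := by
    rw [hU.range_fromSpec]; exact hzU
  haveI := hU.isOpenImmersion_fromSpec
  have hw : w ⤳ y := (hU.fromSpec.isOpenEmbedding.isInducing.specializes_iff).mp hz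
  have hle : w.asIdeal ≤ p := (PrimeSpectrum.le_iff_specializes w y).mpr hw
  have heq : w.asIdeal = p := le_antisymm hle (hp.2 ⟨w.2, bot_le⟩ hle)
  have : w = y := PrimeSpectrum.ext heq
  rw [this]

end Scheme

end Groth.Agent.H38.GeomRedPoints
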