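import Mathlib
import Groth.Prelude
import Groth.Agent.H38.GeomRedPoints
import Groth.Agent.H38.GenSmooth

/-!
# Geometric reducedness and dense open subschemes
-/

set_option autoImplicit false
universe u
open CategoryTheory CategoryTheory.Limits AlgebraicGeometry TensorProduct

namespace Groth.Agent.H38.GeomRedDense

/-- Precomposing a geometrically reduced morphism with an open immersion. -/
theorem geometricallyReduced_comp_openImmersion {V X S : Scheme.{u}} (j : V ⟶ X)
    [IsOpenImmersion j] (f : X ⟶ S) [GeometricallyReduced f] : GeometricallyReduced (j ≫ f) := by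
  refine ⟨fun K _ y W fst snd h => ?_⟩
  let ℓ : W ⟶ pullback f y := pullback.lift (fst ≫ j) snd (by rw [Category.assoc]; exact h.w)
  have htop : IsPullback fst ℓ j (pullback.fst f y) := by
    refine IsPullback.of_bot ?_ (pullback.lift_fst _ _ _).symm (IsPullback.of_hasPullback f y)
    have : ℓ ≫ pullback.snd f y = snd := pullback.lift_snd _ _ _
    rw [this]
    exact h
  haveI : IsOpenImmersion ℓ := MorphismProperty.of_isPullback htop inferInstance
  haveI : IsReduced (pullback f y) :=
    GeometricallyReduced.geometrically_isReduced y _ _ (IsPullback.of_hasPullback f y)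
  exact isReduced_of_isOpenImmersion ℓ

/-- A scheme over a field is geometrically reduced at the points of an open subscheme which is
geometrically reduced. -/
theorem isGeomReducedAt_of_openImmersion (k : Type u) [Field k] (Y : Scheme.{u})
    [Y.Over (Spec (CommRingCat.of k))] {V : Scheme.{u}} (j : V ⟶ Y) [IsOpenImmersion j]
    (h : GeometricallyReduced (j ≫ (Y ↘ Spec (CommRingCat.of k)))) (η : Y)
    (hη : η ∈ Set.range j) : Curv2.IsGeomReducedAt k Y η := by
  intro K _ _ x' hx'
  let f := Y ↘ Spec (CommRingCat.of k)
  let q := Spec.map (CommRingCat.ofHom (algebraMap k K))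
  haveI : IsReduced (pullback (j ≫ f) q) :=
    h.geometrically_isReduced q _ _ (IsPullback.of_hasPullback _ q)
  let θ : pullback (j ≫ f) q ⟶ pullback f q :=
    pullback.map (j ≫ f) q f q j (𝟙 _) (𝟙 _) (by simp) (by simp)
  have hr : x' ∈ Set.range θ := by
    rw [Scheme.Pullback.range_map]
    refine ⟨?_, ?_⟩
    · show pullback.fst f q x' ∈ Set.range j
      rw [show pullback.fst f q x' = η from hx']
      exact hη
    · simp
  obtain ⟨v, rfl⟩ := hr
  have hiso : IsIso (θ.stalkMap v) := inferInstance
  have hinj : Function.Injective (θ.stalkMap v).hom :=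
    ((ConcreteCategory.isIso_iff_bijective (θ.stalkMap v)).mp hiso).1
  exact isReduced_of_injective (θ.stalkMap v).hom hinj

/-- In a locally noetherian scheme, a dense open subset contains every point without proper
generalizations. -/
theorem mem_of_dense_open (Y : Scheme.{u}) [IsLocallyNoetherian Y] (V : Set Y) (hVo : IsOpen V)
    (hV : Dense V) (η : Y) (hη : ∀ z : Y, z ⤳ η → z = η) : η ∈ V := by
  obtain ⟨_, ⟨W, hW, rfl⟩, hηW, -⟩ :=
    Y.isBasis_affineOpens.exists_subset_of_mem_open (Set.mem_univ η) isOpen_univ
  haveI : IsNoetherianRing Γ(Y, W) := IsLocallyNoetherian.component_noetherian ⟨W, hW⟩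
  haveI : TopologicalSpace.NoetherianSpace W := noetherianSpace_of_isAffineOpen W hW
  haveI : QuasiSober W := inferInstanceAs (QuasiSober (W : Scheme.{u}))
  let η' : W := ⟨η, hηW⟩
  have hcomp : closure ({η'} : Set W) ∈ irreducibleComponents W := by
    apply Groth.Agent.H38.GeomRedPoints.closure_mem_irreducibleComponents
    intro z hz
    have := hη z.1 (hz.map continuous_subtype_val)
    exact Subtype.ext this
  obtain ⟨o, ho, hne, hsub⟩ :=
    TopologicalSpace.NoetherianSpace.exists_isOpen_nonempty_subset_irreducibleComponent _ hcomp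
  have ho' : IsOpen (Subtype.val '' o : Set Y) := W.2.isOpenMap_subtype_val o ho
  obtain ⟨y, ⟨y', hy'o, rfl⟩, hyV⟩ := hV.inter_open_nonempty _ ho' (hne.image _)
  have hsp : η' ⤳ y' := specializes_iff_mem_closure.mpr (hsub hy'o)
  exact (hsp.map continuous_subtype_val).mem_open hVo hyV

/-- A reduced locally noetherian scheme over a field with a dense open subscheme which is
geometrically reduced is geometrically reduced. -/
theorem geometricallyReduced_of_dense_openImmersion (k : Type u) [Field k] (Y : Scheme.{u})
    [Y.Over (Spec (CommRingCat.of k))] [IsReduced Y] [IsLocallyNoetherian Y]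
    {V : Scheme.{u}} (j : V ⟶ Y) [IsOpenImmersion j] (hd : Dense (Set.range j))
    (h : GeometricallyReduced (j ≫ (Y ↘ Spec (CommRingCat.of k)))) :
    GeometricallyReduced (Y ↘ Spec (CommRingCat.of k)) := by
  apply Groth.Agent.H38.GeomRedPoints.geometricallyReduced_of_generic_points
  intro Z hZ η hηZ
  apply isGeomReducedAt_of_openImmersion k Y j h
  apply mem_of_dense_open Y _ j.isOpenEmbedding.isOpen_range hd
  intro z hz
  have h1 : Z ⊆ closure {z} := by
    rw [← hηZ.def]
    exact closure_minimal (Set.singleton_subset_iff.mpr hz.mem_closure) isClosed_closure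
  have h2 : closure {z} ⊆ Z := hZ.2 isIrreducible_singleton.closure h1
  have h3 : η ⤳ z := by
    rw [specializes_iff_mem_closure, hηZ.def]
    exact h2 (subset_closure rfl)
  exact (hz.antisymm h3).eq

/-- A `k`-algebra whose spectrum is geometrically reduced over `Spec k` is geometrically
reduced. -/
theorem isGeometricallyReduced_of_specMap (k B : Type u) [Field k] [CommRing B] [Algebra k B]
    (h : GeometricallyReduced (Spec.map (CommRingCat.ofHom (algebraMap k B)))) :
    Algebra.IsGeometricallyReduced k B := by
  rw [Algebra.isGeometricallyReduced_field_iff]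
  have h1 : IsReduced (pullback (Spec.map (CommRingCat.ofHom (algebraMap k B)))
      (Spec.map (CommRingCat.ofHom (algebraMap k (AlgebraicClosure k))))) :=
    (geometrically_iff_of_commRing_of_isClosedUnderIsomorphisms.mp h.geometrically_isReduced)
      (AlgebraicClosure k)
  have h2 : IsReduced (Spec (CommRingCat.of (B ⊗[k] AlgebraicClosure k))) :=
    isReduced_of_isOpenImmersion (pullbackSpecIso k B (AlgebraicClosure k)).inv
  have h3 : _root_.IsReduced (B ⊗[k] AlgebraicClosure k) := (affine_isReduced_iff _).mp h2
  exact isReduced_of_injective (Algebra.TensorProduct.comm k (AlgebraicClosure k) B).toRingEquiv.toRingHom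
    (Algebra.TensorProduct.comm k (AlgebraicClosure k) B).injective

lemma smoothLocus_congr {A B : Scheme.{u}} (g g' : A ⟶ B) [LocallyOfFinitePresentation g]
    [LocallyOfFinitePresentation g'] (h : g = g') : g.smoothLocus = g'.smoothLocus := by
  subst h; rfl

/-- The smooth locus of a geometrically reduced scheme locally of finite type over a field is
dense. -/
theorem dense_smoothLocus_of_geometricallyReduced (k : Type u) [Field k] {X : Scheme.{u}}
    (f : X ⟶ Spec (CommRingCat.of k)) [LocallyOfFiniteType f] [GeometricallyReduced f] :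
    Dense (f.smoothLocus : Set X) := by
  rw [dense_iff_closure_eq, Set.eq_univ_iff_forall]
  intro x
  obtain ⟨_, ⟨U, hU, rfl⟩, hxU, -⟩ :=
    X.isBasis_affineOpens.exists_subset_of_mem_open (Set.mem_univ x) isOpen_univ
  replace hU : IsAffineOpen U := hU
  haveI : IsOpenImmersion hU.fromSpec := hU.isOpenImmersion_fromSpec
  obtain ⟨φ, hφ⟩ := Spec.map_surjective (hU.fromSpec ≫ f)
  letI : Algebra k Γ(X, U) := φ.hom.toAlgebra
  have hφ' : Spec.map (CommRingCat.ofHom (algebraMap k Γ(X, U))) = hU.fromSpec ≫ f := hφ
  haveI : GeometricallyReduced (Spec.map (CommRingCat.ofHom (algebraMap k Γ(X, U)))) := by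
    rw [hφ']; exact geometricallyReduced_comp_openImmersion _ _
  haveI : Algebra.IsGeometricallyReduced k Γ(X, U) := isGeometricallyReduced_of_specMap k _ ‹_›
  haveI : LocallyOfFinitePresentation (Spec.map (CommRingCat.ofHom (algebraMap k Γ(X, U)))) := by
    rw [hφ']; infer_instance
  have hd := Groth.Agent.H38.GenSmooth.dense_smoothLocus_of_geomReduced (k := k) (B := Γ(X, U))
  have hx' : x ∈ Set.range hU.fromSpec := by rw [hU.range_fromSpec]; exact hxU
  obtain ⟨x', rfl⟩ := hx'
  have h1 := hd x'
  have h2 : (Spec.map (CommRingCat.ofHom (algebraMap k Γ(X, U)))).smoothLocus =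
      hU.fromSpec ⁻¹ᵁ f.smoothLocus := by
    rw [Scheme.Hom.preimage_smoothLocus_eq]
    exact smoothLocus_congr _ _ hφ'
  rw [h2] at h1
  exact map_mem_closure hU.fromSpec.continuous h1 (fun y hy => hy)

end Groth.Agent.H38.GeomRedDense
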