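import Groth.Agent.H25.GeomRed
import Groth.Agent.S4628

/-!
# Geometric reducedness of field extensions, base change of reduced schemes

* `geomReduced_specMap`: `Spec K ⟶ Spec k` is geometrically reduced when `L ⊗[k] K` is reduced for
  every field `L` over `k`.
* `forall_isReduced_tensor_of_perfectField`: over a perfect field every reduced algebra is
  geometrically reduced.
* `isReduced_pullback_specMap`: base change of a reduced `k`-scheme along a geometrically reduced
  field extension is reduced.
-/

set_option autoImplicit false
universe u
open CategoryTheory CategoryTheory.Limits AlgebraicGeometry TensorProduct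

namespace Groth.Agent.H38.GeomRedField

theorem geomReduced_specMap {k K : Type u} [Field k] [Field K] [Algebra k K]
    (h : ∀ (L : Type u) [Field L] [Algebra k L], _root_.IsReduced (L ⊗[k] K)) :
    GeometricallyReduced (Spec.map (CommRingCat.ofHom (algebraMap k K))) := by
  refine ⟨geometrically_iff_of_commRing_of_isClosedUnderIsomorphisms.mpr fun L _ _ => ?_⟩
  haveI : _root_.IsReduced (K ⊗[k] L) :=
    isReduced_of_injective (Algebra.TensorProduct.comm k K L).toRingEquiv.toRingHom
      (Algebra.TensorProduct.comm k K L).injective
  haveI : IsReduced (Spec (CommRingCat.of (K ⊗[k] L))) := inferInstance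
  exact isReduced_of_isOpenImmersion (pullbackSpecIso k K L).hom

theorem forall_isReduced_tensor_of_perfectField {k S : Type u} [Field k] [PerfectField k]
    [CommRing S] [Algebra k S] [_root_.IsReduced S] :
    ∀ (L : Type u) [Field L] [Algebra k L], _root_.IsReduced (L ⊗[k] S) := by
  refine (Groth.Agent.H25.GeomRed.tfae_geometricallyReduced (k := k) (S := S)).out 0 2 |>.mp ?_
  intro k' _ _ _ _
  haveI : Algebra.IsAlgebraic k k' := Algebra.IsAlgebraic.of_finite k k'
  haveI : Algebra.IsSeparable k k' := Algebra.IsAlgebraic.isSeparable_of_perfectField
  have hsurj : Function.Surjective (algebraMap k k') :=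
    IsPurelyInseparable.surjective_algebraMap_of_isSeparable k k'
  have hbij : Function.Bijective (algebraMap k k') := ⟨(algebraMap k k').injective, hsurj⟩
  let e0 : k ≃ₐ[k] k' := AlgEquiv.ofBijective (Algebra.ofId k k') hbij
  let e : (k' ⊗[k] S) ≃ₐ[k] S :=
    (Algebra.TensorProduct.congr e0.symm AlgEquiv.refl).trans (Algebra.TensorProduct.lid k S)
  exact isReduced_of_injective e.toRingEquiv.toRingHom e.injective

theorem isReduced_pullback_specMap {k K : Type u} [Field k] [Field K] [Algebra k K]
    [GeometricallyReduced (Spec.map (CommRingCat.ofHom (algebraMap k K)))]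
    {X : Scheme.{u}} (f : X ⟶ Spec (CommRingCat.of k)) [IsReduced X] :
    IsReduced (pullback f (Spec.map (CommRingCat.ofHom (algebraMap k K)))) := by
  haveI : IsReduced (pullback (Spec.map (CommRingCat.ofHom (algebraMap k K))) f) :=
    Groth.Agent.S4628.result _ f
  exact isReduced_of_isOpenImmersion (pullbackSymmetry _ _).hom

/-- A reduced scheme over a perfect field is geometrically reduced. -/
theorem geomReduced_of_perfectField {k : Type u} [Field k] [PerfectField k]
    {X : Scheme.{u}} (f : X ⟶ Spec (CommRingCat.of k)) [IsReduced X] :
    GeometricallyReduced f := by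
  refine ⟨geometrically_iff_of_commRing_of_isClosedUnderIsomorphisms.mpr fun K _ _ => ?_⟩
  haveI : GeometricallyReduced (Spec.map (CommRingCat.ofHom (algebraMap k K))) :=
    geomReduced_specMap (forall_isReduced_tensor_of_perfectField (k := k) (S := K))
  exact isReduced_pullback_specMap f

end Groth.Agent.H38.GeomRedField
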