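import Mathlib
import Groth.Agent.H54.FibreDimTdeg
import Groth.Agent.H54.SchemeDim2
import Groth.Agent.H54.ValDense

/-!
# Dimension of the total space from the dimensions of the base and the fibres (over a field)
-/

set_option autoImplicit false
universe u
open CategoryTheory AlgebraicGeometry

namespace Groth.Agent.H38.DimFibreSum

open Groth.Agent.H54

/-- If `r ≤ dim F` for a scheme `F` locally of finite type over a field, then some point has
residue field of transcendence degree at least `r`. -/
theorem exists_le_tdeg {k : Type u} [Field k] {F : Scheme.{u}}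
    (s : F ⟶ Spec (CommRingCat.of k)) [LocallyOfFiniteType s] (r : ℕ)
    (h : (r : WithBot ℕ∞) ≤ topologicalKrullDim F) : ∃ z : F, r ≤ tdeg s z := by
  by_contra hcon
  push Not at hcon
  rcases Nat.eq_zero_or_pos r with rfl | hr
  · have hne : Nonempty F := by
      by_contra hne
      rw [not_nonempty_iff] at hne
      have hb : topologicalKrullDim F = ⊥ := by
        rw [topologicalKrullDim, Order.krullDim_eq_bot_iff]
        exact ⟨fun Z => hne.false Z.isIrreducible.nonempty.some⟩
      rw [hb] at h
      exact absurd h (by simp)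
    obtain ⟨z⟩ := hne
    exact absurd (hcon z) (by omega)
  · have h1 := topologicalKrullDim_le_of_forall_tdeg_le s (r - 1) (fun z => by
      have := hcon z; omega)
    have h2 := h.trans h1
    have h3 : r ≤ r - 1 := by exact_mod_cast h2
    omega

/-- The transcendence degree of any residue field is at most the dimension. -/
theorem tdeg_le_dim {k : Type u} [Field k] {X : Scheme.{u}}
    (s : X ⟶ Spec (CommRingCat.of k)) [LocallyOfFiniteType s] (x : X) :
    (tdeg s x : WithBot ℕ∞) ≤ topologicalKrullDim X :=
  (tdeg_le_topologicalKrullDim s x ⊤ trivial).trans (topologicalKrullDim_subspace_le X _)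

/-- A point over `y` whose residue field has transcendence degree at least `tdeg y + r`, when the
fibre over `y` has dimension at least `r`. -/
theorem exists_point_over {k : Type u} [Field k] {X Y : Scheme.{u}}
    (q : Y ⟶ Spec (CommRingCat.of k)) [LocallyOfFiniteType q]
    (f : X ⟶ Y) [LocallyOfFiniteType f] (r : ℕ) (y : Y)
    (h : (r : WithBot ℕ∞) ≤ topologicalKrullDim (f.base ⁻¹' {y})) :
    ∃ x : X, f.base x = y ∧ tdeg q y + r ≤ tdeg (f ≫ q) x := by
  rw [← (f.fiberHomeo y).isHomeomorph.topologicalKrullDim_eq] at h
  obtain ⟨z', hz'⟩ := exists_le_tdeg (fiberQ f y) r h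
  refine ⟨f.fiberι y z', fiberι_mem f y z', ?_⟩
  have h2 := tdeg_fibre_add (f ≫ q) q f rfl y z'
  rw [fiberι_mem f y z'] at h2
  omega

/-- The residue field at `x` has transcendence degree at most `tdeg (f x)` plus the dimension of
the fibre. -/
theorem tdeg_le_add_dim_fibre {k : Type u} [Field k] {X Y : Scheme.{u}}
    (q : Y ⟶ Spec (CommRingCat.of k)) [LocallyOfFiniteType q]
    (f : X ⟶ Y) [LocallyOfFiniteType f] (r : ℕ) (x : X)
    (h : topologicalKrullDim (f.base ⁻¹' {f.base x}) ≤ r) :
    tdeg (f ≫ q) x ≤ tdeg q (f.base x) + r := by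
  rw [← (f.fiberHomeo (f.base x)).isHomeomorph.topologicalKrullDim_eq] at h
  have h1 := (tdeg_le_dim (fiberQ f (f.base x)) (f.asFiber x)).trans h
  have h1' : tdeg (fiberQ f (f.base x)) (f.asFiber x) ≤ r := by exact_mod_cast h1
  have h2 := tdeg_fibre_add (f ≫ q) q f rfl (f.base x) (f.asFiber x)
  rw [f.fiberι_asFiber x] at h2
  omega

/-- Lower bound `r + dim Y ≤ dim X` from fibres over maximal points. -/
theorem add_dim_le {k : Type u} [Field k] {X Y : Scheme.{u}}
    (q : Y ⟶ Spec (CommRingCat.of k)) [LocallyOfFiniteType q]
    (f : X ⟶ Y) [LocallyOfFiniteType f] (r : ℕ)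
    (hfib : ∀ η : Y, closure ({η} : Set Y) ∈ irreducibleComponents (Y : Type u) →
      (r : WithBot ℕ∞) ≤ topologicalKrullDim (f.base ⁻¹' {η})) :
    (r : WithBot ℕ∞) + topologicalKrullDim Y ≤ topologicalKrullDim X := by
  by_cases hY : Nonempty Y
  · have key : ∀ y : Y, ∃ x : X, tdeg q y + r ≤ tdeg (f ≫ q) x := by
      intro y
      obtain ⟨η, hηy, hη⟩ := exists_generic_specializes y
      obtain ⟨x, -, hx⟩ := exists_point_over q f r η (hfib η hη)
      exact ⟨x, (Nat.add_le_add_right (tdeg_le_of_specializes q hηy) r).trans hx⟩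
    induction hd : topologicalKrullDim X using WithBot.recBotCoe with
    | bot =>
      obtain ⟨y⟩ := hY
      obtain ⟨x, -⟩ := key y
      rw [topologicalKrullDim, Order.krullDim_eq_bot_iff] at hd
      exact (hd.false ⟨closure {x}, isIrreducible_singleton.closure, isClosed_closure⟩).elim
    | coe N =>
      induction N using ENat.recTopCoe with
      | top => exact le_top
      | coe N =>
        have hN : ∀ x : X, tdeg (f ≫ q) x ≤ N := by
          intro x
          have := tdeg_le_dim (f ≫ q) x
          rw [hd] at this
          exact_mod_cast this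
        have h1 : topologicalKrullDim Y ≤ ((N - r : ℕ) : WithBot ℕ∞) := by
          apply topologicalKrullDim_le_of_forall_tdeg_le q (N - r)
          intro y
          obtain ⟨x, hx⟩ := key y
          have := hN x
          omega
        have hr : r ≤ N := by
          obtain ⟨y⟩ := hY
          obtain ⟨x, hx⟩ := key y
          have := hN x
          omega
        refine (add_le_add (le_refl (r : WithBot ℕ∞)) h1).trans ?_
        have h3 : r + (N - r) = N := by omega
        rw [← Nat.cast_add, h3]
        exact_mod_cast le_rfl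
  · rw [not_nonempty_iff] at hY
    have : topologicalKrullDim Y = ⊥ := by
      rw [topologicalKrullDim, Order.krullDim_eq_bot_iff]
      exact ⟨fun Z => hY.false Z.isIrreducible.nonempty.some⟩
    rw [this, WithBot.add_bot]
    exact bot_le

/-- Upper bound `dim X ≤ r + dim Y` from an upper bound on all fibres. -/
theorem dim_le_add {k : Type u} [Field k] {X Y : Scheme.{u}}
    (q : Y ⟶ Spec (CommRingCat.of k)) [LocallyOfFiniteType q]
    (f : X ⟶ Y) [LocallyOfFiniteType f] (r : ℕ)
    (hfib : ∀ x : X, topologicalKrullDim (f.base ⁻¹' {f.base x}) ≤ r) :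
    topologicalKrullDim X ≤ (r : WithBot ℕ∞) + topologicalKrullDim Y := by
  induction hd : topologicalKrullDim Y using WithBot.recBotCoe with
  | bot =>
    rw [topologicalKrullDim, Order.krullDim_eq_bot_iff] at hd
    have hX : IsEmpty X :=
      ⟨fun x => hd.false ⟨closure {f.base x}, isIrreducible_singleton.closure, isClosed_closure⟩⟩
    have : topologicalKrullDim X = ⊥ := by
      rw [topologicalKrullDim, Order.krullDim_eq_bot_iff]
      exact ⟨fun Z => hX.false Z.isIrreducible.nonempty.some⟩
    rw [this]
    exact bot_le
  | coe N =>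
    induction N using ENat.recTopCoe with
    | top =>
      have : (r : WithBot ℕ∞) + ((⊤ : ℕ∞) : WithBot ℕ∞) = ⊤ := by
        rw [show (r : WithBot ℕ∞) = ((r : ℕ∞) : WithBot ℕ∞) from rfl, ← WithBot.coe_add]
        simp
      rw [this]
      exact le_top
    | coe N =>
      have h1 : topologicalKrullDim X ≤ ((r + N : ℕ) : WithBot ℕ∞) := by
        apply topologicalKrullDim_le_of_forall_tdeg_le (f ≫ q) (r + N)
        intro x
        have h2 := tdeg_le_add_dim_fibre q f r x (hfib x)
        have h3 := tdeg_le_dim q (f.base x)
        rw [hd] at h3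
        have h3' : tdeg q (f.base x) ≤ N := by exact_mod_cast h3
        omega
      refine h1.trans ?_
      rw [Nat.cast_add]
      exact_mod_cast le_rfl

end Groth.Agent.H38.DimFibreSum
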