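import Mathlib
import Groth.Agent.H9.DimBaseField

/-!
# Minimal primes of `A ⊗[k] B` for a domain `A` of finite type over a field `k`

* `map_mem_nonZeroDivisors`: if `P → A` is an injective map of domains over `k` and `P ⊗[k] B` is a
  domain, every nonzero element of `P ⊗[k] B` is a non-zero-divisor on `A ⊗[k] B`.
-/

set_option autoImplicit false
universe u
open TensorProduct

namespace Groth.Agent.H38.TensorMinPrime

section Torsion

variable {k : Type u} [Field k] {P A : Type u} [CommRing P] [CommRing A] [Algebra k P]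
  [Algebra k A] [Algebra P A] [IsScalarTower k P A] [IsDomain P] [IsDomain A] [FaithfulSMul P A]
  (B : Type u) [CommRing B] [Algebra k B]

/-- If `P ⊆ A` are domains over a field `k` and `P ⊗[k] B` is a domain, then every nonzero element
of `P ⊗[k] B` maps to a non-zero-divisor of `A ⊗[k] B`. -/
theorem map_mem_nonZeroDivisors [IsDomain (P ⊗[k] B)] (d : P ⊗[k] B) (hd : d ≠ 0) :
    Algebra.TensorProduct.map (IsScalarTower.toAlgHom k P A) (AlgHom.id k B) d ∈
      nonZeroDivisors (A ⊗[k] B) := by
  classical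
  let L := FractionRing A
  have hPL : Function.Injective (algebraMap P L) := by
    rw [IsScalarTower.algebraMap_eq P A L]
    exact (IsFractionRing.injective A L).comp (FaithfulSMul.algebraMap_injective P A)
  haveI : FaithfulSMul P L := (faithfulSMul_iff_algebraMap_injective P L).mpr hPL
  letI : Algebra (FractionRing P) L := FractionRing.liftAlgebra P L
  haveI : IsScalarTower P (FractionRing P) L := FractionRing.isScalarTower_liftAlgebra P L
  haveI : Module.Flat P L := Module.Flat.trans P (FractionRing P) L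
  let ι : A →ₗ[P] L := (IsScalarTower.toAlgHom P A L).toLinearMap
  have hι : Function.Injective ι := IsFractionRing.injective A L
  have hinj : Function.Injective (ι.baseChange (P ⊗[k] B)) :=
    Module.Flat.lTensor_preserves_injective_linearMap (M := P ⊗[k] B) ι hι
  have key : ∀ x : (P ⊗[k] B) ⊗[P] A, d • x = 0 → x = 0 := by
    intro x hx
    apply hinj
    rw [map_zero]
    have h1 : d • (ι.baseChange (P ⊗[k] B) x) = 0 := by rw [← map_smul, hx, map_zero]
    have hreg : IsSMulRegular ((P ⊗[k] B) ⊗[P] L) d :=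
      Module.Flat.isSMulRegular_of_nonZeroDivisors (M := (P ⊗[k] B) ⊗[P] L)
        (mem_nonZeroDivisors_of_ne_zero hd)
    exact hreg.right_eq_zero_of_smul h1
  let G := Algebra.TensorProduct.map (IsScalarTower.toAlgHom k P A) (AlgHom.id k B)
  let Φ : (P ⊗[k] B) ⊗[P] A ≃ₐ[P] A ⊗[k] B :=
    (Algebra.TensorProduct.comm P (P ⊗[k] B) A).trans
      (Algebra.TensorProduct.cancelBaseChange k P P A B)
  have hΦ1 : ∀ e : P ⊗[k] B, Φ (e ⊗ₜ[P] (1 : A)) = G e := by
    intro e
    induction e using TensorProduct.induction_on with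
    | zero => simp
    | tmul p b =>
      simp only [Φ, G, AlgEquiv.trans_apply, Algebra.TensorProduct.comm_tmul,
        Algebra.TensorProduct.cancelBaseChange_tmul, Algebra.TensorProduct.map_tmul,
        AlgHom.id_apply, IsScalarTower.coe_toAlgHom']
      rw [Algebra.smul_def, mul_one]
    | add x y hx hy => rw [TensorProduct.add_tmul, map_add, map_add, hx, hy]
  have hΦ : ∀ (e : P ⊗[k] B) (x : (P ⊗[k] B) ⊗[P] A), Φ (e • x) = G e * Φ x := by
    intro e x
    have h0 : e • x = (e ⊗ₜ[P] (1 : A)) * x := by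
      induction x using TensorProduct.induction_on with
      | zero => simp
      | tmul e' a =>
        rw [TensorProduct.smul_tmul', smul_eq_mul, Algebra.TensorProduct.tmul_mul_tmul, one_mul]
      | add x y hx hy => rw [smul_add, hx, hy, mul_add]
    rw [h0, map_mul, hΦ1]
  rw [mem_nonZeroDivisors_iff_right]
  intro y hy
  obtain ⟨x, rfl⟩ := Φ.surjective y
  have h1 : Φ (d • x) = 0 := by rw [hΦ, mul_comm]; exact hy
  have h2 : d • x = 0 := Φ.injective (by rw [h1, map_zero])
  rw [key x h2, map_zero]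

end Torsion

section Dim

variable (k : Type u) [Field k] (A : Type u) [CommRing A] [Algebra k A] [Algebra.FiniteType k A]
  (K : Type u) [Field K] [Algebra k K]

omit [Algebra.FiniteType k A] in
/-- Integrality of `P ⊗ K → A ⊗ K` (extension of scalars on the right). -/
theorem isIntegral_map_right {P : Type u} [CommRing P] [Algebra k P] (g : P →ₐ[k] A)
    (hg : g.toRingHom.IsIntegral) :
    (Algebra.TensorProduct.map g (AlgHom.id k K)).toRingHom.IsIntegral := by
  set G := Algebra.TensorProduct.map g (AlgHom.id k K) with hG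
  intro x
  induction x using TensorProduct.induction_on with
  | zero => exact G.toRingHom.isIntegralElem_zero
  | add x y hx hy => exact RingHom.IsIntegralElem.add _ hx hy
  | tmul a c =>
    have h1 : a ⊗ₜ[k] c = (a ⊗ₜ[k] (1 : K)) * ((1 : A) ⊗ₜ[k] c) := by
      rw [Algebra.TensorProduct.tmul_mul_tmul, mul_one, one_mul]
    rw [h1]
    apply RingHom.IsIntegralElem.mul
    · obtain ⟨p, hp, hpa⟩ := hg a
      refine ⟨p.map (Algebra.TensorProduct.includeLeft : P →ₐ[k] P ⊗[k] K).toRingHom,
        hp.map _, ?_⟩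
      rw [Polynomial.eval₂_map]
      have hcomp : G.toRingHom.comp
          (Algebra.TensorProduct.includeLeft : P →ₐ[k] P ⊗[k] K).toRingHom =
          (Algebra.TensorProduct.includeLeft : A →ₐ[k] A ⊗[k] K).toRingHom.comp g.toRingHom := by
        ext r
        simp [hG]
      rw [hcomp]
      have h2 : (a ⊗ₜ[k] (1 : K)) =
          (Algebra.TensorProduct.includeLeft : A →ₐ[k] A ⊗[k] K).toRingHom a := rfl
      rw [h2, ← Polynomial.hom_eval₂, hpa, map_zero]
    · have : (1 : A) ⊗ₜ[k] c = G.toRingHom ((1 : P) ⊗ₜ[k] c) := by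
        simp [hG]
      rw [this]
      exact G.toRingHom.isIntegralElem_map

/-- **Key lemma.** For a domain `A` of finite type over a field `k` and a field extension `K/k`,
the quotient of `A ⊗[k] K` by any minimal prime has the dimension of `A`. -/
theorem ringKrullDim_quotient_minimalPrime [IsDomain A] (Q : Ideal (A ⊗[k] K))
    (hQ : Q ∈ minimalPrimes (A ⊗[k] K)) :
    ringKrullDim ((A ⊗[k] K) ⧸ Q) = ringKrullDim A := by
  classical
  obtain ⟨s, g, hinj, hfin⟩ := exists_finite_inj_algHom_of_fg k A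
  have hdimA : ringKrullDim A = ringKrullDim (MvPolynomial (Fin s) k) :=
    Groth.Agent.H54.ringKrullDim_eq_of_ringHom_isIntegral_of_injective g.toRingHom
      hfin.to_isIntegral hinj
  letI : Algebra (MvPolynomial (Fin s) k) A := g.toRingHom.toAlgebra
  haveI : IsScalarTower k (MvPolynomial (Fin s) k) A :=
    IsScalarTower.of_algebraMap_eq (fun c => (g.commutes c).symm)
  haveI : FaithfulSMul (MvPolynomial (Fin s) k) A :=
    (faithfulSMul_iff_algebraMap_injective _ _).mpr hinj
  let e : MvPolynomial (Fin s) k ⊗[k] K ≃+* MvPolynomial (Fin s) K :=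
    ((Algebra.TensorProduct.comm k (MvPolynomial (Fin s) k) K).toRingEquiv).trans
      (MvPolynomial.algebraTensorAlgEquiv k K).toRingEquiv
  haveI : IsDomain (MvPolynomial (Fin s) k ⊗[k] K) := e.toMulEquiv.isDomain _
  have hg' : IsScalarTower.toAlgHom k (MvPolynomial (Fin s) k) A = g := by
    ext x; rfl
  let G := Algebra.TensorProduct.map (IsScalarTower.toAlgHom k (MvPolynomial (Fin s) k) A)
    (AlgHom.id k K)
  haveI hQp : Q.IsPrime := hQ.1.1
  have hcomap : Q.comap G.toRingHom = ⊥ := by
    rw [eq_bot_iff]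
    intro d hd
    rw [Ideal.mem_bot]
    by_contra hd0
    have h1 := map_mem_nonZeroDivisors (k := k) (P := MvPolynomial (Fin s) k) (A := A) K d hd0
    exact (Set.disjoint_left.mp (Ideal.disjoint_nonZeroDivisors_of_mem_minimalPrimes hQ))
      (Ideal.mem_comap.mp hd) h1
  let φ : MvPolynomial (Fin s) k ⊗[k] K →+* (A ⊗[k] K) ⧸ Q := (Ideal.Quotient.mk Q).comp G.toRingHom
  have hφinj : Function.Injective φ := by
    rw [injective_iff_map_eq_zero]
    intro d hd
    have : d ∈ Q.comap G.toRingHom := by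
      rw [Ideal.mem_comap]
      exact Ideal.Quotient.eq_zero_iff_mem.mp hd
    rw [hcomap] at this
    exact this
  have hφint : φ.IsIntegral := by
    refine RingHom.IsIntegral.trans _ _ ?_ (RingHom.isIntegral_of_surjective _
      Ideal.Quotient.mk_surjective)
    have := isIntegral_map_right k A K g hfin.to_isIntegral
    rw [← hg'] at this
    exact this
  rw [Groth.Agent.H54.ringKrullDim_eq_of_ringHom_isIntegral_of_injective φ hφint hφinj,
    ringKrullDim_eq_of_ringEquiv e, hdimA, Groth.Agent.H54.ringKrullDim_mvPolynomial_field,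
    Groth.Agent.H54.ringKrullDim_mvPolynomial_field]

/-- For `A` of finite type over a field `k`, a prime `𝔭` of `A`, a field extension `K/k` and a
prime `Q` of `A ⊗[k] K` minimal over `𝔭 (A ⊗[k] K)`, we have `dim (A ⊗[k] K)/Q = dim A/𝔭`. -/
theorem ringKrullDim_quotient_of_mem_minimalPrimes_map (𝔭 : Ideal A) [𝔭.IsPrime]
    (Q : Ideal (A ⊗[k] K))
    (hQ : Q ∈ (𝔭.map (Algebra.TensorProduct.includeLeft : A →ₐ[k] A ⊗[k] K)).minimalPrimes) :
    ringKrullDim ((A ⊗[k] K) ⧸ Q) = ringKrullDim (A ⧸ 𝔭) := by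
  classical
  let ρ : A ⊗[k] K →ₐ[k] (A ⧸ 𝔭) ⊗[k] K :=
    Algebra.TensorProduct.map (Ideal.Quotient.mkₐ k 𝔭) (AlgHom.id k K)
  have hρ : Function.Surjective ρ :=
    TensorProduct.map_surjective (Ideal.Quotient.mkₐ_surjective k 𝔭) Function.surjective_id
  have hk : RingHom.ker (Ideal.Quotient.mkₐ k 𝔭) = 𝔭 := Ideal.Quotient.mkₐ_ker k 𝔭
  have hker : Ideal.comap ρ.toRingHom ⊥ =
      𝔭.map (Algebra.TensorProduct.includeLeft : A →ₐ[k] A ⊗[k] K) := by
    have := Algebra.TensorProduct.rTensor_ker (R := k) (C := K) (f := Ideal.Quotient.mkₐ k 𝔭)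
      (Ideal.Quotient.mkₐ_surjective k 𝔭)
    rw [hk] at this
    exact this
  rw [← hker, Ideal.comap_minimalPrimes_eq_of_surjective (f := ρ.toRingHom) hρ] at hQ
  obtain ⟨Q', hQ', rfl⟩ := hQ
  haveI : Q'.IsPrime := hQ'.1.1
  let ψ : (A ⊗[k] K) ⧸ Q'.comap ρ.toRingHom →+* ((A ⧸ 𝔭) ⊗[k] K) ⧸ Q' :=
    Ideal.quotientMap Q' ρ.toRingHom le_rfl
  have hψ : Function.Bijective ψ :=
    ⟨Ideal.quotientMap_injective, Ideal.quotientMap_surjective hρ⟩
  rw [ringKrullDim_eq_of_ringEquiv (RingEquiv.ofBijective ψ hψ)]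
  exact ringKrullDim_quotient_minimalPrime k (A ⧸ 𝔭) K Q' hQ'

end Dim

end Groth.Agent.H38.TensorMinPrime
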