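import Mathlib
import Groth.Agent.H38.TensorMinPrime

/-!
# Minimal primes of `A ⊗[k] B` for two domains of finite type over a field

`ringKrullDim_quotient_minimalPrime_tensor`: for domains `A`, `B` of finite type over a field `k` and
a minimal prime `Q` of `A ⊗[k] B`, `dim (A ⊗[k] B)/Q = dim A + dim B`.
-/

set_option autoImplicit false
universe u
open TensorProduct

namespace Groth.Agent.H38.TensorMinPrime

section Integral

variable {k : Type u} [CommRing k] {P A B : Type u} [CommRing P] [CommRing A] [CommRing B]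
  [Algebra k P] [Algebra k A] [Algebra k B]

/-- Integrality of `g ⊗ id : P ⊗ B → A ⊗ B`. -/
theorem isIntegral_map_id (g : P →ₐ[k] A) (hg : g.toRingHom.IsIntegral) :
    (Algebra.TensorProduct.map g (AlgHom.id k B)).toRingHom.IsIntegral := by
  set G := Algebra.TensorProduct.map g (AlgHom.id k B) with hG
  intro x
  induction x using TensorProduct.induction_on with
  | zero => exact G.toRingHom.isIntegralElem_zero
  | add x y hx hy => exact RingHom.IsIntegralElem.add _ hx hy
  | tmul a c =>
    have h1 : a ⊗ₜ[k] c = (a ⊗ₜ[k] (1 : B)) * ((1 : A) ⊗ₜ[k] c) := by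
      rw [Algebra.TensorProduct.tmul_mul_tmul, mul_one, one_mul]
    rw [h1]
    apply RingHom.IsIntegralElem.mul
    · obtain ⟨p, hp, hpa⟩ := hg a
      refine ⟨p.map (Algebra.TensorProduct.includeLeft : P →ₐ[k] P ⊗[k] B).toRingHom,
        hp.map _, ?_⟩
      rw [Polynomial.eval₂_map]
      have hcomp : G.toRingHom.comp
          (Algebra.TensorProduct.includeLeft : P →ₐ[k] P ⊗[k] B).toRingHom =
          (Algebra.TensorProduct.includeLeft : A →ₐ[k] A ⊗[k] B).toRingHom.comp g.toRingHom := by
        ext r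
        simp [hG]
      rw [hcomp]
      have h2 : (a ⊗ₜ[k] (1 : B)) =
          (Algebra.TensorProduct.includeLeft : A →ₐ[k] A ⊗[k] B).toRingHom a := rfl
      rw [h2, ← Polynomial.hom_eval₂, hpa, map_zero]
    · have : (1 : A) ⊗ₜ[k] c = G.toRingHom ((1 : P) ⊗ₜ[k] c) := by
        simp [hG]
      rw [this]
      exact G.toRingHom.isIntegralElem_map

/-- Integrality of `id ⊗ g : B ⊗ P → B ⊗ A`. -/
theorem isIntegral_id_map (g : P →ₐ[k] A) (hg : g.toRingHom.IsIntegral) :
    (Algebra.TensorProduct.map (AlgHom.id k B) g).toRingHom.IsIntegral := by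
  set G := Algebra.TensorProduct.map (AlgHom.id k B) g with hG
  intro x
  induction x using TensorProduct.induction_on with
  | zero => exact G.toRingHom.isIntegralElem_zero
  | add x y hx hy => exact RingHom.IsIntegralElem.add _ hx hy
  | tmul c a =>
    have h1 : c ⊗ₜ[k] a = (c ⊗ₜ[k] (1 : A)) * ((1 : B) ⊗ₜ[k] a) := by
      rw [Algebra.TensorProduct.tmul_mul_tmul, mul_one, one_mul]
    rw [h1]
    apply RingHom.IsIntegralElem.mul
    · have : c ⊗ₜ[k] (1 : A) = G.toRingHom (c ⊗ₜ[k] (1 : P)) := by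
        simp [hG]
      rw [this]
      exact G.toRingHom.isIntegralElem_map
    · obtain ⟨p, hp, hpa⟩ := hg a
      refine ⟨p.map (Algebra.TensorProduct.includeRight : P →ₐ[k] B ⊗[k] P).toRingHom,
        hp.map _, ?_⟩
      rw [Polynomial.eval₂_map]
      have hcomp : G.toRingHom.comp
          (Algebra.TensorProduct.includeRight : P →ₐ[k] B ⊗[k] P).toRingHom =
          (Algebra.TensorProduct.includeRight : A →ₐ[k] B ⊗[k] A).toRingHom.comp g.toRingHom := by
        ext r
        simp [hG]
      rw [hcomp]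
      have h2 : ((1 : B) ⊗ₜ[k] a) =
          (Algebra.TensorProduct.includeRight : A →ₐ[k] B ⊗[k] A).toRingHom a := rfl
      rw [h2, ← Polynomial.hom_eval₂, hpa, map_zero]

end Integral

section Symm

variable {k : Type u} [Field k] {P A : Type u} [CommRing P] [CommRing A] [Algebra k P]
  [Algebra k A] [Algebra P A] [IsScalarTower k P A] [IsDomain P] [IsDomain A] [FaithfulSMul P A]
  (B : Type u) [CommRing B] [Algebra k B]

/-- Symmetric version of `map_mem_nonZeroDivisors`. -/
theorem map_mem_nonZeroDivisors' [IsDomain (B ⊗[k] P)] (d : B ⊗[k] P) (hd : d ≠ 0) :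
    Algebra.TensorProduct.map (AlgHom.id k B) (IsScalarTower.toAlgHom k P A) d ∈
      nonZeroDivisors (B ⊗[k] A) := by
  let c₁ : B ⊗[k] P ≃ₐ[k] P ⊗[k] B := Algebra.TensorProduct.comm k B P
  let c₂ : B ⊗[k] A ≃ₐ[k] A ⊗[k] B := Algebra.TensorProduct.comm k B A
  haveI : IsDomain (P ⊗[k] B) := c₁.symm.toMulEquiv.isDomain _
  have hd' : c₁ d ≠ 0 := fun h => hd (c₁.injective (by rw [h, map_zero]))
  have h1 := map_mem_nonZeroDivisors (k := k) (P := P) (A := A) B (c₁ d) hd'
  have h2 : ∀ e : B ⊗[k] P,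
      Algebra.TensorProduct.map (IsScalarTower.toAlgHom k P A) (AlgHom.id k B) (c₁ e) =
      c₂ (Algebra.TensorProduct.map (AlgHom.id k B) (IsScalarTower.toAlgHom k P A) e) := by
    intro e
    induction e using TensorProduct.induction_on with
    | zero => simp
    | tmul b p => simp [c₁, c₂]
    | add x y hx hy => simp only [map_add, hx, hy]
  rw [h2] at h1
  rw [mem_nonZeroDivisors_iff_right] at h1 ⊢
  intro y hy
  have h3 := h1 (c₂ y) (by rw [← map_mul, hy, map_zero])
  exact c₂.injective (by rw [h3, map_zero])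

end Symm

section Dim2

variable (k : Type u) [Field k] (A B : Type u) [CommRing A] [CommRing B] [Algebra k A]
  [Algebra k B] [Algebra.FiniteType k A] [Algebra.FiniteType k B] [IsDomain A] [IsDomain B]

/-- For domains `A`, `B` of finite type over a field `k` and a minimal prime `Q` of `A ⊗[k] B`,
`dim (A ⊗[k] B)/Q = dim A + dim B`. -/
theorem ringKrullDim_quotient_minimalPrime_tensor (Q : Ideal (A ⊗[k] B))
    (hQ : Q ∈ minimalPrimes (A ⊗[k] B)) :
    ringKrullDim ((A ⊗[k] B) ⧸ Q) = ringKrullDim A + ringKrullDim B := by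
  classical
  obtain ⟨s, g, hinj, hfin⟩ := exists_finite_inj_algHom_of_fg k A
  obtain ⟨s', g', hinj', hfin'⟩ := exists_finite_inj_algHom_of_fg k B
  have hdimA : ringKrullDim A = ringKrullDim (MvPolynomial (Fin s) k) :=
    Groth.Agent.H54.ringKrullDim_eq_of_ringHom_isIntegral_of_injective g.toRingHom
      hfin.to_isIntegral hinj
  have hdimB : ringKrullDim B = ringKrullDim (MvPolynomial (Fin s') k) :=
    Groth.Agent.H54.ringKrullDim_eq_of_ringHom_isIntegral_of_injective g'.toRingHom
      hfin'.to_isIntegral hinj'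
  letI : Algebra (MvPolynomial (Fin s) k) A := g.toRingHom.toAlgebra
  haveI : IsScalarTower k (MvPolynomial (Fin s) k) A :=
    IsScalarTower.of_algebraMap_eq (fun c => (g.commutes c).symm)
  haveI : FaithfulSMul (MvPolynomial (Fin s) k) A :=
    (faithfulSMul_iff_algebraMap_injective _ _).mpr hinj
  letI : Algebra (MvPolynomial (Fin s') k) B := g'.toRingHom.toAlgebra
  haveI : IsScalarTower k (MvPolynomial (Fin s') k) B :=
    IsScalarTower.of_algebraMap_eq (fun c => (g'.commutes c).symm)
  haveI : FaithfulSMul (MvPolynomial (Fin s') k) B :=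
    (faithfulSMul_iff_algebraMap_injective _ _).mpr hinj'
  let e₁ : MvPolynomial (Fin s) k ⊗[k] MvPolynomial (Fin s') k ≃+*
      MvPolynomial (Fin s') (MvPolynomial (Fin s) k) :=
    (MvPolynomial.algebraTensorAlgEquiv k (MvPolynomial (Fin s) k)).toRingEquiv
  let e₂ : A ⊗[k] MvPolynomial (Fin s') k ≃+* MvPolynomial (Fin s') A :=
    (MvPolynomial.algebraTensorAlgEquiv k A).toRingEquiv
  haveI : IsDomain (MvPolynomial (Fin s) k ⊗[k] MvPolynomial (Fin s') k) :=
    e₁.toMulEquiv.isDomain _
  haveI : IsDomain (A ⊗[k] MvPolynomial (Fin s') k) := e₂.toMulEquiv.isDomain _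
  have hg : IsScalarTower.toAlgHom k (MvPolynomial (Fin s) k) A = g := by
    ext x; rfl
  have hg' : IsScalarTower.toAlgHom k (MvPolynomial (Fin s') k) B = g' := by
    ext x; rfl
  let G₁ := Algebra.TensorProduct.map (IsScalarTower.toAlgHom k (MvPolynomial (Fin s) k) A)
    (AlgHom.id k (MvPolynomial (Fin s') k))
  let G₂ := Algebra.TensorProduct.map (AlgHom.id k A)
    (IsScalarTower.toAlgHom k (MvPolynomial (Fin s') k) B)
  have hNZD : ∀ d : MvPolynomial (Fin s) k ⊗[k] MvPolynomial (Fin s') k, d ≠ 0 →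
      G₂ (G₁ d) ∈ nonZeroDivisors (A ⊗[k] B) := by
    intro d hd
    have h1 := map_mem_nonZeroDivisors (k := k) (P := MvPolynomial (Fin s) k) (A := A)
      (MvPolynomial (Fin s') k) d hd
    have h2 : G₁ d ≠ 0 := nonZeroDivisors.ne_zero h1
    exact map_mem_nonZeroDivisors' (k := k) (P := MvPolynomial (Fin s') k) (A := B) A (G₁ d) h2
  haveI hQp : Q.IsPrime := hQ.1.1
  let φ : MvPolynomial (Fin s) k ⊗[k] MvPolynomial (Fin s') k →+* (A ⊗[k] B) ⧸ Q :=
    (Ideal.Quotient.mk Q).comp (G₂.toRingHom.comp G₁.toRingHom)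
  have hφinj : Function.Injective φ := by
    rw [injective_iff_map_eq_zero]
    intro d hd
    by_contra hd0
    have h1 : G₂ (G₁ d) ∈ Q := Ideal.Quotient.eq_zero_iff_mem.mp hd
    exact (Set.disjoint_left.mp (Ideal.disjoint_nonZeroDivisors_of_mem_minimalPrimes hQ))
      h1 (hNZD d hd0)
  have hφint : φ.IsIntegral := by
    refine RingHom.IsIntegral.trans _ _ ?_ (RingHom.isIntegral_of_surjective _
      Ideal.Quotient.mk_surjective)
    refine RingHom.IsIntegral.trans _ _ ?_ ?_
    · have := isIntegral_map_id (k := k) (B := MvPolynomial (Fin s') k) g hfin.to_isIntegral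
      rw [← hg] at this
      exact this
    · have := isIntegral_id_map (k := k) (B := A) g' hfin'.to_isIntegral
      rw [← hg'] at this
      exact this
  rw [Groth.Agent.H54.ringKrullDim_eq_of_ringHom_isIntegral_of_injective φ hφint hφinj,
    ringKrullDim_eq_of_ringEquiv e₁, MvPolynomial.ringKrullDim_of_isNoetherianRing, hdimA, hdimB,
    Groth.Agent.H54.ringKrullDim_mvPolynomial_field,
    Groth.Agent.H54.ringKrullDim_mvPolynomial_field]
  simp

end Dim2

end Groth.Agent.H38.TensorMinPrime
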