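import Mathlib
import Groth.Agent.H38.TensorMinPrime2
import Groth.Agent.H54.SchemeDim
import Groth.Agent.H54.DimClosure
import Groth.Agent.H54.GenericComp

/-!
# Dimension of irreducible components of a product of integral schemes locally of finite type
over a field
-/

set_option autoImplicit false
universe u
open CategoryTheory CategoryTheory.Limits AlgebraicGeometry TensorProduct

namespace Groth.Agent.H38.DimProdComp

theorem flat_to_spec_field {T : Scheme.{u}} (K : Type u) [Field K]
    (e : T ⟶ Spec (CommRingCat.of K)) : Flat e := by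
  haveI : Subsingleton ↥(Spec (CommRingCat.of K)) :=
    inferInstanceAs (Subsingleton (PrimeSpectrum K))
  infer_instance

/-- A point without proper generizations in an irreducible scheme locally of finite type over a
field computes the dimension. -/
theorem topologicalKrullDim_eq_tdeg_of_forall {k : Type u} [Field k] {X : Scheme.{u}}
    (f : X ⟶ Spec (CommRingCat.of k)) [LocallyOfFiniteType f] [IrreducibleSpace X] (x : X)
    (hx : ∀ x' : X, x' ⤳ x → x' = x) :
    topologicalKrullDim ↥X = (Groth.Agent.H54.tdeg f x : WithBot ℕ∞) := by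
  have h1 : closure ({x} : Set X) ∈ irreducibleComponents ↥X :=
    Groth.Agent.H54.closure_mem_irreducibleComponents_of_forall hx
  rw [irreducibleComponents_eq_singleton, Set.mem_singleton_iff] at h1
  rw [← Groth.Agent.H54.topologicalKrullDim_closure_singleton f x, h1]
  exact (IsHomeomorph.topologicalKrullDim_eq _ (Homeomorph.Set.univ X).isHomeomorph).symm

/-- The generic point of an irreducible component of a product over a field: transcendence
degree is the sum of those of the projections, provided the projections are integral affine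
charts. This is the chart computation. -/
theorem tdeg_pullback_eq {k : Type u} [Field k] {X Y : Scheme.{u}}
    (f : X ⟶ Spec (CommRingCat.of k)) (g : Y ⟶ Spec (CommRingCat.of k)) [IsIntegral X]
    [IsIntegral Y] [LocallyOfFiniteType f] [LocallyOfFiniteType g]
    (ζ : ↥(pullback f g)) (hζ : ∀ ζ' : ↥(pullback f g), ζ' ⤳ ζ → ζ' = ζ) :
    haveI : LocallyOfFiniteType (pullback.fst f g ≫ f) := inferInstance
    (Groth.Agent.H54.tdeg (pullback.fst f g ≫ f) ζ : WithBot ℕ∞) =
      topologicalKrullDim ↥X + topologicalKrullDim ↥Y := by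
  classical
  haveI : LocallyOfFiniteType (pullback.fst f g ≫ f) := inferInstance
  haveI : Flat f := flat_to_spec_field k f
  haveI : Flat g := flat_to_spec_field k g
  -- the projections of `ζ` have no proper generizations
  have hx : ∀ x' : X, x' ⤳ (pullback.fst f g).base ζ → x' = (pullback.fst f g).base ζ := by
    intro x' hx'
    obtain ⟨ζ', hζ', hζx⟩ := (Flat.generalizingMap (pullback.fst f g)) hx'
    rw [← hζx, hζ ζ' hζ']
  have hy : ∀ y' : Y, y' ⤳ (pullback.snd f g).base ζ → y' = (pullback.snd f g).base ζ := by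
    intro y' hy'
    obtain ⟨ζ', hζ', hζy⟩ := (Flat.generalizingMap (pullback.snd f g)) hy'
    rw [← hζy, hζ ζ' hζ']
  rw [topologicalKrullDim_eq_tdeg_of_forall f _ hx, topologicalKrullDim_eq_tdeg_of_forall g _ hy]
  -- charts
  obtain ⟨A, j₁, hj₁, ψ₁, hψ₁, hft₁, ⟨P₁, hP₁⟩, -⟩ :=
    Groth.Agent.H54.exists_chart f ((pullback.fst f g).base ζ) ⊤ trivial
  obtain ⟨B, j₂, hj₂, ψ₂, hψ₂, hft₂, ⟨P₂, hP₂⟩, -⟩ :=
    Groth.Agent.H54.exists_chart g ((pullback.snd f g).base ζ) ⊤ trivial
  letI : Algebra k A := ψ₁.hom.toAlgebra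
  letI : Algebra k B := ψ₂.hom.toAlgebra
  haveI : Algebra.FiniteType k A := hft₁
  haveI : Algebra.FiniteType k B := hft₂
  haveI : Nonempty ↥(Spec A) := ⟨P₁⟩
  haveI : Nonempty ↥(Spec B) := ⟨P₂⟩
  haveI : IsIntegral (Spec A) := isIntegral_of_isOpenImmersion j₁
  haveI : IsIntegral (Spec B) := isIntegral_of_isOpenImmersion j₂
  haveI : IsDomain A := (affine_isIntegral_iff A).mp inferInstance
  haveI : IsDomain B := (affine_isIntegral_iff B).mp inferInstance
  have hψ₁' : CommRingCat.ofHom (algebraMap k A) = ψ₁ := rfl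
  have hψ₂' : CommRingCat.ofHom (algebraMap k B) = ψ₂ := rfl
  let m : pullback (Spec.map ψ₁) (Spec.map ψ₂) ⟶ pullback f g :=
    pullback.map (Spec.map ψ₁) (Spec.map ψ₂) f g j₁ j₂ (𝟙 _)
      (by rw [Category.comp_id, hψ₁]) (by rw [Category.comp_id, hψ₂])
  let jAB : Spec (CommRingCat.of (A ⊗[k] B)) ⟶ pullback f g :=
    (pullbackSpecIso k A B).inv ≫ m
  haveI : IsOpenImmersion jAB := inferInstance
  have hfst : jAB ≫ pullback.fst f g = Spec.map (CommRingCat.ofHom
      (Algebra.TensorProduct.includeLeftRingHom : A →+* A ⊗[k] B)) ≫ j₁ := by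
    simp only [jAB, m, Category.assoc, pullback.lift_fst]
    rw [← Category.assoc]
    congr 1
    exact pullbackSpecIso_inv_fst k A B
  have hsnd : jAB ≫ pullback.snd f g = Spec.map (CommRingCat.ofHom
      (Algebra.TensorProduct.includeRight : B →ₐ[k] A ⊗[k] B).toRingHom) ≫ j₂ := by
    simp only [jAB, m, Category.assoc, pullback.lift_snd]
    rw [← Category.assoc]
    congr 1
    exact pullbackSpecIso_inv_snd k A B
  -- `ζ` lies in the chart
  have hrange : ζ ∈ Set.range jAB.base := by
    have h1 : Set.range jAB.base = Set.range m.base := by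
      have h0 : Set.range (pullbackSpecIso k A B).inv.base = Set.univ :=
        Set.range_eq_univ.mpr ((pullbackSpecIso k A B).inv.homeomorph.surjective)
      simp only [jAB, Scheme.Hom.comp_base, TopCat.coe_comp]
      rw [Set.range_comp, h0, Set.image_univ]
    rw [h1, Scheme.Pullback.range_map]
    exact ⟨⟨P₁, hP₁⟩, ⟨P₂, hP₂⟩⟩
  obtain ⟨Q, hQ⟩ := hrange
  have hjinj : Function.Injective jAB.base := jAB.isOpenEmbedding.injective
  -- `Q` is a minimal prime
  have hmin : (Q : PrimeSpectrum (A ⊗[k] B)).asIdeal ∈ minimalPrimes (A ⊗[k] B) := by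
    refine ⟨⟨(Q : PrimeSpectrum (A ⊗[k] B)).isPrime, bot_le⟩, ?_⟩
    rintro Q' ⟨hQ'p, -⟩ hQ'Q
    let q' : Spec (CommRingCat.of (A ⊗[k] B)) := (⟨Q', hQ'p⟩ : PrimeSpectrum (A ⊗[k] B))
    have hsp : jAB.base q' ⤳ ζ := by
      rw [← hQ]
      apply Specializes.map _ jAB.continuous
      exact (PrimeSpectrum.le_iff_specializes (⟨Q', hQ'p⟩ : PrimeSpectrum (A ⊗[k] B)) Q).mp hQ'Q
    have h5 := hζ _ hsp
    rw [← hQ] at h5
    have h6 : q' = Q := hjinj h5
    rw [← h6]
  -- the primes `P₁`, `P₂` are zero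
  have hbot : ∀ {C : CommRingCat.{u}} [IsDomain C] {T : Scheme.{u}} (j : Spec C ⟶ T)
      [IsOpenImmersion j] (P : Spec C) (hP : ∀ t' : T, t' ⤳ j.base P → t' = j.base P),
      (P : PrimeSpectrum C).asIdeal = ⊥ := by
    intro C _ T j _ P hP
    let η : Spec C := (⟨⊥, Ideal.isPrime_bot⟩ : PrimeSpectrum C)
    have h1 : η ⤳ P :=
      (PrimeSpectrum.le_iff_specializes (⟨⊥, Ideal.isPrime_bot⟩ : PrimeSpectrum C) P).mp bot_le
    have h2 := hP _ (h1.map j.continuous)
    have h3 : η = P := j.isOpenEmbedding.injective h2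
    rw [← h3]
  have hP₁bot : (P₁ : PrimeSpectrum A).asIdeal = ⊥ := hbot j₁ P₁ (by rw [hP₁]; exact hx)
  have hP₂bot : (P₂ : PrimeSpectrum B).asIdeal = ⊥ := hbot j₂ P₂ (by rw [hP₂]; exact hy)
  have h1 := Groth.Agent.H54.ringKrullDim_quotient_chart f j₁ ψ₁ hψ₁ hft₁ P₁
  have h2 := Groth.Agent.H54.ringKrullDim_quotient_chart g j₂ ψ₂ hψ₂ hft₂ P₂
  rw [hP₁, hP₁bot, ringKrullDim_eq_of_ringEquiv (RingEquiv.quotientBot A)] at h1
  rw [hP₂, hP₂bot, ringKrullDim_eq_of_ringEquiv (RingEquiv.quotientBot B)] at h2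
  -- the chart of the product
  let ψAB : CommRingCat.of k ⟶ CommRingCat.of (A ⊗[k] B) :=
    CommRingCat.ofHom (algebraMap k (A ⊗[k] B))
  have hψAB : Spec.map ψAB = jAB ≫ pullback.fst f g ≫ f := by
    rw [← Category.assoc, hfst, Category.assoc, ← hψ₁, ← Spec.map_comp]
    congr 1
  have hftAB : ψAB.hom.FiniteType := by
    have : LocallyOfFiniteType (Spec.map ψAB) := by
      rw [hψAB]; infer_instance
    exact (HasRingHomProperty.Spec_iff (P := @LocallyOfFiniteType)).mp this
  have h3 := Groth.Agent.H54.ringKrullDim_quotient_chart (pullback.fst f g ≫ f) jAB ψAB hψAB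
    hftAB Q
  rw [hQ] at h3
  have h5 := Groth.Agent.H38.TensorMinPrime.ringKrullDim_quotient_minimalPrime_tensor k A B
    (Q : PrimeSpectrum (A ⊗[k] B)).asIdeal hmin
  rw [← h3, h5, h1, h2]

/-- **EGA IV 4.2.? / Stacks 0B2J-type.** Every irreducible component of a product of integral
schemes locally of finite type over a field has dimension `dim X + dim Y`. -/
theorem topologicalKrullDim_component_pullback {k : Type u} [Field k] {X Y : Scheme.{u}}
    (f : X ⟶ Spec (CommRingCat.of k)) (g : Y ⟶ Spec (CommRingCat.of k)) [IsIntegral X]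
    [IsIntegral Y] [LocallyOfFiniteType f] [LocallyOfFiniteType g] (Z : Set ↥(pullback f g))
    (hZ : Z ∈ irreducibleComponents ↥(pullback f g)) :
    topologicalKrullDim ↥Z = topologicalKrullDim ↥X + topologicalKrullDim ↥Y := by
  obtain ⟨ζ, hζ⟩ := QuasiSober.sober hZ.1 (isClosed_of_mem_irreducibleComponents Z hZ)
  have hcl : closure ({ζ} : Set ↥(pullback f g)) = Z := hζ.def
  have hZ' : closure ({ζ} : Set ↥(pullback f g)) ∈ irreducibleComponents ↥(pullback f g) :=
    hcl ▸ hZ
  haveI : LocallyOfFiniteType (pullback.fst f g ≫ f) := inferInstance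
  rw [← hcl, Groth.Agent.H54.topologicalKrullDim_closure_singleton (pullback.fst f g ≫ f) ζ]
  exact tdeg_pullback_eq f g ζ
    (fun ζ' h => Groth.Agent.H54.eq_of_specializes_of_closure_mem_irreducibleComponents hZ' h)

end Groth.Agent.H38.DimProdComp
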