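import Mathlib
import Groth.Agent.H11.GenFree2

set_option autoImplicit false
universe u
open TensorProduct

namespace Groth.Agent.H38.NZDSpread

/-- In a Noetherian ring `C`, if no nonzero element is killed by `φ(𝔞)`, then some element of
`φ(𝔞)` is a nonzerodivisor. -/
theorem exists_nzd_of_forall {B C : Type u} [CommRing B] [CommRing C] [IsNoetherianRing C]
    (φ : B →+* C) (𝔞 : Ideal B) (h : ∀ c : C, (∀ g ∈ 𝔞, φ g * c = 0) → c = 0) :
    ∃ g ∈ 𝔞, φ g ∈ nonZeroDivisors C := by
  classical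
  by_contra hcon
  push Not at hcon
  have hfin : (associatedPrimes C C).Finite := associatedPrimes.finite C C
  have hsub : (𝔞 : Set B) ⊆ ⋃ P ∈ (↑hfin.toFinset : Set (Ideal C)), (Ideal.comap φ P : Set B) := by
    intro g hg
    have h1 : φ g ∈ ((nonZeroDivisors C : Set C))ᶜ := hcon g hg
    rw [← biUnion_associatedPrimes_eq_compl_nonZeroDivisors] at h1
    simp only [Set.mem_iUnion] at h1 ⊢
    obtain ⟨P, hP, hgP⟩ := h1
    exact ⟨P, by simpa using hP, hgP⟩
  obtain ⟨P, hP, hle⟩ := (Ideal.subset_union_prime (f := fun P : Ideal C => Ideal.comap φ P) ⊥ ⊥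
    (fun P hP _ _ => by
      have hP' : P ∈ associatedPrimes C C := by simpa using hP
      haveI : P.IsPrime := hP'.isPrime
      exact Ideal.comap_isPrime φ P)).mp hsub
  have hP' : P ∈ associatedPrimes C C := by simpa using hP
  obtain ⟨hPprime, x, hx⟩ := isAssociatedPrime_iff.mp hP'
  have hx0 : x = 0 := by
    apply h
    intro g hg
    have h1 : φ g ∈ P := hle hg
    rw [hx, Submodule.mem_colon_singleton] at h1
    have h2 : φ g • x = 0 := by simpa using h1
    simpa [smul_eq_mul] using h2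
  apply hPprime.ne_top
  rw [hx, hx0]
  ext r
  simp [Submodule.mem_colon_singleton]



open Groth.Agent.H11 in
theorem GFree.mul_right {R M : Type u} [CommRing R] [AddCommGroup M] [Module R M] {f : R} (f' : R)
    (h : GFree R M f) : GFree R M (f * f') := by
  obtain ⟨ι, b, hb, hsp⟩ := h
  refine ⟨ι, b, hb, fun m => ?_⟩
  obtain ⟨k, hk⟩ := hsp m
  refine ⟨k, ?_⟩
  rw [mul_comm, mul_pow, mul_smul]
  exact Submodule.smul_mem _ _ hk

section core

variable (A : Type u) {B : Type u} [CommRing A] [CommRing B] [Algebra A B] (g : B)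
  (R₁ : Type u) [CommRing R₁] [Algebra A R₁]

/-- multiplication by `g`, base changed to `R₁`. -/
noncomputable def mulg : R₁ ⊗[A] B →ₗ[R₁] R₁ ⊗[A] B := (LinearMap.mulLeft A g).baseChange R₁

/-- the quotient map, base changed to `R₁`. -/
noncomputable def quotg : R₁ ⊗[A] B →ₗ[R₁] R₁ ⊗[A] (B ⧸ Ideal.span {g}) :=
  ((Ideal.Quotient.mkₐ A (Ideal.span {g})).toLinearMap).baseChange R₁

theorem exact_mulg_quotg : Function.Exact (mulg A g R₁) (quotg A g R₁) := by
  have H : Function.Exact (LinearMap.mulLeft A g)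
      ((Ideal.Quotient.mkₐ A (Ideal.span {g})).toLinearMap) := by
    intro y
    simp only [AlgHom.toLinearMap_apply, Ideal.Quotient.mkₐ_eq_mk, Set.mem_range,
      LinearMap.mulLeft_apply]
    rw [Ideal.Quotient.eq_zero_iff_mem, Ideal.mem_span_singleton']
    constructor
    · rintro ⟨a, rfl⟩; exact ⟨a, mul_comm _ _⟩
    · rintro ⟨a, rfl⟩; exact ⟨a, mul_comm _ _⟩
  have hs : Function.Surjective ((Ideal.Quotient.mkₐ A (Ideal.span {g})).toLinearMap) :=
    Ideal.Quotient.mk_surjective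
  have := lTensor_exact R₁ H hs
  intro y
  have h1 := this y
  simpa [mulg, quotg, LinearMap.baseChange_eq_ltensor] using h1

theorem quotg_surjective : Function.Surjective (quotg A g R₁) := by
  have hs : Function.Surjective ((Ideal.Quotient.mkₐ A (Ideal.span {g})).toLinearMap) :=
    Ideal.Quotient.mk_surjective
  have := LinearMap.lTensor_surjective R₁ hs
  intro y
  obtain ⟨x, hx⟩ := this y
  exact ⟨x, by simpa [quotg, LinearMap.baseChange_eq_ltensor] using hx⟩

variable (L : Type u) [CommRing L] [Algebra A L] [Algebra R₁ L] [IsScalarTower A R₁ L]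

theorem cancel_mulg (w : L ⊗[R₁] (R₁ ⊗[A] B)) :
    TensorProduct.AlgebraTensorModule.cancelBaseChange A R₁ R₁ L B ((mulg A g R₁).lTensor L w) =
      ((1 : L) ⊗ₜ[A] g) * TensorProduct.AlgebraTensorModule.cancelBaseChange A R₁ R₁ L B w := by
  induction w using TensorProduct.induction_on with
  | zero => simp
  | add x y hx hy => rw [map_add, map_add, map_add, hx, hy, mul_add]
  | tmul l n =>
    induction n using TensorProduct.induction_on with
    | zero => simp
    | add x y hx hy =>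
      rw [TensorProduct.tmul_add, map_add, map_add, map_add, hx, hy, mul_add]
    | tmul r b =>
      simp [mulg, Algebra.TensorProduct.tmul_mul_tmul]

theorem mulg_injective [Module.Flat R₁ (R₁ ⊗[A] B)]
    {L₀ : Type u} [CommRing L₀] [Algebra A L₀] [Algebra R₁ L₀] [IsScalarTower A R₁ L₀]
    (hinj : Function.Injective (algebraMap R₁ L₀))
    (h₀ : (1 : L₀) ⊗ₜ[A] g ∈ nonZeroDivisors (L₀ ⊗[A] B)) :
    Function.Injective (mulg A g R₁) := by
  rw [injective_iff_map_eq_zero]
  intro x hx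
  haveI : FaithfulSMul R₁ L₀ := (faithfulSMul_iff_algebraMap_injective R₁ L₀).mpr hinj
  have h1 := cancel_mulg A g R₁ L₀ ((1 : L₀) ⊗ₜ[R₁] x)
  rw [LinearMap.lTensor_tmul, hx, TensorProduct.tmul_zero, map_zero] at h1
  have h2 : TensorProduct.AlgebraTensorModule.cancelBaseChange A R₁ R₁ L₀ B
      ((1 : L₀) ⊗ₜ[R₁] x) = 0 := by
    have := (mem_nonZeroDivisors_iff.mp h₀).1 _ h1.symm
    exact this
  have h3 : (1 : L₀) ⊗ₜ[R₁] x = 0 := by
    have := (TensorProduct.AlgebraTensorModule.cancelBaseChange A R₁ R₁ L₀ B).injective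
      (h2.trans (map_zero _).symm)
    exact this
  have h4 := Module.Flat.tensorProduct_mk_injective R₁ (R₁ ⊗[A] B) L₀
  apply h4
  simpa using h3

theorem one_tmul_mem_nonZeroDivisors [Module.Flat R₁ (R₁ ⊗[A] B)]
    [Module.Flat R₁ (R₁ ⊗[A] (B ⧸ Ideal.span {g}))]
    {L₀ : Type u} [CommRing L₀] [Algebra A L₀] [Algebra R₁ L₀] [IsScalarTower A R₁ L₀]
    (hinj : Function.Injective (algebraMap R₁ L₀))
    (h₀ : (1 : L₀) ⊗ₜ[A] g ∈ nonZeroDivisors (L₀ ⊗[A] B)) :
    (1 : L) ⊗ₜ[A] g ∈ nonZeroDivisors (L ⊗[A] B) := by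
  have hinjL := LinearMap.lTensor_injective_of_exact_of_flat (quotg A g R₁)
    (quotg_surjective A g R₁) (mulg A g R₁) (mulg_injective A g R₁ hinj h₀)
    (exact_mulg_quotg A g R₁) L
  rw [mem_nonZeroDivisors_iff_right]
  intro z hz
  obtain ⟨w, rfl⟩ := (TensorProduct.AlgebraTensorModule.cancelBaseChange A R₁ R₁ L B).surjective z
  have h1 := cancel_mulg A g R₁ L w
  rw [mul_comm, hz] at h1
  have h2 : (mulg A g R₁).lTensor L w = 0 := by
    apply (TensorProduct.AlgebraTensorModule.cancelBaseChange A R₁ R₁ L B).injective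
    rw [h1, map_zero]
  have h3 : w = 0 := by
    apply hinjL
    rw [h2, map_zero]
  rw [h3, map_zero]

end core

open Groth.Agent.H11 in
/-- Spreading out a nonzerodivisor: the domain case. -/
theorem spread_nzd_domain {A B : Type u} [CommRing A] [IsDomain A] [CommRing B] [Algebra A B]
    [Algebra.FiniteType A B] (g : B)
    {L₀ : Type u} [CommRing L₀] (hL₀ : IsField L₀) [Algebra A L₀]
    (hinj : Function.Injective (algebraMap A L₀))
    (h₀ : (1 : L₀) ⊗ₜ[A] g ∈ nonZeroDivisors (L₀ ⊗[A] B)) :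
    ∃ a : A, a ≠ 0 ∧ ∀ (L : Type u) [CommRing L] [Algebra A L], IsField L →
      algebraMap A L a ≠ 0 → (1 : L) ⊗ₜ[A] g ∈ nonZeroDivisors (L ⊗[A] B) := by
  obtain ⟨a₁, ha₁, hG₁⟩ := exists_gfree (R := A) (S := B) (M := B)
  obtain ⟨a₂, ha₂, hG₂⟩ := exists_gfree (R := A) (S := B) (M := B ⧸ Ideal.span {g})
  set a := a₁ * a₂ with ha
  have ha0 : a ≠ 0 := mul_ne_zero ha₁ ha₂
  have hG₁' : GFree A B a := GFree.mul_right a₂ hG₁
  have hG₂' : GFree A (B ⧸ Ideal.span {g}) a := by
    rw [ha, mul_comm]; exact GFree.mul_right a₁ hG₂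
  let R₁ := Localization.Away a
  haveI : IsLocalizedModule (Submonoid.powers a) (TensorProduct.mk A R₁ B 1) :=
    (isLocalizedModule_iff_isBaseChange (Submonoid.powers a) R₁ _).mpr
      (TensorProduct.isBaseChange A B R₁)
  haveI : IsLocalizedModule (Submonoid.powers a)
      (TensorProduct.mk A R₁ (B ⧸ Ideal.span {g}) 1) :=
    (isLocalizedModule_iff_isBaseChange (Submonoid.powers a) R₁ _).mpr
      (TensorProduct.isBaseChange A (B ⧸ Ideal.span {g}) R₁)
  haveI : Module.Free R₁ (R₁ ⊗[A] B) :=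
    hG₁'.free_of_isLocalizedModule (TensorProduct.mk A R₁ B 1)
  haveI : Module.Free R₁ (R₁ ⊗[A] (B ⧸ Ideal.span {g})) :=
    hG₂'.free_of_isLocalizedModule (TensorProduct.mk A R₁ (B ⧸ Ideal.span {g}) 1)
  -- `L₀` as an `R₁`-algebra
  have hu₀ : IsUnit (algebraMap A L₀ a) := by
    obtain ⟨b, hb⟩ := hL₀.mul_inv_cancel
      (fun h => ha0 (hinj (h.trans (map_zero _).symm)) : algebraMap A L₀ a ≠ 0)
    exact IsUnit.of_mul_eq_one _ hb
  letI alg₀ : Algebra R₁ L₀ := (IsLocalization.Away.lift a hu₀).toAlgebra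
  haveI : IsScalarTower A R₁ L₀ := IsScalarTower.of_algebraMap_eq
    (fun x => (IsLocalization.Away.lift_eq a hu₀ x).symm)
  have hinj₁ : Function.Injective (algebraMap R₁ L₀) := by
    have hM : Submonoid.powers a ≤ nonZeroDivisors A :=
      Submonoid.powers_le.mpr (mem_nonZeroDivisors_of_ne_zero ha0)
    have hAR : Function.Injective (algebraMap A R₁) := IsLocalization.injective R₁ hM
    show Function.Injective (IsLocalization.Away.lift a hu₀)
    rw [IsLocalization.Away.lift, IsLocalization.lift_injective_iff]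
    intro x y
    rw [hAR.eq_iff, hinj.eq_iff]
  refine ⟨a, ha0, ?_⟩
  intro L _ _ hL haL
  have hu : IsUnit (algebraMap A L a) := by
    obtain ⟨b, hb⟩ := hL.mul_inv_cancel haL
    exact IsUnit.of_mul_eq_one _ hb
  letI alg : Algebra R₁ L := (IsLocalization.Away.lift a hu).toAlgebra
  haveI : IsScalarTower A R₁ L := IsScalarTower.of_algebraMap_eq
    (fun x => (IsLocalization.Away.lift_eq a hu x).symm)
  exact one_tmul_mem_nonZeroDivisors A g R₁ L hinj₁ h₀

theorem nzd_of_ringEquiv {R S : Type*} [CommRing R] [CommRing S] (e : R ≃+* S) {x : R}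
    (hx : x ∈ nonZeroDivisors R) : e x ∈ nonZeroDivisors S := by
  rw [mem_nonZeroDivisors_iff_right] at hx ⊢
  intro z hz
  have h1 : e.symm z * x = 0 := by
    apply e.injective
    rw [map_mul, e.apply_symm_apply, hz, map_zero]
  have h2 := hx _ h1
  have h3 : e (e.symm z) = e 0 := by rw [h2]
  rwa [e.apply_symm_apply, map_zero] at h3

/-- Spreading out a nonzerodivisor from a "generic" field `L₀` (one whose kernel is contained in
every prime) to all fields outside a closed subset. -/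
theorem spread_nzd {A B : Type u} [CommRing A] [CommRing B] [Algebra A B]
    [Algebra.FiniteType A B] (g : B)
    {L₀ : Type u} [CommRing L₀] (hL₀ : IsField L₀) [Algebra A L₀]
    (hker : ∀ P : Ideal A, P.IsPrime → RingHom.ker (algebraMap A L₀) ≤ P)
    (h₀ : (1 : L₀) ⊗ₜ[A] g ∈ nonZeroDivisors (L₀ ⊗[A] B)) :
    ∃ a : A, algebraMap A L₀ a ≠ 0 ∧ ∀ (L : Type u) [CommRing L] [Algebra A L], IsField L →
      algebraMap A L a ≠ 0 → (1 : L) ⊗ₜ[A] g ∈ nonZeroDivisors (L ⊗[A] B) := by
  set I : Ideal A := RingHom.ker (algebraMap A L₀) with hI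
  haveI : IsDomain L₀ := hL₀.isDomain
  haveI : I.IsPrime := RingHom.ker_isPrime _
  let A' := A ⧸ I
  have key : ∀ (L : Type u) [CommRing L] [Algebra A L], IsField L →
      ∀ a ∈ I, algebraMap A L a = 0 := by
    intro L _ _ hL a ha
    haveI : IsDomain L := hL.isDomain
    exact hker (RingHom.ker (algebraMap A L)) (RingHom.ker_isPrime _) ha
  letI alg₀ : Algebra A' L₀ := (Ideal.Quotient.lift I (algebraMap A L₀) (key L₀ hL₀)).toAlgebra
  haveI : IsScalarTower A A' L₀ := IsScalarTower.of_algebraMap_eq (fun x => by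
    simp [RingHom.algebraMap_toAlgebra, A'])
  have hinj : Function.Injective (algebraMap A' L₀) := by
    show Function.Injective (Ideal.Quotient.lift I (algebraMap A L₀) (key L₀ hL₀))
    exact RingHom.lift_injective_of_ker_le_ideal I (key L₀ hL₀) le_rfl
  let e₀ := Algebra.TensorProduct.cancelBaseChange A A' A' L₀ B
  have h₀' : (1 : L₀) ⊗ₜ[A'] ((1 : A') ⊗ₜ[A] g) ∈ nonZeroDivisors (L₀ ⊗[A'] (A' ⊗[A] B)) := by
    have := nzd_of_ringEquiv e₀.symm.toRingEquiv h₀
    simpa [e₀] using this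
  obtain ⟨a', ha', hspread⟩ := spread_nzd_domain (A := A') (B := A' ⊗[A] B)
    ((1 : A') ⊗ₜ[A] g) hL₀ hinj h₀'
  obtain ⟨a, rfl⟩ := Ideal.Quotient.mk_surjective a'
  refine ⟨a, ?_, ?_⟩
  · intro h
    apply ha'
    rw [Ideal.Quotient.eq_zero_iff_mem]
    exact h
  · intro L _ _ hL haL
    letI alg : Algebra A' L := (Ideal.Quotient.lift I (algebraMap A L) (key L hL)).toAlgebra
    haveI : IsScalarTower A A' L := IsScalarTower.of_algebraMap_eq (fun x => by
      simp [RingHom.algebraMap_toAlgebra, A'])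
    have h1 : algebraMap A' L (Ideal.Quotient.mk I a) ≠ 0 := by
      show Ideal.Quotient.lift I (algebraMap A L) (key L hL) (Ideal.Quotient.mk I a) ≠ 0
      rw [Ideal.Quotient.lift_mk]
      exact haL
    have h2 := hspread L hL h1
    let e := Algebra.TensorProduct.cancelBaseChange A A' A' L B
    have := nzd_of_ringEquiv e.toRingEquiv h2
    simpa [e] using this

open CategoryTheory CategoryTheory.Limits in
theorem nzd_iff_of_isPushout {A B A' P : CommRingCat.{u}} {φ : A ⟶ B} {ψ : A ⟶ A'} {inl : B ⟶ P}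
    {inr : A' ⟶ P} (h : IsPushout φ ψ inl inr) (t : B) :
    letI : Algebra A B := φ.hom.toAlgebra
    letI : Algebra A A' := ψ.hom.toAlgebra
    inl.hom t ∈ nonZeroDivisors P ↔ (1 : A') ⊗ₜ[A] t ∈ nonZeroDivisors (A' ⊗[A] B) := by
  letI : Algebra A B := φ.hom.toAlgebra
  letI : Algebra A A' := ψ.hom.toAlgebra
  have h' : IsPushout (CommRingCat.ofHom (algebraMap A A')) (CommRingCat.ofHom (algebraMap A B))
      inr inl := h.flip
  let e := h'.isoIsPushout _ _ (CommRingCat.isPushout_tensorProduct A A' B)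
  have he : inl ≫ e.hom =
      CommRingCat.ofHom (Algebra.TensorProduct.includeRight (R := A) (A := A') (B := B)).toRingHom :=
    h'.inr_isoIsPushout_hom _ _ _
  have he' : e.hom.hom (inl.hom t) = (1 : A') ⊗ₜ[A] t := by
    have := congrArg (fun m => m.hom t) he
    simpa using this
  let e' : P ≃+* A' ⊗[A] B := e.commRingCatIsoToRingEquiv
  have he'' : e' (inl.hom t) = (1 : A') ⊗ₜ[A] t := he'
  constructor
  · intro hh
    have := nzd_of_ringEquiv e' hh
    rwa [he''] at this
  · intro hh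
    have := nzd_of_ringEquiv e'.symm hh
    rwa [← he'', e'.symm_apply_apply] at this

open CategoryTheory CategoryTheory.Limits in
/-- Spreading out a nonzerodivisor, phrased with pushout squares of commutative rings. -/
theorem spread_nzd_pushout {A B : CommRingCat.{u}} (φ : A ⟶ B) (hφ : φ.hom.FiniteType) (g : B)
    {K₀ P₀ : CommRingCat.{u}} (hK₀ : IsField K₀) {ψ₀ : A ⟶ K₀} {inl₀ : B ⟶ P₀} {inr₀ : K₀ ⟶ P₀}
    (h₀ : IsPushout φ ψ₀ inl₀ inr₀)
    (hker : ∀ P : Ideal A, P.IsPrime → RingHom.ker ψ₀.hom ≤ P)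
    (hnzd : inl₀.hom g ∈ nonZeroDivisors P₀) :
    ∃ a : A, ψ₀.hom a ≠ 0 ∧ ∀ (K P : CommRingCat.{u}) (ψ : A ⟶ K) (inl : B ⟶ P) (inr : K ⟶ P),
      IsField K → IsPushout φ ψ inl inr → ψ.hom a ≠ 0 → inl.hom g ∈ nonZeroDivisors P := by
  letI : Algebra A B := φ.hom.toAlgebra
  haveI : Algebra.FiniteType A B := hφ
  letI alg₀ : Algebra A K₀ := ψ₀.hom.toAlgebra
  have h1 := (nzd_iff_of_isPushout h₀ g).mp hnzd
  obtain ⟨a, ha, hspread⟩ := spread_nzd (A := A) (B := B) g (L₀ := K₀) hK₀ hker h1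
  refine ⟨a, ha, ?_⟩
  intro K P ψ inl inr hK hPO haK
  letI alg : Algebra A K := ψ.hom.toAlgebra
  exact (nzd_iff_of_isPushout hPO g).mpr (hspread K hK haK)

end Groth.Agent.H38.NZDSpread
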