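import Mathlib
import Groth.Agent.H38.NZDSpread
import Groth.Agent.H38.GenSmooth
import Groth.Agent.H29.RedModP
import Groth.Agent.S0389

/-!
# Spreading out reducedness of geometric fibres (algebraic core)
-/

set_option autoImplicit false
universe u
open TensorProduct

namespace Groth.Agent.H38.RedSpread

/-- generalization of `Algebra.smoothLocus_comap_of_isLocalization` to arbitrary submonoids. -/
lemma smoothLocus_comap_of_isLocalization' {R A Af : Type*} [CommRing R] [CommRing A]
    [Algebra R A] [CommRing Af] [Algebra A Af] [Algebra R Af]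
    [IsScalarTower R A Af] (M : Submonoid A) [IsLocalization M Af] :
    PrimeSpectrum.comap (algebraMap A Af) ⁻¹' Algebra.smoothLocus R A =
      Algebra.smoothLocus R Af := by
  ext p
  let q := PrimeSpectrum.comap (algebraMap A Af) p
  have : IsLocalization.AtPrime (Localization.AtPrime p.asIdeal) q.asIdeal :=
    IsLocalization.isLocalization_isLocalization_atPrime_isLocalization M _ p.asIdeal
  refine Algebra.FormallySmooth.iff_of_equiv ?_
  exact (IsLocalization.algEquiv q.asIdeal.primeCompl _ _).restrictScalars R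

/-- the ideal of elements whose basic open lies in the smooth locus. -/
def smoothIdeal (A B : Type u) [CommRing A] [CommRing B] [Algebra A B] : Ideal B where
  carrier := {g | (PrimeSpectrum.basicOpen g : Set (PrimeSpectrum B)) ⊆ Algebra.smoothLocus A B}
  add_mem' := by
    intro a b ha hb p hp
    have hp' : a + b ∉ p.asIdeal := hp
    by_cases h1 : a ∈ p.asIdeal
    · by_cases h2 : b ∈ p.asIdeal
      · exact absurd (p.asIdeal.add_mem h1 h2) hp'
      · exact hb h2
    · exact ha h1
  zero_mem' := by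
    intro p hp
    exact absurd (p.asIdeal.zero_mem) hp
  smul_mem' := by
    intro c a ha p hp
    have hp' : c * a ∉ p.asIdeal := hp
    exact ha (fun h => hp' (p.asIdeal.mul_mem_left c h))

section G3

variable {A B : Type u} [CommRing A] [IsDomain A] [CommRing B] [Algebra A B]
  {Ω : Type u} [Field Ω] [IsAlgClosed Ω] [Algebra A Ω]

/-- (G3) if `Ω ⊗ B` is reduced for an algebraically closed field `Ω ⊇ A`, then the generic fibre
`Frac A ⊗ B` is geometrically reduced. -/
theorem isGeometricallyReduced_fractionRing_tensor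
    (hinj : Function.Injective (algebraMap A Ω)) (h₀ : IsReduced (Ω ⊗[A] B)) :
    Algebra.IsGeometricallyReduced (FractionRing A) (FractionRing A ⊗[A] B) := by
  let F := FractionRing A
  letI algFΩ : Algebra F Ω := (IsFractionRing.lift hinj).toAlgebra
  haveI : IsScalarTower A F Ω := IsScalarTower.of_algebraMap_eq (fun x => by
    simp [RingHom.algebraMap_toAlgebra, F])
  rw [Algebra.isGeometricallyReduced_field_iff]
  have h1 : IsReduced (Ω ⊗[F] (F ⊗[A] B)) :=
    isReduced_of_injective (Algebra.TensorProduct.cancelBaseChange A F F Ω B)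
      (Algebra.TensorProduct.cancelBaseChange A F F Ω B).injective
  haveI : Module.Free F (F ⊗[A] B) := Module.Free.of_divisionRing F _
  haveI : Module.Flat F (F ⊗[A] B) := Module.Flat.of_free
  exact isReduced_of_injective
    (Algebra.TensorProduct.map ((IsAlgClosed.lift : AlgebraicClosure F →ₐ[F] Ω)) 1)
    (Module.Flat.rTensor_preserves_injective_linearMap _ (RingHom.injective _))

end G3

section G4

attribute [local instance] Algebra.TensorProduct.rightAlgebra

variable {A B : Type u} [CommRing A] [IsDomain A] [CommRing B] [Algebra A B]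
  [Algebra.FinitePresentation A B]

/-- (G4) around the contraction of a minimal prime of the geometrically reduced generic fibre, the
algebra is smooth. -/
theorem exists_mem_smoothIdeal
    [Algebra.IsGeometricallyReduced (FractionRing A) (FractionRing A ⊗[A] B)]
    (q : Ideal (FractionRing A ⊗[A] B)) (hq : q ∈ minimalPrimes (FractionRing A ⊗[A] B)) :
    ∃ g ∈ smoothIdeal A B, (1 : FractionRing A) ⊗ₜ[A] g ∉ q := by
  let F := FractionRing A
  haveI hqp : q.IsPrime := hq.1.1
  have hsm : Algebra.FormallySmooth F (Localization.AtPrime q) :=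
    GenSmooth.formallySmooth_localization_of_minimal q hq
  haveI : Algebra.FormallySmooth A F := Algebra.FormallySmooth.of_isLocalization (nonZeroDivisors A)
  have hsmA : Algebra.FormallySmooth A (Localization.AtPrime q) :=
    Algebra.FormallySmooth.comp A F _
  have hmem : (⟨q, hqp⟩ : PrimeSpectrum (F ⊗[A] B)) ∈ Algebra.smoothLocus A (F ⊗[A] B) := hsmA
  rw [← smoothLocus_comap_of_isLocalization' (R := A) (A := B) (Af := F ⊗[A] B)
    (Algebra.algebraMapSubmonoid B (nonZeroDivisors A))] at hmem
  let q' : PrimeSpectrum B := PrimeSpectrum.comap (algebraMap B (F ⊗[A] B)) ⟨q, hqp⟩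
  have hq' : q' ∈ Algebra.smoothLocus A B := hmem
  haveI : Algebra.IsSmoothAt A q'.asIdeal := hq'
  obtain ⟨g, hg, hsmg⟩ := Algebra.IsSmoothAt.exists_notMem_smooth A q'.asIdeal
  refine ⟨g, Algebra.basicOpen_subset_smoothLocus_iff_smooth.mpr hsmg, ?_⟩
  exact hg

end G4

section G7

variable {A B : Type u} [CommRing A] [CommRing B] [Algebra A B]

/-- (G7) if `B_g` is smooth over `A` and `1 ⊗ g` is a nonzerodivisor on `K ⊗ B`, `K` a field, then
`K ⊗ B` is reduced. -/
theorem isReduced_tensor_of_nzd (g : B) [Algebra.Smooth A (Localization.Away g)]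
    (K : Type u) [CommRing K] [Algebra A K] (hK : IsField K)
    (hnzd : (1 : K) ⊗ₜ[A] g ∈ nonZeroDivisors (K ⊗[A] B)) : IsReduced (K ⊗[A] B) := by
  let Bg := Localization.Away g
  haveI : IsDomain K := hK.isDomain
  haveI : IsReduced (K ⊗[A] Bg) := H29.RedModP.isReduced_of_smooth K (K ⊗[A] Bg)
  letI : Algebra (K ⊗[A] B) (K ⊗[A] Bg) :=
    (Algebra.TensorProduct.map (AlgHom.id K K) (IsScalarTower.toAlgHom A B Bg)).toRingHom.toAlgebra
  haveI : IsScalarTower K (K ⊗[A] B) (K ⊗[A] Bg) := IsScalarTower.of_algebraMap_eq (fun x => by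
    show _ = (Algebra.TensorProduct.map (AlgHom.id K K) (IsScalarTower.toAlgHom A B Bg))
      (algebraMap _ _ x)
    simp [Algebra.TensorProduct.algebraMap_apply]
    rfl)
  have hloc := IsLocalization.tensorProduct_tensorProduct_right A K (Submonoid.powers g) Bg
    (by
      ext x
      show (Algebra.TensorProduct.map (AlgHom.id K K) (IsScalarTower.toAlgHom A B Bg))
        (1 ⊗ₜ x) = 1 ⊗ₜ (algebraMap B Bg x)
      simp)
  have hle : (Submonoid.powers g).map (Algebra.TensorProduct.includeRight (R := A) (A := K)) ≤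
      nonZeroDivisors (K ⊗[A] B) := by
    rintro _ ⟨_, ⟨n, rfl⟩, rfl⟩
    rw [map_pow]
    exact pow_mem hnzd n
  have hinj : Function.Injective (algebraMap (K ⊗[A] B) (K ⊗[A] Bg)) :=
    IsLocalization.injective _ hle
  exact isReduced_of_injective _ hinj

end G7

section L3

variable {A B : Type u} [CommRing A] [IsDomain A] [CommRing B] [Algebra A B]
  [Algebra.FinitePresentation A B] {Ω : Type u} [Field Ω] [IsAlgClosed Ω] [Algebra A Ω]

/-- Core case: `A` a domain, `B` finitely presented. -/
theorem spread_reduced_fp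
    (hinj : Function.Injective (algebraMap A Ω)) (h₀ : IsReduced (Ω ⊗[A] B)) :
    ∃ a : A, a ≠ 0 ∧ ∀ (K : Type u) [CommRing K] [Algebra A K], IsField K →
      algebraMap A K a ≠ 0 → IsReduced (K ⊗[A] B) := by
  let F := FractionRing A
  haveI hgr : Algebra.IsGeometricallyReduced F (F ⊗[A] B) :=
    isGeometricallyReduced_fractionRing_tensor hinj h₀
  haveI : IsReduced (F ⊗[A] B) := Algebra.isReduced_of_isGeometricallyReduced F
  haveI : IsNoetherianRing (F ⊗[A] B) := Algebra.FiniteType.isNoetherianRing F (F ⊗[A] B)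
  -- (G5)
  obtain ⟨g, hg, hnzd⟩ := NZDSpread.exists_nzd_of_forall
    (Algebra.TensorProduct.includeRight : B →ₐ[A] F ⊗[A] B).toRingHom (smoothIdeal A B) (by
      intro c hc
      have hc' : c ∈ nilradical (F ⊗[A] B) := by
        rw [nilradical, ← Ideal.sInf_minimalPrimes, Ideal.mem_sInf]
        intro q hq
        obtain ⟨g, hg, hgq⟩ := exists_mem_smoothIdeal q hq
        have h1 := hc g hg
        have h2 : (1 : F) ⊗ₜ[A] g * c ∈ q := by
          have : (Algebra.TensorProduct.includeRight : B →ₐ[A] F ⊗[A] B).toRingHom g * c = 0 := h1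
          have h3 : (1 : F) ⊗ₜ[A] g * c = 0 := this
          rw [h3]; exact q.zero_mem
        exact (hq.1.1.mem_or_mem h2).resolve_left hgq
      rw [nilradical_eq_zero (F ⊗[A] B)] at hc'
      exact hc')
  have hnzd' : (1 : F) ⊗ₜ[A] g ∈ nonZeroDivisors (F ⊗[A] B) := hnzd
  haveI : Algebra.Smooth A (Localization.Away g) :=
    Algebra.basicOpen_subset_smoothLocus_iff_smooth.mp hg
  -- (G6)
  obtain ⟨a, ha, hspread⟩ := NZDSpread.spread_nzd_domain (A := A) (B := B) g
    (Field.toIsField F) (IsFractionRing.injective A F) hnzd'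
  refine ⟨a, ha, ?_⟩
  intro K _ _ hK haK
  exact isReduced_tensor_of_nzd g K hK (hspread K hK haK)

end L3

theorem isReduced_cancel_iff (A A₁ B K : Type u) [CommRing A] [CommRing A₁] [CommRing B]
    [CommRing K] [Algebra A A₁] [Algebra A B] [Algebra A K] [Algebra A₁ K] [IsScalarTower A A₁ K] :
    IsReduced (K ⊗[A₁] (A₁ ⊗[A] B)) ↔ IsReduced (K ⊗[A] B) := by
  let e := Algebra.TensorProduct.cancelBaseChange A A₁ A₁ K B
  exact ⟨fun h => isReduced_of_injective e.symm e.symm.injective,
    fun h => isReduced_of_injective e e.injective⟩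

section L2

variable {A B : Type u} [CommRing A] [IsDomain A] [CommRing B] [Algebra A B]
  [Algebra.FiniteType A B] {Ω : Type u} [Field Ω] [IsAlgClosed Ω] [Algebra A Ω]

/-- Domain case, `B` of finite type. -/
theorem spread_reduced_domain
    (hinj : Function.Injective (algebraMap A Ω)) (h₀ : IsReduced (Ω ⊗[A] B)) :
    ∃ a : A, a ≠ 0 ∧ ∀ (K : Type u) [CommRing K] [Algebra A K], IsField K →
      algebraMap A K a ≠ 0 → IsReduced (K ⊗[A] B) := by
  obtain ⟨a₀, ha₀, -, -, hfp, -⟩ := Groth.Agent.S0389.result (R := A) (S := B) (M := B)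
  let A₁ := Localization.Away a₀
  haveI : Algebra.FinitePresentation A₁ (A₁ ⊗[A] B) := hfp
  have hM : Submonoid.powers a₀ ≤ nonZeroDivisors A :=
    Submonoid.powers_le.mpr (mem_nonZeroDivisors_of_ne_zero ha₀)
  haveI : IsDomain A₁ := IsLocalization.isDomain_localization hM
  have hAR : Function.Injective (algebraMap A A₁) := IsLocalization.injective A₁ hM
  -- `Ω` as an `A₁`-algebra
  have hu₀ : IsUnit (algebraMap A Ω a₀) :=
    isUnit_iff_ne_zero.mpr (fun h => ha₀ (hinj (h.trans (map_zero _).symm)))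
  letI alg₀ : Algebra A₁ Ω := (IsLocalization.Away.lift a₀ hu₀).toAlgebra
  haveI : IsScalarTower A A₁ Ω := IsScalarTower.of_algebraMap_eq
    (fun x => (IsLocalization.Away.lift_eq a₀ hu₀ x).symm)
  have hinj₁ : Function.Injective (algebraMap A₁ Ω) := by
    show Function.Injective (IsLocalization.Away.lift a₀ hu₀)
    rw [IsLocalization.Away.lift, IsLocalization.lift_injective_iff]
    intro x y
    rw [hAR.eq_iff, hinj.eq_iff]
  have h₀' : IsReduced (Ω ⊗[A₁] (A₁ ⊗[A] B)) := (isReduced_cancel_iff A A₁ B Ω).mpr h₀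
  obtain ⟨a₁, ha₁, hspread⟩ := spread_reduced_fp (A := A₁) (B := A₁ ⊗[A] B) hinj₁ h₀'
  obtain ⟨⟨a₁', s⟩, hs⟩ := IsLocalization.surj (Submonoid.powers a₀) a₁
  have ha₁' : a₁' ≠ 0 := by
    rintro rfl
    simp only [map_zero] at hs
    have hsu : IsUnit (algebraMap A A₁ (s : A)) := IsLocalization.map_units A₁ s
    exact ha₁ ((hsu.mul_left_eq_zero).mp hs)
  refine ⟨a₀ * a₁', mul_ne_zero ha₀ ha₁', ?_⟩
  intro K _ _ hK haK
  haveI : IsDomain K := hK.isDomain
  rw [map_mul] at haK
  have haK₀ : algebraMap A K a₀ ≠ 0 := left_ne_zero_of_mul haK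
  have haK₁ : algebraMap A K a₁' ≠ 0 := right_ne_zero_of_mul haK
  have hu : IsUnit (algebraMap A K a₀) := by
    obtain ⟨b, hb⟩ := hK.mul_inv_cancel haK₀
    exact IsUnit.of_mul_eq_one _ hb
  letI alg : Algebra A₁ K := (IsLocalization.Away.lift a₀ hu).toAlgebra
  haveI : IsScalarTower A A₁ K := IsScalarTower.of_algebraMap_eq
    (fun x => (IsLocalization.Away.lift_eq a₀ hu x).symm)
  have h1 : algebraMap A₁ K a₁ ≠ 0 := by
    intro h
    apply haK₁
    have h2 := congrArg (algebraMap A₁ K) hs
    rw [map_mul, h, zero_mul, ← IsScalarTower.algebraMap_apply] at h2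
    exact h2.symm
  exact (isReduced_cancel_iff A A₁ B K).mp (hspread K hK h1)

end L2

section L1

variable {A B : Type u} [CommRing A] [CommRing B] [Algebra A B]
  [Algebra.FiniteType A B] {Ω : Type u} [Field Ω] [IsAlgClosed Ω] [Algebra A Ω]

/-- Spreading out reducedness of geometric fibres: if the base change of the finite type algebra
`B` to an algebraically closed field `Ω` lying over the "generic point" of `A` is reduced, then so
are the base changes to all fields in which a suitable `a` (nonzero in `Ω`) is nonzero. -/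
theorem spread_reduced
    (hker : ∀ P : Ideal A, P.IsPrime → RingHom.ker (algebraMap A Ω) ≤ P)
    (h₀ : IsReduced (Ω ⊗[A] B)) :
    ∃ a : A, algebraMap A Ω a ≠ 0 ∧ ∀ (K : Type u) [CommRing K] [Algebra A K], IsField K →
      algebraMap A K a ≠ 0 → IsReduced (K ⊗[A] B) := by
  set I : Ideal A := RingHom.ker (algebraMap A Ω) with hI
  haveI : I.IsPrime := RingHom.ker_isPrime _
  let A' := A ⧸ I
  have key : ∀ (L : Type u) [CommRing L] [Algebra A L], IsField L →
      ∀ a ∈ I, algebraMap A L a = 0 := by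
    intro L _ _ hL a ha
    haveI : IsDomain L := hL.isDomain
    exact hker (RingHom.ker (algebraMap A L)) (RingHom.ker_isPrime _) ha
  letI alg₀ : Algebra A' Ω :=
    (Ideal.Quotient.lift I (algebraMap A Ω) (key Ω (Field.toIsField Ω))).toAlgebra
  haveI : IsScalarTower A A' Ω := IsScalarTower.of_algebraMap_eq (fun x => by
    simp [RingHom.algebraMap_toAlgebra, A'])
  have hinj : Function.Injective (algebraMap A' Ω) := by
    show Function.Injective (Ideal.Quotient.lift I (algebraMap A Ω) (key Ω (Field.toIsField Ω)))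
    exact RingHom.lift_injective_of_ker_le_ideal I (key Ω (Field.toIsField Ω)) le_rfl
  have h₀' : IsReduced (Ω ⊗[A'] (A' ⊗[A] B)) := (isReduced_cancel_iff A A' B Ω).mpr h₀
  obtain ⟨a', ha', hspread⟩ := spread_reduced_domain (A := A') (B := A' ⊗[A] B) hinj h₀'
  obtain ⟨a, rfl⟩ := Ideal.Quotient.mk_surjective a'
  refine ⟨a, ?_, ?_⟩
  · intro h
    apply ha'
    rw [Ideal.Quotient.eq_zero_iff_mem]
    exact h
  · intro K _ _ hK haK
    letI alg : Algebra A' K := (Ideal.Quotient.lift I (algebraMap A K) (key K hK)).toAlgebra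
    haveI : IsScalarTower A A' K := IsScalarTower.of_algebraMap_eq (fun x => by
      simp [RingHom.algebraMap_toAlgebra, A'])
    have h1 : algebraMap A' K (Ideal.Quotient.mk I a) ≠ 0 := by
      show Ideal.Quotient.lift I (algebraMap A K) (key K hK) (Ideal.Quotient.mk I a) ≠ 0
      rw [Ideal.Quotient.lift_mk]
      exact haK
    exact (isReduced_cancel_iff A A' B K).mp (hspread K hK h1)

end L1

open CategoryTheory CategoryTheory.Limits in
theorem isReduced_iff_of_isPushout {A B K P : CommRingCat.{u}} {φ : A ⟶ B} {ψ : A ⟶ K}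
    {inl : B ⟶ P} {inr : K ⟶ P} (h : IsPushout φ ψ inl inr) :
    letI : Algebra A B := φ.hom.toAlgebra
    letI : Algebra A K := ψ.hom.toAlgebra
    IsReduced P ↔ IsReduced (K ⊗[A] B) := by
  letI : Algebra A B := φ.hom.toAlgebra
  letI : Algebra A K := ψ.hom.toAlgebra
  have h' : IsPushout (CommRingCat.ofHom (algebraMap A K)) (CommRingCat.ofHom (algebraMap A B))
      inr inl := h.flip
  let e := h'.isoIsPushout _ _ (CommRingCat.isPushout_tensorProduct A K B)
  let e' : P ≃+* K ⊗[A] B := e.commRingCatIsoToRingEquiv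
  exact ⟨fun _ => isReduced_of_injective e'.symm e'.symm.injective,
    fun _ => isReduced_of_injective e' e'.injective⟩

open CategoryTheory CategoryTheory.Limits in
/-- Spreading out reducedness of geometric fibres, phrased with pushout squares. -/
theorem spread_reduced_pushout {A B : CommRingCat.{u}} (φ : A ⟶ B) (hφ : φ.hom.FiniteType)
    {Ω : Type u} [Field Ω] [IsAlgClosed Ω] {P₀ : CommRingCat.{u}}
    {ψ₀ : A ⟶ CommRingCat.of Ω} {inl₀ : B ⟶ P₀} {inr₀ : CommRingCat.of Ω ⟶ P₀}
    (h₀ : IsPushout φ ψ₀ inl₀ inr₀)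
    (hker : ∀ P : Ideal A, P.IsPrime → RingHom.ker ψ₀.hom ≤ P)
    (hred : IsReduced P₀) :
    ∃ a : A, ψ₀.hom a ≠ 0 ∧ ∀ (K P : CommRingCat.{u}) (ψ : A ⟶ K) (inl : B ⟶ P) (inr : K ⟶ P),
      IsField K → IsPushout φ ψ inl inr → ψ.hom a ≠ 0 → IsReduced P := by
  letI : Algebra A B := φ.hom.toAlgebra
  haveI : Algebra.FiniteType A B := hφ
  letI alg₀ : Algebra A Ω := ψ₀.hom.toAlgebra
  have h1 : IsReduced (Ω ⊗[A] B) := (isReduced_iff_of_isPushout h₀).mp hred
  obtain ⟨a, ha, hspread⟩ := spread_reduced (A := A) (B := B) (Ω := Ω) hker h1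
  refine ⟨a, ha, ?_⟩
  intro K P ψ inl inr hK hPO haK
  letI alg : Algebra A K := ψ.hom.toAlgebra
  exact (isReduced_iff_of_isPushout hPO).mpr (hspread K hK haK)

end Groth.Agent.H38.RedSpread
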