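import Mathlib
import Groth.Agent.H38.NZDSpread
import Groth.Agent.H7.GeomRedFibre
import Groth.Agent.H63.FibreChart

set_option autoImplicit false
universe u
open AlgebraicGeometry CategoryTheory Limits TopologicalSpace

namespace Groth.Agent.H38.STDSpread

/-- (C1) An open subscheme is scheme theoretically dense as soon as restriction of functions to it
is injective on the members of an affine open cover. -/
theorem isSTD_ι_of_cover {Z : Scheme.{u}} (V : Z.Opens) {ι : Type*} (T : ι → Z.affineOpens)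
    (hT : ⨆ i, (T i).1 = ⊤)
    (H : ∀ i (c : Γ(Z, (T i).1)), (V.ι.app (T i).1).hom c = 0 → c = 0) :
    IsSchemeTheoreticallyDominant V.ι := by
  rw [isSchemeTheoreticallyDominant_iff]
  refine Scheme.IdealSheafData.ext_of_iSup_eq_top T hT (fun i => ?_)
  apply le_antisymm _ bot_le
  refine (Scheme.Hom.ideal_ker_le V.ι (T i)).trans ?_
  intro c hc
  have := H i c hc
  simp [this]

theorem le_image_preimage {Z : Scheme.{u}} (V T D : Z.Opens) (h1 : D ≤ V) (h2 : D ≤ T) :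
    D ≤ V.ι ''ᵁ V.ι ⁻¹ᵁ T := by
  intro x hx
  exact ⟨⟨x, h1 hx⟩, h2 hx, rfl⟩

/-- (C3) If a nonzerodivisor `s` on an affine open `T` has its basic open inside `V`, then
restriction from `T` to `V ∩ T` is injective. -/
theorem eq_zero_of_nzd {Z : Scheme.{u}} (V : Z.Opens) {T : Z.Opens} (hT : IsAffineOpen T)
    (s : Γ(Z, T)) (hs : s ∈ nonZeroDivisors Γ(Z, T)) (hsV : Z.basicOpen s ≤ V) (c : Γ(Z, T))
    (hc : (V.ι.app T).hom c = 0) : c = 0 := by
  have h1 : Z.basicOpen s ≤ V.ι ''ᵁ V.ι ⁻¹ᵁ T :=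
    le_image_preimage V T _ hsV (Z.basicOpen_le s)
  have hle : V.ι ''ᵁ V.ι ⁻¹ᵁ T ≤ T := Set.image_preimage_subset _ _
  have hc' : (Z.presheaf.map (homOfLE hle).op).hom c = 0 := hc
  have h2 : (Z.presheaf.map (homOfLE (Z.basicOpen_le s)).op).hom c = 0 := by
    have h3 : Z.presheaf.map (homOfLE (Z.basicOpen_le s)).op =
        Z.presheaf.map (homOfLE hle).op ≫ Z.presheaf.map (homOfLE h1).op := by
      rw [← Functor.map_comp]
      rfl
    rw [h3, CommRingCat.comp_apply, hc', map_zero]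
  obtain ⟨n, hn⟩ := exists_pow_mul_eq_zero_of_res_basicOpen_eq_zero_of_isAffineOpen Z hT c s h2
  have := (mem_nonZeroDivisors_iff_right.mp (pow_mem hs n)) c (by rw [mul_comm]; exact hn)
  exact this

theorem res_basicOpen_eq_zero {Z : Scheme.{u}} {T : Z.Opens} (s c : Γ(Z, T)) (h : s * c = 0) :
    (Z.presheaf.map (homOfLE (Z.basicOpen_le s)).op).hom c = 0 := by
  have hu : IsUnit ((Z.presheaf.map (homOfLE (Z.basicOpen_le s)).op).hom s) :=
    Z.toRingedSpace.isUnit_res_basicOpen s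
  have h1 : (Z.presheaf.map (homOfLE (Z.basicOpen_le s)).op).hom s *
      (Z.presheaf.map (homOfLE (Z.basicOpen_le s)).op).hom c = 0 := by
    rw [← map_mul, h, map_zero]
  exact (hu.mul_right_eq_zero).mp h1

/-- (C2+C4) On an affine open with Noetherian coordinate ring, if `V` is scheme theoretically dense
and `V ∩ T` is covered by the basic opens of the elements `φ g`, `g ∈ 𝔞`, then some `φ g` is a
nonzerodivisor. -/
theorem exists_nzd_of_isSTD {Z : Scheme.{u}} (V : Z.Opens) [IsSchemeTheoreticallyDominant V.ι]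
    [QuasiCompact V.ι] {T : Z.Opens} [IsNoetherianRing Γ(Z, T)] {B : Type u} [CommRing B]
    (φ : B →+* Γ(Z, T)) (𝔞 : Ideal B)
    (hcov : ∀ x ∈ V ⊓ T, ∃ g ∈ 𝔞, x ∈ Z.basicOpen (φ g)) :
    ∃ g ∈ 𝔞, φ g ∈ nonZeroDivisors Γ(Z, T) := by
  apply NZDSpread.exists_nzd_of_forall
  intro c hc
  apply V.ι.app_injective T
  rw [map_zero]
  have hle : V.ι ''ᵁ V.ι ⁻¹ᵁ T ≤ T := Set.image_preimage_subset _ _
  show (Z.presheaf.map (homOfLE hle).op).hom c = 0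
  refine Z.IsSheaf.section_ext (fun x hx => ?_)
  have hxVT : x ∈ V ⊓ T := by
    obtain ⟨z, hz, rfl⟩ := hx
    exact ⟨z.2, hz⟩
  obtain ⟨g, hg, hxg⟩ := hcov x hxVT
  refine ⟨Z.basicOpen (φ g) ⊓ (V.ι ''ᵁ V.ι ⁻¹ᵁ T), inf_le_right, ⟨hxg, hx⟩, ?_⟩
  rw [map_zero]
  have h3 : Z.presheaf.map (homOfLE hle).op ≫ Z.presheaf.map
      (homOfLE (inf_le_right : Z.basicOpen (φ g) ⊓ (V.ι ''ᵁ V.ι ⁻¹ᵁ T) ≤ _)).op =
      Z.presheaf.map (homOfLE (Z.basicOpen_le (φ g))).op ≫ Z.presheaf.map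
      (homOfLE (inf_le_left : Z.basicOpen (φ g) ⊓ (V.ι ''ᵁ V.ι ⁻¹ᵁ T) ≤ _)).op := by
    rw [← Functor.map_comp, ← Functor.map_comp]
    rfl
  have h4 := congrArg (fun m => m.hom c) h3
  simp only [CommRingCat.comp_apply] at h4
  rw [h4, res_basicOpen_eq_zero (φ g) c (hc g hg), map_zero]

section main

variable {X Y : Scheme.{u}}

/-- the ideal of functions on an open `X₁` whose basic open lies in `U`. -/
def idealOf (U X₁ : X.Opens) : Ideal Γ(X, X₁) where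
  carrier := {g | X.basicOpen g ≤ U}
  add_mem' := by
    intro a b ha hb
    exact (X.basicOpen_add_le a b).trans (sup_le ha hb)
  zero_mem' := by simp
  smul_mem' := by
    intro c a ha
    show X.basicOpen (c * a) ≤ U
    rw [Scheme.basicOpen_mul]
    exact inf_le_right.trans ha

theorem mem_idealOf {U X₁ : X.Opens} {g : Γ(X, X₁)} : g ∈ idealOf U X₁ ↔ X.basicOpen g ≤ U :=
  Iff.rfl

variable (f : X ⟶ Y)

theorem top_le_preimage (y : Y) {W : Y.Opens} (hy : y ∈ W) :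
    (⊤ : (Spec (Y.residueField y)).Opens) ≤ (Y.fromSpecResidueField y) ⁻¹ᵁ W := by
  intro z _
  show (Y.fromSpecResidueField y) z ∈ W
  rw [Scheme.fromSpecResidueField_apply]
  exact hy

theorem psi_ne_zero_iff (y : Y) {W : Y.Opens} (hy : y ∈ W) (a : Γ(Y, W)) :
    ((Y.fromSpecResidueField y).appLE W ⊤ (top_le_preimage y hy) ≫
      (Scheme.ΓSpecIso (Y.residueField y)).hom).hom a ≠ 0 ↔ y ∈ Y.basicOpen a := by
  rw [H63.FibreChart.appLE_fromSpecResidueField Y y W hy (top_le_preimage y hy),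
    ← Scheme.evaluation_ne_zero_iff_mem_basicOpen Y y hy a]
  simp [Scheme.evaluation]

theorem ker_psi_le [IrreducibleSpace ↑Y] {W : Y.Opens} (hW : IsAffineOpen W)
    (hηW : genericPoint ↑Y ∈ W) (P : Ideal Γ(Y, W)) (hP : P.IsPrime) :
    RingHom.ker ((Y.fromSpecResidueField (genericPoint ↑Y)).appLE W ⊤
      (top_le_preimage _ hηW) ≫ (Scheme.ΓSpecIso (Y.residueField (genericPoint ↑Y))).hom).hom
      ≤ P := by
  intro a ha
  by_contra haP
  have h1 : (⟨P, hP⟩ : PrimeSpectrum Γ(Y, W)) ∈ PrimeSpectrum.basicOpen a := haP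
  rw [← hW.fromSpec_preimage_basicOpen] at h1
  have h2 : hW.fromSpec (⟨P, hP⟩ : PrimeSpectrum Γ(Y, W)) ∈ Y.basicOpen a := h1
  have h3 : genericPoint ↑Y ∈ Y.basicOpen a :=
    ((genericPoint_spec ↑Y).mem_open_set_iff (Y.basicOpen a).2).mpr ⟨_, Set.mem_univ _, h2⟩
  exact (psi_ne_zero_iff _ hηW a).mpr h3 ha

theorem per_affine [IrreducibleSpace ↑Y] [LocallyOfFiniteType f] (U : X.Opens)
    (h : IsSchemeTheoreticallyDominant (f.fiberι (genericPoint ↑Y) ⁻¹ᵁ U).ι)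
    {W : Y.Opens} (hW : IsAffineOpen W) (hηW : genericPoint ↑Y ∈ W)
    {X₁ : X.Opens} (hX₁ : IsAffineOpen X₁) (hXW : X₁ ≤ f ⁻¹ᵁ W) :
    ∃ a : Γ(Y, W), genericPoint ↑Y ∈ Y.basicOpen a ∧ ∀ y ∈ Y.basicOpen a,
      IsAffineOpen (f.fiberι y ⁻¹ᵁ X₁ ⊓ f.fiberToSpecResidueField y ⁻¹ᵁ ⊤) ∧
      ∀ c : Γ(f.fiber y, f.fiberι y ⁻¹ᵁ X₁ ⊓ f.fiberToSpecResidueField y ⁻¹ᵁ ⊤),
        ((f.fiberι y ⁻¹ᵁ U).ι.app
          (f.fiberι y ⁻¹ᵁ X₁ ⊓ f.fiberToSpecResidueField y ⁻¹ᵁ ⊤)).hom c = 0 → c = 0 := by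
  classical
  set η := genericPoint ↑Y with hη
  have HPB : ∀ y, IsPullback (f.fiberι y) (f.fiberToSpecResidueField y) f
      (Y.fromSpecResidueField y) := fun y => IsPullback.of_hasPullback _ _
  have PO := fun (y : Y) (hy : y ∈ W) =>
    H7.isPushout_sections_of_isPullback_Spec (HPB y) hW hX₁ hXW (top_le_preimage y hy)
  -- the generic fibre is locally noetherian
  haveI : LocallyOfFiniteType (f.fiberToSpecResidueField η) :=
    MorphismProperty.of_isPullback (P := @LocallyOfFiniteType)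
      (IsPullback.of_hasPullback f (Y.fromSpecResidueField η)) inferInstance
  haveI : IsLocallyNoetherian (f.fiber η) :=
    LocallyOfFiniteType.isLocallyNoetherian (f.fiberToSpecResidueField η)
  haveI : IsNoetherianRing Γ(f.fiber η, f.fiberι η ⁻¹ᵁ X₁ ⊓ f.fiberToSpecResidueField η ⁻¹ᵁ ⊤) :=
    IsLocallyNoetherian.component_noetherian ⟨_, (PO η hηW).1⟩
  have hcov : ∀ z ∈ (f.fiberι η ⁻¹ᵁ U) ⊓
      (f.fiberι η ⁻¹ᵁ X₁ ⊓ f.fiberToSpecResidueField η ⁻¹ᵁ ⊤), ∃ g ∈ idealOf U X₁,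
      z ∈ (f.fiber η).basicOpen (((f.fiberι η).appLE X₁
        (f.fiberι η ⁻¹ᵁ X₁ ⊓ f.fiberToSpecResidueField η ⁻¹ᵁ ⊤) inf_le_left).hom g) := by
    rintro z ⟨hzU, hzT⟩
    have hzX₁ : f.fiberι η z ∈ X₁ := hzT.1
    obtain ⟨g, hgU, hzg⟩ := hX₁.exists_basicOpen_le (V := U) ⟨f.fiberι η z, hzU⟩ hzX₁
    refine ⟨g, hgU, ?_⟩
    rw [Scheme.basicOpen_appLE]
    exact ⟨hzT, hzg⟩
  obtain ⟨g₁, hg₁, hnzd⟩ := exists_nzd_of_isSTD (f.fiberι η ⁻¹ᵁ U)
    ((f.fiberι η).appLE X₁ (f.fiberι η ⁻¹ᵁ X₁ ⊓ f.fiberToSpecResidueField η ⁻¹ᵁ ⊤)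
      inf_le_left).hom (idealOf U X₁) hcov
  have hfin : (f.appLE W X₁ hXW).hom.FiniteType :=
    HasRingHomProperty.appLE (P := @LocallyOfFiniteType) f inferInstance ⟨W, hW⟩ ⟨X₁, hX₁⟩ hXW
  obtain ⟨a, ha, hspread⟩ := NZDSpread.spread_nzd_pushout (f.appLE W X₁ hXW) hfin g₁
    (Field.toIsField _) (PO η hηW).2 (ker_psi_le hW hηW) hnzd
  refine ⟨a, (psi_ne_zero_iff η hηW a).mp ha, ?_⟩
  intro y hya
  have hy : y ∈ W := Y.basicOpen_le a hya
  refine ⟨(PO y hy).1, ?_⟩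
  have hnzd_y := hspread _ _ _ _ _ (Field.toIsField _) (PO y hy).2
    ((psi_ne_zero_iff y hy a).mpr hya)
  intro c hc
  refine eq_zero_of_nzd (f.fiberι y ⁻¹ᵁ U) (PO y hy).1 _ hnzd_y ?_ c hc
  rw [Scheme.basicOpen_appLE]
  intro z hz
  exact hg₁ hz.2

theorem fiberι_mem (y : Y) (z : f.fiber y) : f (f.fiberι y z) = y := by
  have : f.fiberι y z ∈ Set.range (f.fiberι y) := ⟨z, rfl⟩
  rw [f.range_fiberι y] at this
  exact this

/-- Scheme theoretic density of an open in the generic fibre spreads out. -/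
theorem main [IrreducibleSpace ↑Y] [LocallyOfFiniteType f] [QuasiCompact f] (U : X.Opens)
    (h : IsSchemeTheoreticallyDominant (f.fiberι (genericPoint ↑Y) ⁻¹ᵁ U).ι) :
    ∃ V : Y.Opens, (V : Set ↑Y).Nonempty ∧
      ∀ y ∈ V, IsSchemeTheoreticallyDominant (f.fiberι y ⁻¹ᵁ U).ι := by
  classical
  set η := genericPoint ↑Y with hη
  obtain ⟨W, hW', hηW, -⟩ := Opens.isBasis_iff_nbhd.mp Y.isBasis_affineOpens (Opens.mem_top η)
  have hW : IsAffineOpen W := hW'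
  have hcomp : IsCompact (f ⁻¹ᵁ W : Set X) :=
    QuasiCompact.isCompact_preimage (f := f) _ W.2 hW.isCompact
  obtain ⟨s, hsfin, hs⟩ :=
    (isCompact_and_isOpen_iff_finite_and_eq_biUnion_affineOpens).mp ⟨hcomp, (f ⁻¹ᵁ W).2⟩
  have hle : ∀ i ∈ s, (i : X.Opens) ≤ f ⁻¹ᵁ W := by
    intro i hi x hx
    have : x ∈ (f ⁻¹ᵁ W : Set X) := by
      rw [hs]
      exact Set.mem_biUnion hi hx
    exact this
  choose a ha1 ha2 using fun (i : s) => per_affine f U h hW hηW i.1.2 (hle i.1 i.2)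
  haveI : Finite s := hsfin
  refine ⟨W ⊓ ⟨⋂ i : s, (Y.basicOpen (a i) : Set Y),
    isOpen_iInter_of_finite (fun i => (Y.basicOpen (a i)).2)⟩, ⟨η, hηW, ?_⟩, ?_⟩
  · exact Set.mem_iInter.mpr (fun i => ha1 i)
  · rintro y ⟨hyW, hyI⟩
    have hyI' : ∀ i : s, y ∈ Y.basicOpen (a i) := fun i => Set.mem_iInter.mp hyI i
    refine isSTD_ι_of_cover (f.fiberι y ⁻¹ᵁ U)
      (fun i : s => ⟨_, (ha2 i y (hyI' i)).1⟩) ?_ (fun i c hc => (ha2 i y (hyI' i)).2 c hc)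
    rw [eq_top_iff]
    intro z _
    have hz : f.fiberι y z ∈ (f ⁻¹ᵁ W : Set X) := by
      show f (f.fiberι y z) ∈ W
      rw [fiberι_mem]
      exact hyW
    rw [hs] at hz
    obtain ⟨i, hi, hzi⟩ := Set.mem_iUnion₂.mp hz
    rw [Opens.mem_iSup]
    exact ⟨⟨i, hi⟩, hzi, trivial⟩

end main

end Groth.Agent.H38.STDSpread
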