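import Mathlib
import Groth.Agent.H38.STDSpread
import Groth.Agent.H38.RedSpread

/-!
# Geometric reducedness of the generic fibre spreads out
-/

set_option autoImplicit false
universe u
open AlgebraicGeometry CategoryTheory Limits TopologicalSpace

namespace Groth.Agent.H38.GeomRedSpread

variable {X Y : Scheme.{u}}

/-- (K2) evaluation at a field-valued point detects basic opens. -/
theorem psi_ne_zero_iff' {K : Type u} [Field K] (q : Spec (CommRingCat.of K) ⟶ Y) {W : Y.Opens}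
    (hq : (⊤ : (Spec (CommRingCat.of K)).Opens) ≤ q ⁻¹ᵁ W) (a : Γ(Y, W))
    (t : Spec (CommRingCat.of K)) :
    (q.appLE W ⊤ hq ≫ (Scheme.ΓSpecIso (CommRingCat.of K)).hom).hom a ≠ 0 ↔
      q t ∈ Y.basicOpen a := by
  have h1 : (Spec (CommRingCat.of K)).basicOpen ((q.appLE W ⊤ hq).hom a) =
      ⊤ ⊓ q ⁻¹ᵁ (Y.basicOpen a) := Scheme.basicOpen_appLE q ⊤ W hq a
  have h2 : q t ∈ Y.basicOpen a ↔
      t ∈ (Spec (CommRingCat.of K)).basicOpen ((q.appLE W ⊤ hq).hom a) := by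
    rw [h1]
    exact ⟨fun h => ⟨trivial, h⟩, fun h => h.2⟩
  rw [h2, basicOpen_eq_of_affine']
  have h3 : (t : PrimeSpectrum K).asIdeal = ⊥ :=
    @Ideal.eq_bot_of_prime K _ _ (t : PrimeSpectrum K).isPrime
  show _ ↔ _ ∉ (t : PrimeSpectrum K).asIdeal
  rw [h3, Ideal.mem_bot]
  rfl

theorem per_affine_red (f : X ⟶ Y) [IrreducibleSpace ↑Y] [LocallyOfFiniteType f]
    (h : GeometricallyReduced (f.fiberToSpecResidueField (genericPoint ↑Y)))
    {W : Y.Opens} (hW : IsAffineOpen W) (hηW : genericPoint ↑Y ∈ W)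
    {X₁ : X.Opens} (hX₁ : IsAffineOpen X₁) (hXW : X₁ ≤ f ⁻¹ᵁ W) :
    ∃ a : Γ(Y, W), genericPoint ↑Y ∈ Y.basicOpen a ∧
      ∀ (K : Type u) [Field K] (q : Spec (CommRingCat.of K) ⟶ Y), (∀ t, q t ∈ Y.basicOpen a) →
        ∀ (Z : Scheme.{u}) (fst : Z ⟶ X) (snd : Z ⟶ Spec (CommRingCat.of K)),
          IsPullback fst snd f q →
          IsAffineOpen (fst ⁻¹ᵁ X₁ ⊓ snd ⁻¹ᵁ ⊤) ∧ _root_.IsReduced Γ(Z, fst ⁻¹ᵁ X₁ ⊓ snd ⁻¹ᵁ ⊤) := by
  classical
  set η := genericPoint ↑Y with hη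
  let Ω := AlgebraicClosure (Y.residueField η)
  let ι : Y.residueField η ⟶ CommRingCat.of Ω :=
    CommRingCat.ofHom (algebraMap (Y.residueField η) Ω)
  let qΩ : Spec (CommRingCat.of Ω) ⟶ Y := Spec.map ι ≫ Y.fromSpecResidueField η
  have hZred : AlgebraicGeometry.IsReduced
      (pullback (f.fiberToSpecResidueField η) (Spec.map ι)) :=
    h.geometrically_isReduced (Spec.map ι) _ _ (IsPullback.of_hasPullback _ _)
  have HPBΩ : IsPullback (pullback.fst (f.fiberToSpecResidueField η) (Spec.map ι) ≫ f.fiberι η)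
      (pullback.snd (f.fiberToSpecResidueField η) (Spec.map ι)) f qΩ :=
    (IsPullback.of_hasPullback (f.fiberToSpecResidueField η) (Spec.map ι)).paste_horiz
      (IsPullback.of_hasPullback f (Y.fromSpecResidueField η))
  have hqΩpt : ∀ t : Spec (CommRingCat.of Ω), qΩ t = η := by
    intro t
    show (Spec.map ι ≫ Y.fromSpecResidueField η) t = η
    rw [Scheme.Hom.comp_apply, Scheme.fromSpecResidueField_apply]
  have hqΩ : (⊤ : (Spec (CommRingCat.of Ω)).Opens) ≤ qΩ ⁻¹ᵁ W := by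
    intro t _
    show qΩ t ∈ W
    rw [hqΩpt]
    exact hηW
  obtain ⟨-, POΩ⟩ := H7.isPushout_sections_of_isPullback_Spec HPBΩ hW hX₁ hXW hqΩ
  let t₀ : Spec (CommRingCat.of Ω) := IsLocalRing.closedPoint Ω
  have hker : ∀ P : Ideal Γ(Y, W), P.IsPrime → RingHom.ker (qΩ.appLE W ⊤ hqΩ ≫
      (Scheme.ΓSpecIso (CommRingCat.of Ω)).hom).hom ≤ P := by
    intro P hP a ha
    by_contra haP
    have h1 : (⟨P, hP⟩ : PrimeSpectrum Γ(Y, W)) ∈ PrimeSpectrum.basicOpen a := haP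
    rw [← hW.fromSpec_preimage_basicOpen] at h1
    have h2 : hW.fromSpec (⟨P, hP⟩ : PrimeSpectrum Γ(Y, W)) ∈ Y.basicOpen a := h1
    have h3 : η ∈ Y.basicOpen a :=
      ((genericPoint_spec ↑Y).mem_open_set_iff (Y.basicOpen a).2).mpr ⟨_, Set.mem_univ _, h2⟩
    have h4 : qΩ t₀ ∈ Y.basicOpen a := by rw [hqΩpt]; exact h3
    exact (psi_ne_zero_iff' qΩ hqΩ a t₀).mpr h4 ha
  have hfin : (f.appLE W X₁ hXW).hom.FiniteType :=
    HasRingHomProperty.appLE (P := @LocallyOfFiniteType) f inferInstance ⟨W, hW⟩ ⟨X₁, hX₁⟩ hXW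
  obtain ⟨a, ha, hspread⟩ := RedSpread.spread_reduced_pushout (f.appLE W X₁ hXW) hfin
    POΩ hker inferInstance
  refine ⟨a, ?_, ?_⟩
  · have := (psi_ne_zero_iff' qΩ hqΩ a t₀).mp ha
    rwa [hqΩpt] at this
  · intro K _ q hq Z fst snd HPB
    have hqW : (⊤ : (Spec (CommRingCat.of K)).Opens) ≤ q ⁻¹ᵁ W := by
      intro t _
      exact Y.basicOpen_le a (hq t)
    obtain ⟨haff, PO⟩ := H7.isPushout_sections_of_isPullback_Spec HPB hW hX₁ hXW hqW
    refine ⟨haff, hspread _ _ _ _ _ (Field.toIsField K) PO ?_⟩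
    exact (psi_ne_zero_iff' q hqW a (IsLocalRing.closedPoint K)).mpr (hq _)

/-- Core statement: base changes of `f` to fields whose point lies in a suitable nonempty open
are reduced. -/
theorem core (f : X ⟶ Y) [IrreducibleSpace ↑Y] [LocallyOfFiniteType f] [QuasiCompact f]
    (h : GeometricallyReduced (f.fiberToSpecResidueField (genericPoint ↑Y))) :
    ∃ V : Y.Opens, (V : Set ↑Y).Nonempty ∧
      ∀ (K : Type u) [Field K] (q : Spec (CommRingCat.of K) ⟶ Y), (∀ t, q t ∈ V) →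
        ∀ (Z : Scheme.{u}) (fst : Z ⟶ X) (snd : Z ⟶ Spec (CommRingCat.of K)),
          IsPullback fst snd f q → AlgebraicGeometry.IsReduced Z := by
  classical
  set η := genericPoint ↑Y with hη
  obtain ⟨W, hW', hηW, -⟩ := Opens.isBasis_iff_nbhd.mp Y.isBasis_affineOpens (Opens.mem_top η)
  have hW : IsAffineOpen W := hW'
  have hcomp : IsCompact (f ⁻¹ᵁ W : Set X) :=
    QuasiCompact.isCompact_preimage (f := f) _ W.2 hW.isCompact
  obtain ⟨s, hsfin, hs⟩ :=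
    (isCompact_and_isOpen_iff_finite_and_eq_biUnion_affineOpens).mp ⟨hcomp, (f ⁻¹ᵁ W).2⟩
  have hle : ∀ i ∈ s, (i : X.Opens) ≤ f ⁻¹ᵁ W := by
    intro i hi x hx
    have : x ∈ (f ⁻¹ᵁ W : Set X) := by
      rw [hs]
      exact Set.mem_biUnion hi hx
    exact this
  choose a ha1 ha2 using fun (i : s) => per_affine_red f h hW hηW i.1.2 (hle i.1 i.2)
  haveI : Finite s := hsfin
  refine ⟨W ⊓ ⟨⋂ i : s, (Y.basicOpen (a i) : Set Y),
    isOpen_iInter_of_finite (fun i => (Y.basicOpen (a i)).2)⟩, ⟨η, hηW, ?_⟩, ?_⟩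
  · exact Set.mem_iInter.mpr (fun i => ha1 i)
  · intro K _ q hq Z fst snd HPB
    have hqW : ∀ t, q t ∈ W := fun t => (hq t).1
    have hqI : ∀ (i : s) t, q t ∈ Y.basicOpen (a i) := fun i t => Set.mem_iInter.mp (hq t).2 i
    apply (config := { allowSynthFailures := true }) isReduced_of_isReduced_stalk
    intro z
    have hz : fst z ∈ (f ⁻¹ᵁ W : Set X) := by
      show f (fst z) ∈ W
      have h1 := congrArg (fun φ : Z ⟶ Y => φ z) HPB.w
      simp only [Scheme.Hom.comp_apply] at h1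
      rw [h1]
      exact hqW _
    rw [hs] at hz
    obtain ⟨i, hi, hzi⟩ := Set.mem_iUnion₂.mp hz
    obtain ⟨haff, hred⟩ := ha2 ⟨i, hi⟩ K q (hqI ⟨i, hi⟩) Z fst snd HPB
    have hzT : z ∈ fst ⁻¹ᵁ (i : X.Opens) ⊓ snd ⁻¹ᵁ ⊤ := ⟨hzi, trivial⟩
    letI := Z.presheaf.algebra_section_stalk ⟨z, hzT⟩
    haveI := haff.isLocalization_stalk ⟨z, hzT⟩
    exact isReduced_localizationPreserves (haff.primeIdealOf ⟨z, hzT⟩).asIdeal.primeCompl _ hred

/-- `S0434`: geometric reducedness of the generic fibre spreads out to an open. -/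
theorem main (f : X ⟶ Y) [IrreducibleSpace ↑Y] [LocallyOfFiniteType f] [QuasiCompact f]
    (h : GeometricallyReduced (f.fiberToSpecResidueField (genericPoint ↑Y))) :
    ∃ V : Y.Opens, (V : Set ↑Y).Nonempty ∧ GeometricallyReduced (f ∣_ V) := by
  obtain ⟨V, hV, hcore⟩ := core f h
  refine ⟨V, hV, ⟨?_⟩⟩
  intro K _ y Z fst snd hpb
  have HPB : IsPullback (fst ≫ (f ⁻¹ᵁ V).ι) snd f (y ≫ V.ι) :=
    hpb.paste_horiz (isPullback_morphismRestrict f V).flip
  refine hcore K (y ≫ V.ι) (fun t => ?_) Z _ snd HPB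
  rw [Scheme.Hom.comp_apply]
  exact (y t).2

/-- fibrewise version. -/
theorem fibres (f : X ⟶ Y) [IrreducibleSpace ↑Y] [LocallyOfFiniteType f] [QuasiCompact f]
    (h : GeometricallyReduced (f.fiberToSpecResidueField (genericPoint ↑Y))) :
    ∃ V : Y.Opens, (V : Set ↑Y).Nonempty ∧
      ∀ y ∈ V, GeometricallyReduced (f.fiberToSpecResidueField y) := by
  obtain ⟨V, hV, hcore⟩ := core f h
  refine ⟨V, hV, fun y hy => ⟨?_⟩⟩
  intro K _ y' Z fst snd hpb
  have HPB : IsPullback (fst ≫ f.fiberι y) snd f (y' ≫ Y.fromSpecResidueField y) :=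
    hpb.paste_horiz (IsPullback.of_hasPullback f (Y.fromSpecResidueField y))
  refine hcore K (y' ≫ Y.fromSpecResidueField y) (fun t => ?_) Z _ snd HPB
  rw [Scheme.Hom.comp_apply, Scheme.fromSpecResidueField_apply]
  exact hy

end Groth.Agent.H38.GeomRedSpread
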