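import Mathlib

/-!
# Constructible sets and generic points; dimensions of components under homeomorphisms
-/

set_option autoImplicit false
universe u
open Topology

namespace Groth.Agent.H38.GenericConstr

/-- At a generic point of the whole space, a constructible set or its complement is a
neighbourhood. -/
theorem nhds_or_of_isConstructible {T : Type*} [TopologicalSpace T] {η : T}
    (hη : IsGenericPoint η (Set.univ : Set T)) {C : Set T} (hC : IsConstructible C) :
    (η ∈ C → ∃ U : Set T, IsOpen U ∧ η ∈ U ∧ U ⊆ C) ∧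
      (η ∉ C → ∃ U : Set T, IsOpen U ∧ η ∈ U ∧ U ⊆ Cᶜ) := by
  induction hC using IsConstructible.empty_union_induction with
  | open_retrocompact U hU _ =>
    refine ⟨fun h => ⟨U, hU, h, subset_rfl⟩, fun h => ⟨Set.univ, isOpen_univ, trivial, ?_⟩⟩
    intro x _ hxU
    exact h ((hη.mem_open_set_iff hU).mpr ⟨x, trivial, hxU⟩)
  | union s hs t ht ihs iht =>
    constructor
    · rintro (h | h)
      · obtain ⟨U, hU, hηU, hUs⟩ := ihs.1 h
        exact ⟨U, hU, hηU, hUs.trans Set.subset_union_left⟩
      · obtain ⟨U, hU, hηU, hUs⟩ := iht.1 h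
        exact ⟨U, hU, hηU, hUs.trans Set.subset_union_right⟩
    · intro h
      have h1 : η ∉ s := fun h' => h (Or.inl h')
      have h2 : η ∉ t := fun h' => h (Or.inr h')
      obtain ⟨U, hU, hηU, hUs⟩ := ihs.2 h1
      obtain ⟨V, hV, hηV, hVt⟩ := iht.2 h2
      refine ⟨U ∩ V, hU.inter hV, ⟨hηU, hηV⟩, ?_⟩
      rintro x ⟨hxU, hxV⟩ (hx | hx)
      · exact hUs hxU hx
      · exact hVt hxV hx
  | compl s hs ih =>
    constructor
    · intro h
      exact ih.2 h
    · intro h
      obtain ⟨U, hU, hηU, hUs⟩ := ih.1 (not_not.mp h)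
      exact ⟨U, hU, hηU, by rwa [compl_compl]⟩

/-- A constructible set not containing the generic point misses a neighbourhood of it. -/
theorem exists_open_disjoint_of_isConstructible {T : Type*} [TopologicalSpace T] {η : T}
    (hη : IsGenericPoint η (Set.univ : Set T)) {C : Set T} (hC : IsConstructible C)
    (hηC : η ∉ C) : ∃ U : Set T, IsOpen U ∧ η ∈ U ∧ ∀ x ∈ U, x ∉ C := by
  obtain ⟨U, hU, hηU, hUC⟩ := (nhds_or_of_isConstructible hη hC).2 hηC
  exact ⟨U, hU, hηU, fun x hx => hUC hx⟩

/-- Closed sets of a Noetherian space are constructible. -/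
theorem isConstructible_of_isClosed {T : Type*} [TopologicalSpace T]
    [TopologicalSpace.NoetherianSpace T] {E : Set T} (hE : IsClosed E) : IsConstructible E := by
  have h1 : IsConstructible Eᶜ := by
    refine IsRetrocompact.isConstructible hE.isOpen_compl ?_
    intro V _ _
    exact TopologicalSpace.NoetherianSpace.isCompact _
  exact isConstructible_compl.mp h1

/-- Preimages under a homeomorphism have the same dimension. -/
theorem topologicalKrullDim_preimage_homeomorph {A B : Type*} [TopologicalSpace A]
    [TopologicalSpace B] (φ : A ≃ₜ B) (T : Set B) :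
    topologicalKrullDim ↥(φ ⁻¹' T) = topologicalKrullDim ↥T := by
  let ψ : ↥(φ ⁻¹' T) ≃ₜ ↥T := φ.subtype (fun _ => Iff.rfl)
  exact IsHomeomorph.topologicalKrullDim_eq ψ ψ.isHomeomorph

theorem image_dim_irreducibleComponents_subset {A B : Type*} [TopologicalSpace A]
    [TopologicalSpace B] (φ : A ≃ₜ B) :
    (fun Z : Set B => topologicalKrullDim ↥Z) '' irreducibleComponents B ⊆
      (fun Z : Set A => topologicalKrullDim ↥Z) '' irreducibleComponents A := by
  rintro _ ⟨Z, hZ, rfl⟩
  refine ⟨φ ⁻¹' Z, preimage_mem_irreducibleComponents hZ φ.isOpenEmbedding ?_,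
    topologicalKrullDim_preimage_homeomorph φ Z⟩
  obtain ⟨z, hz⟩ := hZ.1.1
  exact ⟨z, hz, φ.surjective.range_eq ▸ Set.mem_univ z⟩

/-- The set of dimensions of irreducible components is a homeomorphism invariant. -/
theorem image_dim_irreducibleComponents_homeomorph {A B : Type*} [TopologicalSpace A]
    [TopologicalSpace B] (φ : A ≃ₜ B) :
    (fun Z : Set A => topologicalKrullDim ↥Z) '' irreducibleComponents A =
      (fun Z : Set B => topologicalKrullDim ↥Z) '' irreducibleComponents B :=
  Set.Subset.antisymm (image_dim_irreducibleComponents_subset φ.symm)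
    (image_dim_irreducibleComponents_subset φ)

end Groth.Agent.H38.GenericConstr
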