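import Mathlib
import Groth.Agent.H38.GenericConstr
import Groth.Agent.H9.FibDimTarget
import Groth.Agent.H54.FibreDimTdeg

/-!
# Generic constancy of the dimension of the fibres
-/

set_option autoImplicit false
universe u
open CategoryTheory CategoryTheory.Limits AlgebraicGeometry Topology

namespace Groth.Agent.H38.FibreDimCons

/-- The local fibre dimension is a natural number. -/
theorem exists_fibreDimAt_eq {X S : Scheme.{u}} (u : X ⟶ S) [LocallyOfFiniteType u] (x : X) :
    ∃ n : ℕ, FlatMor.fibreDimAt u x = (n : WithBot ℕ∞) := by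
  obtain ⟨b, hb⟩ : ∃ b : ℕ, Order.coheight (u.asFiber x) = b :=
    ⟨_, (ENat.natCast_toNat (Groth.Agent.H54.coheight_ne_top
      (Groth.Agent.H54.fiberQ u (u.base x)) (u.asFiber x))).symm⟩
  exact ⟨_, Groth.Agent.H54.fibreDimAt_eq u x b hb⟩

/-- On a quasi-compact source the local fibre dimension is bounded. -/
theorem exists_forall_fibreDimAt_le {X S : Scheme.{u}} (u : X ⟶ S) [LocallyOfFiniteType u]
    [CompactSpace X] : ∃ m : ℕ, ∀ x : X, FlatMor.fibreDimAt u x ≤ (m : WithBot ℕ∞) := by
  obtain ⟨m, hm⟩ := isCompact_univ.elim_directed_cover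
    (fun m : ℕ => {x : X | FlatMor.fibreDimAt u x ≤ (m : WithBot ℕ∞)})
    (fun m => Groth.Agent.H9.FibDim.isOpen_setOf_fibreDimAt_le u m)
    (by
      intro x _
      obtain ⟨n, hn⟩ := exists_fibreDimAt_eq u x
      exact Set.mem_iUnion.mpr ⟨n, hn.le⟩)
    (by
      apply Monotone.directed_le
      intro a b hab x hx
      have hx' : FlatMor.fibreDimAt u x ≤ (a : WithBot ℕ∞) := hx
      exact hx'.trans (by exact_mod_cast hab))
  exact ⟨m, fun x => hm (Set.mem_univ x)⟩

/-- For a morphism of finite type to a Noetherian scheme, the set of points whose fibre has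
dimension at least `m` is constructible. -/
theorem isConstructible_setOf_le_dim_fiber {X S : Scheme.{u}} (u : X ⟶ S) [IsNoetherian S]
    [LocallyOfFiniteType u] [QuasiCompact u] (m : ℕ) :
    IsConstructible {s : S | (m : WithBot ℕ∞) ≤ topologicalKrullDim ↥(u.fiber s)} := by
  haveI : IsLocallyNoetherian X := LocallyOfFiniteType.isLocallyNoetherian u
  haveI : CompactSpace X := QuasiCompact.compactSpace_of_compactSpace u
  haveI : IsNoetherian X := ⟨⟩
  have hE := Groth.Agent.H9.FibDim.isClosed_setOf_natCast_le_fibreDimAt u m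
  have hEc := Groth.Agent.H38.GenericConstr.isConstructible_of_isClosed hE
  have hfE := u.isConstructible_image hEc
  convert hfE using 1
  ext s
  simp only [Set.mem_ofPred_eq, Set.mem_image]
  rw [Groth.Agent.H9.FibDim.natCast_le_dim_fiber_iff]
  constructor
  · rintro ⟨x, hx, h⟩; exact ⟨x, h, hx⟩
  · rintro ⟨x, h, hx⟩; exact ⟨x, hx, h⟩

/-- **Generic constancy of the fibre dimension.** -/
theorem exists_open_dim_fiber_eq {X S : Scheme.{u}} (u : X ⟶ S) [IrreducibleSpace S]
    [IsNoetherian S] [LocallyOfFiniteType u] [QuasiCompact u] :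
    ∃ U : Set S, IsOpen U ∧ genericPoint S ∈ U ∧ ∀ s ∈ U,
      topologicalKrullDim ↥(u.fiber s) = topologicalKrullDim ↥(u.fiber (genericPoint S)) := by
  haveI : CompactSpace X := QuasiCompact.compactSpace_of_compactSpace u
  obtain ⟨m₀, hm₀⟩ := exists_forall_fibreDimAt_le u
  have hbound : topologicalKrullDim ↥(u.fiber (genericPoint S)) ≤ (m₀ : WithBot ℕ∞) :=
    (Groth.Agent.H9.FibDim.dim_fiber_le_iff u _ _).mpr fun x _ => hm₀ x
  have hη := genericPoint_spec S
  induction hd : topologicalKrullDim ↥(u.fiber (genericPoint S)) using WithBot.recBotCoe with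
  | bot =>
    -- empty generic fibre
    have h0 : genericPoint S ∉
        {s : S | ((0 : ℕ) : WithBot ℕ∞) ≤ topologicalKrullDim ↥(u.fiber s)} := by
      intro h
      have h' : ((0 : ℕ) : WithBot ℕ∞) ≤ topologicalKrullDim ↥(u.fiber (genericPoint S)) := h
      rw [hd] at h'
      exact absurd h' (by simp)
    obtain ⟨U, hU, hηU, hUA⟩ :=
      Groth.Agent.H38.GenericConstr.exists_open_disjoint_of_isConstructible hη
        (isConstructible_setOf_le_dim_fiber u 0) h0
    refine ⟨U, hU, hηU, fun s hs => ?_⟩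
    have h1 : ¬ ((0 : ℕ) : WithBot ℕ∞) ≤ topologicalKrullDim ↥(u.fiber s) := hUA s hs
    exact le_bot_iff.mp ((Groth.Agent.H9.FibDim.le_bot_iff_not_zero_le _).mpr h1)
  | coe d =>
    induction d using ENat.recTopCoe with
    | top =>
      rw [hd] at hbound
      exact absurd hbound (by
        intro h
        have h2 : ((⊤ : ℕ∞) : WithBot ℕ∞) ≤ ((m₀ : ℕ∞) : WithBot ℕ∞) := h
        rw [WithBot.coe_le_coe] at h2
        exact absurd h2 (by simp))
    | coe n =>
      have h1 : genericPoint S ∈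
          {s : S | ((n : ℕ) : WithBot ℕ∞) ≤ topologicalKrullDim ↥(u.fiber s)} := by
        show ((n : ℕ) : WithBot ℕ∞) ≤ topologicalKrullDim ↥(u.fiber (genericPoint S))
        rw [hd]; rfl
      have h2 : genericPoint S ∉
          {s : S | ((n + 1 : ℕ) : WithBot ℕ∞) ≤ topologicalKrullDim ↥(u.fiber s)} := by
        intro h
        have h' : ((n + 1 : ℕ) : WithBot ℕ∞) ≤ topologicalKrullDim ↥(u.fiber (genericPoint S)) := h
        rw [Groth.Agent.H9.FibDim.natCast_le_iff_not_le, hd] at h'
        exact h' le_rfl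
      obtain ⟨U₁, hU₁, hηU₁, hU₁A⟩ :=
        (Groth.Agent.H38.GenericConstr.nhds_or_of_isConstructible hη
          (isConstructible_setOf_le_dim_fiber u n)).1 h1
      obtain ⟨U₂, hU₂, hηU₂, hU₂A⟩ :=
        Groth.Agent.H38.GenericConstr.exists_open_disjoint_of_isConstructible hη
          (isConstructible_setOf_le_dim_fiber u (n + 1)) h2
      refine ⟨U₁ ∩ U₂, hU₁.inter hU₂, ⟨hηU₁, hηU₂⟩, fun s hs => ?_⟩
      have h3 : ((n : ℕ) : WithBot ℕ∞) ≤ topologicalKrullDim ↥(u.fiber s) := hU₁A hs.1
      have h4 : ¬ ((n + 1 : ℕ) : WithBot ℕ∞) ≤ topologicalKrullDim ↥(u.fiber s) := hU₂A s hs.2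
      rw [Groth.Agent.H9.FibDim.natCast_le_iff_not_le, not_not] at h4
      exact le_antisymm h4 h3

end Groth.Agent.H38.FibreDimCons
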