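import Mathlib
import Groth.Agent.H9.Equidim
import Groth.Agent.H9.FibreGeneric
import Groth.Agent.H54.GenericComp
import Groth.Agent.H54.SchemeDim2
import Groth.Agent.H54.DimClosure

/-!
# Nowhere dense closed subschemes have smaller local dimension
-/

set_option autoImplicit false
universe u
open CategoryTheory CategoryTheory.Limits AlgebraicGeometry TopologicalSpace

namespace Groth.Agent.H38.NowhereDenseDim

/-- In a Noetherian quasi-sober space, the closure of a maximal point is a neighbourhood of it. -/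
theorem exists_open_subset_closure_of_forall {T : Type*} [TopologicalSpace T] [NoetherianSpace T]
    [QuasiSober T] {ζ : T} (h : ∀ ζ' : T, ζ' ⤳ ζ → ζ' = ζ) :
    ∃ O : Set T, IsOpen O ∧ ζ ∈ O ∧ O ⊆ closure {ζ} := by
  have hcomp : closure ({ζ} : Set T) ∈ irreducibleComponents T :=
    Groth.Agent.H54.closure_mem_irreducibleComponents_of_forall h
  have hfin : (irreducibleComponents T \ {closure ({ζ} : Set T)}).Finite :=
    (NoetherianSpace.finite_irreducibleComponents (α := T)).subset Set.sdiff_subset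
  have hcl : IsClosed (⋃ C ∈ irreducibleComponents T \ {closure ({ζ} : Set T)}, (C : Set T)) :=
    hfin.isClosed_biUnion fun C hC => isClosed_of_mem_irreducibleComponents C hC.1
  refine ⟨_, hcl.isOpen_compl, ?_, ?_⟩
  · intro hζ
    obtain ⟨C, hC, hζC⟩ := Set.mem_iUnion₂.mp hζ
    have hCcl : IsClosed C := isClosed_of_mem_irreducibleComponents C hC.1
    have h1 : closure ({ζ} : Set T) ⊆ C := hCcl.closure_subset_iff.mpr (Set.singleton_subset_iff.mpr hζC)
    have h2 : C ⊆ closure ({ζ} : Set T) := hcomp.2 hC.1.1 h1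
    exact hC.2 (Set.Subset.antisymm h2 h1)
  · intro x hx
    by_contra hxn
    apply hx
    refine Set.mem_iUnion₂.mpr ⟨irreducibleComponent x,
      ⟨irreducibleComponent_mem_irreducibleComponents x, ?_⟩, mem_irreducibleComponent⟩
    intro heq
    rw [Set.mem_singleton_iff] at heq
    exact hxn (heq ▸ mem_irreducibleComponent)

/-- In a locally Noetherian scheme, the closure of a maximal point is a neighbourhood of it. -/
theorem exists_open_subset_closure_of_forall_scheme {F : Scheme.{u}} [IsLocallyNoetherian F] {ζ : F}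
    (h : ∀ ζ' : F, ζ' ⤳ ζ → ζ' = ζ) :
    ∃ O : Set F, IsOpen O ∧ ζ ∈ O ∧ O ⊆ closure {ζ} := by
  obtain ⟨U, hU, hζU, -⟩ :=
    exists_isAffineOpen_mem_and_subset (X := F) (x := ζ) (U := ⊤) trivial
  haveI : IsNoetherianRing Γ(F, U) := IsLocallyNoetherian.component_noetherian ⟨U, hU⟩
  haveI : NoetherianSpace ↥U := noetherianSpace_of_isAffineOpen U hU
  haveI : QuasiSober ↥U := U.isOpenEmbedding.quasiSober
  have h' : ∀ ζ' : ↥U, ζ' ⤳ (⟨ζ, hζU⟩ : ↥U) → ζ' = ⟨ζ, hζU⟩ := by
    intro ζ' hζ'
    apply Subtype.ext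
    exact h _ (hζ'.map continuous_subtype_val)
  obtain ⟨O, hO, hζO, hOcl⟩ := exists_open_subset_closure_of_forall h'
  refine ⟨Subtype.val '' O, U.isOpen.isOpenMap_subtype_val O hO, ⟨⟨ζ, hζU⟩, hζO, rfl⟩, ?_⟩
  rintro _ ⟨x, hx, rfl⟩
  have h1 := hOcl hx
  have h2 : (x : F) ∈ closure (Subtype.val '' ({⟨ζ, hζU⟩} : Set ↥U)) :=
    image_closure_subset_closure_image continuous_subtype_val ⟨x, h1, rfl⟩
  rwa [Set.image_singleton] at h2

/-- A point of a closed nowhere dense subset of a locally Noetherian scheme has a proper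
generization. -/
theorem exists_specializes_ne_of_isNowhereDense {F : Scheme.{u}} [IsLocallyNoetherian F]
    {Z : Set F} (hZ : IsClosed Z) (hnd : IsNowhereDense Z) {ζ : F} (hζ : ζ ∈ Z) :
    ∃ ζ' : F, ζ' ⤳ ζ ∧ ζ' ≠ ζ := by
  by_contra hcon
  push Not at hcon
  obtain ⟨O, hO, hζO, hOcl⟩ := exists_open_subset_closure_of_forall_scheme hcon
  have h1 : O ⊆ Z := hOcl.trans (hZ.closure_subset_iff.mpr (Set.singleton_subset_iff.mpr hζ))
  have h2 : ζ ∈ interior Z := mem_interior.mpr ⟨O, h1, hO, hζO⟩
  rw [hZ.isNowhereDense_iff] at hnd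
  rw [hnd] at h2
  exact h2

open Groth.Agent.H54 in
/-- The transcendence degree at a point is unchanged by a closed immersion. -/
theorem tdeg_comp_closedImmersion {k : Type u} [Field k] {F Z : Scheme.{u}}
    (s : F ⟶ Spec (CommRingCat.of k)) [LocallyOfFiniteType s] (j : Z ⟶ F) [IsClosedImmersion j]
    (z : Z) : tdeg (j ≫ s) z = tdeg s (j.base z) := by
  refine tdeg_eq_of_trdeg_zero (j ≫ s) s j rfl z ?_
  have hsurj : Function.Surjective (j.residueFieldMap z).hom := by
    have h1 : Function.Surjective ((F.residue (j.base z)) ≫ j.residueFieldMap z).hom := by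
      rw [Scheme.residue_residueFieldMap]
      exact (Z.residue_surjective z).comp (j.stalkMap_surjective z)
    exact Function.Surjective.of_comp (g := (F.residue (j.base z)).hom) h1
  letI : Algebra (F.residueField (j.base z)) (Z.residueField z) := (j.residueFieldMap z).hom.toAlgebra
  haveI : Algebra.IsAlgebraic (F.residueField (j.base z)) (Z.residueField z) :=
    Groth.Agent.H9.TrdegSq.isAlgebraic_of_surjective _ hsurj
  exact trdeg_eq_zero

open Groth.Agent.H54 in
/-- A closed subscheme with nowhere dense range has strictly smaller local dimension, for schemes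
locally of finite type over a field. -/
theorem localDim_add_one_le {k : Type u} [Field k] {F Z : Scheme.{u}}
    (s : F ⟶ Spec (CommRingCat.of k)) [LocallyOfFiniteType s] (j : Z ⟶ F) [IsClosedImmersion j]
    (hnd : IsNowhereDense (Set.range j.base)) (w : Z) :
    FlatMor.localDim Z w + 1 ≤ FlatMor.localDim F (j.base w) := by
  haveI : IsLocallyNoetherian F := LocallyOfFiniteType.isLocallyNoetherian s
  obtain ⟨ζ, hζw, hle⟩ := Groth.Agent.H9.FibreGeneric.exists_specializes_localDim_le (j ≫ s) w
  obtain ⟨ζ', hζ'ζ, hne⟩ := exists_specializes_ne_of_isNowhereDense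
    j.isClosedEmbedding.isClosed_range hnd (Set.mem_range_self ζ)
  have h1 := tdeg_lt_of_specializes s hζ'ζ hne
  rw [← tdeg_comp_closedImmersion s j ζ] at h1
  have h2 : ((tdeg s ζ' : ℕ) : WithBot ℕ∞) ≤ FlatMor.localDim F (j.base w) := by
    unfold FlatMor.localDim
    refine le_iInf fun U => ?_
    have hsp : ζ' ⤳ j.base w := hζ'ζ.trans (hζw.map j.continuous)
    exact tdeg_le_topologicalKrullDim s ζ' U.1 (hsp.mem_open U.1.2 U.2)
  refine le_trans ?_ h2
  have h3 : FlatMor.localDim Z w + 1 ≤ ((tdeg (j ≫ s) ζ : ℕ) : WithBot ℕ∞) + 1 := by gcongr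
  refine h3.trans ?_
  have : tdeg (j ≫ s) ζ + 1 ≤ tdeg s ζ' := h1
  exact_mod_cast this

end Groth.Agent.H38.NowhereDenseDim
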