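import Mathlib
import Groth.Agent.H38.NowhereDenseDim
import Groth.Agent.H38.FibreDimCons
import Groth.Agent.H7.GenericClosure
import Groth.Agent.H24.ConsLocusMor

/-!
# Nowhere dense fibres near the generic point
-/

set_option autoImplicit false
universe u
open CategoryTheory CategoryTheory.Limits AlgebraicGeometry TopologicalSpace

namespace Groth.Agent.H38.NowhereDenseFibre

/-- A closed subset is the range of a closed immersion (reduced induced structure). -/
theorem exists_closedImmersion_range {X : Scheme.{u}} (C : Set X) (hC : IsClosed C) :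
    ∃ (Z : Scheme.{u}) (ι : Z ⟶ X), IsClosedImmersion ι ∧ Set.range ι.base = C := by
  refine ⟨(Scheme.IdealSheafData.vanishingIdeal ⟨C, hC⟩).subscheme,
    (Scheme.IdealSheafData.vanishingIdeal ⟨C, hC⟩).subschemeι, inferInstance, ?_⟩
  rw [Scheme.IdealSheafData.range_subschemeι, Scheme.IdealSheafData.coe_support_vanishingIdeal]
  rfl

section FibreMap

variable {Zs X Y : Scheme.{u}} (ι : Zs ⟶ X) (f : X ⟶ Y) (y : Y)

/-- The square exhibiting the map of fibres as a base change. -/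
theorem isPullback_fiberMap :
    IsPullback ((ι ≫ f).fiberι y) (MoreMor.fiberMap ι f y) ι (f.fiberι y) := by
  refine IsPullback.of_bot ?_ (Groth.Agent.H24.fiberMap_comp_fiberι ι f y).symm
    (IsPullback.of_hasPullback f (Y.fromSpecResidueField y))
  have h := IsPullback.of_hasPullback (ι ≫ f) (Y.fromSpecResidueField y)
  have e : MoreMor.fiberMap ι f y ≫ pullback.snd f (Y.fromSpecResidueField y) =
      pullback.snd (ι ≫ f) (Y.fromSpecResidueField y) :=
    Groth.Agent.H24.fiberMap_comp_fiberToSpec ι f y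
  rw [e]
  exact h

instance [IsClosedImmersion ι] : IsClosedImmersion (MoreMor.fiberMap ι f y) :=
  MorphismProperty.of_isPullback (P := @IsClosedImmersion) (isPullback_fiberMap ι f y)
    inferInstance

theorem range_fiberMap :
    Set.range (MoreMor.fiberMap ι f y).base = (f.fiberι y).base ⁻¹' Set.range ι.base := by
  ext x'
  constructor
  · rintro ⟨w, rfl⟩
    refine ⟨((ι ≫ f).fiberι y).base w, ?_⟩
    have := congrArg (fun φ => φ.base w) (Groth.Agent.H24.fiberMap_comp_fiberι ι f y)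
    simpa using this.symm
  · rintro ⟨z, hz⟩
    obtain ⟨p, -, hp⟩ := Scheme.exists_preimage_of_isPullback (isPullback_fiberMap ι f y) z x' hz
    exact ⟨p, hp⟩

theorem fiberι_fiberMap (w : ↥((ι ≫ f).fiber y)) :
    (f.fiberι y).base ((MoreMor.fiberMap ι f y).base w) = ι.base (((ι ≫ f).fiberι y).base w) := by
  have := congrArg (fun φ => φ.base w) (Groth.Agent.H24.fiberMap_comp_fiberι ι f y)
  simpa using this

/-- The local fibre dimension of a closed subscheme agrees with that of the ambient scheme at the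
interior points of its trace on the fibre. -/
theorem localDim_eq_of_mem_interior [IsClosedImmersion ι] (w : ↥((ι ≫ f).fiber y))
    (hw : (MoreMor.fiberMap ι f y).base w ∈ interior (Set.range (MoreMor.fiberMap ι f y).base)) :
    FlatMor.localDim ↥((ι ≫ f).fiber y) w =
      FlatMor.localDim ↥(f.fiber y) ((MoreMor.fiberMap ι f y).base w) := by
  set j := MoreMor.fiberMap ι f y with hj
  let A' : Set ↥((ι ≫ f).fiber y) := j.base ⁻¹' interior (Set.range j.base)
  have hA' : IsOpen A' := isOpen_interior.preimage j.continuous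
  have h1 := Groth.Agent.H9.FibDim.localDim_of_isOpenEmbedding hA'.isOpenEmbedding_subtypeVal
    (⟨w, hw⟩ : ↥A')
  have hr : Topology.IsOpenEmbedding (fun a : ↥A' => j.base a.1) := by
    refine ⟨j.isEmbedding.comp Topology.IsEmbedding.subtypeVal, ?_⟩
    have : Set.range (fun a : ↥A' => j.base a.1) = interior (Set.range j.base) := by
      ext b
      constructor
      · rintro ⟨a, rfl⟩; exact a.2
      · intro hb
        obtain ⟨a, rfl⟩ := interior_subset hb
        exact ⟨⟨a, hb⟩, rfl⟩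
    rw [this]
    exact isOpen_interior
  have h2 := Groth.Agent.H9.FibDim.localDim_of_isOpenEmbedding hr (⟨w, hw⟩ : ↥A')
  exact h1.symm.trans h2

end FibreMap

/-- If the trace of a closed set `C` on the generic fibre lies in a closed set `D`, then `C` lies in
`D` over a neighbourhood of the generic point. -/
theorem exists_opens_inter_preimage_subset {X Y : Scheme.{u}} (f : X ⟶ Y) [IrreducibleSpace ↑Y]
    [LocallyOfFiniteType f] [QuasiCompact f] (C D : Set X) (hC : IsClosed C) (hD : IsClosed D)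
    (h : C ∩ f.base ⁻¹' {genericPoint Y} ⊆ D) :
    ∃ V : Y.Opens, genericPoint Y ∈ V ∧ C ∩ f.base ⁻¹' (V : Set Y) ⊆ D := by
  obtain ⟨Cs, κ, hκ, hr⟩ := exists_closedImmersion_range C hC
  obtain ⟨V, ⟨v, hv⟩, hV⟩ :=
    Groth.Agent.H7.exists_opens_preimage_subset_closure_genericFibre (κ ≫ f)
  refine ⟨V, ((genericPoint_spec Y).mem_open_set_iff V.2).mpr ⟨v, trivial, hv⟩, ?_⟩
  rintro x ⟨hxC, hxV⟩
  rw [← hr] at hxC
  obtain ⟨c, rfl⟩ := hxC
  have hc : c ∈ closure ((κ ≫ f).base ⁻¹' {genericPoint Y}) := hV hxV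
  have h1 : κ.base c ∈ closure (κ.base '' ((κ ≫ f).base ⁻¹' {genericPoint Y})) :=
    image_closure_subset_closure_image κ.continuous ⟨c, hc, rfl⟩
  refine (hD.closure_subset_iff.mpr ?_) h1
  rintro _ ⟨c', hc', rfl⟩
  exact h ⟨hr ▸ Set.mem_range_self c', hc'⟩

/-- The local fibre dimension is bounded on the generic fibre. -/
theorem exists_forall_fibreDimAt_le_of_eq {X Y : Scheme.{u}} (f : X ⟶ Y) [LocallyOfFiniteType f]
    [QuasiCompact f] (y : Y) :
    ∃ N : ℕ, ∀ x : X, f.base x = y → FlatMor.fibreDimAt f x ≤ (N : WithBot ℕ∞) := by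
  obtain ⟨m, hm⟩ := isCompact_univ.elim_directed_cover
    (fun m : ℕ => (f.fiberι y).base ⁻¹' {x : X | FlatMor.fibreDimAt f x ≤ (m : WithBot ℕ∞)})
    (fun m => (Groth.Agent.H9.FibDim.isOpen_setOf_fibreDimAt_le f m).preimage
      (f.fiberι y).continuous)
    (by
      intro x' _
      obtain ⟨n, hn⟩ := Groth.Agent.H38.FibreDimCons.exists_fibreDimAt_eq f ((f.fiberι y).base x')
      exact Set.mem_iUnion.mpr ⟨n, hn.le⟩)
    (by
      apply Monotone.directed_le
      intro a b hab x hx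
      have hx' : FlatMor.fibreDimAt f ((f.fiberι y).base x) ≤ (a : WithBot ℕ∞) := hx
      exact hx'.trans (by exact_mod_cast hab))
  refine ⟨m, fun x hx => ?_⟩
  have := hm (Set.mem_univ ((f.fiberHomeo y).symm ⟨x, hx⟩))
  simpa using this

/-- **Nowhere dense fibres near the generic point.** -/
theorem exists_opens_forall_isNowhereDense {X Y : Scheme.{u}} (f : X ⟶ Y) [IrreducibleSpace ↑Y]
    [LocallyOfFiniteType f] [QuasiCompact f] (Z : Set ↑X) (hZ : IsClosed Z)
    (h : IsNowhereDense ((f.fiberι (genericPoint ↑Y)).base ⁻¹' Z)) :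
    ∃ V : Y.Opens, genericPoint Y ∈ V ∧
      ∀ y ∈ V, IsNowhereDense ((f.fiberι y).base ⁻¹' Z) := by
  classical
  obtain ⟨Zs, ι, hι, hr⟩ := exists_closedImmersion_range Z hZ
  -- Step A: on the generic fibre the local dimension drops
  have stepA : ∀ z : Zs, f.base (ι.base z) = genericPoint Y →
      FlatMor.fibreDimAt (ι ≫ f) z + 1 ≤ FlatMor.fibreDimAt f (ι.base z) := by
    intro z hz
    have hz' : (ι ≫ f).base z = genericPoint Y := hz
    let w : ↥((ι ≫ f).fiber (genericPoint Y)) :=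
      ((ι ≫ f).fiberHomeo (genericPoint Y)).symm ⟨z, hz'⟩
    have hw : ((ι ≫ f).fiberι (genericPoint Y)).base w = z :=
      (ι ≫ f).fiberι_fiberHomeo_symm _ _
    have hnd : IsNowhereDense (Set.range (MoreMor.fiberMap ι f (genericPoint Y)).base) := by
      rw [range_fiberMap, hr]; exact h
    have h1 := Groth.Agent.H38.NowhereDenseDim.localDim_add_one_le
      (Groth.Agent.H54.fiberQ f (genericPoint Y)) (MoreMor.fiberMap ι f (genericPoint Y)) hnd w
    rw [Groth.Agent.H9.FibDim.localDim_fiber, Groth.Agent.H9.FibDim.localDim_fiber,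
      fiberι_fiberMap, hw] at h1
    exact h1
  -- Step B: a bound on the generic fibre
  obtain ⟨N, hN⟩ := exists_forall_fibreDimAt_le_of_eq f (genericPoint Y)
  -- the closed sets
  have hCcl : ∀ n : ℕ, IsClosed (ι.base '' {z : Zs | (n : WithBot ℕ∞) ≤ FlatMor.fibreDimAt (ι ≫ f) z}) :=
    fun n => ι.isClosedEmbedding.isClosedMap _
      (Groth.Agent.H9.FibDim.isClosed_setOf_natCast_le_fibreDimAt (ι ≫ f) n)
  have hDcl : ∀ n : ℕ, IsClosed {x : X | (n : WithBot ℕ∞) ≤ FlatMor.fibreDimAt f x} :=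
    fun n => Groth.Agent.H9.FibDim.isClosed_setOf_natCast_le_fibreDimAt f n
  -- neighbourhoods
  have hVn : ∀ n : ℕ, ∃ V : Y.Opens, genericPoint Y ∈ V ∧
      ι.base '' {z : Zs | (n : WithBot ℕ∞) ≤ FlatMor.fibreDimAt (ι ≫ f) z} ∩
        f.base ⁻¹' (V : Set Y) ⊆ {x : X | ((n + 1 : ℕ) : WithBot ℕ∞) ≤ FlatMor.fibreDimAt f x} := by
    intro n
    refine exists_opens_inter_preimage_subset f _ _ (hCcl n) (hDcl (n + 1)) ?_
    rintro _ ⟨⟨z, hz, rfl⟩, hη⟩
    have hz' : (n : WithBot ℕ∞) ≤ FlatMor.fibreDimAt (ι ≫ f) z := hz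
    have h1 := stepA z hη
    show ((n + 1 : ℕ) : WithBot ℕ∞) ≤ FlatMor.fibreDimAt f (ι.base z)
    refine le_trans ?_ h1
    have h2 : ((n : ℕ) : WithBot ℕ∞) + 1 ≤ FlatMor.fibreDimAt (ι ≫ f) z + 1 := by gcongr
    refine le_trans ?_ h2
    exact_mod_cast le_rfl
  have hVall : ∀ M : ℕ, ∃ V : Y.Opens, genericPoint Y ∈ V ∧ ∀ n < M,
      ι.base '' {z : Zs | (n : WithBot ℕ∞) ≤ FlatMor.fibreDimAt (ι ≫ f) z} ∩
        f.base ⁻¹' (V : Set Y) ⊆ {x : X | ((n + 1 : ℕ) : WithBot ℕ∞) ≤ FlatMor.fibreDimAt f x} := by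
    intro M
    induction M with
    | zero => exact ⟨⊤, trivial, fun n hn => absurd hn (Nat.not_lt_zero n)⟩
    | succ M ih =>
      obtain ⟨V₁, hηV₁, hV₁⟩ := ih
      obtain ⟨V₂, hηV₂, hV₂⟩ := hVn M
      refine ⟨V₁ ⊓ V₂, ⟨hηV₁, hηV₂⟩, fun n hn => ?_⟩
      rcases Nat.lt_succ_iff_lt_or_eq.mp hn with hlt | rfl
      · rintro x ⟨hx1, hx2⟩
        exact hV₁ n hlt ⟨hx1, hx2.1⟩
      · rintro x ⟨hx1, hx2⟩
        exact hV₂ ⟨hx1, hx2.2⟩
  obtain ⟨V, hηV, hV⟩ := hVall N
  -- over a neighbourhood of the generic point, `C_N` is empty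
  obtain ⟨V', hηV', hV'⟩ := exists_opens_inter_preimage_subset f
    (ι.base '' {z : Zs | (N : WithBot ℕ∞) ≤ FlatMor.fibreDimAt (ι ≫ f) z}) ∅ (hCcl N)
    isClosed_empty (by
      rintro _ ⟨⟨z, hz, rfl⟩, hη⟩
      have hz' : (N : WithBot ℕ∞) ≤ FlatMor.fibreDimAt (ι ≫ f) z := hz
      have h1 := stepA z hη
      have h2 : ((N : ℕ) : WithBot ℕ∞) + 1 ≤ FlatMor.fibreDimAt (ι ≫ f) z + 1 := by gcongr
      have h3 := (h2.trans h1).trans (hN _ hη)
      have : N + 1 ≤ N := by exact_mod_cast h3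
      omega)
  refine ⟨V ⊓ V', ⟨hηV, hηV'⟩, fun y hy => ?_⟩
  have hcl : IsClosed ((f.fiberι y).base ⁻¹' Z) := hZ.preimage (f.fiberι y).continuous
  rw [hcl.isNowhereDense_iff, Set.eq_empty_iff_forall_notMem]
  intro x' hx'
  have hx'' : x' ∈ interior (Set.range (MoreMor.fiberMap ι f y).base) := by
    rw [range_fiberMap, hr]; exact hx'
  obtain ⟨w, hw⟩ := interior_subset hx''
  have hint : (MoreMor.fiberMap ι f y).base w ∈
      interior (Set.range (MoreMor.fiberMap ι f y).base) := hw ▸ hx''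
  have heq := localDim_eq_of_mem_interior ι f y w hint
  rw [Groth.Agent.H9.FibDim.localDim_fiber, Groth.Agent.H9.FibDim.localDim_fiber,
    fiberι_fiberMap] at heq
  set z := ((ι ≫ f).fiberι y).base w with hzdef
  have hfz : f.base (ι.base z) = y := Groth.Agent.H54.fiberι_mem (ι ≫ f) y w
  obtain ⟨n, hn⟩ := Groth.Agent.H38.FibreDimCons.exists_fibreDimAt_eq f (ι.base z)
  by_cases hnN : n < N
  · have h1 : ι.base z ∈ {x : X | ((n + 1 : ℕ) : WithBot ℕ∞) ≤ FlatMor.fibreDimAt f x} :=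
      hV n hnN ⟨⟨z, by show (n : WithBot ℕ∞) ≤ FlatMor.fibreDimAt (ι ≫ f) z; rw [heq, hn], rfl⟩,
        by show f.base (ι.base z) ∈ V; rw [hfz]; exact hy.1⟩
    have h2 : ((n + 1 : ℕ) : WithBot ℕ∞) ≤ FlatMor.fibreDimAt f (ι.base z) := h1
    rw [hn] at h2
    have : n + 1 ≤ n := by exact_mod_cast h2
    omega
  · have hNle : N ≤ n := by omega
    have h1 : ι.base z ∈ (∅ : Set X) :=
      hV' ⟨⟨z, by
        show (N : WithBot ℕ∞) ≤ FlatMor.fibreDimAt (ι ≫ f) z
        rw [heq, hn]; exact_mod_cast hNle, rfl⟩,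
        by show f.base (ι.base z) ∈ V'; rw [hfz]; exact hy.2⟩
    exact h1

end Groth.Agent.H38.NowhereDenseFibre
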