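import Mathlib
import Groth.Agent.H38.GeomRedSpread
import Groth.Agent.H38.GeomRedDescent
import Groth.Agent.H38.GeomRedDense
import Groth.Agent.H38.NowhereDenseFibre
import Groth.Agent.H24.ConsLocusMor
import Groth.Agent.H7.GeomRedFibre

/-!
# The locus of geometrically reduced fibres is locally constructible
-/

set_option autoImplicit false
universe u
open AlgebraicGeometry CategoryTheory Limits TopologicalSpace Topology

namespace Groth.Agent.H38.GeomRedCons

/-- (LS) geometric reducedness is local on the source. -/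
theorem geometricallyReduced_of_openCover {Z T : Scheme.{u}} (h : Z ⟶ T) {ι : Type*}
    (U : ι → Scheme.{u}) (j : ∀ i, U i ⟶ Z) [∀ i, IsOpenImmersion (j i)]
    (hcov : ∀ z : Z, ∃ i, z ∈ Set.range (j i))
    (H : ∀ i, GeometricallyReduced (j i ≫ h)) : GeometricallyReduced h := by
  refine ⟨fun K _ y W fst snd hW => ?_⟩
  apply (config := { allowSynthFailures := true }) isReduced_of_isReduced_stalk
  intro w
  obtain ⟨i, u, hu⟩ := hcov (fst w)
  let p : pullback (j i) fst ⟶ W := pullback.snd (j i) fst
  have sqi : IsPullback (pullback.fst (j i) fst) (p ≫ snd) (j i ≫ h) y :=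
    (IsPullback.of_hasPullback (j i) fst).paste_vert hW
  haveI : AlgebraicGeometry.IsReduced (pullback (j i) fst) :=
    (H i).geometrically_isReduced y _ _ sqi
  obtain ⟨z, -, hz⟩ := Scheme.Pullback.exists_preimage_pullback (f := j i) (g := fst) u w hu
  have hz' : p z = w := hz
  rw [← hz']
  have hiso : IsIso (p.stalkMap z) := inferInstance
  have hinj : Function.Injective (p.stalkMap z).hom :=
    ((ConcreteCategory.isIso_iff_bijective (p.stalkMap z)).mp hiso).1
  exact isReduced_of_injective (p.stalkMap z).hom hinj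

theorem fiberι_mem {X' S' : Scheme.{u}} (h : X' ⟶ S') (s : S') (z : h.fiber s) :
    h (h.fiberι s z) = s := by
  have : h.fiberι s z ∈ Set.range (h.fiberι s) := ⟨z, rfl⟩
  rw [h.range_fiberι s] at this
  exact this

/-- fibrewise geometric reducedness can be checked on an open cover of the source. -/
theorem fiber_geometricallyReduced_iff_of_openCover {X' S' : Scheme.{u}} (h : X' ⟶ S') (s : S')
    {ι : Type*} (U : ι → Scheme.{u}) (j : ∀ i, U i ⟶ X') [∀ i, IsOpenImmersion (j i)]
    (hcov : ∀ x : X', h x = s → ∃ i, x ∈ Set.range (j i)) :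
    GeometricallyReduced (h.fiberToSpecResidueField s) ↔
      ∀ i, GeometricallyReduced ((j i ≫ h).fiberToSpecResidueField s) := by
  haveI : ∀ i, IsOpenImmersion (MoreMor.fiberMap (j i) h s) := fun i =>
    MorphismProperty.of_isPullback (P := @IsOpenImmersion)
      (NowhereDenseFibre.isPullback_fiberMap (j i) h s) inferInstance
  constructor
  · intro H i
    rw [← Groth.Agent.H24.fiberMap_comp_fiberToSpec (j i) h s]
    exact GeomRedDense.geometricallyReduced_comp_openImmersion _ _
  · intro H
    refine geometricallyReduced_of_openCover (h.fiberToSpecResidueField s)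
      (fun i => (j i ≫ h).fiber s) (fun i => MoreMor.fiberMap (j i) h s) ?_ ?_
    · intro z
      obtain ⟨i, u, hu⟩ := hcov (h.fiberι s z) (fiberι_mem h s z)
      obtain ⟨z', hz', -⟩ := Scheme.exists_preimage_of_isPullback
        (NowhereDenseFibre.isPullback_fiberMap (j i) h s).flip z u hu.symm
      exact ⟨i, z', hz'⟩
    · intro i
      rw [Groth.Agent.H24.fiberMap_comp_fiberToSpec (j i) h s]
      exact H i

/-- the relation: the structure morphism (second slot) is geometrically reduced. -/
def P : ∀ ⦃X Y T : Scheme.{u}⦄, (X ⟶ Y) → (Y ⟶ T) → Prop :=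
  fun _ _ _ _ g => GeometricallyReduced g

theorem isConsMor_P : ConsProp.IsConsMor P.{u} := by
  refine ⟨?_, ?_⟩
  · intro X X' Y Y' T T' f g f' g' eX eY h _ _ _ _ _ _ _ _ sqY sqX
    constructor
    · intro hg
      exact MorphismProperty.of_isPullback (P := @GeometricallyReduced) sqY hg
    · intro hg'
      haveI : Surjective h := ⟨fun t => ⟨Classical.arbitrary _, Subsingleton.elim _ _⟩⟩
      exact GeomRedDescent.geometricallyReduced_of_isPullback_of_surjective sqY hg'
  · intro X Y S f g _ _ _ _ _ _
    by_cases hη : GeometricallyReduced (g.fiberToSpecResidueField (genericPoint S))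
    · obtain ⟨V, ⟨v, hv⟩, hVs⟩ := GeomRedSpread.fibres g hη
      exact Or.inl ⟨v, interior_maximal (fun y hy => hVs y hy) V.2 hv⟩
    · obtain ⟨V, ⟨v, hv⟩, hVs⟩ := H7.not_geometricallyReduced_fibre_near_generic g hη
      exact Or.inr ⟨v, interior_maximal (fun y hy => hVs y hy) V.2 hv⟩

/-- affine case via the constructibility framework. -/
theorem isLocallyConstructible_of_qcqs {X S : Scheme.{u}} (g : X ⟶ S)
    [LocallyOfFinitePresentation g] [QuasiCompact g] [QuasiSeparated g] :
    IsLocallyConstructible {s : ↑S | GeometricallyReduced (g.fiberToSpecResidueField s)} := by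
  haveI : LocallyOfFinitePresentation (𝟙 X ≫ g) := by rw [Category.id_comp]; infer_instance
  haveI : QuasiCompact (𝟙 X ≫ g) := by rw [Category.id_comp]; infer_instance
  haveI : QuasiSeparated (𝟙 X ≫ g) := by rw [Category.id_comp]; infer_instance
  exact Groth.Agent.H24.isLocallyConstructible_locusMor isConsMor_P (𝟙 X) g

/-- `S1301`: the locus of geometrically reduced fibres of a quasi-compact morphism locally of
finite presentation is locally constructible. -/
theorem main {X Y : Scheme.{u}} (f : X ⟶ Y) [QuasiCompact f] [LocallyOfFinitePresentation f] :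
    IsLocallyConstructible {y : ↑Y | GeometricallyReduced (f.fiberToSpecResidueField y)} := by
  classical
  refine IsLocallyConstructible.of_isOpenCover
    (U := fun W : Y.affineOpens => (W : Y.Opens)) Y.isBasis_affineOpens.isOpenCover ?_
  rintro ⟨W, hW⟩
  have hcomp : IsCompact (f ⁻¹ᵁ W : Set X) :=
    QuasiCompact.isCompact_preimage (f := f) _ W.2 hW.isCompact
  obtain ⟨s, hsfin, hs⟩ :=
    (isCompact_and_isOpen_iff_finite_and_eq_biUnion_affineOpens).mp ⟨hcomp, (f ⁻¹ᵁ W).2⟩
  have hle : ∀ i ∈ s, (i : X.Opens) ≤ f ⁻¹ᵁ W := by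
    intro i hi x hx
    have : x ∈ (f ⁻¹ᵁ W : Set X) := by
      rw [hs]
      exact Set.mem_biUnion hi hx
    exact this
  haveI : Finite s := hsfin
  haveI : IsAffine (W : Scheme.{u}) := hW
  -- each affine piece
  have hpiece : ∀ i : s, IsLocallyConstructible {w : ↑(W : Scheme.{u}) |
      GeometricallyReduced ((f.resLE W i.1.1 (hle i.1 i.2)).fiberToSpecResidueField w)} := by
    intro i
    haveI : IsAffine (i.1.1 : Scheme.{u}) := i.1.2
    exact isLocallyConstructible_of_qcqs (f.resLE W i.1.1 (hle i.1 i.2))
  have hinter := IsLocallyConstructible.iInter hpiece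
  have key : (Subtype.val ⁻¹' {y : ↑Y | GeometricallyReduced (f.fiberToSpecResidueField y)} :
      Set ↑(W : Scheme.{u})) = ⋂ i : s, {w : ↑(W : Scheme.{u}) |
      GeometricallyReduced ((f.resLE W i.1.1 (hle i.1 i.2)).fiberToSpecResidueField w)} := ?_
  · have h3 := hinter
    rw [← key] at h3
    exact h3
  ext w
  simp only [Set.mem_iInter]
  show GeometricallyReduced (f.fiberToSpecResidueField (W.ι w)) ↔ _
  -- fibre of `f` over `w.1` vs fibre of `f ∣_ W` over `w`
  have h1 := GeomRedDescent.fiber_geometricallyReduced_iff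
    (isPullback_morphismRestrict f W).flip w
  have h2 := fiber_geometricallyReduced_iff_of_openCover (f ∣_ W) w
    (fun i : s => (i.1.1 : Scheme.{u})) (fun i : s => X.homOfLE (hle i.1 i.2)) (by
      intro x _
      have hx : x.1 ∈ (f ⁻¹ᵁ W : Set X) := x.2
      rw [hs] at hx
      obtain ⟨i, hi, hxi⟩ := Set.mem_iUnion₂.mp hx
      exact ⟨⟨i, hi⟩, ⟨x.1, hxi⟩, Subtype.ext (X.homOfLE_apply _ _)⟩)
  rw [← h1, h2]
  rfl

end Groth.Agent.H38.GeomRedCons
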