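import Mathlib
import Groth.Prelude.Def_W4stktopologysheavesDim

set_option autoImplicit false
universe u

namespace Groth.Agent.H38

open TopologicalSpace PtTop

variable {X : Type u} [TopologicalSpace X]

theorem le_codim (s : LTSeries (IrreducibleCloseds X)) {Y Y' : IrreducibleCloseds X}
    (h1 : s.head = Y) (h2 : s.last ≤ Y') : (s.length : ℕ∞) ≤ codim Y (Y' : Set X) := by
  unfold codim
  exact le_iSup₂_of_le s ⟨h1, SetLike.coe_subset_coe.mpr h2⟩ le_rfl

theorem codim_le {Y Y' : IrreducibleCloseds X} {n : ℕ∞}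
    (h : ∀ s : LTSeries (IrreducibleCloseds X), s.head = Y → s.last ≤ Y' →
      (s.length : ℕ∞) ≤ n) : codim Y (Y' : Set X) ≤ n := by
  unfold codim
  exact iSup₂_le fun s hs => h s hs.1 (SetLike.coe_subset_coe.mp hs.2)

theorem codim_mono {Y Y' Y'' : IrreducibleCloseds X} (h : Y' ≤ Y'') :
    codim Y (Y' : Set X) ≤ codim Y (Y'' : Set X) :=
  codim_le fun s h1 h2 => le_codim s h1 (h2.trans h)

theorem head_lt_last_of_length_ne_zero (s : LTSeries (IrreducibleCloseds X))
    (hne : s.length ≠ 0) : s.head < s.last := by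
  apply s.strictMono
  rw [Fin.lt_def]
  simp only [Fin.val_zero, Fin.val_last]
  omega

theorem codim_self (Y : IrreducibleCloseds X) : codim Y (Y : Set X) = 0 := by
  refine le_antisymm (codim_le fun s h1 h2 => ?_) bot_le
  have h0 : s.length = 0 := by
    by_contra hne
    have hlt := head_lt_last_of_length_ne_zero s hne
    exact absurd (h2.trans_eq h1.symm) (not_le_of_gt hlt)
  simp [h0]

/-- The two-term chain. -/
def pairSeries {A B : IrreducibleCloseds X} (h : A < B) : LTSeries (IrreducibleCloseds X) :=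
  (RelSeries.singleton _ A).snoc B h

theorem one_le_codim {A B : IrreducibleCloseds X} (h : A < B) :
    1 ≤ codim A (B : Set X) := by
  have := le_codim (pairSeries h) (Y := A) (Y' := B) (by simp [pairSeries]) (by simp [pairSeries])
  simpa [pairSeries] using this

theorem codim_covBy {A B : IrreducibleCloseds X} (h : A ⋖ B) : codim A (B : Set X) = 1 := by
  refine le_antisymm (codim_le fun s h1 h2 => ?_) (one_le_codim h.lt)
  by_contra hgt
  have h2' : 2 ≤ s.length := by
    by_contra h'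
    apply hgt
    have : s.length ≤ 1 := by omega
    exact_mod_cast this
  let i1 : Fin (s.length + 1) := ⟨1, by omega⟩
  have e1 : s 0 < s i1 := s.strictMono (by rw [Fin.lt_def]; simp [i1])
  have e2 : s i1 < s (Fin.last _) := s.strictMono (by rw [Fin.lt_def]; simp [i1]; omega)
  have e1' : A < s i1 := h1 ▸ e1
  exact h.2 e1' (e2.trans_le h2)

theorem codim_add_one_le {Y Y' : IrreducibleCloseds X} {m : ℕ∞}
    (hne : ∃ s : LTSeries (IrreducibleCloseds X), s.head = Y ∧ s.last ≤ Y')
    (h : ∀ s : LTSeries (IrreducibleCloseds X), s.head = Y → s.last ≤ Y' →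
      (s.length : ℕ∞) + 1 ≤ m) : codim Y (Y' : Set X) + 1 ≤ m := by
  rcases eq_or_ne m ⊤ with rfl | hm
  · exact le_top
  obtain ⟨n, rfl⟩ := ENat.ne_top_iff_exists.mp hm
  obtain ⟨s₀, h₀, h₀'⟩ := hne
  have h1 : 1 ≤ n := by
    have := h s₀ h₀ h₀'
    have h' : s₀.length + 1 ≤ n := by exact_mod_cast this
    omega
  obtain ⟨k, rfl⟩ : ∃ k, n = k + 1 := ⟨n - 1, by omega⟩
  have hk : codim Y (Y' : Set X) ≤ (k : ℕ∞) := codim_le fun s hs1 hs2 => by
    have := h s hs1 hs2
    have h' : s.length + 1 ≤ k + 1 := by exact_mod_cast this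
    have h'' : s.length ≤ k := by omega
    exact_mod_cast h''
  calc codim Y (Y' : Set X) + 1 ≤ (k : ℕ∞) + 1 := add_le_add_left hk 1
    _ = ((k + 1 : ℕ) : ℕ∞) := by push_cast; rfl

theorem codim_cons_le {A B C : IrreducibleCloseds X} (hAB : A < B) (hBC : B ≤ C) :
    codim B (C : Set X) + 1 ≤ codim A (C : Set X) := by
  refine codim_add_one_le ⟨RelSeries.singleton _ B, rfl, hBC⟩ fun s h1 h2 => ?_
  have hrel : A < s.head := h1 ▸ hAB
  have := le_codim (s.cons A hrel) (Y := A) (Y' := C) (by simp) (by simpa using h2)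
  simpa using this

theorem codim_snoc_le {A B C : IrreducibleCloseds X} (hAB : A ≤ B) (hBC : B < C) :
    codim A (B : Set X) + 1 ≤ codim A (C : Set X) := by
  refine codim_add_one_le ⟨RelSeries.singleton _ A, rfl, hAB⟩ fun s h1 h2 => ?_
  have hrel : s.last < C := lt_of_le_of_lt h2 hBC
  have := le_codim (s.snoc C hrel) (Y := A) (Y' := C) (by simpa using h1) (by simp)
  simpa using this

theorem exists_sat (m : ℕ) : ∀ Y Y' : IrreducibleCloseds X, Y ≤ Y' →
    codim Y (Y' : Set X) ≤ m →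
    ∃ (n : ℕ) (a : ℕ → IrreducibleCloseds X), a 0 = Y ∧ a n = Y' ∧ ∀ i < n, a i ⋖ a (i + 1) := by
  induction m with
  | zero =>
    intro Y Y' hle hc
    have heq : Y = Y' := by
      by_contra hne
      have := one_le_codim (lt_of_le_of_ne hle hne)
      have h01 : (1 : ℕ∞) ≤ 0 := by simpa using this.trans hc
      simp at h01
    exact ⟨0, fun _ => Y, rfl, heq, by simp⟩
  | succ m ih =>
    intro Y Y' hle hc
    by_cases heq : Y = Y'
    · exact ⟨0, fun _ => Y, rfl, heq, by simp⟩
    have hlt : Y < Y' := lt_of_le_of_ne hle heq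
    obtain ⟨Z, hZS, hZmin⟩ := (InvImage.wf (fun Z : IrreducibleCloseds X => codim Y (Z : Set X))
      wellFounded_lt).has_min {Z | Y < Z ∧ Z ≤ Y'} ⟨Y', hlt, le_rfl⟩
    have hfinZ : codim Y (Z : Set X) ≠ ⊤ :=
      ne_top_of_le_ne_top (ENat.natCast_ne_top _) ((codim_mono hZS.2).trans hc)
    have hcov : Y ⋖ Z := by
      refine ⟨hZS.1, fun W hYW hWZ => ?_⟩
      have h1 := codim_snoc_le hYW.le hWZ
      have hfinW : codim Y (W : Set X) ≠ ⊤ :=
        ne_top_of_le_ne_top hfinZ (codim_mono hWZ.le)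
      have h2 : codim Y (W : Set X) < codim Y (Z : Set X) := (ENat.add_one_le_iff hfinW).mp h1
      exact hZmin W ⟨hYW, hWZ.le.trans hZS.2⟩ h2
    have hZm : codim Z (Y' : Set X) ≤ m := by
      have h1 := (codim_cons_le hZS.1 hZS.2).trans hc
      have h2 : codim Z (Y' : Set X) + 1 ≤ (m : ℕ∞) + 1 := by
        simpa using h1
      exact (ENat.add_le_add_iff_right ENat.one_ne_top).mp h2
    obtain ⟨n, a, h0, hn, hsat⟩ := ih Z Y' hZS.2 hZm
    refine ⟨n + 1, fun i => Nat.casesOn i Y a, rfl, hn, ?_⟩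
    intro i hi
    cases i with
    | zero => simpa [h0] using hcov
    | succ j => exact hsat j (by omega)

theorem exists_sat_series {Y Y' : IrreducibleCloseds X} (hle : Y ≤ Y')
    (hfin : codim Y (Y' : Set X) ≠ ⊤) :
    ∃ s : LTSeries (IrreducibleCloseds X), s.head = Y ∧ s.last = Y' ∧
      ∀ i : Fin s.length, s i.castSucc ⋖ s i.succ := by
  obtain ⟨m, hm⟩ := ENat.ne_top_iff_exists.mp hfin
  obtain ⟨n, a, h0, hn, hcov⟩ := exists_sat m Y Y' hle (hm ▸ le_rfl)
  exact ⟨⟨n, fun i => a i.1, fun i => (hcov i.1 i.2).lt⟩, h0, hn, fun i => hcov i.1 i.2⟩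

theorem sat_smash (p q : LTSeries (IrreducibleCloseds X)) (h : p.last = q.head)
    (hp : ∀ i : Fin p.length, p i.castSucc ⋖ p i.succ)
    (hq : ∀ i : Fin q.length, q i.castSucc ⋖ q i.succ) :
    ∀ i : Fin (p.smash q h).length, (p.smash q h) i.castSucc ⋖ (p.smash q h) i.succ := by
  intro i
  refine Fin.addCases (fun i => ?_) (fun i => ?_) i
  · have := hp i
    rw [← RelSeries.smash_castAdd h i, ← RelSeries.smash_succ_castAdd h i] at this
    exact this
  · have := hq i
    rw [← RelSeries.smash_natAdd h i, ← RelSeries.smash_succ_natAdd h i] at this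
    exact this

theorem isCatenarySpace_iff_codim_additive :
    PtTop.IsCatenarySpace X ↔
      (∀ Y Y' : IrreducibleCloseds X, Y ≤ Y' → codim Y (Y' : Set X) ≠ ⊤) ∧
      (∀ Y Y' Y'' : IrreducibleCloseds X, Y ≤ Y' → Y' ≤ Y'' →
        codim Y (Y'' : Set X) = codim Y (Y' : Set X) + codim Y' (Y'' : Set X)) := by
  constructor
  · intro hcat
    refine ⟨fun Y Y' h => (hcat Y Y' h).1, fun Y Y' Y'' h1 h2 => ?_⟩
    obtain ⟨s₁, hh1, hl1, hs1⟩ := exists_sat_series h1 (hcat Y Y' h1).1
    obtain ⟨s₂, hh2, hl2, hs2⟩ := exists_sat_series h2 (hcat Y' Y'' h2).1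
    have hconn : s₁.last = s₂.head := hl1.trans hh2.symm
    have e := (hcat Y Y'' (h1.trans h2)).2 (s₁.smash s₂ hconn) (by simpa using hh1)
      (by simpa using hl2) (sat_smash s₁ s₂ hconn hs1 hs2)
    have e1 := (hcat Y Y' h1).2 s₁ hh1 hl1 hs1
    have e2 := (hcat Y' Y'' h2).2 s₂ hh2 hl2 hs2
    rw [← e, ← e1, ← e2, RelSeries.smash_length]
    push_cast
    rfl
  · rintro ⟨hfin, hadd⟩ T T' hle
    refine ⟨hfin T T' hle, fun s hhead hlast hsat => ?_⟩
    have key : ∀ i : Fin (s.length + 1), codim s.head (s i : Set X) = (i : ℕ) := by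
      intro i
      induction i using Fin.induction with
      | zero =>
        have h0 : s 0 = s.head := rfl
        rw [h0, codim_self]
        simp
      | succ i ih =>
        have h1 : s.head ≤ s i.castSucc := LTSeries.head_le s _
        have h2 : s i.castSucc ≤ s i.succ := (hsat i).le
        rw [hadd _ _ _ h1 h2, ih, codim_covBy (hsat i)]
        simp
    have := key (Fin.last _)
    rw [← hhead, ← hlast]
    simpa [RelSeries.last] using this.symm

end Groth.Agent.H38
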