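import Mathlib
import Groth.Prelude.Def_W4stktopologysheavesDim
import Groth.Agent.H38.Codim

set_option autoImplicit false
universe u v

namespace Groth.Agent.H38

open TopologicalSpace Topology Set PtTop

section ConvexEmb

variable {U : Type v} [TopologicalSpace U] {X : Type u} [TopologicalSpace X]

/-- An order embedding of posets of irreducible closed subsets whose image is order-convex. -/
structure ConvexEmb (ι : IrreducibleCloseds U → IrreducibleCloseds X) : Prop where
  mono : Monotone ι
  reflect : ∀ a b, ι a ≤ ι b → a ≤ b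
  convex : ∀ a c p, ι a ≤ p → p ≤ ι c → ∃ b, ι b = p

namespace ConvexEmb

variable {ι : IrreducibleCloseds U → IrreducibleCloseds X} (h : ConvexEmb ι)
include h

theorem le_iff {a b : IrreducibleCloseds U} : ι a ≤ ι b ↔ a ≤ b :=
  ⟨h.reflect a b, fun hab => h.mono hab⟩

theorem injective : Function.Injective ι := fun a b e =>
  le_antisymm (h.reflect _ _ e.le) (h.reflect _ _ e.ge)

theorem lt_iff {a b : IrreducibleCloseds U} : ι a < ι b ↔ a < b := by
  rw [lt_iff_le_not_ge, lt_iff_le_not_ge, h.le_iff, h.le_iff]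

theorem strictMono : StrictMono ι := fun _ _ hab => h.lt_iff.mpr hab

theorem covBy_iff {a b : IrreducibleCloseds U} : ι a ⋖ ι b ↔ a ⋖ b := by
  constructor
  · intro hc
    exact ⟨h.lt_iff.mp hc.lt, fun m h1 h2 => hc.2 (h.lt_iff.mpr h1) (h.lt_iff.mpr h2)⟩
  · intro hc
    refine ⟨h.lt_iff.mpr hc.lt, fun p h1 h2 => ?_⟩
    obtain ⟨m, rfl⟩ := h.convex a b p h1.le h2.le
    exact hc.2 (h.lt_iff.mp h1) (h.lt_iff.mp h2)

theorem exists_lift (s' : LTSeries (IrreducibleCloseds X)) (a c : IrreducibleCloseds U)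
    (h1 : ι a ≤ s'.head) (h2 : s'.last ≤ ι c) :
    ∃ b : Fin (s'.length + 1) → IrreducibleCloseds U, ∀ i, ι (b i) = s' i := by
  have key : ∀ i, ∃ b, ι b = s' i := fun i =>
    h.convex a c (s' i) (h1.trans (s'.monotone (Fin.zero_le i)))
      ((s'.monotone (Fin.le_last i)).trans h2)
  choose b hb using key
  exact ⟨b, hb⟩

theorem codim_eq {a c : IrreducibleCloseds U} :
    codim (ι a) (ι c : Set X) = codim a (c : Set U) := by
  apply le_antisymm
  · refine H38.codim_le fun s' h1 h2 => ?_
    obtain ⟨b, hb⟩ := h.exists_lift s' a c h1.ge h2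
    let t : LTSeries (IrreducibleCloseds U) :=
      ⟨s'.length, b, fun i => h.lt_iff.mp (by
        rw [hb, hb]; exact s'.strictMono (by simp [Fin.lt_def]))⟩
    have ht1 : t.head = a := h.injective ((hb 0).trans h1)
    have ht2 : t.last ≤ c := h.reflect _ _ ((hb (Fin.last _)).le.trans h2)
    exact le_codim t ht1 ht2
  · refine H38.codim_le fun s h1 h2 => ?_
    exact le_codim (s.map ι h.strictMono) (Y := ι a) (Y' := ι c) (congrArg ι h1) (h.mono h2)

theorem isCatenarySpace (hX : IsCatenarySpace X) : IsCatenarySpace U := by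
  intro T T' hle
  have hX' := hX (ι T) (ι T') (h.mono hle)
  rw [h.codim_eq] at hX'
  refine ⟨hX'.1, fun s hh hl hsat => ?_⟩
  exact hX'.2 (s.map ι h.strictMono) (congrArg ι hh) (congrArg ι hl)
    (fun i => h.covBy_iff.mpr (hsat i))

end ConvexEmb

theorem isCatenarySpace_of_local
    (H : ∀ T T' : IrreducibleCloseds X, T ≤ T' →
      ∃ (U : Type v) (_ : TopologicalSpace U) (ι : IrreducibleCloseds U → IrreducibleCloseds X),
        ConvexEmb ι ∧ IsCatenarySpace U ∧ ∃ a c, ι a = T ∧ ι c = T') :
    IsCatenarySpace X := by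
  intro T T' hle
  obtain ⟨U, instU, ι, h, hU, a, c, rfl, rfl⟩ := H T T' hle
  have hac : a ≤ c := h.reflect _ _ hle
  have hU' := hU a c hac
  rw [h.codim_eq]
  refine ⟨hU'.1, fun s hh hl hsat => ?_⟩
  obtain ⟨b, hb⟩ := h.exists_lift s a c hh.ge hl.le
  let t : LTSeries (IrreducibleCloseds U) :=
    ⟨s.length, b, fun i => h.lt_iff.mp (by
      rw [hb, hb]; exact s.strictMono (by simp [Fin.lt_def]))⟩
  have ht1 : t.head = a := h.injective ((hb 0).trans hh)
  have ht2 : t.last = c := h.injective ((hb (Fin.last _)).trans hl)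
  exact hU'.2 t ht1 ht2 (fun i => h.covBy_iff.mp (by rw [hb, hb]; exact hsat i))

variable {f : U → X}

/-- Closure of the image of an irreducible closed subset. -/
def imap (hf : Continuous f) (a : IrreducibleCloseds U) : IrreducibleCloseds X :=
  ⟨closure (f '' (a : Set U)), (a.isIrreducible.image f hf.continuousOn).closure,
    isClosed_closure⟩

theorem imap_mono (hf : Continuous f) {a b : IrreducibleCloseds U} (hab : a ≤ b) :
    imap hf a ≤ imap hf b := by
  show closure (f '' (a : Set U)) ⊆ closure (f '' (b : Set U))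
  exact closure_mono (Set.image_mono hab)

theorem imap_reflect (hf : IsInducing f) {a b : IrreducibleCloseds U}
    (hab : imap hf.continuous a ≤ imap hf.continuous b) : a ≤ b := by
  have hab' : closure (f '' (a : Set U)) ⊆ closure (f '' (b : Set U)) := hab
  show (a : Set U) ⊆ (b : Set U)
  intro x hx
  have h1 : x ∈ closure (a : Set U) := subset_closure hx
  rw [hf.closure_eq_preimage_closure_image] at h1
  have h2 : f x ∈ closure (f '' (b : Set U)) := hab' h1
  have h3 : x ∈ closure (b : Set U) := by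
    rw [hf.closure_eq_preimage_closure_image]; exact h2
  rwa [b.isClosed.closure_eq] at h3

theorem isPreirreducible_of_image (hf : IsInducing f) {T : Set U}
    (hT : IsPreirreducible (f '' T)) : IsPreirreducible T := by
  rintro u v hu hv ⟨x, hxT, hxu⟩ ⟨y, hyT, hyv⟩
  obtain ⟨u', hu', rfl⟩ := hf.isOpen_iff.mp hu
  obtain ⟨v', hv', rfl⟩ := hf.isOpen_iff.mp hv
  obtain ⟨z, ⟨w, hwT, rfl⟩, hzu, hzv⟩ := hT u' v' hu' hv'
    ⟨f x, ⟨x, hxT, rfl⟩, hxu⟩ ⟨f y, ⟨y, hyT, rfl⟩, hyv⟩
  exact ⟨w, hwT, hzu, hzv⟩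

theorem exists_imap_eq (hf : IsInducing f) {O Z : Set X} (hO : IsOpen O)
    (hR : range f = O ∩ Z) (p : IrreducibleCloseds X) (hpZ : (p : Set X) ⊆ Z)
    (hpO : ((p : Set X) ∩ O).Nonempty) :
    ∃ b : IrreducibleCloseds U, imap hf.continuous b = p := by
  have himg : f '' (f ⁻¹' (p : Set X)) = (p : Set X) ∩ O := by
    rw [Set.image_preimage_eq_inter_range, hR]
    ext y; constructor
    · rintro ⟨hy, hyO, _⟩; exact ⟨hy, hyO⟩
    · rintro ⟨hy, hyO⟩; exact ⟨hy, hyO, hpZ hy⟩
  have hcl : closure ((p : Set X) ∩ O) = (p : Set X) := by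
    apply subset_antisymm
    · exact closure_minimal inter_subset_left p.isClosed
    · exact subset_closure_inter_of_isPreirreducible_of_isOpen
        p.isIrreducible.isPreirreducible hO hpO
  have hpre : IsPreirreducible ((p : Set X) ∩ O) :=
    isPreirreducible_iff_closure.mp (by rw [hcl]; exact p.isIrreducible.isPreirreducible)
  obtain ⟨y, hyp, hyO⟩ := hpO
  have hyR : y ∈ range f := by rw [hR]; exact ⟨hyO, hpZ hyp⟩
  obtain ⟨x, rfl⟩ := hyR
  refine ⟨⟨f ⁻¹' (p : Set X),
    ⟨⟨x, hyp⟩, isPreirreducible_of_image hf (by rw [himg]; exact hpre)⟩,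
    p.isClosed.preimage hf.continuous⟩, ?_⟩
  apply SetLike.coe_injective
  show closure (f '' (f ⁻¹' (p : Set X))) = (p : Set X)
  rw [himg, hcl]

theorem convexEmb_imap (hf : IsInducing f) (hR : IsLocallyClosed (range f)) :
    ConvexEmb (imap (f := f) hf.continuous) := by
  obtain ⟨O, Z, hO, hZ, hR⟩ := hR
  refine ⟨fun a b hab => imap_mono _ hab, fun a b hab => imap_reflect hf hab,
    fun a c p h1 h2 => ?_⟩
  have h1' : closure (f '' (a : Set U)) ⊆ (p : Set X) := h1
  have h2' : (p : Set X) ⊆ closure (f '' (c : Set U)) := h2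
  refine exists_imap_eq hf hO hR p ?_ ?_
  · refine h2'.trans (closure_minimal ?_ hZ)
    rintro _ ⟨x, _, rfl⟩
    have : f x ∈ range f := mem_range_self x
    rw [hR] at this; exact this.2
  · obtain ⟨x, hx⟩ := a.isIrreducible.nonempty
    refine ⟨f x, h1' (subset_closure (mem_image_of_mem f hx)), ?_⟩
    have : f x ∈ range f := mem_range_self x
    rw [hR] at this; exact this.1

end ConvexEmb

section Opens

variable {X : Type u} [TopologicalSpace X]

theorem range_val_opens (U : Opens X) : range (Subtype.val : U → X) = (U : Set X) := by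
  ext y; simp

/-- Locally closed subspaces of catenary spaces are catenary. -/
theorem isCatenarySpace_of_isLocallyClosed (hX : IsCatenarySpace X) (S : Set X)
    (hS : IsLocallyClosed S) : IsCatenarySpace S :=
  (convexEmb_imap (f := (Subtype.val : S → X)) IsInducing.subtypeVal
    (by rw [Subtype.range_coe]; exact hS)).isCatenarySpace hX

theorem isCatenarySpace_opens (hX : IsCatenarySpace X) (U : Opens X) : IsCatenarySpace U :=
  (convexEmb_imap (f := (Subtype.val : U → X)) IsInducing.subtypeVal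
    (by rw [range_val_opens]; exact U.isOpen.isLocallyClosed)).isCatenarySpace hX

/-- Catenarity is local. -/
theorem isCatenarySpace_of_open_cover
    (H : ∀ x : X, ∃ U : Opens X, x ∈ U ∧ IsCatenarySpace U) : IsCatenarySpace X := by
  refine isCatenarySpace_of_local.{u, u} fun T T' hle => ?_
  obtain ⟨x, hx⟩ := T.isIrreducible.nonempty
  obtain ⟨U, hxU, hU⟩ := H x
  have hf : IsInducing (Subtype.val : U → X) := IsInducing.subtypeVal
  have hR : range (Subtype.val : U → X) = (U : Set X) ∩ univ := by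
    rw [range_val_opens, inter_univ]
  have hx' : x ∈ (T' : Set X) := hle hx
  obtain ⟨a, ha⟩ := exists_imap_eq hf U.isOpen hR T (subset_univ _) ⟨x, hx, hxU⟩
  obtain ⟨c, hc⟩ := exists_imap_eq hf U.isOpen hR T' (subset_univ _) ⟨x, hx', hxU⟩
  exact ⟨U, inferInstance, imap hf.continuous,
    convexEmb_imap hf (by rw [range_val_opens]; exact U.isOpen.isLocallyClosed), hU, a, c, ha, hc⟩

end Opens

end Groth.Agent.H38
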