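import Mathlib
import Groth.Prelude.Def_W4stktopologysheavesDim
import Groth.Prelude.Def_Found
import Groth.Agent.H38.Codim
import Groth.Agent.H38.CatLocal

set_option autoImplicit false
universe u w w'

namespace Groth.Agent.H38

open TopologicalSpace Topology Set PtTop OrderDual

section Poset

variable {P : Type w} {Q : Type w'} [PartialOrder P] [PartialOrder Q]

/-- Poset version of catenarity: bounded chains between comparable elements, and saturated chains
with the same ends have the same length. -/
def PCat (P : Type w) [PartialOrder P] : Prop :=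
  (∀ p q : P, p ≤ q → ∃ n : ℕ, ∀ s : LTSeries P,
      s.head = p → s.last = q → s.length ≤ n) ∧
  ∀ s t : LTSeries P, s.head = t.head → s.last = t.last →
    (∀ i : Fin s.length, s (Fin.castSucc i) ⋖ s (Fin.succ i)) →
    (∀ i : Fin t.length, t (Fin.castSucc i) ⋖ t (Fin.succ i)) →
    s.length = t.length

/-- Reverse a chain along a strictly antitone map. -/
def antiMap (s : LTSeries P) (φ : P → Q) (hφ : StrictAnti φ) : LTSeries Q :=
  ⟨s.length, fun i => φ (s i.rev), fun i =>
    hφ (s.strictMono (Fin.rev_lt_rev.mpr (by simp [Fin.lt_def])))⟩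

theorem antiMap_head (s : LTSeries P) (φ : P → Q) (hφ : StrictAnti φ) :
    (antiMap s φ hφ).head = φ s.last := by
  show φ (s (Fin.rev 0)) = φ (s (Fin.last _))
  rw [Fin.rev_zero]

theorem antiMap_last (s : LTSeries P) (φ : P → Q) (hφ : StrictAnti φ) :
    (antiMap s φ hφ).last = φ s.head := by
  show φ (s (Fin.rev (Fin.last _))) = φ (s 0)
  rw [Fin.rev_last]

theorem antiMap_sat (s : LTSeries P) (φ : P → Q) (hφ : StrictAnti φ)
    (hcov : ∀ a b : P, a ⋖ b → φ b ⋖ φ a)
    (hs : ∀ i : Fin s.length, s (Fin.castSucc i) ⋖ s (Fin.succ i)) :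
    ∀ i : Fin (antiMap s φ hφ).length,
      (antiMap s φ hφ) (Fin.castSucc i) ⋖ (antiMap s φ hφ) (Fin.succ i) := by
  intro i
  show φ (s (Fin.castSucc i).rev) ⋖ φ (s (Fin.succ i).rev)
  rw [Fin.rev_castSucc, Fin.rev_succ]
  exact hcov _ _ (hs (Fin.rev i))

theorem PCat.of_anti (φ : Q → P) (hφ : StrictAnti φ)
    (hcov : ∀ a b : Q, a ⋖ b → φ b ⋖ φ a) (h : PCat P) : PCat Q := by
  constructor
  · intro p q hpq
    obtain ⟨n, hn⟩ := h.1 (φ q) (φ p) (hφ.antitone hpq)
    exact ⟨n, fun s hh hl => hn (antiMap s φ hφ) (by rw [antiMap_head, hl])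
      (by rw [antiMap_last, hh])⟩
  · intro s t hh hl hs ht
    exact h.2 (antiMap s φ hφ) (antiMap t φ hφ) (by rw [antiMap_head, antiMap_head, hl])
      (by rw [antiMap_last, antiMap_last, hh]) (antiMap_sat s φ hφ hcov hs)
      (antiMap_sat t φ hφ hcov ht)

theorem PCat.of_antiIso (e : P ≃o Qᵒᵈ) (h : PCat P) : PCat Q := by
  refine PCat.of_anti (fun q => e.symm (toDual q)) ?_ ?_ h
  · intro a b hab
    exact e.symm.strictMono (toDual_lt_toDual.mpr hab)
  · intro a b hab
    exact (apply_covBy_apply_iff e.symm).mpr (toDual_covBy_toDual_iff.mpr hab)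

theorem PCat.of_antiIso' (e : Q ≃o Pᵒᵈ) (h : PCat P) : PCat Q := by
  refine PCat.of_anti (fun q => ofDual (e q)) ?_ ?_ h
  · intro a b hab
    exact ofDual_lt_ofDual.mpr (e.strictMono hab)
  · intro a b hab
    exact ofDual_covBy_ofDual_iff.mpr ((apply_covBy_apply_iff e).mpr hab)

theorem PCat.of_iso (e : P ≃o Q) (h : PCat P) : PCat Q := by
  have h1 : PCat Pᵒᵈ := PCat.of_antiIso (OrderIso.dualDual P) h
  exact PCat.of_antiIso' (Q := Q) (P := Pᵒᵈ) (e.symm.trans (OrderIso.dualDual P)) h1

end Poset

section Space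

variable {X : Type u} [TopologicalSpace X]

theorem exists_refine
    (hfin : ∀ T T' : IrreducibleCloseds X, T ≤ T' → codim T (T' : Set X) ≠ ⊤) :
    ∀ (n : ℕ) (c : LTSeries (IrreducibleCloseds X)), c.length = n →
    ∃ c' : LTSeries (IrreducibleCloseds X), c'.head = c.head ∧ c'.last = c.last ∧
      (∀ i : Fin c'.length, c' (Fin.castSucc i) ⋖ c' (Fin.succ i)) ∧
      c.length ≤ c'.length := by
  intro n
  induction n with
  | zero =>
    intro c hlen
    refine ⟨c, rfl, rfl, fun i => ?_, le_rfl⟩
    exact absurd i.2 (by omega)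
  | succ n ih =>
    intro c hlen
    have hne : c.length ≠ 0 := by omega
    obtain ⟨c₁, h1, h2, h3, h4⟩ :=
      ih c.eraseLast (by rw [RelSeries.eraseLast_length]; omega)
    have hlt : c.eraseLast.last < c.last := c.eraseLast_last_rel_last hne
    obtain ⟨d, hd1, hd2, hd3⟩ := exists_sat_series hlt.le (hfin _ _ hlt.le)
    have hdpos : d.length ≠ 0 := by
      intro h0
      have h00 : Fin.last d.length = 0 := Fin.ext (by simp [h0])
      have hhl : d.head = d.last := by
        rw [RelSeries.last, h00]; rfl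
      rw [hd1, hd2] at hhl
      exact hlt.ne hhl
    have hconn : c₁.last = d.head := h2.trans hd1.symm
    refine ⟨c₁.smash d hconn, ?_, ?_, sat_smash c₁ d hconn h3 hd3, ?_⟩
    · rw [RelSeries.head_smash, h1, RelSeries.head_eraseLast]
    · rw [RelSeries.last_smash, hd2]
    · rw [RelSeries.smash_length]
      rw [RelSeries.eraseLast_length] at h4
      omega

theorem isCatenarySpace_iff_pcat :
    IsCatenarySpace X ↔ PCat (IrreducibleCloseds X) := by
  constructor
  · intro hcat
    constructor
    · intro p q hpq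
      obtain ⟨n, hn⟩ := ENat.ne_top_iff_exists.mp (hcat p q hpq).1
      refine ⟨n, fun s hh hl => ?_⟩
      have h1 := le_codim s hh hl.le
      rw [← hn] at h1
      exact_mod_cast h1
    · intro s t hh hl hs ht
      have hle : s.head ≤ s.last := s.monotone (Fin.zero_le (Fin.last _))
      have h1 := (hcat s.head s.last hle).2 s rfl rfl hs
      have h2 := (hcat s.head s.last hle).2 t hh.symm hl.symm ht
      exact_mod_cast h1.trans h2.symm
  · rintro ⟨ha, hb⟩
    have hfin : ∀ T T' : IrreducibleCloseds X, T ≤ T' → codim T (T' : Set X) ≠ ⊤ := by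
      intro T T' hle
      obtain ⟨n, hn⟩ := ha T T' hle
      refine ne_top_of_le_ne_top (ENat.natCast_ne_top n) (H38.codim_le fun s h1 h2 => ?_)
      by_cases hlast : s.last = T'
      · exact_mod_cast hn s h1 hlast
      · have hlt : s.last < T' := lt_of_le_of_ne h2 hlast
        have h3 := hn (s.snoc T' hlt) (by simpa using h1) (by simp)
        have h4 : s.length + 1 ≤ n := by simpa using h3
        have h5 : s.length ≤ n := by omega
        exact_mod_cast h5
    intro T T' hle
    refine ⟨hfin T T' hle, fun s hh hl hs => le_antisymm (le_codim s hh hl.le) ?_⟩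
    refine H38.codim_le fun c h1 h2 => ?_
    -- extend `c` to end at `T'`
    obtain ⟨c₀, hc₀h, hc₀l, hc₀len⟩ : ∃ c₀ : LTSeries (IrreducibleCloseds X),
        c₀.head = T ∧ c₀.last = T' ∧ c.length ≤ c₀.length := by
      by_cases hlast : c.last = T'
      · exact ⟨c, h1, hlast, le_rfl⟩
      · have hlt : c.last < T' := lt_of_le_of_ne h2 hlast
        exact ⟨c.snoc T' hlt, by simpa using h1, by simp, by simp⟩
    obtain ⟨c', hc'h, hc'l, hc's, hlen⟩ := exists_refine hfin c₀.length c₀ rfl
    have h3 := hb c' s (hc'h.trans (hc₀h.trans hh.symm)) (hc'l.trans (hc₀l.trans hl.symm))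
      hc's hs
    have h5 : c.length ≤ s.length := by omega
    exact_mod_cast h5

theorem isCatenarySpace_of_homeomorph {A : Type w} {B : Type w'} [TopologicalSpace A]
    [TopologicalSpace B] (f : A ≃ₜ B) (hB : IsCatenarySpace B) : IsCatenarySpace A :=
  (convexEmb_imap (f := f) f.isInducing
    (by rw [f.range_coe]; exact isOpen_univ.isLocallyClosed)).isCatenarySpace hB

end Space

section Ring

theorem isCatenary_iff_pcat (R : Type u) [CommRing R] :
    CAlg.IsCatenary R ↔ PCat (PrimeSpectrum R) := Iff.rfl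

/-- The prime spectrum is a catenary space iff the ring is catenary. -/
theorem isCatenarySpace_primeSpectrum_iff (R : Type u) [CommRing R] :
    IsCatenarySpace (PrimeSpectrum R) ↔ CAlg.IsCatenary R := by
  rw [isCatenarySpace_iff_pcat, isCatenary_iff_pcat]
  constructor
  · intro h
    exact PCat.of_antiIso' (PrimeSpectrum.pointsEquivIrreducibleCloseds R) h
  · intro h
    exact PCat.of_antiIso (PrimeSpectrum.pointsEquivIrreducibleCloseds R) h

theorem isCatenary_of_ringEquiv {A B : Type u} [CommRing A] [CommRing B] (e : A ≃+* B)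
    (hA : CAlg.IsCatenary A) : CAlg.IsCatenary B := by
  rw [isCatenary_iff_pcat] at hA ⊢
  exact PCat.of_iso (PrimeSpectrum.comapEquiv e) hA

end Ring

end Groth.Agent.H38
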