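import Mathlib
import Groth.Prelude.Def_CohB1
set_option autoImplicit false
universe u
open CategoryTheory CategoryTheory.Limits AlgebraicGeometry Opposite

namespace Groth.Agent.H38.PGE_PSI

theorem aeval_mem_of_homogeneous {A S : Type u} [CommRing A] [CommRing S] [Algebra A S]
    (𝒜 : ℕ → Submodule A S) [GradedAlgebra 𝒜] (r : ℕ) (g : Fin (r + 1) → S)
    (hg1 : ∀ i, g i ∈ 𝒜 1) {i : ℕ} {x : MvPolynomial (Fin (r + 1)) A}
    (hx : x ∈ CohB1.polyGrading r A i) : MvPolynomial.aeval g x ∈ 𝒜 i := by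
  have hx' : x.IsHomogeneous i := (MvPolynomial.mem_homogeneousSubmodule _ _).mp hx
  rw [MvPolynomial.aeval_def, MvPolynomial.eval₂_eq]
  refine Submodule.sum_mem _ (fun d hd => ?_)
  rw [← Algebra.smul_def]
  refine Submodule.smul_mem _ _ ?_
  have hdeg : ∑ j ∈ d.support, d j • 1 = i := by
    have h := hx' (MvPolynomial.mem_support_iff.mp hd)
    rw [Finsupp.weight_apply, Finsupp.sum] at h
    simpa using h
  rw [← hdeg]
  exact SetLike.prod_mem_graded 𝒜 (fun j => d j • 1) (fun j => g j ^ d j)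
    (fun j _ => SetLike.pow_mem_graded (d j) (hg1 j))

theorem exists_gradedHom_of_gens {A S : Type u} [CommRing A] [CommRing S] [Algebra A S]
    (𝒜 : ℕ → Submodule A S) [GradedAlgebra 𝒜] (r : ℕ) (g : Fin (r + 1) → S)
    (hg1 : ∀ i, g i ∈ 𝒜 1) (hgen : Algebra.adjoin A (Set.range g) = ⊤) :
    ∃ ψ : CohB1.polyGrading r A →+*ᵍ 𝒜, Function.Surjective ψ := by
  refine ⟨{ toRingHom := (MvPolynomial.aeval g : MvPolynomial (Fin (r + 1)) A →ₐ[A] S).toRingHom
            map_mem := fun {i x} hx => aeval_mem_of_homogeneous 𝒜 r g hg1 hx }, ?_⟩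
  intro s
  have hs : s ∈ (MvPolynomial.aeval g : MvPolynomial (Fin (r + 1)) A →ₐ[A] S).range := by
    rw [← Algebra.adjoin_range_eq_range_aeval, hgen]
    exact Algebra.mem_top
  obtain ⟨x, hx⟩ := hs
  exact ⟨x, hx⟩

end Groth.Agent.H38.PGE_PSI
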