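import Mathlib
import Groth.Prelude.Def_EtModW
import Groth.Prelude.Def_ARSys
import Groth.Agent.H23.AdicDefs

/-!
# (B) `ε⁻¹` preserves `I`-adic systems (adjunction argument)
-/

set_option autoImplicit false
universe u v
open CategoryTheory CategoryTheory.Limits AlgebraicGeometry Opposite
open Groth.Agent.H23.AdicDefs

namespace Groth.Agent.H38.Adic_B

section general

universe w v₁ v₂ u₁ u₂

variable {A : Type w} [CommRing A] {C : Type u₁} {D : Type u₂} [Category.{v₁} C] [Category.{v₂} D]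
  [Preadditive C] [Preadditive D] [Linear A C] [Linear A D]
  {L : C ⥤ D} {R : D ⥤ C} (adj : L ⊣ R)
  (hR : ∀ {P Q : D} (a : A) (f : P ⟶ Q), R.map (a • f) = a • R.map f)

include hR in
theorem R_map_zero {P Q : D} : R.map (0 : P ⟶ Q) = 0 := by
  have h := hR (0 : A) (0 : P ⟶ Q)
  simpa using h

include adj hR in
theorem L_map_smul {P Q : C} (a : A) (f : P ⟶ Q) : L.map (a • f) = a • L.map f := by
  apply (adj.homEquiv _ _).injective
  rw [adj.homEquiv_unit, adj.homEquiv_unit, hR, Linear.comp_smul, adj.unit_naturality,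
    adj.unit_naturality, Linear.smul_comp]

include adj hR in
theorem L_map_zero {P Q : C} : L.map (0 : P ⟶ Q) = 0 := by
  have h := L_map_smul adj hR (0 : A) (0 : P ⟶ Q)
  simpa using h

include adj hR in
theorem killedBy_L (J : Ideal A) {Q : C} (hQ : ARSys.KilledBy J Q) :
    ARSys.KilledBy J (L.obj Q) := by
  intro a ha
  have h := hQ a ha
  rw [← L.map_id, ← L_map_smul adj hR, h, L_map_zero adj hR]

include adj hR in
theorem isQuot_L (J : Ideal A) {F Q : C} (p : F ⟶ Q) (hp : ARSys.IsQuot J p) :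
    ARSys.IsQuot J (L.map p) := by
  refine ⟨killedBy_L adj hR J hp.1, ?_⟩
  intro Y φ hφ
  have hφ' : ARSys.HomKilledBy J (adj.homEquiv F Y φ) := by
    intro a ha
    rw [adj.homEquiv_unit, ← Linear.comp_smul, ← hR, hφ a ha, R_map_zero hR, comp_zero]
  obtain ⟨ψ', hψ', huniq⟩ := hp.2 (R.obj Y) (adj.homEquiv F Y φ) hφ'
  refine ⟨(adj.homEquiv Q Y).symm ψ', ?_, ?_⟩
  · show L.map p ≫ (adj.homEquiv Q Y).symm ψ' = φ
    rw [← adj.homEquiv_naturality_left_symm, hψ', Equiv.symm_apply_apply]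
  · intro ψ₂ hψ₂
    have h2 : p ≫ adj.homEquiv Q Y ψ₂ = adj.homEquiv F Y φ := by
      rw [← adj.homEquiv_naturality_left, hψ₂]
    have h3 := huniq _ h2
    rw [← h3, Equiv.symm_apply_apply]

end general

variable (Λ : Type (u + 1)) [CommRing Λ] {X : Scheme.{u}}

/-- (B) -/
theorem isAdic_epsPullMod (I : Ideal Λ) [ProEtS.EpsCont X] (G : ARSys.PS (EtModW.Mod Λ X))
    (hG : ARSys.IsAdic I G) : ARSys.IsAdic I (G ⋙ EtModW.epsPullMod Λ X) := by
  let adj := (ProEtS.eps X).sheafAdjunctionContinuous (ModuleCat.{u + 1} Λ)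
    X.smallEtaleTopology (Scheme.ProEt.topology X)
  have hR : ∀ {P Q : EtModW.ModP Λ X} (a : Λ) (f : P ⟶ Q),
      ((ProEtS.eps X).sheafPushforwardContinuous (ModuleCat.{u + 1} Λ)
        X.smallEtaleTopology (Scheme.ProEt.topology X)).map (a • f) =
      a • ((ProEtS.eps X).sheafPushforwardContinuous (ModuleCat.{u + 1} Λ)
        X.smallEtaleTopology (Scheme.ProEt.topology X)).map f := by
    intro P Q a f
    rfl
  refine ⟨?_, ?_⟩
  · intro n
    exact killedBy_L adj hR _ (hG.1 n)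
  · intro n m h
    exact isQuot_L adj hR _ _ (hG.2 n m h)

end Groth.Agent.H38.Adic_B
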