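import Mathlib
import Groth.Prelude.Def_EtModW

/-!
# Strata adapted to a predicate on `Y`-schemes (interface for the strata-pullback lemma)
-/

set_option autoImplicit false
universe u
open CategoryTheory CategoryTheory.Limits AlgebraicGeometry Opposite

namespace Groth.Agent.H38.CMDefs

/-- A finite partition of `S ⊆ Y` into immersed strata, constructible in `S`, each satisfying the
predicate `P` (a predicate on `Y`-schemes). -/
def AdaptedP {Y : Scheme.{u}} (P : ∀ {T : Scheme.{u}}, (T ⟶ Y) → Prop) (S : Set Y) : Prop :=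
  ∃ (n : ℕ) (T : Fin n → Scheme.{u}) (g : ∀ i, T i ⟶ Y),
    (∀ i, IsImmersion (g i)) ∧
    (∀ i, Topology.IsConstructible ((Subtype.val : S → Y) ⁻¹' Set.range (g i))) ∧
    Pairwise (fun i j => Disjoint (Set.range (g i)) (Set.range (g j))) ∧
    (⋃ i, Set.range (g i)) = S ∧ ∀ i, P (g i)

end Groth.Agent.H38.CMDefs
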