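import Mathlib.Topology.Spectral.Basic
import Mathlib.Topology.Spectral.ConstructibleTopology
import Mathlib.Topology.Separation.Hausdorff
import Mathlib.Topology.Inseparable
import Mathlib.Topology.Constructible
import Mathlib.Topology.Connected.Separation
import Mathlib.Topology.Connected.TotallyDisconnected

/-!
# Helper lemmas on spectral spaces and their constructible topology (helper38)
-/

set_option autoImplicit false
universe u

namespace Groth.Agent.H38

open Topology TopologicalSpace

variable {X : Type*} [tX : TopologicalSpace X]

/-- In a prespectral space every open set is open for the constructible topology. -/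
theorem isOpen_constr_of_isOpen [PrespectralSpace X] {U : Set X} (hU : IsOpen U) :
    IsOpen[constructibleTopology X] U := by
  obtain ⟨S, hS, rfl⟩ := PrespectralSpace.isTopologicalBasis.open_eq_sUnion hU
  exact @isOpen_sUnion _ (constructibleTopology X) _ fun s hs =>
    (hS hs).2.isOpen_constructibleTopology_of_isOpen (hS hs).1

theorem constr_le [PrespectralSpace X] : constructibleTopology X ≤ tX :=
  fun _ hU => isOpen_constr_of_isOpen hU

theorem isClosed_constr_of_isClosed [PrespectralSpace X] {Z : Set X} (hZ : IsClosed Z) :
    IsClosed[constructibleTopology X] Z := by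
  rw [← @isOpen_compl_iff _ _ (constructibleTopology X)]
  exact isOpen_constr_of_isOpen hZ.isOpen_compl

/-- A compact open is closed for the constructible topology. -/
theorem isClosed_constr_of_isCompact_isOpen {U : Set X} (hU : IsOpen U) (hc : IsCompact U) :
    IsClosed[constructibleTopology X] U := by
  rw [← @isOpen_compl_iff _ _ (constructibleTopology X)]
  exact IsCompact.isOpen_constructibleTopology_of_isClosed (by simpa using hc)
    (by simpa using hU)

theorem isClopen_constr_of_isCompact_isOpen {U : Set X} (hU : IsOpen U) (hc : IsCompact U) :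
    @IsClopen X (constructibleTopology X) U :=
  ⟨isClosed_constr_of_isCompact_isOpen hU hc, hc.isOpen_constructibleTopology_of_isOpen hU⟩

/-- The identity is continuous from the constructible topology to the original one. -/
theorem continuous_id_constr [PrespectralSpace X] :
    Continuous[constructibleTopology X, tX] (id : X → X) :=
  continuous_id_iff_le.mpr constr_le

/-- Compactness of the constructible topology, on `X` itself. -/
theorem compactSpace_constr [CompactSpace X] [QuasiSober X] [PrespectralSpace X]
    [QuasiSeparatedSpace X] : @CompactSpace X (constructibleTopology X) :=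
  @Function.Surjective.compactSpace (WithConstructibleTopology X) X _ (constructibleTopology X)
    WithTopology.ofTopology (WithTopology.continuous_ofTopology _) _
    (WithTopology.ofTopology_surjective _)

/-- The constructible topology of a T0 prespectral space is Hausdorff. -/
theorem t2Space_constr [T0Space X] [PrespectralSpace X] : @T2Space X (constructibleTopology X) := by
  refine @T2Space.mk X (constructibleTopology X) fun x y hxy => ?_
  obtain ⟨U, hU, hxor⟩ := exists_isOpen_xor_mem hxy
  rcases hxor with ⟨hx, hy⟩ | ⟨hy, hx⟩
  · obtain ⟨V, ⟨hVo, hVc⟩, hxV, hVU⟩ :=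
      PrespectralSpace.isTopologicalBasis.exists_subset_of_mem_open hx hU
    exact ⟨V, Vᶜ, hVc.isOpen_constructibleTopology_of_isOpen hVo,
      (@isOpen_compl_iff _ _ (constructibleTopology X)).mpr
        (isClosed_constr_of_isCompact_isOpen hVo hVc),
      hxV, fun h => hy (hVU h), disjoint_compl_right⟩
  · obtain ⟨V, ⟨hVo, hVc⟩, hyV, hVU⟩ :=
      PrespectralSpace.isTopologicalBasis.exists_subset_of_mem_open hy hU
    exact ⟨Vᶜ, V, (@isOpen_compl_iff _ _ (constructibleTopology X)).mpr
        (isClosed_constr_of_isCompact_isOpen hVo hVc),
      hVc.isOpen_constructibleTopology_of_isOpen hVo,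
      fun h => hx (hVU h), hyV, disjoint_compl_left⟩

/-- A set closed for the constructible topology is compact for the constructible topology. -/
theorem isCompact_constr_of_isClosed_constr [CompactSpace X] [QuasiSober X] [PrespectralSpace X]
    [QuasiSeparatedSpace X] {E : Set X} (hE : IsClosed[constructibleTopology X] E) :
    @IsCompact X (constructibleTopology X) E :=
  @IsClosed.isCompact X (constructibleTopology X) E compactSpace_constr hE

/-- A set closed for the constructible topology is compact. -/
theorem isCompact_of_isClosed_constr [CompactSpace X] [QuasiSober X] [PrespectralSpace X]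
    [QuasiSeparatedSpace X] {E : Set X} (hE : IsClosed[constructibleTopology X] E) :
    IsCompact E := by
  have h := @IsCompact.image X X (constructibleTopology X) tX E id
    (isCompact_constr_of_isClosed_constr hE) continuous_id_constr
  simpa using h

/-- In a T0 prespectral space, two distinct points are separated by a set that is clopen for the
constructible topology. -/
theorem exists_isClopen_constr_of_ne [T0Space X] [PrespectralSpace X] {x y : X} (hxy : x ≠ y) :
    ∃ U : Set X, @IsClopen X (constructibleTopology X) U ∧ x ∈ U ∧ y ∈ Uᶜ := by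
  obtain ⟨U, hU, hxor⟩ := exists_isOpen_xor_mem hxy
  rcases hxor with ⟨hx, hy⟩ | ⟨hy, hx⟩
  · obtain ⟨V, ⟨hVo, hVc⟩, hxV, hVU⟩ :=
      PrespectralSpace.isTopologicalBasis.exists_subset_of_mem_open hx hU
    exact ⟨V, isClopen_constr_of_isCompact_isOpen hVo hVc, hxV, fun h => hy (hVU h)⟩
  · obtain ⟨V, ⟨hVo, hVc⟩, hyV, hVU⟩ :=
      PrespectralSpace.isTopologicalBasis.exists_subset_of_mem_open hy hU
    exact ⟨Vᶜ, (@IsClopen.compl X (constructibleTopology X) _
      (isClopen_constr_of_isCompact_isOpen hVo hVc)), fun h => hx (hVU h), by simpa using hyV⟩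

theorem totallySeparatedSpace_withConstr [T0Space X] [PrespectralSpace X] :
    TotallySeparatedSpace (WithConstructibleTopology X) := by
  rw [totallySeparatedSpace_iff_exists_isClopen]
  intro x y hxy
  have hne : WithTopology.ofTopology x ≠ WithTopology.ofTopology y :=
    fun h => hxy (WithTopology.ofTopology_injective _ h)
  obtain ⟨U, hU, hxU, hyU⟩ := exists_isClopen_constr_of_ne hne
  refine ⟨WithTopology.ofTopology ⁻¹' U, ?_, hxU, hyU⟩
  exact ⟨@IsClosed.preimage _ _ _ (constructibleTopology X) _
      (WithTopology.continuous_ofTopology _) U hU.1,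
    @IsOpen.preimage _ _ _ (constructibleTopology X) _
      (WithTopology.continuous_ofTopology _) U hU.2⟩

/-- A spectral map is continuous for the constructible topologies. -/
theorem continuous_constr_of_isSpectralMap {Y : Type*} [TopologicalSpace Y] {f : X → Y}
    (hf : IsSpectralMap f) :
    Continuous[constructibleTopology X, constructibleTopology Y] f := by
  refine continuous_generateFrom_iff.mpr ?_
  rintro s (⟨hso, hsc⟩ | ⟨hsc, hscc⟩)
  · exact (hf.isCompact_preimage_of_isOpen hso hsc).isOpen_constructibleTopology_of_isOpen
      (hso.preimage hf.continuous)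
  · refine IsCompact.isOpen_constructibleTopology_of_isClosed ?_ (hsc.preimage hf.continuous)
    rw [← Set.preimage_compl]
    exact hf.isCompact_preimage_of_isOpen hsc.isOpen_compl hscc

/-- Finite intersection property for constructibly closed sets in a spectral space. -/
theorem nonempty_iInter_of_isClosed_constr [CompactSpace X] [QuasiSober X] [PrespectralSpace X]
    [QuasiSeparatedSpace X] {ι : Type*} (t : ι → Set X)
    (ht : ∀ i, IsClosed[constructibleTopology X] (t i))
    (hfin : ∀ u : Finset ι, (⋂ i ∈ u, t i).Nonempty) : (⋂ i, t i).Nonempty := by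
  have := @IsCompact.inter_iInter_nonempty X (constructibleTopology X) Set.univ ι
    (@isCompact_univ X (constructibleTopology X) compactSpace_constr) t ht
    (fun u => by simpa using hfin u)
  simpa using this

/-- In a spectral space, every point of the closure of a constructibly closed set `E` is a
specialization of a point of `E`. -/
theorem exists_specializes_of_mem_closure [CompactSpace X] [QuasiSober X] [PrespectralSpace X]
    [QuasiSeparatedSpace X] {E : Set X} (hE : IsClosed[constructibleTopology X] E) {x : X}
    (hx : x ∈ closure E) : ∃ e ∈ E, e ⤳ x := by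
  classical
  let ι := Option {U : Set X // IsOpen U ∧ IsCompact U ∧ x ∈ U}
  let t : ι → Set X := fun i => match i with
    | none => E
    | some U => U.1
  have ht : ∀ i, IsClosed[constructibleTopology X] (t i) := by
    rintro (_ | U)
    · exact hE
    · exact isClosed_constr_of_isCompact_isOpen U.2.1 U.2.2.1
  have hfin : ∀ u : Finset ι, (⋂ i ∈ u, t i).Nonempty := by
    intro u
    -- the intersection of the opens in `u` is an open nhd of `x`, hence meets `E`
    have hopen : IsOpen (⋂ i ∈ u.eraseNone, (i : Set X)) :=
      isOpen_biInter_finset fun i _ => i.2.1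
    have hxmem : x ∈ ⋂ i ∈ u.eraseNone, (i : Set X) := by
      simp only [Set.mem_iInter]
      exact fun i _ => i.2.2.2
    obtain ⟨e, he1, he2⟩ := mem_closure_iff.mp hx _ hopen hxmem
    refine ⟨e, ?_⟩
    simp only [Set.mem_iInter] at he1 ⊢
    rintro (_ | U) hU
    · exact he2
    · exact he1 U (by simpa using hU)
  obtain ⟨e, he⟩ := nonempty_iInter_of_isClosed_constr t ht hfin
  simp only [Set.mem_iInter] at he
  refine ⟨e, he none, ?_⟩
  rw [specializes_iff_forall_open]
  intro s hs hxs
  obtain ⟨V, ⟨hVo, hVc⟩, hxV, hVs⟩ :=
    PrespectralSpace.isTopologicalBasis.exists_subset_of_mem_open hxs hs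
  exact hVs (he (some ⟨V, hVo, hVc, hxV⟩))

/-- A constructibly closed set stable under specialization is closed. -/
theorem isClosed_of_isClosed_constr_of_stableUnderSpecialization [CompactSpace X] [QuasiSober X]
    [PrespectralSpace X] [QuasiSeparatedSpace X] {E : Set X}
    (hE : IsClosed[constructibleTopology X] E) (hs : StableUnderSpecialization E) :
    IsClosed E := by
  rw [← closure_subset_iff_isClosed]
  intro x hx
  obtain ⟨e, he, hex⟩ := exists_specializes_of_mem_closure hE hx
  exact hs hex he

/-- A constructibly open set stable under generalization is open. -/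
theorem isOpen_of_isOpen_constr_of_stableUnderGeneralization [CompactSpace X] [QuasiSober X]
    [PrespectralSpace X] [QuasiSeparatedSpace X] {E : Set X}
    (hE : IsOpen[constructibleTopology X] E) (hs : StableUnderGeneralization E) :
    IsOpen E := by
  rw [← isClosed_compl_iff]
  exact isClosed_of_isClosed_constr_of_stableUnderSpecialization
    ((@isClosed_compl_iff _ (constructibleTopology X) _).mpr hE) hs.compl

/-- The image of a constructibly closed set under a spectral map is constructibly closed. -/
theorem isClosed_constr_image {Y : Type*} [TopologicalSpace Y] [CompactSpace X] [QuasiSober X]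
    [PrespectralSpace X] [QuasiSeparatedSpace X] [T0Space Y] [PrespectralSpace Y] {f : X → Y}
    (hf : IsSpectralMap f) {E : Set X} (hE : IsClosed[constructibleTopology X] E) :
    IsClosed[constructibleTopology Y] (f '' E) := by
  have h2 : @IsCompact Y (constructibleTopology Y) (f '' E) :=
    @IsCompact.image X Y (constructibleTopology X) (constructibleTopology Y) _ f
      (isCompact_constr_of_isClosed_constr hE) (continuous_constr_of_isSpectralMap hf)
  exact @IsCompact.isClosed Y (constructibleTopology Y) t2Space_constr _ h2

section subspace

variable [CompactSpace X] [QuasiSober X] [PrespectralSpace X] [QuasiSeparatedSpace X]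

/-- The trace on a constructibly closed `E` of a compact open of `X` is compact in `E`. -/
theorem isCompact_preimage_val_of_isClosed_constr {E : Set X}
    (hE : IsClosed[constructibleTopology X] E) {U : Set X} (hU : IsOpen U) (hc : IsCompact U) :
    IsCompact ((Subtype.val : E → X) ⁻¹' U) := by
  rw [Subtype.isCompact_iff, Subtype.image_preimage_coe]
  apply isCompact_of_isClosed_constr
  exact @IsClosed.inter X _ _ (constructibleTopology X) hE
    (isClosed_constr_of_isCompact_isOpen hU hc)

theorem isSpectralMap_val_of_isClosed_constr {E : Set X}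
    (hE : IsClosed[constructibleTopology X] E) : IsSpectralMap (Subtype.val : E → X) :=
  ⟨continuous_subtype_val, fun _ hU hc => isCompact_preimage_val_of_isClosed_constr hE hU hc⟩

theorem prespectralSpace_of_isClosed_constr {E : Set X}
    (hE : IsClosed[constructibleTopology X] E) : PrespectralSpace E :=
  PrespectralSpace.of_isInducing _ IsInducing.subtypeVal (isSpectralMap_val_of_isClosed_constr hE)

theorem quasiSeparatedSpace_of_isClosed_constr {E : Set X}
    (hE : IsClosed[constructibleTopology X] E) : QuasiSeparatedSpace E := by
  let b : {U : Set X // IsOpen U ∧ IsCompact U} → Set E := fun U => Subtype.val ⁻¹' U.1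
  have hb : IsTopologicalBasis (Set.range b) := by
    convert (PrespectralSpace.isTopologicalBasis (X := X)).isInducing
      (IsInducing.subtypeVal (t := E)) using 1
    ext s
    simp only [Set.mem_range, Set.mem_image, Subtype.exists, b]
    constructor
    · rintro ⟨U, hU, rfl⟩
      exact ⟨U, hU, rfl⟩
    · rintro ⟨U, hU, rfl⟩
      exact ⟨U, hU, rfl⟩
  refine QuasiSeparatedSpace.of_isTopologicalBasis hb fun U V => ?_
  have : b U ∩ b V = Subtype.val ⁻¹' (U.1 ∩ V.1) := by
    simp only [b, Set.preimage_inter]
  rw [this]
  exact isCompact_preimage_val_of_isClosed_constr hE (U.2.1.inter V.2.1)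
    (QuasiSeparatedSpace.inter_isCompact _ _ U.2.1 U.2.2 V.2.1 V.2.2)

theorem quasiSober_of_isClosed_constr [T0Space X] {E : Set X}
    (hE : IsClosed[constructibleTopology X] E) : QuasiSober E := by
  refine ⟨fun {S} hS hSc => ?_⟩
  -- `Z'` is the closure in `X` of the image of `S`
  have hZirr : IsIrreducible (Subtype.val '' S : Set X) :=
    hS.image _ continuous_subtype_val.continuousOn
  have hS_eq : S = Subtype.val ⁻¹' closure (Subtype.val '' S : Set X) := by
    have := (IsInducing.subtypeVal (t := E)).closure_eq_preimage_closure_image S
    rw [hSc.closure_eq] at this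
    exact this
  have hξ := hZirr.closure.isGenericPoint_genericPoint isClosed_closure
  set ξ := hZirr.closure.genericPoint with hξdef
  have hZcl : IsClosed[constructibleTopology X] (Subtype.val '' S : Set X) := by
    have : (Subtype.val '' S : Set X) = E ∩ closure (Subtype.val '' S : Set X) := by
      conv_lhs => rw [hS_eq]
      rw [Subtype.image_preimage_coe]
    rw [this]
    exact @IsClosed.inter X _ _ (constructibleTopology X) hE
      (isClosed_constr_of_isClosed isClosed_closure)
  obtain ⟨e, he, heξ⟩ := exists_specializes_of_mem_closure hZcl hξ.mem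
  have hξe : ξ ⤳ e := hξ.specializes (subset_closure he)
  have hee : e = ξ := (heξ.antisymm hξe).eq
  obtain ⟨s, hsS, hse⟩ := he
  refine ⟨s, ?_⟩
  rw [isGenericPoint_def]
  have h1 := (IsInducing.subtypeVal (t := E)).closure_eq_preimage_closure_image {s}
  rw [h1, Set.image_singleton, hse, hee, hξ.def]
  exact hS_eq.symm

/-- A constructibly closed subset of a spectral space is spectral. -/
theorem spectralSpace_of_isClosed_constr [T0Space X] {E : Set X}
    (hE : IsClosed[constructibleTopology X] E) : SpectralSpace E :=
  { toT0Space := inferInstance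
    toCompactSpace := isCompact_iff_compactSpace.mp (isCompact_of_isClosed_constr hE)
    toQuasiSober := quasiSober_of_isClosed_constr hE
    toQuasiSeparatedSpace := quasiSeparatedSpace_of_isClosed_constr hE
    toPrespectralSpace := prespectralSpace_of_isClosed_constr hE }

end subspace

/-- In a compact space, constructible sets are clopen for the constructible topology. -/
theorem isClopen_constr_of_isConstructible [CompactSpace X] {s : Set X}
    (hs : IsConstructible s) : @IsClopen X (constructibleTopology X) s := by
  induction hs using IsConstructible.empty_union_induction with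
  | open_retrocompact U hUopen hUcomp =>
    exact isClopen_constr_of_isCompact_isOpen hUopen hUcomp.isCompact
  | union s hs t ht hs' ht' => exact @IsClopen.union _ (constructibleTopology X) _ _ hs' ht'
  | compl s hs hs' => exact @IsClopen.compl _ (constructibleTopology X) _ hs'

/-- The generalization hull of a compact set is the intersection of the compact opens
containing it. -/
theorem setOf_exists_specializes_eq_sInter [PrespectralSpace X] {E : Set X} (hE : IsCompact E) :
    {x | ∃ e ∈ E, x ⤳ e} = ⋂₀ {U | IsOpen U ∧ IsCompact U ∧ E ⊆ U} := by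
  ext x
  simp only [Set.mem_ofPred_eq, Set.mem_sInter, and_imp]
  constructor
  · rintro ⟨e, he, hxe⟩ U hU _ hEU
    exact hxe.mem_open hU (hEU he)
  · intro h
    by_contra hcon
    push Not at hcon
    -- each `e ∈ E` has a compact open nhd missing `x`
    have hcov : ∀ e ∈ E, ∃ U : Set X, IsOpen U ∧ IsCompact U ∧ e ∈ U ∧ x ∉ U := by
      intro e he
      have := hcon e he
      rw [specializes_iff_forall_open] at this
      push Not at this
      obtain ⟨s, hs, hes, hxs⟩ := this
      obtain ⟨V, ⟨hVo, hVc⟩, heV, hVs⟩ :=
        PrespectralSpace.isTopologicalBasis.exists_subset_of_mem_open hes hs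
      exact ⟨V, hVo, hVc, heV, fun hx => hxs (hVs hx)⟩
    choose! U hUo hUc heU hxU using hcov
    obtain ⟨t, ht, htfin, hEt⟩ := hE.elim_finite_subcover_image (b := E) (c := U)
      (fun e he => hUo e he) (fun e he => Set.mem_biUnion he (heU e he))
    have hx := h (⋃ i ∈ t, U i) (isOpen_biUnion fun i hi => hUo i (ht hi))
      (htfin.isCompact_biUnion fun i hi => hUc i (ht hi)) hEt
    simp only [Set.mem_iUnion, exists_prop] at hx
    obtain ⟨i, hi, hxi⟩ := hx
    exact hxU i (ht hi) hxi

/-- The generalization hull of a compact set is constructibly closed. -/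
theorem isClosed_constr_setOf_exists_specializes [PrespectralSpace X] {E : Set X}
    (hE : IsCompact E) : IsClosed[constructibleTopology X] {x | ∃ e ∈ E, x ⤳ e} := by
  rw [setOf_exists_specializes_eq_sInter hE]
  exact @isClosed_sInter X (constructibleTopology X) _ fun U hU =>
    isClosed_constr_of_isCompact_isOpen hU.1 hU.2.1

/-- Preimages of constructible sets under spectral maps are constructible. -/
theorem isConstructible_preimage_of_isSpectralMap {Y : Type*} [TopologicalSpace Y]
    [QuasiSeparatedSpace X] [CompactSpace Y] {f : X → Y} (hf : IsSpectralMap f) {s : Set Y}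
    (hs : IsConstructible s) : IsConstructible (f ⁻¹' s) :=
  hs.preimage hf.continuous fun _ hso hsr =>
    (hf.isCompact_preimage_of_isOpen hso hsr.isCompact).isRetrocompact (hso.preimage hf.continuous)

section prod

variable {Y : Type*} [TopologicalSpace Y]

/-- The product of two quasi-sober spaces is quasi-sober. -/
theorem quasiSober_prod [QuasiSober X] [QuasiSober Y] : QuasiSober (X × Y) := by
  refine ⟨fun {S} hS hSc => ?_⟩
  have hA : IsIrreducible (Prod.fst '' S) := hS.image _ continuous_fst.continuousOn
  have hB : IsIrreducible (Prod.snd '' S) := hS.image _ continuous_snd.continuousOn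
  have hx := hA.closure.isGenericPoint_genericPoint isClosed_closure
  have hy := hB.closure.isGenericPoint_genericPoint isClosed_closure
  set x := hA.closure.genericPoint
  set y := hB.closure.genericPoint
  have hmem : (x, y) ∈ S := by
    by_contra hcon
    obtain ⟨U, V, hU, hV, hxU, hyV, hUV⟩ := isOpen_prod_iff.mp hSc.isOpen_compl x y hcon
    obtain ⟨_, hs1, ⟨s, hs, rfl⟩⟩ := mem_closure_iff.mp hx.mem U hU hxU
    obtain ⟨_, hs2, ⟨s', hs', rfl⟩⟩ := mem_closure_iff.mp hy.mem V hV hyV
    obtain ⟨z, hzS, hz1, hz2⟩ := hS.2 (Prod.fst ⁻¹' U) (Prod.snd ⁻¹' V)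
      (hU.preimage continuous_fst) (hV.preimage continuous_snd) ⟨s, hs, hs1⟩ ⟨s', hs', hs2⟩
    exact hUV (Set.mk_mem_prod hz1 hz2) hzS
  refine ⟨(x, y), ?_⟩
  rw [isGenericPoint_def]
  apply Set.Subset.antisymm
  · exact closure_minimal (Set.singleton_subset_iff.mpr hmem) hSc
  · rw [← Set.singleton_prod_singleton, closure_prod_eq, hx.def, hy.def]
    intro s hs
    exact Set.mk_mem_prod (subset_closure ⟨s, hs, rfl⟩) (subset_closure ⟨s, hs, rfl⟩)

theorem isTopologicalBasis_prod_compactOpens [PrespectralSpace X] [PrespectralSpace Y] :
    IsTopologicalBasis (Set.range fun p : {U : Set X // IsOpen U ∧ IsCompact U} ×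
      {V : Set Y // IsOpen V ∧ IsCompact V} => (p.1.1 ×ˢ p.2.1 : Set (X × Y))) := by
  convert (PrespectralSpace.isTopologicalBasis (X := X)).prod
    (PrespectralSpace.isTopologicalBasis (X := Y)) using 1
  ext s
  simp only [Set.mem_range, Prod.exists, Subtype.exists, Set.mem_image2]
  constructor
  · rintro ⟨U, hU, V, hV, rfl⟩
    exact ⟨U, hU, V, hV, rfl⟩
  · rintro ⟨U, hU, V, hV, rfl⟩
    exact ⟨U, hU, V, hV, rfl⟩

theorem prespectralSpace_prod [PrespectralSpace X] [PrespectralSpace Y] :
    PrespectralSpace (X × Y) :=
  PrespectralSpace.of_isTopologicalBasis' isTopologicalBasis_prod_compactOpens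
    fun p => p.1.2.2.prod p.2.2.2

theorem quasiSeparatedSpace_prod [PrespectralSpace X] [PrespectralSpace Y]
    [QuasiSeparatedSpace X] [QuasiSeparatedSpace Y] : QuasiSeparatedSpace (X × Y) := by
  refine QuasiSeparatedSpace.of_isTopologicalBasis isTopologicalBasis_prod_compactOpens
    fun p q => ?_
  rw [Set.prod_inter_prod]
  exact (QuasiSeparatedSpace.inter_isCompact _ _ p.1.2.1 p.1.2.2 q.1.2.1 q.1.2.2).prod
    (QuasiSeparatedSpace.inter_isCompact _ _ p.2.2.1 p.2.2.2 q.2.2.1 q.2.2.2)

/-- The product of two spectral spaces is spectral. -/
theorem spectralSpace_prod [SpectralSpace X] [SpectralSpace Y] : SpectralSpace (X × Y) :=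
  { toT0Space := inferInstance
    toCompactSpace := inferInstance
    toQuasiSober := quasiSober_prod
    toQuasiSeparatedSpace := quasiSeparatedSpace_prod
    toPrespectralSpace := prespectralSpace_prod }

end prod

end Groth.Agent.H38
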