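import Mathlib

set_option autoImplicit false
universe u

namespace Groth.Agent.H38

open Topology Set TopologicalSpace

/-- Dependent choice in the form we need. -/
theorem exists_seq_of_step {X : Type u} (P : ℕ → X → Prop) (R : X → X → Prop)
    (h0 : ∃ x, P 0 x) (hstep : ∀ k x, P k x → ∃ x', P (k + 1) x' ∧ R x x') :
    ∃ x : ℕ → X, (∀ k, P k (x k)) ∧ ∀ k, R (x k) (x (k + 1)) := by
  classical
  let s : (k : ℕ) → {x // P k x} := fun k => Nat.rec (motive := fun k => {x // P k x})
    ⟨h0.choose, h0.choose_spec⟩
    (fun k sk => ⟨(hstep k sk.1 sk.2).choose, (hstep k sk.1 sk.2).choose_spec.1⟩) k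
  refine ⟨fun k => (s k).1, fun k => (s k).2, fun k => ?_⟩
  exact (hstep k (s k).1 (s k).2).choose_spec.2

theorem exists_ltSeries_of_points {X Y : Type u} [TopologicalSpace X] [TopologicalSpace Y]
    (f : X → Y) (hf : Continuous f) (p : LTSeries (IrreducibleCloseds Y))
    (x : Fin (p.length + 1) → X) (hx : ∀ i, closure {f (x i)} = (p i : Set Y))
    (hspec : ∀ i : Fin p.length, x i.succ ⤳ x i.castSucc) :
    ∃ q : LTSeries (IrreducibleCloseds X), q.length = p.length := by
  let W : Fin (p.length + 1) → IrreducibleCloseds X := fun i =>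
    ⟨closure {x i}, isIrreducible_singleton.closure, isClosed_closure⟩
  have hW : StrictMono W := by
    rw [Fin.strictMono_iff_lt_succ]
    intro i
    rw [lt_iff_le_not_ge]
    constructor
    · show closure {x i.castSucc} ⊆ closure {x i.succ}
      exact specializes_iff_closure_subset.mp (hspec i)
    · intro hle
      have hle' : closure {x i.succ} ⊆ closure {x i.castSucc} := hle
      have h1 : x i.castSucc ⤳ x i.succ := specializes_iff_closure_subset.mpr hle'
      have h2 : f (x i.castSucc) ⤳ f (x i.succ) := h1.map hf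
      have h3 : closure {f (x i.succ)} ⊆ closure {f (x i.castSucc)} :=
        specializes_iff_closure_subset.mp h2
      rw [hx, hx] at h3
      have h4 : p i.succ ≤ p i.castSucc := h3
      exact not_lt_of_ge h4 (p.step i)
  exact ⟨LTSeries.mk p.length W hW, rfl⟩

theorem topologicalKrullDim_le_of_surjective {X Y : Type u}
    [TopologicalSpace X] [TopologicalSpace Y] [QuasiSober Y]
    (f : X → Y) (hf : Continuous f) (hsurj : Function.Surjective f)
    (hlift : SpecializingMap f ∨ GeneralizingMap f) :
    topologicalKrullDim Y ≤ topologicalKrullDim X := by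
  unfold topologicalKrullDim
  rw [Order.krullDim]
  apply iSup_le
  intro p
  suffices h : ∃ q : LTSeries (IrreducibleCloseds X), q.length = p.length by
    obtain ⟨q, hq⟩ := h
    rw [← hq]
    exact Order.LTSeries.length_le_krullDim q
  set n := p.length with hn
  let gp : Fin (n + 1) → Y := fun i => (p i).isIrreducible.genericPoint
  have hgp : ∀ i, closure {gp i} = (p i : Set Y) := fun i =>
    (p i).isIrreducible.isGenericPoint_genericPoint (p i).isClosed
  rcases hlift with hs | hg
  · -- specializations lift: start from the top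
    let y : ℕ → Y := fun k => gp ⟨n - k, Nat.lt_succ_of_le (Nat.sub_le n k)⟩
    have hy : ∀ k, y k ⤳ y (k + 1) := by
      intro k
      rw [specializes_iff_closure_subset]
      show closure {gp _} ⊆ closure {gp _}
      rw [hgp, hgp]
      exact SetLike.coe_subset_coe.mpr
        (p.strictMono.monotone (Fin.mk_le_mk.mpr (Nat.sub_le_sub_left (Nat.le_succ k) n)))
    obtain ⟨x, hfx, hxR⟩ := exists_seq_of_step (fun k x => f x = y k) (fun x x' => x ⤳ x')
      (hsurj (y 0)) (by
        intro k x hk
        have h1 : f x ⤳ y (k + 1) := hk ▸ hy k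
        obtain ⟨x', h2, h3⟩ := hs h1
        exact ⟨x', h3, h2⟩)
    refine exists_ltSeries_of_points f hf p (fun i => x (n - i.1)) ?_ ?_
    · intro i
      show closure {f (x (n - i.1))} = _
      rw [hfx]
      show closure {gp _} = _
      rw [hgp]
      congr 2
      exact Fin.ext (Nat.sub_sub_self (Nat.lt_succ_iff.mp i.2))
    · intro i
      show x (n - (i.succ : ℕ)) ⤳ x (n - (i.castSucc : ℕ))
      rw [Fin.val_succ, Fin.val_castSucc]
      have h := hxR (n - (i.1 + 1))
      have e : n - (i.1 + 1) + 1 = n - i.1 := by have := i.2; omega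
      rwa [e] at h
  · -- generalizations lift: start from the bottom
    let y : ℕ → Y := fun k => gp ⟨min k n, Nat.lt_succ_of_le (Nat.min_le_right k n)⟩
    have hy : ∀ k, y (k + 1) ⤳ y k := by
      intro k
      rw [specializes_iff_closure_subset]
      show closure {gp _} ⊆ closure {gp _}
      rw [hgp, hgp]
      exact SetLike.coe_subset_coe.mpr
        (p.strictMono.monotone (Fin.mk_le_mk.mpr (min_le_min_right n (Nat.le_succ k))))
    obtain ⟨x, hfx, hxR⟩ := exists_seq_of_step (fun k x => f x = y k) (fun x x' => x' ⤳ x)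
      (hsurj (y 0)) (by
        intro k x hk
        have h1 : y (k + 1) ⤳ f x := hk ▸ hy k
        obtain ⟨x', h2, h3⟩ := hg h1
        exact ⟨x', h3, h2⟩)
    refine exists_ltSeries_of_points f hf p (fun i => x i.1) ?_ ?_
    · intro i
      show closure {f (x i.1)} = _
      rw [hfx]
      show closure {gp _} = _
      rw [hgp]
      congr 2
      exact Fin.ext (Nat.min_eq_left (Nat.lt_succ_iff.mp i.2))
    · intro i
      show x (i.succ : ℕ) ⤳ x (i.castSucc : ℕ)
      rw [Fin.val_succ, Fin.val_castSucc]
      exact hxR i.1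

end Groth.Agent.H38
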