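import Mathlib
import Groth.Agent.H38.DimLift

/-!
# Integral morphisms: incomparability and dimension
-/

set_option autoImplicit false
universe u
open CategoryTheory AlgebraicGeometry Topology TopologicalSpace

namespace Groth.Agent.H38.IntegralDim

/-- A continuous map without nontrivial specializations in its fibres does not raise dimension. -/
theorem topologicalKrullDim_le_of_incomparable {X Y : Type*} [TopologicalSpace X]
    [TopologicalSpace Y] [QuasiSober X] [T0Space Y] (f : X → Y) (hf : Continuous f)
    (hinc : ∀ x x' : X, x' ⤳ x → f x' = f x → x' = x) :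
    topologicalKrullDim X ≤ topologicalKrullDim Y := by
  unfold topologicalKrullDim
  refine Order.krullDim_le_of_strictMono (IrreducibleCloseds.map f hf) ?_
  intro Z Z' hlt
  refine lt_of_le_of_ne (IrreducibleCloseds.map_mono hf hlt.le) ?_
  intro heq
  obtain ⟨x, hx⟩ := QuasiSober.sober Z.isIrreducible Z.isClosed
  obtain ⟨x', hx'⟩ := QuasiSober.sober Z'.isIrreducible Z'.isClosed
  have hgen : ∀ (W : IrreducibleCloseds X) (w : X), IsGenericPoint w (W : Set X) →
      closure {f w} = (IrreducibleCloseds.map f hf W : Set Y) := by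
    intro W w hw
    rw [IrreducibleCloseds.coe_map, ← hw.def]
    apply subset_antisymm
    · refine closure_mono ?_
      rintro _ rfl
      exact ⟨w, subset_closure rfl, rfl⟩
    · refine closure_minimal ((image_closure_subset_closure_image hf).trans ?_) isClosed_closure
      rw [Set.image_singleton]
  have h1 : closure {f x} = closure {f x'} := by rw [hgen Z x hx, hgen Z' x' hx', heq]
  have h2 : f x' = f x := by
    have h5 : Inseparable (f x') (f x) := inseparable_iff_closure_eq.mpr h1.symm
    exact h5.eq
  have h3 : x' ⤳ x := hx'.specializes (hlt.le hx.mem)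
  have h4 := hinc x x' h3 h2
  have h6 : (Z : Set X) = Z' := by rw [← hx.def, ← hx'.def, h4]
  exact hlt.ne (IrreducibleCloseds.ext h6)

/-- All points of a scheme integral over the spectrum of a field are closed. -/
theorem isClosed_singleton_of_isIntegralHom_of_isField {R : CommRingCat.{u}} (hR : IsField R)
    {F : Scheme.{u}} (g : F ⟶ Spec R) [IsIntegralHom g] (z : F) : IsClosed ({z} : Set F) := by
  have inst : IsAffine F := isAffine_of_isAffineHom g
  have hint : IsIntegralHom (F.isoSpec.inv ≫ g) := inferInstance
  obtain ⟨φ, hφ⟩ := Spec.map_surjective (F.isoSpec.inv ≫ g)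
  rw [← hφ, IsIntegralHom.SpecMap_iff] at hint
  let p : PrimeSpectrum Γ(F, ⊤) := F.isoSpec.hom z
  have hmax : p.asIdeal.IsMaximal := by
    have hp : (p.asIdeal.comap φ.hom).IsPrime := Ideal.comap_isPrime _ _
    have hm : (p.asIdeal.comap φ.hom).IsMaximal := by
      letI := hR.toField
      rw [Ideal.eq_bot_of_prime (p.asIdeal.comap φ.hom)]
      exact Ideal.bot_isMaximal
    exact Ideal.isMaximal_of_isIntegral_of_isMaximal_comap' φ.hom hint _ hm
  have hcl : IsClosed ({p} : Set (PrimeSpectrum Γ(F, ⊤))) :=
    (PrimeSpectrum.isClosed_singleton_iff_isMaximal _).mpr hmax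
  have h2 : IsClosed (F.isoSpec.hom ⁻¹' ({p} : Set (PrimeSpectrum Γ(F, ⊤)))) :=
    hcl.preimage F.isoSpec.hom.continuous
  have heq : F.isoSpec.hom ⁻¹' ({p} : Set (PrimeSpectrum Γ(F, ⊤))) = {z} := by
    ext w
    simp only [Set.mem_preimage, Set.mem_singleton_iff]
    exact ⟨fun h => F.isoSpec.hom.isOpenEmbedding.injective h, fun h => h ▸ rfl⟩
  rwa [heq] at h2

/-- Incomparability for integral morphisms of schemes. -/
theorem eq_of_specializes_of_isIntegralHom {X Y : Scheme.{u}} (f : X ⟶ Y) [IsIntegralHom f]
    {x x' : X} (h : x' ⤳ x) (hf : f x' = f x) : x' = x := by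
  have : IsIntegralHom (f.fiberToSpecResidueField (f x)) :=
    MorphismProperty.pullback_snd _ _ inferInstance
  obtain ⟨z, hz⟩ : ∃ z, f.fiberι (f x) z = x := (f.range_fiberι (f x)).ge rfl
  obtain ⟨z', hz'⟩ : ∃ z', f.fiberι (f x) z' = x' := (f.range_fiberι (f x)).ge hf
  have hs : z' ⤳ z := by
    rw [← (f.fiberι (f x)).isEmbedding.isInducing.specializes_iff, hz, hz']
    exact h
  have hcl := isClosed_singleton_of_isIntegralHom_of_isField
    (Field.toIsField (Y.residueField (f x))) (f.fiberToSpecResidueField (f x)) z'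
  have hmem : z ∈ closure {z'} := hs.mem_closure
  rw [hcl.closure_eq] at hmem
  rw [← hz, ← hz', hmem]

theorem topologicalKrullDim_le_of_isIntegralHom {X Y : Scheme.{u}} (f : X ⟶ Y) [IsIntegralHom f] :
    topologicalKrullDim ↥X ≤ topologicalKrullDim ↥Y :=
  topologicalKrullDim_le_of_incomparable f f.continuous
    (fun _ _ h hf => eq_of_specializes_of_isIntegralHom f h hf)

theorem topologicalKrullDim_eq_of_isIntegralHom_of_surjective {X Y : Scheme.{u}} (f : X ⟶ Y)
    [IsIntegralHom f] [Surjective f] : topologicalKrullDim ↥X = topologicalKrullDim ↥Y :=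
  le_antisymm (topologicalKrullDim_le_of_isIntegralHom f)
    (Groth.Agent.H38.topologicalKrullDim_le_of_surjective f f.continuous f.surjective
      (Or.inl f.isClosedMap.specializingMap))

end Groth.Agent.H38.IntegralDim
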