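import Groth.Agent.S7592
import Groth.Agent.S1559
import Groth.Agent.S2150

/-!
# Connected schemes over a field with a "primary" field-valued point are geometrically connected

`geomConn_of_fieldPoint`: `f : X ⟶ Spec k`, `X` connected, `g : Spec K ⟶ X` a `K`-point over `k`
such that every element of `K` separable over `k` lies in `k`; then `f` is geometrically connected.
-/

set_option autoImplicit false
universe u
open CategoryTheory CategoryTheory.Limits AlgebraicGeometry TensorProduct

namespace Groth.Agent.H38.PrimaryConn

/-- The canonical map `Spec κ(x) ⟶ X ⟶ Spec k` is `Spec` of the canonical ring map `k → κ(x)`. -/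
theorem specMap_resMap {k : Type u} [Field k] {X : Scheme.{u}} (f : X ⟶ Spec (CommRingCat.of k))
    (x : X) :
    Spec.map ((Scheme.ΓSpecIso (CommRingCat.of k)).inv ≫ f.appTop ≫
        X.presheaf.germ ⊤ x trivial ≫ X.residue x) = X.fromSpecResidueField x ≫ f := by
  apply ext_of_isAffine
  rw [← cancel_mono (Scheme.ΓSpecIso _).hom, Scheme.ΓSpecIso_naturality]
  simp [Scheme.fromSpecResidueField, Scheme.fromSpecStalk_appTop, Scheme.ΓSpecIso_naturality]

/-- Lemma A'. -/
theorem geomConn_of_fieldPoint {k : Type u} [Field k] {X : Scheme.{u}}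
    (f : X ⟶ Spec (CommRingCat.of k)) [ConnectedSpace X]
    (K : Type u) [Field K] [Algebra k K] (g : Spec (CommRingCat.of K) ⟶ X)
    (hg : g ≫ f = Spec.map (CommRingCat.ofHom (algebraMap k K)))
    (hsep : ∀ α : K, IsSeparable k α → α ∈ Set.range (algebraMap k K)) :
    GeometricallyConnected f := by
  letI iX : X.Over (Spec (CommRingCat.of k)) := ⟨f⟩
  letI iT : (Spec (CommRingCat.of K)).Over (Spec (CommRingCat.of k)) :=
    ⟨Spec.map (CommRingCat.ofHom (algebraMap k K))⟩
  haveI : g.IsOver (Spec (CommRingCat.of k)) := ⟨hg⟩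
  have hirr : IrreducibleSpace (PrimeSpectrum (SeparableClosure k ⊗[k] K)) :=
    (Groth.Agent.S2150.result.mpr hsep) (SeparableClosure k)
  have hconn : ConnectedSpace (PrimeSpectrum (K ⊗[k] SeparableClosure k)) := by
    have e := PrimeSpectrum.homeomorphOfRingEquiv
      (Algebra.TensorProduct.comm k (SeparableClosure k) K).toRingEquiv
    haveI : ConnectedSpace (PrimeSpectrum (SeparableClosure k ⊗[k] K)) := inferInstance
    exact e.connectedSpace_iff.mp inferInstance
  haveI hT : ConnectedSpace ↥(Curv2.bc k (Spec (CommRingCat.of K)) (SeparableClosure k)) := by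
    refine (pullbackSpecIso k K (SeparableClosure k)).hom.homeomorph.connectedSpace_iff.mpr ?_
    exact hconn
  haveI : Algebra.IsIntegral k (SeparableClosure k) := inferInstance
  haveI hX : ConnectedSpace ↥(Curv2.bc k X (SeparableClosure k)) :=
    Groth.Agent.S7592.main k (SeparableClosure k) (Spec (CommRingCat.of K)) X g
  exact Groth.Agent.S1559.result k X

end Groth.Agent.H38.PrimaryConn
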