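import Mathlib.Topology.Category.TopCat.Limits.Cofiltered
import Mathlib.Topology.Category.TopCat.Limits.Konig
import Mathlib.CategoryTheory.Filtered.Final
import Mathlib.CategoryTheory.Limits.ConcreteCategory.Basic
import Groth.Agent.H38.Spectral

/-!
# Limits of spectral spaces along spectral maps (helper38)
-/

set_option autoImplicit false
universe u

namespace Groth.Agent.H38

open CategoryTheory CategoryTheory.Limits Topology TopologicalSpace

section basic

variable {J : Type u} [SmallCategory J] {F : J ⥤ TopCat.{u}} (c : Cone F)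

/-- The map from the cone point to the product of the spaces. -/
def coneProj (x : c.pt) : ∀ j, F.obj j := fun j => c.π.app j x

theorem cone_compat (x : c.pt) {i j : J} (f : i ⟶ j) :
    F.map f (c.π.app i x) = c.π.app j x := by
  rw [← c.w f]
  rfl

variable {c} (hc : IsLimit c)
include hc

theorem exists_of_compatible (u : ∀ j, F.obj j)
    (hu : ∀ {i j : J} (f : i ⟶ j), F.map f (u i) = u j) :
    ∃ x : c.pt, ∀ j, c.π.app j x = u j := by
  let e := hc.conePointUniqueUpToIso (TopCat.limitConeIsLimit.{u, u} F)
  refine ⟨e.inv ⟨u, hu⟩, fun j => ?_⟩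
  have := IsLimit.conePointUniqueUpToIso_inv_comp hc (TopCat.limitConeIsLimit.{u, u} F) j
  have h2 := congrArg (fun φ => φ.hom (⟨u, hu⟩ : (TopCat.limitCone.{u, u} F).pt)) this
  exact h2

theorem ext_of_proj (x y : c.pt) (h : ∀ j, c.π.app j x = c.π.app j y) : x = y :=
  Concrete.isLimit_ext F hc x y h

theorem isInducing_coneProj : IsInducing (coneProj c) := by
  constructor
  rw [TopCat.induced_of_isLimit c hc, Pi.topologicalSpace, induced_iInf]
  congr 1
  funext j
  rw [induced_compose]
  rfl

theorem isEmbedding_coneProj : IsEmbedding (coneProj c) :=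
  ⟨isInducing_coneProj hc, fun x y h => ext_of_proj hc x y fun j => congrFun h j⟩

theorem range_coneProj :
    Set.range (coneProj c) = {u | ∀ (i j : J) (f : i ⟶ j), F.map f (u i) = u j} := by
  ext u
  constructor
  · rintro ⟨x, rfl⟩ i j f
    exact cone_compat c x f
  · intro hu
    obtain ⟨x, hx⟩ := exists_of_compatible hc u (fun f => hu _ _ f)
    exact ⟨x, funext hx⟩

end basic

section compact

variable {J : Type u} [SmallCategory J] {F : J ⥤ TopCat.{u}}

/-- The limit of the constructible topologies on the cone point. -/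
@[instance_reducible]
def limConstr (c : Cone F) : TopologicalSpace c.pt :=
  ⨅ j, induced (c.π.app j) (constructibleTopology (F.obj j))

theorem limConstr_le {c : Cone F} (hc : IsLimit c) (hF : ∀ j, SpectralSpace (F.obj j)) :
    limConstr c ≤ c.pt.str := by
  rw [TopCat.induced_of_isLimit c hc]
  refine iInf_mono fun j => ?_
  have := hF j
  exact induced_mono constr_le

/-- The transition map between the spaces with their constructible topologies. -/
def constrMap {i j : J} (f : i ⟶ j) :
    WithConstructibleTopology (F.obj i) → WithConstructibleTopology (F.obj j) :=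
  fun v => WithTopology.toTopology _ (F.map f (WithTopology.ofTopology v))

theorem continuous_constrMap {i j : J} (f : i ⟶ j)
    (hf : IsSpectralMap (F.map f : F.obj i → F.obj j)) : Continuous (constrMap (F := F) f) := by
  rw [continuous_def]
  intro s hs
  rw [WithTopology.isOpen_iff] at hs ⊢
  exact (@continuous_def _ _ (constructibleTopology (F.obj i)) (constructibleTopology (F.obj j))
    _).mp (continuous_constr_of_isSpectralMap hf) _ hs

/-- The map from the cone point to the product of the constructible spaces. -/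
def coneProjConstr (c : Cone F) (x : c.pt) : ∀ j, WithConstructibleTopology (F.obj j) :=
  fun j => WithTopology.toTopology _ (c.π.app j x)

theorem isInducing_coneProjConstr (c : Cone F) :
    @IsInducing _ _ (limConstr c) _ (coneProjConstr c) := by
  refine @IsInducing.mk _ _ (limConstr c) _ _ ?_
  rw [limConstr, Pi.topologicalSpace, induced_iInf]
  congr 1
  funext j
  rw [induced_compose]
  have : (WithTopology.instTopologicalSpace (F.obj j) (constructibleTopology (F.obj j))) =
      induced WithTopology.ofTopology (constructibleTopology (F.obj j)) := by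
    rw [WithTopology.topology_eq_coinduced]
    exact congrFun (WithTopology.equiv (F.obj j) (constructibleTopology (F.obj j))).coinduced_symm
      (constructibleTopology (F.obj j))
  rw [this, induced_compose]
  rfl

theorem range_coneProjConstr {c : Cone F} (hc : IsLimit c) :
    Set.range (coneProjConstr c) =
      {v | ∀ (i j : J) (f : i ⟶ j), constrMap (F := F) f (v i) = v j} := by
  ext v
  constructor
  · rintro ⟨x, rfl⟩ i j f
    exact congrArg _ (cone_compat c x f)
  · intro hv
    obtain ⟨x, hx⟩ := exists_of_compatible hc (fun j => WithTopology.ofTopology (v j))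
      (fun {i j} f => congrArg WithTopology.ofTopology (hv i j f))
    refine ⟨x, funext fun j => ?_⟩
    exact congrArg (WithTopology.toTopology _) (hx j)

/-- The cone point of a limit of spectral spaces along spectral maps is compact for the limit of
the constructible topologies. -/
theorem compactSpace_limConstr {c : Cone F} (hc : IsLimit c) (hF : ∀ j, SpectralSpace (F.obj j))
    (hFm : ∀ {i j : J} (a : i ⟶ j), IsSpectralMap (F.map a : F.obj i → F.obj j)) :
    @CompactSpace c.pt (limConstr c) := by
  have hT2 : ∀ j, T2Space (WithConstructibleTopology (F.obj j)) := fun j => by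
    have := hF j
    have : TotallySeparatedSpace (WithConstructibleTopology (F.obj j)) :=
      totallySeparatedSpace_withConstr
    infer_instance
  have hC : ∀ j, CompactSpace (WithConstructibleTopology (F.obj j)) := fun j => by
    have := hF j
    infer_instance
  have hclosed : IsClosed (Set.range (coneProjConstr c)) := by
    rw [range_coneProjConstr hc]
    have : {v : ∀ j, WithConstructibleTopology (F.obj j) |
        ∀ (i j : J) (f : i ⟶ j), constrMap (F := F) f (v i) = v j} =
        ⋂ (i : J) (j : J) (f : i ⟶ j), {v | constrMap (F := F) f (v i) = v j} := by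
      ext v
      simp only [Set.mem_ofPred_eq, Set.mem_iInter]
    rw [this]
    refine isClosed_iInter fun i => isClosed_iInter fun j => isClosed_iInter fun f => ?_
    exact isClosed_eq ((continuous_constrMap f (hFm f)).comp (continuous_apply i))
      (continuous_apply j)
  refine @CompactSpace.mk c.pt (limConstr c) ?_
  have h := @IsInducing.isCompact_iff _ _ (limConstr c) _ Set.univ (coneProjConstr c)
    (isInducing_coneProjConstr c)
  rw [h, Set.image_univ]
  exact hclosed.isCompact

/-- A set closed for the limit of the constructible topologies is compact. -/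
theorem isCompact_of_isClosed_limConstr {c : Cone F} (hc : IsLimit c)
    (hF : ∀ j, SpectralSpace (F.obj j))
    (hFm : ∀ {i j : J} (a : i ⟶ j), IsSpectralMap (F.map a : F.obj i → F.obj j))
    {E : Set c.pt} (hE : IsClosed[limConstr c] E) : IsCompact E := by
  have h1 : @IsCompact c.pt (limConstr c) E :=
    @IsClosed.isCompact c.pt (limConstr c) E (compactSpace_limConstr hc hF hFm) hE
  have h2 := @IsCompact.image c.pt c.pt (limConstr c) c.pt.str E id h1
    (continuous_id_iff_le.mpr (limConstr_le hc hF))
  simpa using h2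

theorem isClosed_limConstr_preimage (c : Cone F) (j : J) {Z : Set (F.obj j)}
    (hZ : IsClosed[constructibleTopology (F.obj j)] Z) :
    IsClosed[limConstr c] (c.π.app j ⁻¹' Z) := by
  have hcont : @Continuous c.pt (F.obj j) (limConstr c) (constructibleTopology (F.obj j))
      (c.π.app j) := by
    rw [continuous_iff_le_induced]
    exact iInf_le _ j
  exact @IsClosed.preimage _ _ (limConstr c) (constructibleTopology (F.obj j)) _ hcont _ hZ

theorem isOpen_limConstr_preimage (c : Cone F) (j : J) {Z : Set (F.obj j)}
    (hZ : IsOpen[constructibleTopology (F.obj j)] Z) :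
    IsOpen[limConstr c] (c.π.app j ⁻¹' Z) := by
  have hcont : @Continuous c.pt (F.obj j) (limConstr c) (constructibleTopology (F.obj j))
      (c.π.app j) := by
    rw [continuous_iff_le_induced]
    exact iInf_le _ j
  exact @IsOpen.preimage _ _ (limConstr c) (constructibleTopology (F.obj j)) _ hcont _ hZ

end compact

section nonempty

variable {J : Type u} [SmallCategory J] {F : J ⥤ TopCat.{u}}

/-- The diagram of the subspaces `Z j` with (the subspace topology of) the constructible
topology. -/
def subFunctor (Z : ∀ j, Set (F.obj j))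
    (hmaps : ∀ {i j : J} (a : i ⟶ j), Set.MapsTo (F.map a) (Z i) (Z j))
    (hFm : ∀ {i j : J} (a : i ⟶ j), IsSpectralMap (F.map a : F.obj i → F.obj j)) :
    J ⥤ TopCat.{u} where
  obj j := TopCat.of
    ↥(WithTopology.ofTopology ⁻¹' (Z j) : Set (WithConstructibleTopology (F.obj j)))
  map {i j} f := TopCat.ofHom
    ⟨fun v => ⟨constrMap (F := F) f v.1, hmaps f v.2⟩,
      Continuous.subtype_mk ((continuous_constrMap f (hFm f)).comp continuous_subtype_val) _⟩
  map_id i := by
    refine TopCat.hom_ext (ContinuousMap.ext fun v => Subtype.ext ?_)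
    change constrMap (F := F) (𝟙 i) v.1 = v.1
    simp only [constrMap, F.map_id]
    rfl
  map_comp f g := by
    refine TopCat.hom_ext (ContinuousMap.ext fun v => Subtype.ext ?_)
    change constrMap (F := F) (f ≫ g) v.1 = constrMap (F := F) g (constrMap (F := F) f v.1)
    simp only [constrMap, F.map_comp]
    rfl

/-- A cofiltered limit of nonempty constructibly closed subsets of spectral spaces is nonempty. -/
theorem exists_forall_proj_mem [IsCofiltered J] {c : Cone F} (hc : IsLimit c)
    (hF : ∀ j, SpectralSpace (F.obj j))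
    (hFm : ∀ {i j : J} (a : i ⟶ j), IsSpectralMap (F.map a : F.obj i → F.obj j))
    (Z : ∀ j, Set (F.obj j)) (hne : ∀ j, (Z j).Nonempty)
    (hZ : ∀ j, IsClosed[constructibleTopology (F.obj j)] (Z j))
    (hmaps : ∀ {i j : J} (a : i ⟶ j), Set.MapsTo (F.map a) (Z i) (Z j)) :
    ∃ x : c.pt, ∀ j, c.π.app j x ∈ Z j := by
  let G := subFunctor Z hmaps hFm
  have hT2 : ∀ j, T2Space (G.obj j) := fun j => by
    have := hF j
    have : TotallySeparatedSpace (WithConstructibleTopology (F.obj j)) :=
      totallySeparatedSpace_withConstr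
    change T2Space
      ↥(WithTopology.ofTopology ⁻¹' (Z j) : Set (WithConstructibleTopology (F.obj j)))
    infer_instance
  have hC : ∀ j, CompactSpace (G.obj j) := fun j => by
    have := hF j
    change CompactSpace
      ↥(WithTopology.ofTopology ⁻¹' (Z j) : Set (WithConstructibleTopology (F.obj j)))
    rw [← isCompact_iff_compactSpace]
    apply IsClosed.isCompact
    rw [WithConstructibleTopology.isClosed_iff]
    exact hZ j
  have hN : ∀ j, Nonempty (G.obj j) := fun j => by
    obtain ⟨z, hz⟩ := hne j
    exact ⟨⟨WithTopology.toTopology _ z, hz⟩⟩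
  obtain ⟨w, hw⟩ := TopCat.nonempty_limitCone_of_compact_t2_cofiltered_system.{u, u} G
  obtain ⟨x, hx⟩ := exists_of_compatible hc (fun j => WithTopology.ofTopology (w j).1)
    (fun {i j} f => by
      have := congrArg (fun v => WithTopology.ofTopology (Subtype.val v)) (hw f)
      exact this)
  exact ⟨x, fun j => by rw [hx j]; exact (w j).2⟩

/-- If `E` is constructibly closed and `F'` constructibly open in `X_i` and the preimage of `E` in
the limit is contained in that of `F'`, then this already holds at a finite stage. -/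
theorem exists_hom_preimage_subset [IsCofiltered J] {c : Cone F} (hc : IsLimit c)
    (hF : ∀ j, SpectralSpace (F.obj j))
    (hFm : ∀ {i j : J} (a : i ⟶ j), IsSpectralMap (F.map a : F.obj i → F.obj j))
    (i : J) (E F' : Set (F.obj i)) (hE : IsClosed[constructibleTopology (F.obj i)] E)
    (hF' : IsOpen[constructibleTopology (F.obj i)] F')
    (h : c.π.app i ⁻¹' E ⊆ c.π.app i ⁻¹' F') :
    ∃ (j : J) (a : j ⟶ i), F.map a ⁻¹' E ⊆ F.map a ⁻¹' F' := by
  by_contra hcon
  push Not at hcon
  have hne : ∀ a : Over i, (F.map a.hom ⁻¹' (E \ F')).Nonempty := by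
    intro a
    obtain ⟨y, hy1, hy2⟩ := Set.not_subset.mp (hcon a.left a.hom)
    exact ⟨y, hy1, hy2⟩
  have hlim : IsLimit (c.whisker (Over.forget i)) :=
    (Functor.Initial.isLimitWhiskerEquiv (Over.forget i) c).symm hc
  obtain ⟨x, hx⟩ := exists_forall_proj_mem (J := Over i) (F := Over.forget i ⋙ F) hlim
    (fun a => hF a.left) (fun {a b} φ => hFm φ.left)
    (fun a => F.map a.hom ⁻¹' (E \ F')) hne
    (fun a => by
      have := hF a.left
      have := hF i
      exact @IsClosed.preimage _ _ (constructibleTopology (F.obj a.left))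
        (constructibleTopology (F.obj i)) _ (continuous_constr_of_isSpectralMap (hFm a.hom)) _
        (@IsClosed.sdiff _ _ _ (constructibleTopology (F.obj i)) hE hF'))
    (fun {a b} φ y hy => by
      change F.map b.hom (F.map φ.left y) ∈ E \ F'
      have h1 : F.map b.hom (F.map φ.left y) = F.map a.hom y := by
        rw [← Over.w φ, F.map_comp]
        rfl
      rw [h1]
      exact hy)
  have hxi := hx (Over.mk (𝟙 i))
  change F.map (𝟙 i) (c.π.app i x) ∈ E \ F' at hxi
  rw [F.map_id] at hxi
  exact hxi.2 (h hxi.1)

end nonempty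

section spectral

variable {J : Type u} [SmallCategory J] {F : J ⥤ TopCat.{u}}

/-- The preimages of compact opens form a basis of a cofiltered limit of spectral spaces. -/
theorem isTopologicalBasis_limit [IsCofiltered J] {c : Cone F} (hc : IsLimit c)
    (hF : ∀ j, SpectralSpace (F.obj j))
    (hFm : ∀ {i j : J} (a : i ⟶ j), IsSpectralMap (F.map a : F.obj i → F.obj j)) :
    IsTopologicalBasis {U : Set c.pt | ∃ (j : J) (V : Set (F.obj j)),
      V ∈ {V : Set (F.obj j) | IsOpen V ∧ IsCompact V} ∧ U = c.π.app j ⁻¹' V} := by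
  refine TopCat.isTopologicalBasis_cofiltered_limit.{u, u, u} F c hc
    (fun j => {V : Set (F.obj j) | IsOpen V ∧ IsCompact V}) ?_ ?_ ?_ ?_
  · intro j
    have := hF j
    exact PrespectralSpace.isTopologicalBasis
  · intro j
    have := hF j
    exact ⟨isOpen_univ, isCompact_univ⟩
  · intro j U1 U2 h1 h2
    have := hF j
    exact ⟨h1.1.inter h2.1, QuasiSeparatedSpace.inter_isCompact _ _ h1.1 h1.2 h2.1 h2.2⟩
  · intro i j f V hV
    exact ⟨hV.1.preimage (hFm f).continuous, (hFm f).isCompact_preimage_of_isOpen hV.1 hV.2⟩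

theorem isCompact_preimage_of_isCompact_isOpen {c : Cone F} (hc : IsLimit c)
    (hF : ∀ j, SpectralSpace (F.obj j))
    (hFm : ∀ {i j : J} (a : i ⟶ j), IsSpectralMap (F.map a : F.obj i → F.obj j))
    (j : J) {V : Set (F.obj j)} (hVo : IsOpen V) (hVc : IsCompact V) :
    IsCompact (c.π.app j ⁻¹' V) :=
  isCompact_of_isClosed_limConstr hc hF hFm
    (isClosed_limConstr_preimage c j (isClosed_constr_of_isCompact_isOpen hVo hVc))

theorem isSpectralMap_proj {c : Cone F} (hc : IsLimit c)
    (hF : ∀ j, SpectralSpace (F.obj j))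
    (hFm : ∀ {i j : J} (a : i ⟶ j), IsSpectralMap (F.map a : F.obj i → F.obj j)) (j : J) :
    IsSpectralMap (c.π.app j : c.pt → F.obj j) :=
  ⟨(c.π.app j).hom.continuous, fun _ hVo hVc =>
    isCompact_preimage_of_isCompact_isOpen hc hF hFm j hVo hVc⟩

theorem quasiSober_limit [IsCofiltered J] {c : Cone F} (hc : IsLimit c)
    (hF : ∀ j, SpectralSpace (F.obj j))
    (hFm : ∀ {i j : J} (a : i ⟶ j), IsSpectralMap (F.map a : F.obj i → F.obj j)) :
    QuasiSober c.pt := by
  have hFi := hF
  refine ⟨fun {S} hS hSc => ?_⟩
  have hA : ∀ j, IsIrreducible (c.π.app j '' S) := fun j =>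
    hS.image _ (c.π.app j).hom.continuous.continuousOn
  have hξ : ∀ j, IsGenericPoint (hA j).closure.genericPoint (closure (c.π.app j '' S)) :=
    fun j => (hA j).closure.isGenericPoint_genericPoint isClosed_closure
  have hcompat : ∀ {i j : J} (f : i ⟶ j),
      F.map f (hA i).closure.genericPoint = (hA j).closure.genericPoint := by
    intro i j f
    have h1 := (hξ i).image (F.map f).hom.continuous
    have h2 : closure (F.map f '' closure (c.π.app i '' S)) = closure (c.π.app j '' S) := by
      rw [closure_image_closure (F.map f).hom.continuous, Set.image_image]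
      congr 2
      funext x
      exact cone_compat c x f
    rw [h2] at h1
    exact h1.eq (hξ j)
  obtain ⟨ξ, hξeq⟩ := exists_of_compatible hc (fun j => (hA j).closure.genericPoint) hcompat
  have hbasis := isTopologicalBasis_limit hc hF hFm
  have hmem : ξ ∈ S := by
    by_contra hcon
    obtain ⟨_, ⟨j, V, hV, rfl⟩, hξV, hVS⟩ :=
      hbasis.exists_subset_of_mem_open (show ξ ∈ Sᶜ from hcon) hSc.isOpen_compl
    have h1 : (hA j).closure.genericPoint ∈ V := by
      rw [← hξeq j]
      exact hξV
    obtain ⟨_, hyV, ⟨s, hs, rfl⟩⟩ := mem_closure_iff.mp (hξ j).mem V hV.1 h1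
    exact hVS hyV hs
  refine ⟨ξ, ?_⟩
  rw [isGenericPoint_def]
  apply Set.Subset.antisymm
  · exact closure_minimal (Set.singleton_subset_iff.mpr hmem) hSc
  · intro s hs
    rw [hbasis.mem_closure_iff]
    rintro _ ⟨j, V, hV, rfl⟩ hsV
    refine ⟨ξ, ?_, rfl⟩
    have h1 : c.π.app j s ∈ closure (c.π.app j '' S) := subset_closure ⟨s, hs, rfl⟩
    have h2 : (hA j).closure.genericPoint ⤳ c.π.app j s := (hξ j).specializes h1
    change c.π.app j ξ ∈ V
    rw [hξeq j]
    exact h2.mem_open hV.1 hsV

/-- A cofiltered limit of spectral spaces along spectral maps is spectral. -/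
theorem spectralSpace_limit [IsCofiltered J] {c : Cone F} (hc : IsLimit c)
    (hF : ∀ j, SpectralSpace (F.obj j))
    (hFm : ∀ {i j : J} (a : i ⟶ j), IsSpectralMap (F.map a : F.obj i → F.obj j)) :
    SpectralSpace c.pt := by
  have hbasis := isTopologicalBasis_limit hc hF hFm
  have hT0 : T0Space c.pt := by
    have : ∀ j, T0Space (F.obj j) := fun j => (hF j).toT0Space
    exact (isEmbedding_coneProj hc).t0Space
  have hcomp : CompactSpace c.pt :=
    ⟨isCompact_of_isClosed_limConstr hc hF hFm (@isClosed_univ _ (limConstr c))⟩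
  have hpre : PrespectralSpace c.pt := by
    refine PrespectralSpace.of_isTopologicalBasis hbasis ?_
    rintro _ ⟨j, V, hV, rfl⟩
    exact isCompact_preimage_of_isCompact_isOpen hc hF hFm j hV.1 hV.2
  have hqs : QuasiSeparatedSpace c.pt := by
    let b : (Σ j : J, {V : Set (F.obj j) // IsOpen V ∧ IsCompact V}) → Set c.pt :=
      fun p => c.π.app p.1 ⁻¹' p.2.1
    have hb : IsTopologicalBasis (Set.range b) := by
      convert hbasis using 1
      ext U
      simp only [Set.mem_range, Sigma.exists, Subtype.exists, Set.mem_ofPred_eq, b]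
      constructor
      · rintro ⟨j, V, hV, rfl⟩
        exact ⟨j, V, hV, rfl⟩
      · rintro ⟨j, V, hV, rfl⟩
        exact ⟨j, V, hV, rfl⟩
    refine QuasiSeparatedSpace.of_isTopologicalBasis hb fun p q => ?_
    apply isCompact_of_isClosed_limConstr hc hF hFm
    exact @IsClosed.inter _ _ _ (limConstr c)
      (isClosed_limConstr_preimage c p.1
        (isClosed_constr_of_isCompact_isOpen p.2.2.1 p.2.2.2))
      (isClosed_limConstr_preimage c q.1
        (isClosed_constr_of_isCompact_isOpen q.2.2.1 q.2.2.2))
  exact
    { toT0Space := hT0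
      toCompactSpace := hcomp
      toQuasiSober := quasiSober_limit hc hF hFm
      toQuasiSeparatedSpace := hqs
      toPrespectralSpace := hpre }

theorem preimage_proj_map (c : Cone F) {k i : J} (a : k ⟶ i) (V : Set (F.obj i)) :
    c.π.app k ⁻¹' (F.map a ⁻¹' V) = c.π.app i ⁻¹' V := by
  ext x
  simp only [Set.mem_preimage]
  rw [cone_compat c x a]

/-- If two constructibly clopen subsets of `X_i` have the same preimage in the limit, they already
have the same preimage at a finite stage. -/
theorem exists_hom_preimage_eq [IsCofiltered J] {c : Cone F} (hc : IsLimit c)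
    (hF : ∀ j, SpectralSpace (F.obj j))
    (hFm : ∀ {i j : J} (a : i ⟶ j), IsSpectralMap (F.map a : F.obj i → F.obj j))
    (i : J) (E E' : Set (F.obj i)) (hE : @IsClopen _ (constructibleTopology (F.obj i)) E)
    (hE' : @IsClopen _ (constructibleTopology (F.obj i)) E')
    (h : c.π.app i ⁻¹' E = c.π.app i ⁻¹' E') :
    ∃ (j : J) (a : j ⟶ i), F.map a ⁻¹' E = F.map a ⁻¹' E' := by
  have hcl : IsClosed[constructibleTopology (F.obj i)] ((E \ E') ∪ (E' \ E)) :=
    @IsClosed.union _ _ _ (constructibleTopology (F.obj i))
      (@IsClosed.sdiff _ _ _ (constructibleTopology (F.obj i)) hE.1 hE'.2)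
      (@IsClosed.sdiff _ _ _ (constructibleTopology (F.obj i)) hE'.1 hE.2)
  obtain ⟨j, a, ha⟩ := exists_hom_preimage_subset hc hF hFm i _ ∅ hcl
    (@isOpen_empty _ (constructibleTopology (F.obj i))) (by
      intro x hx
      simp only [Set.mem_preimage, Set.mem_union, Set.mem_sdiff] at hx
      have hiff : c.π.app i x ∈ E ↔ c.π.app i x ∈ E' := by
        have := Set.ext_iff.mp h x
        simpa using this
      rcases hx with ⟨h1, h2⟩ | ⟨h1, h2⟩
      · exact (h2 (hiff.mp h1)).elim
      · exact (h2 (hiff.mpr h1)).elim)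
  refine ⟨j, a, ?_⟩
  ext y
  simp only [Set.mem_preimage]
  constructor
  · intro hy
    by_contra hy'
    exact ha (show y ∈ F.map a ⁻¹' ((E \ E') ∪ (E' \ E)) from Or.inl ⟨hy, hy'⟩)
  · intro hy
    by_contra hy'
    exact ha (show y ∈ F.map a ⁻¹' ((E \ E') ∪ (E' \ E)) from Or.inr ⟨hy, hy'⟩)

/-- Every compact open of the limit comes from a compact open at a finite stage. -/
theorem exists_preimage_eq_of_isCompact_isOpen [IsCofiltered J] {c : Cone F} (hc : IsLimit c)
    (hF : ∀ j, SpectralSpace (F.obj j))
    (hFm : ∀ {i j : J} (a : i ⟶ j), IsSpectralMap (F.map a : F.obj i → F.obj j))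
    (U : Set c.pt) (hUo : IsOpen U) (hUc : IsCompact U) :
    ∃ (i : J) (Ui : Set (F.obj i)), IsOpen Ui ∧ IsCompact Ui ∧ c.π.app i ⁻¹' Ui = U := by
  classical
  have hbasis := isTopologicalBasis_limit hc hF hFm
  let b : (Σ j : J, {V : Set (F.obj j) // IsOpen V ∧ IsCompact V}) → Set c.pt :=
    fun p => c.π.app p.1 ⁻¹' p.2.1
  have hb : IsTopologicalBasis (Set.range b) := by
    convert hbasis using 1
    ext U
    simp only [Set.mem_range, Sigma.exists, Subtype.exists, Set.mem_ofPred_eq, b]
    constructor
    · rintro ⟨j, V, hV, rfl⟩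
      exact ⟨j, V, hV, rfl⟩
    · rintro ⟨j, V, hV, rfl⟩
      exact ⟨j, V, hV, rfl⟩
  obtain ⟨s, hs, rfl⟩ := (isCompact_open_iff_eq_finite_iUnion_of_isTopologicalBasis b hb
    (fun p => isCompact_preimage_of_isCompact_isOpen hc hF hFm p.1 p.2.2.1 p.2.2.2) U).mp
    ⟨hUc, hUo⟩
  clear hUo hUc
  induction s, hs using Set.Finite.induction_on with
  | empty =>
    obtain ⟨i⟩ := IsCofiltered.nonempty (C := J)
    exact ⟨i, ∅, isOpen_empty, isCompact_empty, by simp⟩
  | @insert p s _ _ ih =>
    obtain ⟨i, V, hVo, hVc, hV⟩ := ih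
    refine ⟨IsCofiltered.min i p.1,
      F.map (IsCofiltered.minToLeft i p.1) ⁻¹' V ∪ F.map (IsCofiltered.minToRight i p.1) ⁻¹' p.2.1,
      ?_, ?_, ?_⟩
    · exact (hVo.preimage (hFm _).continuous).union (p.2.2.1.preimage (hFm _).continuous)
    · exact ((hFm _).isCompact_preimage_of_isOpen hVo hVc).union
        ((hFm _).isCompact_preimage_of_isOpen p.2.2.1 p.2.2.2)
    · rw [Set.preimage_union, preimage_proj_map, preimage_proj_map, hV, Set.biUnion_insert,
        Set.union_comm]

/-- Every constructible subset of the limit comes from a constructible subset at a finite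
stage. -/
theorem exists_preimage_eq_of_isConstructible [IsCofiltered J] {c : Cone F} (hc : IsLimit c)
    (hF : ∀ j, SpectralSpace (F.obj j))
    (hFm : ∀ {i j : J} (a : i ⟶ j), IsSpectralMap (F.map a : F.obj i → F.obj j))
    (E : Set c.pt) (hE : IsConstructible E) :
    ∃ (i : J) (Ei : Set (F.obj i)), IsConstructible Ei ∧ c.π.app i ⁻¹' Ei = E := by
  have hsp : SpectralSpace c.pt := spectralSpace_limit hc hF hFm
  induction hE using IsConstructible.empty_union_induction with
  | open_retrocompact U hUo hUr =>
    obtain ⟨i, Ui, hUio, hUic, hUi⟩ :=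
      exists_preimage_eq_of_isCompact_isOpen hc hF hFm U hUo hUr.isCompact
    have := hF i
    exact ⟨i, Ui, hUic.isConstructible hUio, hUi⟩
  | union s _ t _ hs' ht' =>
    obtain ⟨i, Ei, hEi, rfl⟩ := hs'
    obtain ⟨j, Ej, hEj, rfl⟩ := ht'
    have := hF i
    have := hF j
    have := hF (IsCofiltered.min i j)
    refine ⟨IsCofiltered.min i j,
      F.map (IsCofiltered.minToLeft i j) ⁻¹' Ei ∪ F.map (IsCofiltered.minToRight i j) ⁻¹' Ej,
      ?_, ?_⟩
    · exact (isConstructible_preimage_of_isSpectralMap (hFm _) hEi).union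
        (isConstructible_preimage_of_isSpectralMap (hFm _) hEj)
    · rw [Set.preimage_union, preimage_proj_map, preimage_proj_map]
  | compl s _ hs' =>
    obtain ⟨i, Ei, hEi, rfl⟩ := hs'
    exact ⟨i, Eiᶜ, hEi.compl, Set.preimage_compl⟩

end spectral

end Groth.Agent.H38
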