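import Mathlib

set_option autoImplicit false
universe u

namespace Groth.Agent.H38

open Topology Set

/-- Constructible sets are retrocompact. -/
theorem isRetrocompact_of_isConstructible {X : Type u} [TopologicalSpace X] {E : Set X}
    (hE : IsConstructible E) : IsRetrocompact E := by
  induction E, hE using BooleanSubalgebra.closure_sdiff_sup_induction with
  | isSublattice =>
    exact ⟨fun s hs t ht ↦ ⟨hs.1.union ht.1, hs.2.union ht.2⟩,
      fun s hs t ht ↦ ⟨hs.1.inter ht.1, hs.2.inter_isOpen ht.2 ht.1⟩⟩
  | bot_mem => exact ⟨isOpen_empty, .empty⟩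
  | top_mem => exact ⟨isOpen_univ, .univ⟩
  | sdiff U hU V hV =>
    intro K hK hKo
    have : (U \ V) ∩ K = (U ∩ K) ∩ Vᶜ := by
      ext x; simp only [mem_inter_iff, mem_sdiff, mem_compl_iff]; tauto
    rw [this]
    exact (hU.2 hK hKo).inter_right hV.1.isClosed_compl
  | sup s _ t _ hs' ht' => exact hs'.union ht'

/-- If `E` is constructible, `R` is retrocompact and `R ∩ E = O ∩ E` for an open `O`,
then `O ∩ E` is constructible. -/
theorem isConstructible_open_inter_of_isRetrocompact {X : Type u} [TopologicalSpace X] {E : Set X}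
    (hE : IsConstructible E) :
    ∀ R : Set X, IsRetrocompact R → ∀ O : Set X, IsOpen O → R ∩ E = O ∩ E →
      IsConstructible (O ∩ E) := by
  induction E, hE using BooleanSubalgebra.closure_sdiff_sup_induction with
  | isSublattice =>
    exact ⟨fun s hs t ht ↦ ⟨hs.1.union ht.1, hs.2.union ht.2⟩,
      fun s hs t ht ↦ ⟨hs.1.inter ht.1, hs.2.inter_isOpen ht.2 ht.1⟩⟩
  | bot_mem => exact ⟨isOpen_empty, .empty⟩
  | top_mem => exact ⟨isOpen_univ, .univ⟩
  | sdiff U hU V hV =>
    intro R hR O hO h
    have hO' : IsOpen (O ∩ U ∪ V) := (hO.inter hU.1).union hV.1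
    have hret : IsRetrocompact (O ∩ U ∪ V) := by
      intro K hK hKo
      have : (O ∩ U ∪ V) ∩ K = (R ∩ (U ∩ K)) ∩ Vᶜ ∪ V ∩ K := by
        ext x
        have hx : x ∈ R ∩ (U \ V) ↔ x ∈ O ∩ (U \ V) := by rw [h]
        simp only [mem_inter_iff, mem_union, mem_sdiff, mem_compl_iff] at hx ⊢
        tauto
      rw [this]
      exact ((hR (hU.2 hK hKo) (hU.1.inter hKo)).inter_right hV.1.isClosed_compl).union
        (hV.2 hK hKo)
    have : O ∩ (U \ V) = (O ∩ U ∪ V) \ V := by
      ext x; simp only [mem_inter_iff, mem_union, mem_sdiff]; tauto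
    rw [this]
    exact (hret.isConstructible hO').sdiff (hV.2.isConstructible hV.1)
  | sup s _ t _ hs' ht' =>
    intro R hR O hO h
    change R ∩ (s ∪ t) = O ∩ (s ∪ t) at h
    have h1 : R ∩ s = O ∩ s := by
      ext x
      have hx : x ∈ R ∩ (s ∪ t) ↔ x ∈ O ∩ (s ∪ t) := by rw [h]
      simp only [mem_inter_iff, mem_union] at hx ⊢
      tauto
    have h2 : R ∩ t = O ∩ t := by
      ext x
      have hx : x ∈ R ∩ (s ∪ t) ↔ x ∈ O ∩ (s ∪ t) := by rw [h]
      simp only [mem_inter_iff, mem_union] at hx ⊢
      tauto
    change IsConstructible (O ∩ (s ∪ t))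
    rw [inter_union_distrib_left]
    exact (hs' R hR O hO h1).union (ht' R hR O hO h2)

/-- A constructible subset of a constructible subspace is constructible in the ambient space.
(No hypothesis on the ambient space is needed.) -/
theorem isConstructible_image_val {X : Type u} [TopologicalSpace X]
    (E : Set X) (hE : IsConstructible E) (F : Set E) (hF : IsConstructible F) :
    IsConstructible ((Subtype.val : E → X) '' F) := by
  have hEr := isRetrocompact_of_isConstructible hE
  induction hF using IsConstructible.empty_union_induction with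
  | open_retrocompact W hWo hWr =>
    obtain ⟨O, hO, rfl⟩ := isOpen_induced_iff.mp hWo
    have hR : IsRetrocompact (E ∩ O) := by
      intro K hK hKo
      have hcomp : IsCompact ((Subtype.val ⁻¹' K : Set E)) := by
        rw [Subtype.isCompact_iff, Subtype.image_preimage_coe]
        exact hEr hK hKo
      have := (hWr hcomp (hKo.preimage continuous_subtype_val)).image continuous_subtype_val
      rwa [← preimage_inter, Subtype.image_preimage_coe, ← inter_assoc] at this
    rw [Subtype.image_preimage_coe, inter_comm]
    refine isConstructible_open_inter_of_isRetrocompact hE (E ∩ O) hR O hO ?_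
    ext x; simp only [mem_inter_iff]; tauto
  | union s hs t ht hs' ht' => rw [image_union]; exact hs'.union ht'
  | compl s hs hs' =>
    rw [← range_sdiff_image Subtype.val_injective, Subtype.range_coe]
    exact hE.sdiff hs'

end Groth.Agent.H38
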