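import Mathlib
import Groth.Prelude.Def_W4stktopologysheavesDim

set_option autoImplicit false
universe u

namespace Groth.Agent.H38

open TopologicalSpace Topology Set PtTop

section
variable {X : Type u} [TopologicalSpace X] [QuasiSober X] [T0Space X]

/-- generic point of an irreducible closed subset -/
noncomputable def gpt (Z : IrreducibleCloseds X) : X := Z.isIrreducible.genericPoint

theorem closure_gpt (Z : IrreducibleCloseds X) : closure {gpt Z} = (Z : Set X) :=
  Z.isIrreducible.isGenericPoint_genericPoint Z.isClosed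

/-- closure of a point as an irreducible closed subset -/
def clPt (x : X) : IrreducibleCloseds X :=
  ⟨closure {x}, isIrreducible_singleton.closure, isClosed_closure⟩

theorem gpt_clPt (x : X) : gpt (clPt x) = x := by
  have h1 : IsGenericPoint (gpt (clPt x)) (closure {x}) := closure_gpt (clPt x)
  have h2 : IsGenericPoint x (closure {x}) := rfl
  exact h1.eq h2

theorem clPt_gpt (Z : IrreducibleCloseds X) : clPt (gpt Z) = Z := by
  apply SetLike.coe_injective
  exact closure_gpt Z

theorem gpt_specializes {Z Z' : IrreducibleCloseds X} (h : Z ≤ Z') : gpt Z' ⤳ gpt Z := by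
  rw [specializes_iff_closure_subset, closure_gpt, closure_gpt]
  exact h

theorem gpt_injective : Function.Injective (gpt (X := X)) := fun Z Z' h => by
  rw [← clPt_gpt Z, h, clPt_gpt]

variable (δ : X → ℤ) (hδ : IsDimensionFunction δ)
include hδ

theorem strictMono_delta_gpt : StrictMono (fun Z : IrreducibleCloseds X => δ (gpt Z)) := by
  intro Z Z' hlt
  exact hδ.1 _ _ (gpt_specializes hlt.le) (fun h => hlt.ne (gpt_injective h).symm)

theorem delta_add_length_le (s : LTSeries (IrreducibleCloseds X)) :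
    δ (gpt s.head) + s.length ≤ δ (gpt s.last) := by
  have := (s.map _ (strictMono_delta_gpt δ hδ)).head_add_length_le_int
  simpa using this

theorem isImmediate_of_covBy {Z Z' : IrreducibleCloseds X} (h : Z ⋖ Z') :
    IsImmediateSpecialization (gpt Z') (gpt Z) := by
  refine ⟨gpt_specializes h.le, fun e => h.lt.ne (gpt_injective e).symm, ?_⟩
  intro z hz1 hz2
  have h1 : Z ≤ clPt z := by
    show (Z : Set X) ⊆ closure {z}
    rw [← closure_gpt Z]; exact specializes_iff_closure_subset.mp hz2
  have h2 : clPt z ≤ Z' := by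
    show closure {z} ⊆ (Z' : Set X)
    rw [← closure_gpt Z']; exact specializes_iff_closure_subset.mp hz1
  by_cases hW : clPt z = Z
  · right; rw [← hW, gpt_clPt]
  · left
    have hlt : Z < clPt z := lt_of_le_of_ne h1 (Ne.symm hW)
    have hnlt : ¬ clPt z < Z' := h.2 hlt
    have heq : clPt z = Z' := by
      by_contra hne; exact hnlt (lt_of_le_of_ne h2 hne)
    rw [← heq, gpt_clPt]

theorem delta_covBy {Z Z' : IrreducibleCloseds X} (h : Z ⋖ Z') :
    δ (gpt Z') = δ (gpt Z) + 1 := hδ.2 _ _ (isImmediate_of_covBy δ hδ h)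

theorem delta_last_of_saturated (s : LTSeries (IrreducibleCloseds X))
    (hs : ∀ i : Fin s.length, s (Fin.castSucc i) ⋖ s (Fin.succ i)) :
    δ (gpt s.last) = δ (gpt s.head) + s.length := by
  have key : ∀ i : Fin (s.length + 1), δ (gpt (s i)) = δ (gpt (s 0)) + (i : ℕ) := by
    intro i
    induction i using Fin.induction with
    | zero => simp
    | succ i ih =>
      rw [delta_covBy δ hδ (hs i), ih]
      simp only [Fin.val_castSucc, Fin.val_succ]
      push_cast; ring
  have := key (Fin.last _)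
  simpa [RelSeries.head, RelSeries.last] using this

theorem codim_le_delta (T T' : IrreducibleCloseds X) :
    codim T (T' : Set X) ≤ ((δ (gpt T') - δ (gpt T)).toNat : ℕ∞) := by
  unfold codim
  refine iSup₂_le fun s hs => ?_
  obtain ⟨hhead, hlast⟩ := hs
  have h1 := delta_add_length_le δ hδ s
  have h2 : δ (gpt s.last) ≤ δ (gpt T') :=
    (strictMono_delta_gpt δ hδ).monotone (show s.last ≤ T' from hlast)
  rw [hhead] at h1
  have : s.length ≤ (δ (gpt T') - δ (gpt T)).toNat := by omega
  exact_mod_cast this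

theorem isCatenarySpace_of_dimFun : IsCatenarySpace X := by
  intro T T' hTT'
  refine ⟨ne_top_of_le_ne_top (ENat.natCast_ne_top _) (codim_le_delta δ hδ T T'), ?_⟩
  intro s hhead hlast hsat
  apply le_antisymm
  · unfold codim
    exact le_iSup₂_of_le s ⟨hhead, by rw [hlast]⟩ le_rfl
  · refine (codim_le_delta δ hδ T T').trans ?_
    have h := delta_last_of_saturated δ hδ s hsat
    rw [hhead, hlast] at h
    have : (δ (gpt T') - δ (gpt T)).toNat = s.length := by omega
    rw [this]

theorem sub_nonneg_of_specializes {x y : X} (hxy : x ⤳ y) : 0 ≤ δ x - δ y := by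
  by_cases h : x = y
  · subst h; simp
  · have := hδ.1 x y hxy h; omega

theorem exists_series (d : ℕ) : ∀ x y : X, x ⤳ y → δ x - δ y = d →
    ∃ s : LTSeries (IrreducibleCloseds X),
      s.head = clPt y ∧ s.last = clPt x ∧ s.length = d := by
  induction d with
  | zero =>
    intro x y hxy hd
    have : x = y := by
      by_contra hne
      have := hδ.1 x y hxy hne
      omega
    subst this
    exact ⟨RelSeries.singleton _ (clPt x), rfl, rfl, rfl⟩
  | succ d ih =>
    intro x y hxy hd
    have hne : x ≠ y := by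
      rintro rfl
      omega
    obtain ⟨m, ⟨z, ⟨hxz, hzy, hzne⟩, rfl⟩, hmin⟩ :=
      Int.exists_least_of_bdd (P := fun m => ∃ z, (x ⤳ z ∧ z ⤳ y ∧ z ≠ y) ∧ δ z = m)
        ⟨δ y, by rintro m ⟨z, ⟨-, hzy, hzne⟩, rfl⟩; exact (hδ.1 z y hzy hzne).le⟩
        ⟨δ x, x, ⟨specializes_rfl, hxy, hne⟩, rfl⟩
    have himm : IsImmediateSpecialization z y := by
      refine ⟨hzy, hzne, fun w hzw hwy => ?_⟩
      by_contra hcon
      push Not at hcon
      have h1 : δ z ≤ δ w := hmin _ ⟨w, ⟨hxz.trans hzw, hwy, hcon.2⟩, rfl⟩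
      have h2 : δ w < δ z := hδ.1 z w hzw (Ne.symm hcon.1)
      omega
    have hδz : δ z = δ y + 1 := hδ.2 z y himm
    obtain ⟨s', hhead, hlast, hlen⟩ := ih x z hxz (by push_cast at hd ⊢; omega)
    have hlt : clPt y < clPt z := by
      rw [lt_iff_le_and_ne]
      refine ⟨?_, ?_⟩
      · show closure {y} ⊆ closure {z}
        exact specializes_iff_closure_subset.mp hzy
      · intro e
        have := congrArg gpt e
        rw [gpt_clPt, gpt_clPt] at this
        exact hzne this.symm
    refine ⟨s'.cons (clPt y) (by rw [hhead]; exact hlt), ?_, ?_, ?_⟩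
    · exact RelSeries.head_cons _ _ _
    · rw [RelSeries.last_cons]; exact hlast
    · rw [RelSeries.cons_length, hlen]

theorem codim_eq (x y : X) (hxy : x ⤳ y) :
    codim (clPt y) (closure {x}) = ((δ x - δ y).toNat : ℕ∞) := by
  apply le_antisymm
  · have h := codim_le_delta δ hδ (clPt y) (clPt x)
    rw [gpt_clPt, gpt_clPt] at h
    exact h
  · have hd : 0 ≤ δ x - δ y := sub_nonneg_of_specializes δ hδ hxy
    obtain ⟨s, hhead, hlast, hlen⟩ :=
      exists_series δ hδ (δ x - δ y).toNat x y hxy (by omega)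
    unfold codim
    refine le_iSup₂_of_le s ⟨hhead, ?_⟩ ?_
    · rw [hlast]
      show closure {x} ⊆ closure {x}
      exact subset_rfl
    · rw [hlen]

end

section
variable {X : Type u} [TopologicalSpace X] [QuasiSober X] [T0Space X]

theorem sub_eq_sub_of_specializes (δ δ' : X → ℤ) (hδ : IsDimensionFunction δ)
    (hδ' : IsDimensionFunction δ') {x y : X} (hxy : x ⤳ y) : δ x - δ y = δ' x - δ' y := by
  have h1 := codim_eq δ hδ x y hxy
  have h2 := codim_eq δ' hδ' x y hxy
  have h3 : ((δ x - δ y).toNat : ℕ∞) = ((δ' x - δ' y).toNat : ℕ∞) := h1.symm.trans h2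
  have h4 : (δ x - δ y).toNat = (δ' x - δ' y).toNat := by exact_mod_cast h3
  have hd : 0 ≤ δ x - δ y := sub_nonneg_of_specializes δ hδ hxy
  have hd' : 0 ≤ δ' x - δ' y := sub_nonneg_of_specializes δ' hδ' hxy
  omega

theorem isLocallyConstant_sub (hX : ∀ x : X, ∃ E ∈ nhds x, NoetherianSpace E)
    (δ δ' : X → ℤ) (hδ : IsDimensionFunction δ) (hδ' : IsDimensionFunction δ') :
    IsLocallyConstant (fun x => δ x - δ' x) := by
  rw [IsLocallyConstant.iff_exists_open]
  intro x
  obtain ⟨E, hE, hEN⟩ := hX x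
  have hxE : x ∈ E := mem_of_mem_nhds hE
  have hfin : (irreducibleComponents E).Finite := NoetherianSpace.finite_irreducibleComponents
  let F : Set E := ⋃₀ {C ∈ irreducibleComponents E | (⟨x, hxE⟩ : E) ∉ C}
  have hFcl : IsClosed F := by
    show IsClosed (⋃₀ {C ∈ irreducibleComponents E | (⟨x, hxE⟩ : E) ∉ C})
    rw [sUnion_eq_biUnion]
    exact (hfin.subset (sep_subset _ _)).isClosed_biUnion fun C hC =>
      isClosed_of_mem_irreducibleComponents C hC.1
  have hxF : (⟨x, hxE⟩ : E) ∉ F := by
    rintro ⟨C, ⟨_, hC⟩, hxC⟩; exact hC hxC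
  obtain ⟨O, hO, hOF⟩ := isOpen_induced_iff.mp hFcl.isOpen_compl
  have hxO : x ∈ O := by
    have : (⟨x, hxE⟩ : E) ∈ Subtype.val ⁻¹' O := by rw [hOF]; exact hxF
    exact this
  refine ⟨interior E ∩ O, isOpen_interior.inter hO,
    ⟨mem_interior_iff_mem_nhds.mpr hE, hxO⟩, ?_⟩
  rintro u ⟨huE, huO⟩
  have huE' : u ∈ E := interior_subset huE
  have huF : (⟨u, huE'⟩ : E) ∉ F := by
    have : (⟨u, huE'⟩ : E) ∈ Subtype.val ⁻¹' O := huO
    rw [hOF] at this; exact this
  have hCmem : irreducibleComponent (⟨u, huE'⟩ : E) ∈ irreducibleComponents E :=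
    irreducibleComponent_mem_irreducibleComponents _
  have huC : (⟨u, huE'⟩ : E) ∈ irreducibleComponent (⟨u, huE'⟩ : E) := mem_irreducibleComponent
  have hxC : (⟨x, hxE⟩ : E) ∈ irreducibleComponent (⟨u, huE'⟩ : E) := by
    by_contra h
    exact huF ⟨_, ⟨hCmem, h⟩, huC⟩
  have hCirr : IsIrreducible (irreducibleComponent (⟨u, huE'⟩ : E)) :=
    isIrreducible_irreducibleComponent
  have hirr : IsIrreducible
      (closure (Subtype.val '' irreducibleComponent (⟨u, huE'⟩ : E) : Set X)) :=
    (hCirr.image _ continuous_subtype_val.continuousOn).closure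
  have hξ : closure {hirr.genericPoint} =
      closure (Subtype.val '' irreducibleComponent (⟨u, huE'⟩ : E) : Set X) :=
    hirr.isGenericPoint_genericPoint isClosed_closure
  have hξx : hirr.genericPoint ⤳ x := by
    rw [specializes_iff_mem_closure, hξ]; exact subset_closure ⟨⟨x, hxE⟩, hxC, rfl⟩
  have hξu : hirr.genericPoint ⤳ u := by
    rw [specializes_iff_mem_closure, hξ]; exact subset_closure ⟨⟨u, huE'⟩, huC, rfl⟩
  have e1 := sub_eq_sub_of_specializes δ δ' hδ hδ' hξx
  have e2 := sub_eq_sub_of_specializes δ δ' hδ hδ' hξu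
  show δ u - δ' u = δ x - δ' x
  omega

end

end Groth.Agent.H38
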