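import Mathlib
import Groth.Prelude.Def_W4stktopologysheavesDim
import Groth.Agent.H38.Codim
import Groth.Agent.H38.DimFun

set_option autoImplicit false
universe u

namespace Groth.Agent.H38

open TopologicalSpace Topology Set PtTop

section
variable {X : Type u} [TopologicalSpace X] [QuasiSober X] [T0Space X]

/-- integer-valued codimension between points -/
noncomputable def cdp (y x : X) : ℤ := ((codim (clPt y) (clPt x : Set X)).toNat : ℤ)

theorem clPt_le_iff {x y : X} : clPt y ≤ clPt x ↔ x ⤳ y := by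
  rw [specializes_iff_closure_subset]; rfl

theorem clPt_injective : Function.Injective (clPt (X := X)) := fun x y h => by
  have h1 := gpt_clPt x
  rw [h, gpt_clPt] at h1
  exact h1.symm

theorem covBy_of_imm {x y : X} (h : IsImmediateSpecialization x y) : clPt y ⋖ clPt x := by
  obtain ⟨hxy, hne, himm⟩ := h
  refine ⟨lt_of_le_of_ne (clPt_le_iff.mpr hxy) (fun e => hne (clPt_injective e).symm),
    fun W h1 h2 => ?_⟩
  have hW : clPt (gpt W) = W := clPt_gpt W
  rw [← hW] at h1 h2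
  rcases himm (gpt W) (clPt_le_iff.mp h2.le) (clPt_le_iff.mp h1.le) with e | e
  · rw [e] at h2; exact lt_irrefl _ h2
  · rw [e] at h1; exact lt_irrefl _ h1

theorem cdp_imm {x y : X} (h : IsImmediateSpecialization x y) : cdp y x = 1 := by
  unfold cdp
  rw [codim_covBy (covBy_of_imm h)]
  rfl

theorem exists_finite_generics (U₀ : Opens X) [NoetherianSpace U₀] (C : Set X)
    (hC : IsClosed C) :
    ∃ G : Set X, G.Finite ∧ G ⊆ C ∧ ∀ y ∈ C, y ∈ U₀ → ∃ w ∈ G, w ⤳ y := by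
  classical
  have hC' : IsClosed ((Subtype.val : U₀ → X) ⁻¹' C) := hC.preimage continuous_subtype_val
  obtain ⟨S, hSfin, hScl, hSirr, hSeq⟩ :=
    NoetherianSpace.exists_finite_set_isClosed_irreducible hC'
  haveI : QuasiSober U₀ := U₀.isOpenEmbedding'.quasiSober
  have hgen : ∀ t ∈ S, ∃ g : U₀, IsGenericPoint g t := fun t ht =>
    QuasiSober.sober (hSirr t ht) (hScl t ht)
  choose g hg using hgen
  refine ⟨{w : X | ∃ t ht, (fun t ht => ((g t ht : U₀) : X)) t ht = w},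
    hSfin.dependent_image _, ?_, ?_⟩
  · rintro _ ⟨t, ht, rfl⟩
    have h1 : g t ht ∈ t := (hg t ht).mem
    have h2 : t ⊆ (Subtype.val : U₀ → X) ⁻¹' C := by
      rw [hSeq]; exact subset_sUnion_of_mem ht
    exact h2 h1
  · intro y hyC hyU
    have hmem : (⟨y, hyU⟩ : U₀) ∈ (Subtype.val : U₀ → X) ⁻¹' C := hyC
    rw [hSeq] at hmem
    obtain ⟨t, ht, hyt⟩ := hmem
    refine ⟨g t ht, ⟨t, ht, rfl⟩, ?_⟩
    have h1 : g t ht ⤳ (⟨y, hyU⟩ : U₀) := (hg t ht).specializes hyt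
    exact h1.map continuous_subtype_val

variable (hcat : IsCatenarySpace X)
include hcat

theorem cdp_add {x y z : X} (hxy : x ⤳ y) (hyz : y ⤳ z) :
    cdp z x = cdp z y + cdp y x := by
  obtain ⟨hfin, hadd⟩ := isCatenarySpace_iff_codim_additive.mp hcat
  have h1 : clPt z ≤ clPt y := clPt_le_iff.mpr hyz
  have h2 : clPt y ≤ clPt x := clPt_le_iff.mpr hxy
  unfold cdp
  rw [hadd _ _ _ h1 h2, ENat.toNat_add (hfin _ _ h1) (hfin _ _ h2)]
  push_cast
  rfl

theorem cdp_pos {x y : X} (hxy : x ⤳ y) (hne : x ≠ y) : 1 ≤ cdp y x := by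
  obtain ⟨hfin, -⟩ := isCatenarySpace_iff_codim_additive.mp hcat
  have hle : clPt y ≤ clPt x := clPt_le_iff.mpr hxy
  have hlt : clPt y < clPt x := lt_of_le_of_ne hle (fun e => hne (clPt_injective e).symm)
  have h1 := one_le_codim hlt
  obtain ⟨n, hn⟩ := ENat.ne_top_iff_exists.mp (hfin _ _ hle)
  unfold cdp
  rw [← hn] at h1 ⊢
  have h2 : 1 ≤ n := by exact_mod_cast h1
  rw [ENat.toNat_natCast]
  exact_mod_cast h2

/-- A quasi-sober `T₀` catenary space has a dimension function near any point with a Noetherian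
open neighbourhood. -/
theorem exists_dimFun (U₀ : Opens X) [NoetherianSpace U₀] (s : X) (hs : s ∈ U₀) :
    ∃ U : Opens X, s ∈ U ∧ ∃ δ : U → ℤ, IsDimensionFunction δ := by
  classical
  obtain ⟨G₀, hG₀fin, -, hG₀⟩ := exists_finite_generics U₀ univ isClosed_univ
  have hG₂ex : ∀ η η' : X, ∃ G : Set X, G.Finite ∧ G ⊆ closure {η} ∩ closure {η'} ∧
      ∀ y ∈ closure {η} ∩ closure {η'}, y ∈ U₀ → ∃ w ∈ G, w ⤳ y := fun η η' =>
    exists_finite_generics U₀ _ (isClosed_closure.inter isClosed_closure)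
  choose G₂ hG₂fin hG₂sub hG₂ using hG₂ex
  let B₁ : Set X := ⋃ η ∈ {η ∈ G₀ | ¬ η ⤳ s}, closure {η}
  let B₂ : Set X := ⋃ η ∈ G₀, ⋃ η' ∈ G₀, ⋃ w ∈ {w ∈ G₂ η η' | ¬ w ⤳ s}, closure {w}
  have hB₁ : IsClosed B₁ :=
    (hG₀fin.subset (sep_subset _ _)).isClosed_biUnion fun _ _ => isClosed_closure
  have hB₂ : IsClosed B₂ := hG₀fin.isClosed_biUnion fun η _ =>
    hG₀fin.isClosed_biUnion fun η' _ =>
      ((hG₂fin η η').subset (sep_subset _ _)).isClosed_biUnion fun _ _ => isClosed_closure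
  let U : Opens X := ⟨(U₀ : Set X) ∩ (B₁ ∪ B₂)ᶜ, U₀.isOpen.inter (hB₁.union hB₂).isOpen_compl⟩
  have hUU₀ : ∀ y, y ∈ U → y ∈ U₀ := fun y hy => hy.1
  -- the two avoidance properties
  have P1 : ∀ y, y ∈ U → ∀ η ∈ G₀, η ⤳ y → η ⤳ s := by
    intro y hy η hη hηy
    by_contra hns
    apply hy.2
    left
    exact mem_iUnion₂.mpr ⟨η, ⟨hη, hns⟩, specializes_iff_mem_closure.mp hηy⟩
  have P2 : ∀ y, y ∈ U → ∀ η ∈ G₀, ∀ η' ∈ G₀, ∀ w ∈ G₂ η η', w ⤳ y → w ⤳ s := by
    intro y hy η hη η' hη' w hw hwy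
    by_contra hns
    apply hy.2
    right
    exact mem_iUnion₂.mpr ⟨η, hη, mem_iUnion₂.mpr ⟨η', hη',
      mem_iUnion₂.mpr ⟨w, ⟨hw, hns⟩, specializes_iff_mem_closure.mp hwy⟩⟩⟩
  have hsU : s ∈ U := by
    refine ⟨hs, ?_⟩
    rintro (hB | hB)
    · obtain ⟨η, ⟨-, hns⟩, hmem⟩ := mem_iUnion₂.mp hB
      exact hns (specializes_iff_mem_closure.mpr hmem)
    · obtain ⟨η, -, hB⟩ := mem_iUnion₂.mp hB
      obtain ⟨η', -, hB⟩ := mem_iUnion₂.mp hB
      obtain ⟨w, ⟨-, hns⟩, hmem⟩ := mem_iUnion₂.mp hB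
      exact hns (specializes_iff_mem_closure.mpr hmem)
  -- the candidate function
  let δ' : X → ℤ := fun y =>
    if h : ∃ η, η ∈ G₀ ∧ η ⤳ y then cdp s (Classical.choose h) - cdp y (Classical.choose h)
    else 0
  have key : ∀ y, y ∈ U → ∀ η ∈ G₀, η ⤳ y → δ' y = cdp s η - cdp y η := by
    intro y hy η hη hηy
    have hex : ∃ η, η ∈ G₀ ∧ η ⤳ y := ⟨η, hη, hηy⟩
    have hδ' : δ' y = cdp s (Classical.choose hex) - cdp y (Classical.choose hex) :=
      dif_pos hex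
    obtain ⟨hη', hη'y⟩ := Classical.choose_spec hex
    generalize Classical.choose hex = η' at hδ' hη' hη'y
    rw [hδ']
    have hymem : y ∈ closure {η'} ∩ closure {η} :=
      ⟨specializes_iff_mem_closure.mp hη'y, specializes_iff_mem_closure.mp hηy⟩
    obtain ⟨w, hw, hwy⟩ := hG₂ η' η y hymem (hUU₀ y hy)
    have hwmem := hG₂sub η' η hw
    have hη'w : η' ⤳ w := specializes_iff_mem_closure.mpr hwmem.1
    have hηw : η ⤳ w := specializes_iff_mem_closure.mpr hwmem.2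
    have hws : w ⤳ s := P2 y hy η' hη' η hη w hw hwy
    have e1 := cdp_add hcat hη'w hws
    have e2 := cdp_add hcat hη'w hwy
    have e3 := cdp_add hcat hηw hws
    have e4 := cdp_add hcat hηw hwy
    omega
  refine ⟨U, hsU, fun y => δ' y.1, ?_, ?_⟩
  · intro x y hxy hne
    have hxy' : x.1 ⤳ y.1 := hxy.map continuous_subtype_val
    obtain ⟨η, hη, hηx⟩ := hG₀ x.1 (mem_univ _) (hUU₀ _ x.2)
    have hηy : η ⤳ y.1 := hηx.trans hxy'
    have e1 := key x.1 x.2 η hη hηx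
    have e2 := key y.1 y.2 η hη hηy
    have e3 := cdp_add hcat hηx hxy'
    have e4 := cdp_pos hcat hxy' (fun e => hne (Subtype.ext e))
    show δ' y.1 < δ' x.1
    omega
  · intro x y himm
    obtain ⟨hxy, hne, hbetween⟩ := himm
    have hxy' : x.1 ⤳ y.1 := hxy.map continuous_subtype_val
    have himm' : IsImmediateSpecialization x.1 y.1 := by
      refine ⟨hxy', fun e => hne (Subtype.ext e), fun z hxz hzy => ?_⟩
      have hzU : z ∈ U := hzy.mem_open U.isOpen y.2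
      have h1 : x ⤳ (⟨z, hzU⟩ : U) := IsInducing.subtypeVal.specializes_iff.mp hxz
      have h2 : (⟨z, hzU⟩ : U) ⤳ y := IsInducing.subtypeVal.specializes_iff.mp hzy
      rcases hbetween ⟨z, hzU⟩ h1 h2 with e | e
      · left; exact congrArg Subtype.val e
      · right; exact congrArg Subtype.val e
    obtain ⟨η, hη, hηx⟩ := hG₀ x.1 (mem_univ _) (hUU₀ _ x.2)
    have hηy : η ⤳ y.1 := hηx.trans hxy'
    have e1 := key x.1 x.2 η hη hηx
    have e2 := key y.1 y.2 η hη hηy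
    have e3 := cdp_add hcat hηx hxy'
    have e4 := cdp_imm himm'
    show δ' x.1 = δ' y.1 + 1
    omega

end

end Groth.Agent.H38
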