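import Mathlib

/-!
# Schemes of finite type over a field of dimension `≤ 0` are finite; proper closed subsets of
an irreducible space of dimension `≤ 1` have dimension `≤ 0`.
-/

set_option autoImplicit false
universe u
open CategoryTheory AlgebraicGeometry Topology TopologicalSpace

namespace Groth.Agent.H38.DimZero

theorem isFinite_of_dim_le_zero {k : Type u} [Field k] {X : Scheme.{u}}
    (f : X ⟶ Spec (CommRingCat.of k)) [LocallyOfFiniteType f] [QuasiCompact f]
    (hdim : topologicalKrullDim X ≤ 0) : IsFinite f := by
  have : IsLocallyNoetherian X := LocallyOfFiniteType.isLocallyNoetherian f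
  have : CompactSpace X := QuasiCompact.compactSpace_of_compactSpace f
  have : IsLocallyArtinian X := .of_topologicalKrullDim_le_zero hdim
  have : IsArtinianScheme X := {}
  have : LocallyQuasiFinite f := .of_finite_preimage_singleton f (fun _ => Set.toFinite _)
  exact .of_locallyQuasiFinite f

theorem dim_le_zero_of_isClosedEmbedding {G E : Type*} [TopologicalSpace G] [TopologicalSpace E]
    [IrreducibleSpace E] (i : G → E) (hi : IsClosedEmbedding i)
    (hns : ¬ Function.Surjective i) (hdim : topologicalKrullDim E ≤ 1) :
    topologicalKrullDim G ≤ 0 := by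
  unfold topologicalKrullDim at hdim ⊢
  rw [Order.krullDim_nonpos_iff_forall_isMax]
  intro a b hab
  by_contra hba
  have hlt : a < b := lt_of_le_not_ge hab hba
  have h1 : IrreducibleCloseds.map i hi.continuous a < IrreducibleCloseds.map i hi.continuous b :=
    IrreducibleCloseds.map_strictMono_of_isInducing hi.isInducing hlt
  let c : IrreducibleCloseds E := ⟨Set.univ, IrreducibleSpace.isIrreducible_univ E, isClosed_univ⟩
  have h2 : IrreducibleCloseds.map i hi.continuous b < c := by
    refine lt_of_le_of_ne (fun x _ => Set.mem_univ x) ?_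
    intro h
    apply hns
    have h3 : (IrreducibleCloseds.map i hi.continuous b : Set E) = Set.univ := congrArg _ h
    rw [IrreducibleCloseds.coe_map] at h3
    have h4 : closure (i '' (b : Set G)) ⊆ Set.range i :=
      closure_minimal (Set.image_subset_range _ _) hi.isClosed_range
    rw [h3] at h4
    exact fun y => h4 (Set.mem_univ y)
  have e1 := Order.height_add_one_le h1
  have e2 := Order.height_add_one_le h2
  have e3 : (Order.height c : WithBot ℕ∞) ≤ Order.krullDim (IrreducibleCloseds E) :=
    Order.height_le_krullDim c
  have e4 : (2 : ℕ∞) ≤ Order.height c := by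
    calc (2 : ℕ∞) = 0 + 1 + 1 := by norm_num
      _ ≤ Order.height (IrreducibleCloseds.map i hi.continuous a) + 1 + 1 := by
          gcongr; exact bot_le
      _ ≤ Order.height (IrreducibleCloseds.map i hi.continuous b) + 1 := by gcongr
      _ ≤ Order.height c := e2
  have e5 : ((2 : ℕ∞) : WithBot ℕ∞) ≤ 1 := (WithBot.coe_le_coe.mpr e4).trans (e3.trans hdim)
  have e6 : (2 : ℕ∞) ≤ 1 := by exact_mod_cast e5
  exact absurd e6 (by norm_num)

end Groth.Agent.H38.DimZero
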