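import Mathlib
import Groth.Agent.H38.TensorMinPrime2
import Groth.Agent.H54.AffineDim2

/-!
# Dimension of intersections in affine space (reduction to the diagonal)

`le_dim_quotient_add`: for primes `p`, `q` of `k[x₁,…,xₙ]` and a prime `Q` minimal over `p + q`,
`dim R/p + dim R/q ≤ dim R/Q + n`.
-/

set_option autoImplicit false
universe u
open TensorProduct

namespace Groth.Agent.H38.AffInter

section Aux

variable (k : Type u) [Field k] {σ : Type u} [Finite σ]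
  {R A B C : Type u} [CommRing R] [CommRing A] [CommRing B] [CommRing C]
  [Algebra k R] [Algebra k A] [Algebra k B] [Algebra k C] [IsDomain A] [IsDomain B] [IsDomain C]
  [Algebra.FiniteType k A] [Algebra.FiniteType k B]

set_option maxHeartbeats 800000 in
theorem aux (a : R →ₐ[k] A) (b : R →ₐ[k] B) (c : R →ₐ[k] C)
    (ha : Function.Surjective a) (hb : Function.Surjective b) (hc : Function.Surjective c)
    (α : A →ₐ[k] C) (β : B →ₐ[k] C) (hα : ∀ x, α (a x) = c x) (hβ : ∀ x, β (b x) = c x)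
    (x : σ → R) (hx : Algebra.adjoin k (Set.range x) = ⊤)
    (hmin : ∀ I : Ideal R, I.IsPrime → RingHom.ker a.toRingHom ≤ I → RingHom.ker b.toRingHom ≤ I →
      I ≤ RingHom.ker c.toRingHom → RingHom.ker c.toRingHom ≤ I) :
    ringKrullDim A + ringKrullDim B ≤ ringKrullDim C + (Nat.card σ : WithBot ℕ∞) := by
  classical
  haveI := Fintype.ofFinite σ
  let m : A ⊗[k] B →ₐ[k] C := Algebra.TensorProduct.productMap α β
  have hm : ∀ (u v : R), m ((a u) ⊗ₜ[k] (b v)) = c (u * v) := by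
    intro u v
    rw [Algebra.TensorProduct.productMap_apply_tmul, hα, hβ, map_mul]
  have hmsurj : Function.Surjective m := by
    intro z
    obtain ⟨u, rfl⟩ := hc z
    exact ⟨(a u) ⊗ₜ[k] (b 1), by rw [hm, mul_one]⟩
  let Qt : Ideal (A ⊗[k] B) := RingHom.ker m.toRingHom
  haveI hQt : Qt.IsPrime := RingHom.ker_isPrime m.toRingHom
  let δ : σ → A ⊗[k] B := fun i => (a (x i)) ⊗ₜ[k] (1 : B) - (1 : A) ⊗ₜ[k] (b (x i))
  have hδ : ∀ i, δ i ∈ Qt := by
    intro i
    show m (δ i) = 0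
    have h1 : (1 : B) = b 1 := (map_one b).symm
    have h2 : (1 : A) = a 1 := (map_one a).symm
    simp only [δ, map_sub]
    rw [h1, hm, h2, hm, mul_one, one_mul, sub_self]
  -- minimality of `Qt` over the span of the `δ i`
  have hminQt : ∀ Q' : Ideal (A ⊗[k] B), Q'.IsPrime → (∀ i, δ i ∈ Q') → Q' ≤ Qt → Qt ≤ Q' := by
    intro Q' hQ'p hδQ' hQ'le
    let π' : A ⊗[k] B →ₐ[k] (A ⊗[k] B) ⧸ Q' := Ideal.Quotient.mkₐ k Q'
    let θ₁ : R →ₐ[k] (A ⊗[k] B) ⧸ Q' := (π'.comp Algebra.TensorProduct.includeLeft).comp a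
    let θ₂ : R →ₐ[k] (A ⊗[k] B) ⧸ Q' := (π'.comp Algebra.TensorProduct.includeRight).comp b
    have hθ : θ₁ = θ₂ := by
      apply AlgHom.ext_of_adjoin_eq_top hx
      rintro _ ⟨i, rfl⟩
      have h1 : θ₁ (x i) - θ₂ (x i) = π' (δ i) := by
        simp only [θ₁, θ₂, δ, map_sub]
        rfl
      have h2 : π' (δ i) = 0 := Ideal.Quotient.eq_zero_iff_mem.mpr (hδQ' i)
      rw [h2] at h1
      exact sub_eq_zero.mp h1
    let I : Ideal R := RingHom.ker θ₁.toRingHom
    haveI hIp : I.IsPrime := RingHom.ker_isPrime θ₁.toRingHom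
    have haI : RingHom.ker a.toRingHom ≤ I := by
      intro u hu
      show θ₁ u = 0
      have : a u = 0 := hu
      simp only [θ₁, AlgHom.comp_apply, this, map_zero]
    have hbI : RingHom.ker b.toRingHom ≤ I := by
      intro u hu
      show θ₁ u = 0
      rw [hθ]
      have : b u = 0 := hu
      simp only [θ₂, AlgHom.comp_apply, this, map_zero]
    have hIc : I ≤ RingHom.ker c.toRingHom := by
      intro u hu
      have h1 : θ₁ u = 0 := hu
      have h2 : (a u) ⊗ₜ[k] (1 : B) ∈ Q' := Ideal.Quotient.eq_zero_iff_mem.mp h1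
      have h3 : m ((a u) ⊗ₜ[k] (1 : B)) = 0 := hQ'le h2
      rw [← map_one b, hm, mul_one] at h3
      exact h3
    have hcI : RingHom.ker c.toRingHom ≤ I := hmin I hIp haI hbI hIc
    -- every element of the tensor product is represented by an element of `R`
    have hrep : ∀ t : A ⊗[k] B, ∃ r : R, π' t = θ₁ r ∧ m t = c r := by
      intro t
      induction t using TensorProduct.induction_on with
      | zero => exact ⟨0, by simp, by simp⟩
      | tmul a' b' =>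
        obtain ⟨u, rfl⟩ := ha a'
        obtain ⟨v, rfl⟩ := hb b'
        refine ⟨u * v, ?_, hm u v⟩
        have h1 : (a u) ⊗ₜ[k] (b v) = ((a u) ⊗ₜ[k] (1 : B)) * ((1 : A) ⊗ₜ[k] (b v)) := by
          rw [Algebra.TensorProduct.tmul_mul_tmul, mul_one, one_mul]
        rw [h1, map_mul, map_mul]
        have h2 : π' ((a u) ⊗ₜ[k] (1 : B)) = θ₁ u := rfl
        have h3 : π' ((1 : A) ⊗ₜ[k] (b v)) = θ₂ v := rfl
        rw [h2, h3, hθ]
      | add t₁ t₂ h₁ h₂ =>
        obtain ⟨r₁, h11, h12⟩ := h₁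
        obtain ⟨r₂, h21, h22⟩ := h₂
        exact ⟨r₁ + r₂, by rw [map_add, map_add, h11, h21], by rw [map_add, map_add, h12, h22]⟩
    intro t ht
    obtain ⟨r, hr1, hr2⟩ := hrep t
    have h1 : m t = 0 := ht
    rw [hr2] at h1
    have h2 : r ∈ I := hcI h1
    have h3 : θ₁ r = 0 := h2
    rw [h3] at hr1
    exact Ideal.Quotient.eq_zero_iff_mem.mp hr1
  -- a minimal prime of the tensor product below `Qt`
  obtain ⟨𝔓, h𝔓, h𝔓le⟩ := Ideal.exists_minimalPrimes_le (bot_le : (⊥ : Ideal (A ⊗[k] B)) ≤ Qt)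
  haveI h𝔓p : 𝔓.IsPrime := h𝔓.1.1
  have hdimT' : ringKrullDim ((A ⊗[k] B) ⧸ 𝔓) = ringKrullDim A + ringKrullDim B :=
    Groth.Agent.H38.TensorMinPrime.ringKrullDim_quotient_minimalPrime_tensor k A B 𝔓 h𝔓
  have hmksurj : Function.Surjective (Ideal.Quotient.mk 𝔓) := Ideal.Quotient.mk_surjective
  haveI hftT : Algebra.FiniteType k (A ⊗[k] B) :=
    Algebra.FiniteType.trans (inferInstance : Algebra.FiniteType k A)
      (inferInstance : Algebra.FiniteType A (A ⊗[k] B))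
  haveI hftT' : Algebra.FiniteType k ((A ⊗[k] B) ⧸ 𝔓) :=
    Algebra.FiniteType.of_surjective (Ideal.Quotient.mkₐ k 𝔓) (Ideal.Quotient.mkₐ_surjective k 𝔓)
  haveI : IsNoetherianRing ((A ⊗[k] B) ⧸ 𝔓) := Algebra.FiniteType.isNoetherianRing k _
  let Qb : Ideal ((A ⊗[k] B) ⧸ 𝔓) := Qt.map (Ideal.Quotient.mk 𝔓)
  haveI hQbp : Qb.IsPrime :=
    Ideal.map_isPrime_of_surjective hmksurj (by rw [Ideal.mk_ker]; exact h𝔓le)
  have hcomap : Qb.comap (Ideal.Quotient.mk 𝔓) = Qt := by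
    rw [Ideal.comap_map_of_surjective _ hmksurj, ← RingHom.ker_eq_comap_bot, Ideal.mk_ker]
    exact sup_eq_left.mpr h𝔓le
  let s : Finset ((A ⊗[k] B) ⧸ 𝔓) := Finset.univ.image (fun i => Ideal.Quotient.mk 𝔓 (δ i))
  have hQbmin : Qb ∈ (Ideal.span (s : Set ((A ⊗[k] B) ⧸ 𝔓))).minimalPrimes := by
    refine ⟨⟨hQbp, ?_⟩, ?_⟩
    · rw [Ideal.span_le]
      intro t ht
      rw [Finset.mem_coe, Finset.mem_image] at ht
      obtain ⟨i, -, rfl⟩ := ht
      exact Ideal.mem_map_of_mem _ (hδ i)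
    · rintro J ⟨hJp, hJs⟩ hJle
      have h1 : ∀ i, δ i ∈ J.comap (Ideal.Quotient.mk 𝔓) := by
        intro i
        rw [Ideal.mem_comap]
        apply hJs
        apply Ideal.subset_span
        rw [Finset.mem_coe, Finset.mem_image]
        exact ⟨i, Finset.mem_univ _, rfl⟩
      have h2 : J.comap (Ideal.Quotient.mk 𝔓) ≤ Qt := by
        rw [← hcomap]; exact Ideal.comap_mono hJle
      have h3 := hminQt _ (Ideal.comap_isPrime _ J) h1 h2
      have h4 : Qb ≤ (J.comap (Ideal.Quotient.mk 𝔓)).map (Ideal.Quotient.mk 𝔓) :=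
        Ideal.map_mono h3
      rwa [Ideal.map_comap_of_surjective _ hmksurj] at h4
  have hht : Qb.height ≤ (Nat.card σ : ℕ∞) := by
    refine (Ideal.height_le_card_of_mem_minimalPrimes_span_finset hQbmin).trans ?_
    rw [Nat.card_eq_fintype_card]
    exact_mod_cast Finset.card_image_le
  have hform := Groth.Agent.H54.height_add_ringKrullDim_quotient k ((A ⊗[k] B) ⧸ 𝔓)
    (⟨Qb, hQbp⟩ : PrimeSpectrum ((A ⊗[k] B) ⧸ 𝔓))
  have e1 : (((A ⊗[k] B) ⧸ 𝔓) ⧸ Qb) ≃+* (A ⊗[k] B) ⧸ Qt := DoubleQuot.quotQuotEquivQuotOfLE h𝔓le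
  have e2 : (A ⊗[k] B) ⧸ Qt ≃+* C := RingHom.quotientKerEquivOfSurjective hmsurj
  rw [← hdimT', ← hform, ringKrullDim_eq_of_ringEquiv (e1.trans e2), add_comm]
  gcongr
  exact_mod_cast hht

end Aux

/-- For primes `p`, `q` of `k[x_i : i ∈ σ]` and a prime `Q` minimal over `p + q`,
`dim R/p + dim R/q ≤ dim R/Q + |σ|`. -/
theorem le_dim_quotient_add (k : Type u) [Field k] (σ : Type u) [Finite σ]
    (p q Q : Ideal (MvPolynomial σ k)) [p.IsPrime] [q.IsPrime]
    (hQ : Q ∈ (p ⊔ q).minimalPrimes) :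
    ringKrullDim (MvPolynomial σ k ⧸ p) + ringKrullDim (MvPolynomial σ k ⧸ q) ≤
      ringKrullDim (MvPolynomial σ k ⧸ Q) + (Nat.card σ : WithBot ℕ∞) := by
  haveI hQp : Q.IsPrime := hQ.1.1
  have hpQ : p ≤ Q := le_sup_left.trans hQ.1.2
  have hqQ : q ≤ Q := le_sup_right.trans hQ.1.2
  have hk : ∀ J : Ideal (MvPolynomial σ k),
      RingHom.ker (Ideal.Quotient.mkₐ k J).toRingHom = J := fun J => Ideal.mk_ker
  refine aux k (σ := σ) (Ideal.Quotient.mkₐ k p) (Ideal.Quotient.mkₐ k q) (Ideal.Quotient.mkₐ k Q)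
    (Ideal.Quotient.mkₐ_surjective k p) (Ideal.Quotient.mkₐ_surjective k q)
    (Ideal.Quotient.mkₐ_surjective k Q) (Ideal.Quotient.factorₐ k hpQ)
    (Ideal.Quotient.factorₐ k hqQ) (fun x => rfl) (fun x => rfl) MvPolynomial.X
    (MvPolynomial.adjoin_range_X) ?_
  intro I hI h1 h2 h3
  rw [hk] at h1 h2 h3 ⊢
  exact hQ.2 ⟨hI, sup_le h1 h2⟩ h3

end Groth.Agent.H38.AffInter
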