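import Mathlib
import Groth.Prelude.Def_FDesc

/-!
# Affine charts of the base change of a `k`-scheme to a field extension

`exists_bcChart`: an affine chart `j : Spec A ⟶ X` of a `k`-scheme induces an affine chart
`Spec (A ⊗[k] K) ⟶ X_K` of the base change.
-/

set_option autoImplicit false
universe u
open CategoryTheory CategoryTheory.Limits AlgebraicGeometry TensorProduct

namespace Groth.Agent.H38.BCChart

theorem exists_bcChart {k K : Type u} [Field k] [Field K] [Algebra k K] {X : Scheme.{u}}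
    (f : X ⟶ Spec (CommRingCat.of k)) {A : CommRingCat.{u}} (j : Spec A ⟶ X) [IsOpenImmersion j]
    (ψ : CommRingCat.of k ⟶ A) (hψ : Spec.map ψ = j ≫ f) :
    letI := ψ.hom.toAlgebra
    ∃ (jK : Spec (CommRingCat.of (A ⊗[k] K)) ⟶ FBase.bc f K), IsOpenImmersion jK ∧
      jK ≫ FBase.bcπ f K =
        Spec.map (CommRingCat.ofHom
          (Algebra.TensorProduct.includeLeftRingHom : A →+* A ⊗[k] K)) ≫ j ∧
      jK ≫ FBase.bcStr f K =
        Spec.map (CommRingCat.ofHom
          (Algebra.TensorProduct.includeRight : K →ₐ[k] A ⊗[k] K).toRingHom) ∧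
      Set.range jK.base = (FBase.bcπ f K).base ⁻¹' Set.range j.base := by
  letI := ψ.hom.toAlgebra
  let φ : CommRingCat.of k ⟶ CommRingCat.of K := CommRingCat.ofHom (algebraMap k K)
  let a : Spec (CommRingCat.of (A ⊗[k] K)) ⟶ Spec A :=
    Spec.map (CommRingCat.ofHom (Algebra.TensorProduct.includeLeftRingHom : A →+* A ⊗[k] K))
  let b : Spec (CommRingCat.of (A ⊗[k] K)) ⟶ Spec (CommRingCat.of K) :=
    Spec.map (CommRingCat.ofHom (Algebra.TensorProduct.includeRight : K →ₐ[k] A ⊗[k] K).toRingHom)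
  have hψ' : CommRingCat.ofHom (algebraMap k A) = ψ := rfl
  have sqT : IsPullback a b (Spec.map ψ) (Spec.map φ) := by
    have := isPullback_SpecMap_of_isPushout _ _ _ _ (CommRingCat.isPushout_tensorProduct k A K)
    rw [hψ'] at this
    exact this
  have sqX : IsPullback (FBase.bcπ f K) (FBase.bcStr f K) f (Spec.map φ) :=
    IsPullback.of_hasPullback f (Spec.map φ)
  have hw : (a ≫ j) ≫ f = b ≫ Spec.map φ := by
    rw [Category.assoc, ← hψ]; exact sqT.w
  let jK : Spec (CommRingCat.of (A ⊗[k] K)) ⟶ FBase.bc f K := sqX.lift (a ≫ j) b hw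
  have h1 : jK ≫ FBase.bcπ f K = a ≫ j := sqX.lift_fst _ _ _
  have h2 : jK ≫ FBase.bcStr f K = b := sqX.lift_snd _ _ _
  have sqL : IsPullback jK a (FBase.bcπ f K) j := by
    refine IsPullback.of_right ?_ h1 sqX.flip
    rw [h2, ← hψ]
    exact sqT.flip
  have hopen : IsOpenImmersion jK :=
    MorphismProperty.of_isPullback (P := @IsOpenImmersion) sqL.flip inferInstance
  refine ⟨jK, hopen, h1, h2, ?_⟩
  have h3 : jK = sqL.isoPullback.hom ≫ pullback.fst (FBase.bcπ f K) j := by
    rw [IsPullback.isoPullback_hom_fst]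
  have h4 : Set.range sqL.isoPullback.hom.base = Set.univ :=
    Set.range_eq_univ.mpr (sqL.isoPullback.hom.homeomorph.surjective)
  rw [h3, Scheme.Hom.comp_base, TopCat.coe_comp, Set.range_comp, h4, Set.image_univ,
    Scheme.Pullback.range_fst]

end Groth.Agent.H38.BCChart
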