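import Groth.Agent.H25.GeomRed

/-!
# Reducedness of base change to a field, chart by chart

For `f : X ⟶ Spec k`, and the standard affine open cover `𝒰 = X.affineOpenCover`, each chart ring
`Γ(𝒰.X i)` is a `k`-algebra (`chartAlgebra`) and the base change `X ×_k Spec K` is reduced iff every
`Γ(𝒰.X i) ⊗[k] K` is reduced.
-/

set_option autoImplicit false
universe u
open CategoryTheory CategoryTheory.Limits AlgebraicGeometry TensorProduct

namespace Groth.Agent.H38.BaseChangeAffine

theorem isReduced_pullback_specMap_iff (k R K : Type u) [CommRing k] [CommRing R] [CommRing K]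
    [Algebra k R] [Algebra k K] :
    IsReduced (pullback (Spec.map (CommRingCat.ofHom (algebraMap k R)))
      (Spec.map (CommRingCat.ofHom (algebraMap k K)))) ↔ _root_.IsReduced (R ⊗[k] K) := by
  have e := pullbackSpecIso k R K
  constructor
  · intro h
    haveI : IsReduced (Spec (CommRingCat.of (R ⊗[k] K))) := isReduced_of_isOpenImmersion e.inv
    exact (affine_isReduced_iff (CommRingCat.of (R ⊗[k] K))).mp inferInstance
  · intro h
    haveI : IsReduced (Spec (CommRingCat.of (R ⊗[k] K))) := inferInstance
    exact isReduced_of_isOpenImmersion e.hom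

variable {k : Type u} [Field k] {X : Scheme.{u}} (f : X ⟶ Spec (CommRingCat.of k))

/-- The `k`-algebra structure on the `i`-th chart ring of the standard affine cover. -/
noncomputable def chartAlgebra (i : X.affineOpenCover.I₀) : Algebra k (X.affineOpenCover.X i) :=
  (Spec.preimage (X.affineOpenCover.openCover.f i ≫ f)).hom.toAlgebra

theorem specMap_chartAlgebra (i : X.affineOpenCover.I₀) :
    Spec.map (CommRingCat.ofHom (@algebraMap k (X.affineOpenCover.X i) _ _ (chartAlgebra f i))) =
      X.affineOpenCover.openCover.f i ≫ f := by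
  have : CommRingCat.ofHom (@algebraMap k (X.affineOpenCover.X i) _ _ (chartAlgebra f i)) =
      Spec.preimage (X.affineOpenCover.openCover.f i ≫ f) := rfl
  rw [this]
  exact Spec.map_preimage _

theorem isReduced_pullback_iff (K : Type u) [Field K] [Algebra k K] :
    IsReduced (pullback f (Spec.map (CommRingCat.ofHom (algebraMap k K)))) ↔
      ∀ i : X.affineOpenCover.I₀,
        _root_.IsReduced (@TensorProduct k _ (X.affineOpenCover.X i) K _ _
          (chartAlgebra f i).toModule _) := by
  let 𝒱 := Scheme.Pullback.openCoverOfLeft X.affineOpenCover.openCover f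
    (Spec.map (CommRingCat.ofHom (algebraMap k K)))
  have key : ∀ i : X.affineOpenCover.I₀,
      (IsReduced (𝒱.X i) ↔ _root_.IsReduced (@TensorProduct k _ (X.affineOpenCover.X i) K _ _
          (chartAlgebra f i).toModule _)) := by
    intro i
    have e1 : 𝒱.X i = pullback (X.affineOpenCover.openCover.f i ≫ f)
      (Spec.map (CommRingCat.ofHom (algebraMap k K))) := rfl
    rw [e1, ← specMap_chartAlgebra f i]
    exact @isReduced_pullback_specMap_iff k (X.affineOpenCover.X i) K _ _ _ (chartAlgebra f i) _
  constructor
  · intro h i
    haveI : IsReduced (𝒱.X i) := isReduced_of_isOpenImmersion (𝒱.f i)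
    exact (key i).mp inferInstance
  · intro h
    haveI : ∀ i, IsReduced (𝒱.X i) := fun i => (key i).mpr (h i)
    exact IsReduced.of_openCover _ 𝒱

end Groth.Agent.H38.BaseChangeAffine
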