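import Mathlib
import Groth.Prelude.Def_EtModW
import Groth.Prelude.Def_FixPt
import Groth.Agent.H38.CM_Defs
import Groth.Agent.H51.CM_G
import Groth.Agent.S6642

/-!
# Pullback of a constructible sheaf of `Λ`-modules is constructible
-/

set_option autoImplicit false
universe u
open CategoryTheory CategoryTheory.Limits AlgebraicGeometry Opposite
open Groth.Agent.H38.CMDefs

namespace Groth.Agent.H38.CM

variable (Λ : Type (u + 1)) [CommRing Λ]

/-- `IsFTLocConst` is invariant under isomorphism. -/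
theorem isFTLocConst_of_iso {X : Scheme.{u}} {E E' : EtModW.Mod Λ X} (e : E ≅ E')
    (h : EtModW.IsFTLocConst Λ E) : EtModW.IsFTLocConst Λ E' := by
  obtain ⟨ι, U, hU, hloc⟩ := h
  refine ⟨ι, U, hU, fun i => ?_⟩
  obtain ⟨M, i1, i2, i3, ⟨a⟩⟩ := hloc i
  exact ⟨M, i1, i2, i3, ⟨((X.smallEtaleTopology.overPullback (ModuleCat.{u + 1} Λ) (U i)).mapIso
    e).symm ≪≫ a⟩⟩

/-- the predicate "the pullback of `F` to `T` is locally constant of finite type". -/
def PLC {Y : Scheme.{u}} (F : EtModW.Mod Λ Y) : ∀ {T : Scheme.{u}}, (T ⟶ Y) → Prop :=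
  fun {_} g => EtModW.IsFTLocConst Λ ((EtModW.pull Λ g).obj F)

theorem PLC_comp {Y : Scheme.{u}} (F : EtModW.Mod Λ Y) {T T' : Scheme.{u}} (g : T ⟶ Y)
    (h : T' ⟶ T) (hg : PLC Λ F g) : PLC Λ F (h ≫ g) := by
  have h1 : EtModW.IsFTLocConst Λ ((EtModW.pull Λ h).obj ((EtModW.pull Λ g).obj F)) :=
    (Groth.Agent.S6642.result h).2.2 Λ _ hg
  exact isFTLocConst_of_iso Λ ((FixPt.pullComp h g).app F).symm h1

theorem adaptedStrata_iff {Y : Scheme.{u}} (F : EtModW.Mod Λ Y) (S : Set Y) :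
    EtModW.AdaptedStrata Λ F S ↔ AdaptedP (PLC Λ F) S := Iff.rfl

/-- (CM) -/
theorem isConstructible_pull {X Y : Scheme.{u}} (f : X ⟶ Y) (F : EtModW.Mod Λ Y)
    (hF : EtModW.IsConstructible Λ F) :
    EtModW.IsConstructible Λ ((EtModW.pull Λ f).obj F) := by
  intro U hU
  have h := Groth.Agent.H51.CM_G.adaptedP_pull f (PLC Λ F) (fun g h hg => PLC_comp Λ F g h hg)
    (fun V hV => (adaptedStrata_iff Λ F _).mp (hF V hV)) U hU
  obtain ⟨n, T, g, h1, h2, h3, h4, h5⟩ := h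
  refine ⟨n, T, g, h1, h2, h3, h4, fun i => ?_⟩
  exact isFTLocConst_of_iso Λ ((FixPt.pullComp (g i) f).app F) (h5 i)

end Groth.Agent.H38.CM
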