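import Mathlib

set_option autoImplicit false
universe u

namespace Groth.Agent.H38

open Topology Set

theorem exists_open_closure_disjoint {X : Type u} [TopologicalSpace X] (Z : Set X)
    (hZsep : ∀ z ∈ Z, ∀ z' ∈ Z, z ≠ z' →
      ∃ A B : Set X, IsOpen A ∧ IsOpen B ∧ z ∈ A ∧ z' ∈ B ∧ Disjoint A B)
    {z : X} (hz : z ∈ Z) {K : Set X} (hK : IsCompact K) (hKZ : K ⊆ Z) (hzK : z ∉ K) :
    ∃ A : Set X, IsOpen A ∧ z ∈ A ∧ Disjoint (closure A) K := by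
  have key : ∃ A Bu : Set X, IsOpen A ∧ z ∈ A ∧ IsOpen Bu ∧ K ⊆ Bu ∧ Disjoint A Bu := by
    refine hK.induction_on (p := fun K' => ∃ A Bu : Set X, IsOpen A ∧ z ∈ A ∧ IsOpen Bu ∧
      K' ⊆ Bu ∧ Disjoint A Bu) ?_ ?_ ?_ ?_
    · exact ⟨univ, ∅, isOpen_univ, trivial, isOpen_empty, subset_rfl, disjoint_bot_right⟩
    · rintro s t hst ⟨A, Bu, hA, hzA, hBu, htBu, hd⟩
      exact ⟨A, Bu, hA, hzA, hBu, hst.trans htBu, hd⟩
    · rintro s t ⟨A₁, B₁, hA₁, hzA₁, hB₁, hsB₁, hd₁⟩ ⟨A₂, B₂, hA₂, hzA₂, hB₂, htB₂, hd₂⟩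
      refine ⟨A₁ ∩ A₂, B₁ ∪ B₂, hA₁.inter hA₂, ⟨hzA₁, hzA₂⟩, hB₁.union hB₂,
        union_subset_union hsB₁ htB₂, ?_⟩
      rw [disjoint_union_right]
      exact ⟨hd₁.mono_left inter_subset_left, hd₂.mono_left inter_subset_right⟩
    · intro k hk
      have hne : z ≠ k := fun h => hzK (h ▸ hk)
      obtain ⟨A, Bk, hA, hBk, hzA, hkB, hd⟩ := hZsep z hz k (hKZ hk) hne
      exact ⟨Bk, mem_nhdsWithin_of_mem_nhds (hBk.mem_nhds hkB), A, Bk, hA, hzA, hBk,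
        subset_rfl, hd⟩
  obtain ⟨A, Bu, hA, hzA, hBu, hKBu, hd⟩ := key
  exact ⟨A, hA, hzA, (hd.closure_left hBu).mono_right hKBu⟩

theorem exists_opens_lifting_cover {X : Type u} [TopologicalSpace X]
    (Z : Set X) (hZ : IsCompact Z)
    (hZsep : ∀ z ∈ Z, ∀ z' ∈ Z, z ≠ z' →
      ∃ A B : Set X, IsOpen A ∧ IsOpen B ∧ z ∈ A ∧ z' ∈ B ∧ Disjoint A B)
    {ι : Type u} (U : ι → Set X) (hU : ∀ i, IsOpen (U i)) (hcov : Z ⊆ ⋃ i, U i) (p : ℕ)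
    (W : (Fin (p + 1) → ι) → Set X) (hWo : ∀ t, IsOpen (W t))
    (hWZ : ∀ t, W t ∩ Z = (⋂ l, U (t l)) ∩ Z) :
    ∃ V : ι → Set X, (∀ i, IsOpen (V i)) ∧ (Z ⊆ ⋃ i, V i) ∧ (∀ i, V i ⊆ U i) ∧
      (∀ i, closure (V i) ∩ Z ⊆ U i) ∧ (∀ t : Fin (p + 1) → ι, (⋂ l, V (t l)) ⊆ W t) := by
  classical
  have h1 : ∀ z : Z, ∃ (i : ι) (A : Set X),
      IsOpen A ∧ z.1 ∈ A ∧ A ⊆ U i ∧ closure A ∩ Z ⊆ U i := by
    intro z
    obtain ⟨i, hi⟩ := mem_iUnion.mp (hcov z.2)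
    have hK : IsCompact (Z ∩ (U i)ᶜ) := hZ.inter_right (hU i).isClosed_compl
    obtain ⟨A₀, hA₀, hzA₀, hd⟩ :=
      exists_open_closure_disjoint Z hZsep z.2 hK inter_subset_left (fun h => h.2 hi)
    refine ⟨i, A₀ ∩ U i, hA₀.inter (hU i), ⟨hzA₀, hi⟩, inter_subset_right, ?_⟩
    rintro y ⟨hyA, hyZ⟩
    by_contra hyU
    exact Set.disjoint_left.mp hd (closure_mono inter_subset_left hyA) ⟨hyZ, hyU⟩
  choose idx A hAo hzA hAU hAcl using h1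
  obtain ⟨S, hS⟩ := hZ.elim_finite_subcover (fun z : Z => A z) hAo
    (fun y hy => mem_iUnion.mpr ⟨⟨y, hy⟩, hzA ⟨y, hy⟩⟩)
  let V' : ι → Set X := fun i => ⋃ z ∈ S.filter (fun z => idx z = i), A z
  let C : ι → Set X := fun i => ⋃ z ∈ S.filter (fun z => idx z = i), closure (A z)
  have hV'o : ∀ i, IsOpen (V' i) := fun i =>
    isOpen_iUnion fun z => isOpen_iUnion fun _ => hAo z
  have hCcl : ∀ i, IsClosed (C i) := fun i =>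
    isClosed_biUnion_finset fun z _ => isClosed_closure
  have hV'C : ∀ i, V' i ⊆ C i := fun i => iUnion₂_mono fun z _ => subset_closure
  have hCU : ∀ i, C i ∩ Z ⊆ U i := by
    rintro i y ⟨hyC, hyZ⟩
    obtain ⟨z, hz, hyz⟩ := mem_iUnion₂.mp hyC
    have hzi : idx z = i := (Finset.mem_filter.mp hz).2
    rw [← hzi]
    exact hAcl z ⟨hyz, hyZ⟩
  have hV'U : ∀ i, V' i ⊆ U i := by
    intro i y hy
    obtain ⟨z, hz, hyz⟩ := mem_iUnion₂.mp hy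
    have hzi : idx z = i := (Finset.mem_filter.mp hz).2
    rw [← hzi]; exact hAU z hyz
  have hV'cov : Z ⊆ ⋃ i, V' i := by
    intro y hy
    obtain ⟨z, hz, hyz⟩ := mem_iUnion₂.mp (hS hy)
    exact mem_iUnion.mpr ⟨idx z, mem_iUnion₂.mpr ⟨z, Finset.mem_filter.mpr ⟨hz, rfl⟩, hyz⟩⟩
  let I₀ : Finset ι := S.image idx
  have hI₀ : ∀ i, (C i).Nonempty → i ∈ I₀ := by
    rintro i ⟨y, hy⟩
    obtain ⟨z, hz, -⟩ := mem_iUnion₂.mp hy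
    exact Finset.mem_image.mpr ⟨z, (Finset.mem_filter.mp hz).1, (Finset.mem_filter.mp hz).2⟩
  let TT : Finset (Fin (p + 1) → ι) := Fintype.piFinset (fun _ => I₀)
  let N : X → Set X := fun z =>
    (⋂ t ∈ TT.filter (fun t => ∀ l, z ∈ C (t l)), W t) ∩
      (⋂ i ∈ I₀.filter (fun i => z ∉ C i), (C i)ᶜ)
  have hNo : ∀ z, IsOpen (N z) := fun z =>
    (isOpen_biInter_finset fun t _ => hWo t).inter
      (isOpen_biInter_finset fun i _ => (hCcl i).isOpen_compl)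
  have hzN : ∀ z ∈ Z, z ∈ N z := by
    intro z hz
    refine ⟨mem_iInter₂.mpr fun t ht => ?_,
      mem_iInter₂.mpr fun i hi => (Finset.mem_filter.mp hi).2⟩
    have hall : ∀ l, z ∈ C (t l) := (Finset.mem_filter.mp ht).2
    have hmem : z ∈ (⋂ l, U (t l)) ∩ Z :=
      ⟨mem_iInter.mpr fun l => hCU (t l) ⟨hall l, hz⟩, hz⟩
    rw [← hWZ t] at hmem
    exact hmem.1
  have hNno : IsOpen (⋃ z ∈ Z, N z) := isOpen_biUnion fun z _ => hNo z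
  have hZN : Z ⊆ ⋃ z ∈ Z, N z := fun z hz => mem_iUnion₂.mpr ⟨z, hz, hzN z hz⟩
  refine ⟨fun i => V' i ∩ ⋃ z ∈ Z, N z, fun i => (hV'o i).inter hNno, ?_,
    fun i => inter_subset_left.trans (hV'U i), ?_, ?_⟩
  · intro y hy
    obtain ⟨i, hi⟩ := mem_iUnion.mp (hV'cov hy)
    exact mem_iUnion.mpr ⟨i, hi, hZN hy⟩
  · rintro i y ⟨hycl, hyZ⟩
    have hyC : y ∈ C i :=
      (closure_minimal (inter_subset_left.trans (hV'C i)) (hCcl i)) hycl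
    exact hCU i ⟨hyC, hyZ⟩
  · intro t x hx
    have hx' : ∀ l, x ∈ V' (t l) ∩ ⋃ z ∈ Z, N z := fun l => mem_iInter.mp hx l
    obtain ⟨z, hzZ, hxz⟩ := mem_iUnion₂.mp (hx' 0).2
    have htI : ∀ l, t l ∈ I₀ := fun l => hI₀ _ ⟨x, hV'C _ (hx' l).1⟩
    have htT : t ∈ TT := Fintype.mem_piFinset.mpr htI
    by_cases hall : ∀ l, z ∈ C (t l)
    · exact mem_iInter₂.mp hxz.1 t (Finset.mem_filter.mpr ⟨htT, hall⟩)
    · push Not at hall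
      obtain ⟨l, hl⟩ := hall
      have hnot := mem_iInter₂.mp hxz.2 (t l) (Finset.mem_filter.mpr ⟨htI l, hl⟩)
      exact absurd (hV'C _ (hx' l).1) hnot

end Groth.Agent.H38
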