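import Mathlib
import Groth.Agent.H38.Shrink

set_option autoImplicit false
universe u

namespace Groth.Agent.H38

open Topology Set

theorem exists_cech_refinement {X : Type u} [TopologicalSpace X] [CompactSpace X] [T2Space X]
    {ι : Type u} (U : ι → Set X) (hU : ∀ i, IsOpen (U i)) (hcov : ⋃ i, U i = Set.univ) (p : ℕ)
    (W : (Fin (p + 1) → ι) → Set (Set X)) (hWo : ∀ t, ∀ w ∈ W t, IsOpen w)
    (hWc : ∀ t, ⋃₀ W t = ⋂ l, U (t l)) (hWne : ∀ t, (W t).Nonempty) :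
    ∃ (J : Type u) (V : J → Set X) (α : J → ι), (∀ j, IsOpen (V j)) ∧ (⋃ j, V j = Set.univ) ∧
      (∀ j, closure (V j) ⊆ U (α j)) ∧
      (∀ t : Fin (p + 1) → J, ∃ w ∈ W (α ∘ t), (⋂ l, V (t l)) ⊆ w) := by
  classical
  obtain ⟨V', hV'o, hV'cov, hV'U, hV'cl, -⟩ :=
    exists_opens_lifting_cover (univ : Set X) isCompact_univ
      (fun z _ z' _ hne => t2_separation hne)
      U hU (by rw [hcov]) 0 (fun t => ⋂ l, U (t l))
      (fun t => isOpen_iInter_of_finite fun l => hU _) (fun t => rfl)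
  obtain ⟨I₀, hI₀⟩ := isCompact_univ.elim_finite_subcover V' hV'o hV'cov
  have hCU : ∀ i, closure (V' i) ⊆ U i := fun i y hy => hV'cl i ⟨hy, trivial⟩
  let TT : Finset (Fin (p + 1) → ι) := Fintype.piFinset (fun _ => I₀)
  have hsel : ∀ (x : X) (t : Fin (p + 1) → ι), ∃ w ∈ W t, (x ∈ ⋃₀ W t → x ∈ w) := by
    intro x t
    by_cases h : x ∈ ⋃₀ W t
    · obtain ⟨w, hw, hxw⟩ := h; exact ⟨w, hw, fun _ => hxw⟩
    · obtain ⟨w, hw⟩ := hWne t; exact ⟨w, hw, fun h' => absurd h' h⟩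
  choose wsel hwselW hwselx using hsel
  let N : X → Set X := fun x =>
    (⋂ t ∈ TT.filter (fun t => ∀ l, x ∈ closure (V' (t l))), wsel x t) ∩
      (⋂ i ∈ I₀.filter (fun i => x ∉ closure (V' i)), (closure (V' i))ᶜ)
  have hNo : ∀ x, IsOpen (N x) := fun x =>
    (isOpen_biInter_finset fun t _ => hWo t _ (hwselW x t)).inter
      (isOpen_biInter_finset fun i _ => isClosed_closure.isOpen_compl)
  have hxN : ∀ x, x ∈ N x := by
    intro x
    refine ⟨mem_iInter₂.mpr fun t ht => ?_,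
      mem_iInter₂.mpr fun i hi => (Finset.mem_filter.mp hi).2⟩
    apply hwselx
    rw [hWc]
    exact mem_iInter.mpr fun l => hCU _ ((Finset.mem_filter.mp ht).2 l)
  obtain ⟨S', hS'⟩ := isCompact_univ.elim_finite_subcover N hNo
    (fun x _ => mem_iUnion.mpr ⟨x, hxN x⟩)
  let J : Type u := {j : ι × X // j.1 ∈ I₀ ∧ j.2 ∈ S'}
  let α : J → ι := fun j => j.1.1
  let V : J → Set X := fun j => V' j.1.1 ∩ N j.1.2
  refine ⟨J, V, α, fun j => (hV'o _).inter (hNo _), ?_, ?_, ?_⟩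
  · rw [eq_univ_iff_forall]; intro y
    obtain ⟨i, hi, hyi⟩ := mem_iUnion₂.mp (hI₀ (mem_univ y))
    obtain ⟨x, hx, hyx⟩ := mem_iUnion₂.mp (hS' (mem_univ y))
    exact mem_iUnion.mpr ⟨⟨(i, x), hi, hx⟩, hyi, hyx⟩
  · intro j; exact (closure_mono inter_subset_left).trans (hCU _)
  · intro t
    have hτI : ∀ l, (α ∘ t) l ∈ I₀ := fun l => (t l).2.1
    have hτT : (α ∘ t) ∈ TT := Fintype.mem_piFinset.mpr hτI
    by_cases hall : ∀ l, (t 0).1.2 ∈ closure (V' ((α ∘ t) l))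
    · refine ⟨wsel (t 0).1.2 (α ∘ t), hwselW _ _, ?_⟩
      intro y hy
      have hy0 : y ∈ N (t 0).1.2 := (mem_iInter.mp hy 0).2
      exact mem_iInter₂.mp hy0.1 _ (Finset.mem_filter.mpr ⟨hτT, hall⟩)
    · push Not at hall
      obtain ⟨l, hl⟩ := hall
      obtain ⟨w, hw⟩ := hWne (α ∘ t)
      refine ⟨w, hw, ?_⟩
      intro y hy
      exfalso
      have hy0 : y ∈ N (t 0).1.2 := (mem_iInter.mp hy 0).2
      have hyl : y ∈ V' ((α ∘ t) l) := (mem_iInter.mp hy l).1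
      have hnot := mem_iInter₂.mp hy0.2 ((α ∘ t) l) (Finset.mem_filter.mpr ⟨hτI l, hl⟩)
      exact hnot (subset_closure hyl)

end Groth.Agent.H38
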