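import Mathlib

set_option autoImplicit false
universe u

namespace Groth.Agent.H38

open Topology Set

/-- In a compact space, a compact set disjoint from the intersection of all clopen neighbourhoods
of `x` is disjoint from one such clopen. -/
theorem exists_isClopen_disjoint_of_inter_sInter_eq_empty {X : Type u} [TopologicalSpace X]
    (x : X) (K : Set X) (hK : IsCompact K)
    (hKS : K ∩ ⋂₀ {Z : Set X | IsClopen Z ∧ x ∈ Z} = ∅) :
    ∃ Z, IsClopen Z ∧ x ∈ Z ∧ K ∩ Z = ∅ := by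
  classical
  let t : {Z : Set X // IsClopen Z ∧ x ∈ Z} → Set X := fun Z => Z.1
  have hst : K ∩ ⋂ i, t i = ∅ := by
    rw [← hKS, sInter_eq_iInter]
    rfl
  obtain ⟨u, hu⟩ := hK.elim_finite_subfamily_closed t (fun i => i.2.1.isClosed) hst
  refine ⟨⋂ i ∈ u, t i, isClopen_biInter_finset fun i _ => i.2.1, ?_, hu⟩
  exact mem_iInter₂.mpr fun i _ => i.2.2

/-- Stacks 04PL. -/
theorem connectedComponent_eq_sInter_isClopen {X : Type u} [TopologicalSpace X]
    [CompactSpace X] [PrespectralSpace X] [QuasiSeparatedSpace X] (x : X) :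
    connectedComponent x = ⋂₀ {Z : Set X | IsClopen Z ∧ x ∈ Z} := by
  classical
  set S : Set X := ⋂₀ {Z : Set X | IsClopen Z ∧ x ∈ Z} with hS
  have hxS : x ∈ S := fun Z hZ => hZ.2
  have hScl : IsClosed S := isClosed_sInter fun Z hZ => hZ.1.isClosed
  have key : ∀ K : Set X, IsCompact K → K ∩ S = ∅ → ∃ Z, IsClopen Z ∧ x ∈ Z ∧ K ∩ Z = ∅ :=
    fun K hK hKS => exists_isClopen_disjoint_of_inter_sInter_eq_empty x K hK hKS
  apply subset_antisymm
  · exact subset_sInter fun Z hZ => hZ.1.connectedComponent_subset hZ.2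
  · refine IsPreconnected.subset_connectedComponent ?_ hxS
    rw [isPreconnected_iff_subset_of_fully_disjoint_closed hScl]
    intro u v hu hv hSuv huv
    have hB : IsCompact (S ∩ u) := (hScl.inter hu).isCompact
    have hC : IsCompact (S ∩ v) := (hScl.inter hv).isCompact
    obtain ⟨U, hUc, hUo, hBU, hUv⟩ :=
      PrespectralSpace.exists_isCompact_and_isOpen_between hB hv.isOpen_compl
        (fun y hy => disjoint_left.mp huv hy.2)
    obtain ⟨V, hVc, hVo, hCV, hVu⟩ :=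
      PrespectralSpace.exists_isCompact_and_isOpen_between hC hu.isOpen_compl
        (fun y hy => disjoint_right.mp huv hy.2)
    obtain ⟨Z', hZ'c, hxZ', hZ'⟩ := key (U ∩ V) (hUc.inter_of_isOpen hVc hUo hVo) (by
      rw [eq_empty_iff_forall_notMem]
      rintro y ⟨⟨hyU, hyV⟩, hyS⟩
      rcases hSuv hyS with h | h
      · exact hVu hyV h
      · exact hUv hyU h)
    obtain ⟨Z'', hZ''c, hxZ'', hZ''⟩ := key (U ∪ V)ᶜ
      (hUo.union hVo).isClosed_compl.isCompact (by
      rw [eq_empty_iff_forall_notMem]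
      rintro y ⟨hyUV, hyS⟩
      rcases hSuv hyS with h | h
      · exact hyUV (Or.inl (hBU ⟨hyS, h⟩))
      · exact hyUV (Or.inr (hCV ⟨hyS, h⟩)))
    have hZc : IsClopen (Z' ∩ Z'') := hZ'c.inter hZ''c
    have hxZ : x ∈ Z' ∩ Z'' := ⟨hxZ', hxZ''⟩
    have hZUV : Z' ∩ Z'' ⊆ U ∪ V := by
      intro y hy
      by_contra h
      exact (eq_empty_iff_forall_notMem.mp hZ'' y) ⟨h, hy.2⟩
    have hZUV' : ∀ y ∈ Z' ∩ Z'', y ∈ U → y ∈ V → False := by
      intro y hy hyU hyV
      exact (eq_empty_iff_forall_notMem.mp hZ' y) ⟨⟨hyU, hyV⟩, hy.1⟩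
    have hZU : IsClopen ((Z' ∩ Z'') ∩ U) := by
      refine ⟨?_, hZc.isOpen.inter hUo⟩
      have : (Z' ∩ Z'') ∩ U = (Z' ∩ Z'') ∩ Vᶜ := by
        ext y; constructor
        · rintro ⟨hy, hyU⟩; exact ⟨hy, fun hyV => hZUV' y hy hyU hyV⟩
        · rintro ⟨hy, hyV⟩; exact ⟨hy, (hZUV hy).resolve_right hyV⟩
      rw [this]; exact hZc.isClosed.inter hVo.isClosed_compl
    have hZV : IsClopen ((Z' ∩ Z'') ∩ V) := by
      refine ⟨?_, hZc.isOpen.inter hVo⟩
      have : (Z' ∩ Z'') ∩ V = (Z' ∩ Z'') ∩ Uᶜ := by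
        ext y; constructor
        · rintro ⟨hy, hyV⟩; exact ⟨hy, fun hyU => hZUV' y hy hyU hyV⟩
        · rintro ⟨hy, hyU⟩; exact ⟨hy, (hZUV hy).resolve_left hyU⟩
      rw [this]; exact hZc.isClosed.inter hUo.isClosed_compl
    rcases hSuv hxS with hxu | hxv
    · left
      have hSU : S ⊆ (Z' ∩ Z'') ∩ U := sInter_subset_of_mem ⟨hZU, hxZ, hBU ⟨hxS, hxu⟩⟩
      intro y hy
      rcases hSuv hy with h | h
      · exact h
      · exact absurd h (hUv (hSU hy).2)
    · right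
      have hSV : S ⊆ (Z' ∩ Z'') ∩ V := sInter_subset_of_mem ⟨hZV, hxZ, hCV ⟨hxS, hxv⟩⟩
      intro y hy
      rcases hSuv hy with h | h
      · exact absurd h (hVu (hSV hy).2)
      · exact h

/-- Stacks 04PM. -/
theorem sInter_isClopen_iff {X : Type u} [TopologicalSpace X]
    [CompactSpace X] [PrespectralSpace X] [QuasiSeparatedSpace X] (T : Set X) :
    (∃ S : Set (Set X), (∀ Z ∈ S, IsClopen Z) ∧ T = ⋂₀ S) ↔
      (IsClosed T ∧ ∀ x ∈ T, connectedComponent x ⊆ T) := by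
  constructor
  · rintro ⟨S, hS, rfl⟩
    refine ⟨isClosed_sInter fun Z hZ => (hS Z hZ).isClosed, ?_⟩
    intro x hx
    exact subset_sInter fun Z hZ => (hS Z hZ).connectedComponent_subset (hx Z hZ)
  · rintro ⟨hTcl, hT⟩
    refine ⟨{Z | IsClopen Z ∧ T ⊆ Z}, fun Z hZ => hZ.1, ?_⟩
    apply subset_antisymm
    · exact subset_sInter fun Z hZ => hZ.2
    · intro x hx
      by_contra hxT
      have hdisj : T ∩ ⋂₀ {Z : Set X | IsClopen Z ∧ x ∈ Z} = ∅ := by
        rw [← connectedComponent_eq_sInter_isClopen x, eq_empty_iff_forall_notMem]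
        rintro y ⟨hyT, hyC⟩
        have := hT y hyT
        rw [← connectedComponent_eq hyC] at this
        exact hxT (this mem_connectedComponent)
      obtain ⟨Z, hZc, hxZ, hZ⟩ :=
        exists_isClopen_disjoint_of_inter_sInter_eq_empty x T hTcl.isCompact hdisj
      have hmem : Zᶜ ∈ {Z | IsClopen Z ∧ T ⊆ Z} := by
        refine ⟨hZc.compl, ?_⟩
        intro y hyT hyZ
        exact (eq_empty_iff_forall_notMem.mp hZ y) ⟨hyT, hyZ⟩
      exact hx Zᶜ hmem hxZ

end Groth.Agent.H38
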