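import Mathlib

set_option autoImplicit false
universe u

namespace Groth.Agent.H38

open CategoryTheory TopologicalSpace Opposite TopCat

section

variable {Z X : TopCat.{u}} (i : Z ⟶ X)

/-- The largest open of `X` whose preimage is contained in `V`. -/
def gc (V : Opens Z) : Opens X := sSup {U : Opens X | (Opens.map i).obj U ≤ V}

lemma gc_mono {V V' : Opens Z} (h : V ≤ V') : gc i V ≤ gc i V' :=
  sSup_le_sSup fun _ hU => le_trans hU h

lemma le_gc {U : Opens X} {V : Opens Z} (h : (Opens.map i).obj U ≤ V) : U ≤ gc i V :=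
  le_sSup h

lemma map_gc_le (V : Opens Z) : (Opens.map i).obj (gc i V) ≤ V := by
  intro z hz
  obtain ⟨U, hU, hzU⟩ := Opens.mem_sSup.mp (show i z ∈ sSup _ from hz)
  exact hU hzU

lemma map_gc (hi : Topology.IsInducing i) (V : Opens Z) : (Opens.map i).obj (gc i V) = V := by
  apply le_antisymm (map_gc_le i V)
  obtain ⟨U, hU, hUV⟩ := hi.isOpen_iff.mp V.isOpen
  have hUV' : (Opens.map i).obj ⟨U, hU⟩ = V := Opens.ext hUV
  have hle : (⟨U, hU⟩ : Opens X) ≤ gc i V := le_gc i hUV'.le
  intro z hz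
  have hz' : z ∈ (Opens.map i).obj ⟨U, hU⟩ := hUV'.symm ▸ hz
  exact hle hz'

end

section

variable {Y : TopCat.{u}}

lemma pmap_map_apply {P : (Opens Y)ᵒᵖ ⥤ Type u} {A B C : (Opens Y)ᵒᵖ} (f : A ⟶ B) (g : B ⟶ C)
    (h : A ⟶ C) (s : P.obj A) : P.map g (P.map f s) = P.map h s := by
  have hfg : f ≫ g = h := Subsingleton.elim _ _
  rw [← hfg, Functor.map_comp_apply]

lemma pmap_map_eq {P : (Opens Y)ᵒᵖ ⥤ Type u} {A B B' C : (Opens Y)ᵒᵖ} (f : A ⟶ B) (g : B ⟶ C)
    (f' : A ⟶ B') (g' : B' ⟶ C) (s : P.obj A) :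
    P.map g (P.map f s) = P.map g' (P.map f' s) :=
  (pmap_map_apply f g (f ≫ g) s).trans (pmap_map_apply f' g' (f ≫ g) s).symm

lemma pmap_eq {P : (Opens Y)ᵒᵖ ⥤ Type u} {A B : (Opens Y)ᵒᵖ} (f f' : A ⟶ B) (s : P.obj A) :
    P.map f s = P.map f' s := by
  have : f = f' := Subsingleton.elim _ _
  rw [this]

lemma pmap_self {P : (Opens Y)ᵒᵖ ⥤ Type u} {A : (Opens Y)ᵒᵖ} (f : A ⟶ A) (s : P.obj A) :
    P.map f s = s := by
  have : f = 𝟙 A := Subsingleton.elim _ _
  rw [this, Functor.map_id_apply]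

end

section

variable {Z X : TopCat.{u}} {i : Z ⟶ X}

theorem pushforward_faithful (hi : Topology.IsInducing i) :
    (TopCat.Sheaf.pushforward (Type u) i).Faithful := by
  refine ⟨fun {F G} φ φ' h => ?_⟩
  apply CategoryTheory.Sheaf.hom_ext
  apply NatTrans.ext
  funext V
  obtain ⟨V⟩ := V
  have hV := map_gc i hi V
  have key : ∀ U : Opens X, φ.1.app (op ((Opens.map i).obj U)) =
      φ'.1.app (op ((Opens.map i).obj U)) := fun U =>
    congrArg (fun α : (TopCat.Sheaf.pushforward (Type u) i).obj F ⟶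
      (TopCat.Sheaf.pushforward (Type u) i).obj G => α.1.app (op U)) h
  have := key (gc i V)
  rw [hV] at this
  exact this

/-- The morphism of sheaves on `Z` induced by a morphism between pushforwards. -/
def liftHom (hi : Topology.IsInducing i) {F G : Z.Sheaf (Type u)}
    (ψ : (TopCat.Sheaf.pushforward (Type u) i).obj F ⟶
      (TopCat.Sheaf.pushforward (Type u) i).obj G) : F ⟶ G :=
  ObjectProperty.homMk
    { app := fun V => TypeCat.ofHom fun s =>
        G.1.map (homOfLE (map_gc i hi V.unop).ge).op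
          (ψ.1.app (op (gc i V.unop)) (F.1.map (homOfLE (map_gc i hi V.unop).le).op s))
      naturality := by
        intro V V' f
        ext s
        change G.1.map (homOfLE (map_gc i hi V'.unop).ge).op
            (ψ.1.app (op (gc i V'.unop))
              (F.1.map (homOfLE (map_gc i hi V'.unop).le).op (F.1.map f s))) =
          G.1.map f (G.1.map (homOfLE (map_gc i hi V.unop).ge).op
            (ψ.1.app (op (gc i V.unop)) (F.1.map (homOfLE (map_gc i hi V.unop).le).op s)))
        let g : gc i V'.unop ⟶ gc i V.unop := homOfLE (gc_mono i (leOfHom f.unop))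
        have h1 : F.1.map (homOfLE (map_gc i hi V'.unop).le).op (F.1.map f s) =
            F.1.map ((Opens.map i).map g).op
              (F.1.map (homOfLE (map_gc i hi V.unop).le).op s) := pmap_map_eq _ _ _ _ s
        have h2 : ψ.1.app (op (gc i V'.unop)) (F.1.map ((Opens.map i).map g).op
              (F.1.map (homOfLE (map_gc i hi V.unop).le).op s)) =
            G.1.map ((Opens.map i).map g).op (ψ.1.app (op (gc i V.unop))
              (F.1.map (homOfLE (map_gc i hi V.unop).le).op s)) :=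
          NatTrans.naturality_apply ψ.1 g.op _
        rw [h1, h2]
        exact pmap_map_eq _ _ _ _ _ }

theorem pushforward_full (hi : Topology.IsInducing i) :
    (TopCat.Sheaf.pushforward (Type u) i).Full := by
  refine ⟨fun {F G} ψ => ⟨liftHom hi ψ, ?_⟩⟩
  apply CategoryTheory.Sheaf.hom_ext
  apply NatTrans.ext
  funext U
  obtain ⟨U⟩ := U
  ext s
  change G.1.map (homOfLE (map_gc i hi ((Opens.map i).obj U)).ge).op
    (ψ.1.app (op (gc i ((Opens.map i).obj U)))
      (F.1.map (homOfLE (map_gc i hi ((Opens.map i).obj U)).le).op s)) = ψ.1.app (op U) s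
  let g : U ⟶ gc i ((Opens.map i).obj U) := homOfLE (le_gc i le_rfl)
  have h2 : ψ.1.app (op U) (F.1.map ((Opens.map i).map g).op
        (F.1.map (homOfLE (map_gc i hi ((Opens.map i).obj U)).le).op s)) =
      G.1.map ((Opens.map i).map g).op (ψ.1.app (op (gc i ((Opens.map i).obj U)))
        (F.1.map (homOfLE (map_gc i hi ((Opens.map i).obj U)).le).op s)) :=
    NatTrans.naturality_apply ψ.1 g.op _
  have h3 : F.1.map ((Opens.map i).map g).op
      (F.1.map (homOfLE (map_gc i hi ((Opens.map i).obj U)).le).op s) = s :=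
    (pmap_map_apply (P := F.1) _ _ (𝟙 _) s).trans (pmap_self (P := F.1) _ s)
  rw [h3] at h2
  rw [h2]
  exact pmap_eq (P := G.1) _ _ _

theorem unique_sections_of_eq_bot (F : Z.Sheaf (Type u)) {V : Opens Z} (h : V = ⊥) :
    Nonempty (Unique (F.1.obj (op V))) :=
  ⟨(Limits.Types.isTerminalEquivUnique _) (F.isTerminalOfEqEmpty h)⟩

theorem stalk_pushforward_unique (hi : Topology.IsClosedEmbedding i) (F : Z.Sheaf (Type u))
    (x : X) (hx : x ∉ Set.range i) :
    Nonempty (Unique (((TopCat.Sheaf.pushforward (Type u) i).obj F).presheaf.stalk x)) := by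
  let W : Opens X := ⟨(Set.range i)ᶜ, hi.isClosed_range.isOpen_compl⟩
  have hxW : x ∈ W := hx
  have hbot : ∀ W' : Opens X, W' ≤ W → (Opens.map i).obj W' = ⊥ := by
    intro W' h
    apply le_antisymm _ bot_le
    intro z hz
    exact absurd ⟨z, rfl⟩ (h (show i z ∈ W' from hz))
  obtain ⟨uW⟩ := unique_sections_of_eq_bot F (hbot W le_rfl)
  refine ⟨⟨⟨TopCat.Presheaf.germ
      ((TopCat.Sheaf.pushforward (Type u) i).obj F).presheaf W x hxW uW.default⟩, ?_⟩⟩
  intro t
  obtain ⟨W₁, hxW₁, s₁, rfl⟩ := TopCat.Presheaf.exists_germ_eq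
    ((TopCat.Sheaf.pushforward (Type u) i).obj F).presheaf t
  apply TopCat.Presheaf.germ_ext ((TopCat.Sheaf.pushforward (Type u) i).obj F).presheaf
    (W₁ ⊓ W) ⟨hxW₁, hxW⟩ (homOfLE inf_le_left) (homOfLE inf_le_right)
  obtain ⟨u'⟩ := unique_sections_of_eq_bot F (hbot (W₁ ⊓ W) inf_le_right)
  exact (u'.uniq _).trans (u'.uniq _).symm

end

end Groth.Agent.H38
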