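import Groth.Prelude.Def_Algz
import Groth.Agent.S8815
import Mathlib.AlgebraicGeometry.Stalk

set_option autoImplicit false
universe u
open CategoryTheory AlgebraicGeometry

namespace Groth.Agent.H38.CodimStalk

/-- the underlying map of `stalkEmb`. -/
noncomputable def stalkFun (Y : Scheme.{u}) (v : Y) :
    (PrimeSpectrum (Y.presheaf.stalk v))ᵒᵈ → Set.Ici (Specialization.toEquiv v) :=
  fun P => ⟨Specialization.toEquiv ((Y.fromSpecStalk v).base (OrderDual.ofDual P)), by
    rw [Set.mem_Ici, Specialization.toEquiv_le_toEquiv]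
    have : (Y.fromSpecStalk v).base (OrderDual.ofDual P) ∈ Set.range (Y.fromSpecStalk v).base :=
      ⟨_, rfl⟩
    rw [Scheme.range_fromSpecStalk] at this
    exact this⟩

lemma stalkFun_val (Y : Scheme.{u}) (v : Y) (P : (PrimeSpectrum (Y.presheaf.stalk v))ᵒᵈ) :
    Specialization.ofEquiv (stalkFun Y v P).1 = (Y.fromSpecStalk v).base (OrderDual.ofDual P) :=
  rfl

/-- the order embedding of `(Spec O_{Y,v})ᵒᵈ` into the generizations of `v`. -/
noncomputable def stalkEmb (Y : Scheme.{u}) (v : Y) :
    (PrimeSpectrum (Y.presheaf.stalk v))ᵒᵈ ↪o Set.Ici (Specialization.toEquiv v) where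
  toFun := stalkFun Y v
  inj' := by
    intro P Q hPQ
    have h1 : (Y.fromSpecStalk v).base (OrderDual.ofDual P) =
        (Y.fromSpecStalk v).base (OrderDual.ofDual Q) := by
      rw [← stalkFun_val, ← stalkFun_val, hPQ]
    exact (Y.fromSpecStalk v).isEmbedding.injective h1
  map_rel_iff' := by
    intro P Q
    show Specialization.toEquiv ((Y.fromSpecStalk v).base (OrderDual.ofDual P)) ≤
      Specialization.toEquiv ((Y.fromSpecStalk v).base (OrderDual.ofDual Q)) ↔ P ≤ Q
    rw [Specialization.toEquiv_le_toEquiv,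
      (Y.fromSpecStalk v).isEmbedding.isInducing.specializes_iff]
    exact (PrimeSpectrum.le_iff_specializes (OrderDual.ofDual Q) (OrderDual.ofDual P)).symm

lemma stalkEmb_surjective (Y : Scheme.{u}) (v : Y) : Function.Surjective (stalkEmb Y v) := by
  intro z
  have hz : Specialization.ofEquiv z.1 ⤳ v := Specialization.ofEquiv_specializes_ofEquiv.mpr z.2
  have : Specialization.ofEquiv z.1 ∈ Set.range (Y.fromSpecStalk v).base := by
    rw [Scheme.range_fromSpecStalk]
    exact hz
  obtain ⟨P, hP⟩ := this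
  refine ⟨OrderDual.toDual P, ?_⟩
  apply Subtype.ext
  exact hP

/-- the codimension of the closure of `v` in the closure of `w` is the coheight of the prime of
`O_{Y,v}` corresponding to `w`. -/
theorem codimPt_eq_coheight (Y : Scheme.{u}) {w v : Y} (h : w ⤳ v)
    (P : PrimeSpectrum (Y.presheaf.stalk v)) (hP : (Y.fromSpecStalk v).base P = w) :
    Algz.codimPt w v h = Order.coheight P := by
  unfold Algz.codimPt
  have e := Order.height_orderIso (RelIso.ofSurjective (stalkEmb Y v) (stalkEmb_surjective Y v))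
    (OrderDual.toDual P)
  rw [RelIso.ofSurjective_apply, Order.height_toDual] at e
  rw [← e]
  congr 1
  apply Subtype.ext
  exact congrArg Specialization.toEquiv hP.symm

/-- the codimension of the closure of `v` in the closure of `w` is `dim O_{Y,v}/𝔭_w`. -/
theorem codimPt_eq_ringKrullDim (Y : Scheme.{u}) {w v : Y} (h : w ⤳ v)
    (P : PrimeSpectrum (Y.presheaf.stalk v)) (hP : (Y.fromSpecStalk v).base P = w) :
    ((Algz.codimPt w v h : ℕ∞) : WithBot ℕ∞) =
      ringKrullDim (↥(Y.presheaf.stalk v) ⧸ P.asIdeal) := by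
  rw [codimPt_eq_coheight Y h P hP]
  exact (Groth.Agent.S8815.dim_eq _ P).symm

/-- the one-pair system `V_0 = closure z ⊆ W_0 = closure y`. -/
def oneSys {Y : Type u} [TopologicalSpace Y] (Z : Set Y) (y z : Y) (h : y ⤳ z) (hz : z ∈ Z) :
    Algz.DSystem Z y 0 where
  v := fun _ => z
  w := fun _ => y
  spec := fun _ => h
  spec_succ := fun i => i.elim0
  start_mem := hz
  last_eq := rfl

theorem deltaZ_le_codimPt {Y : Type u} [TopologicalSpace Y] (Z : Set Y) (y z : Y) (h : y ⤳ z)
    (hz : z ∈ Z) : Algz.deltaZ Z y ≤ Algz.codimPt y z h := by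
  refine (iInf₂_le 0 (oneSys Z y z h hz)).trans ?_
  unfold Algz.DSystem.delta
  simp only [Nat.cast_zero, zero_add]
  refine Finset.sup_le fun i _ => ?_
  refine tsub_le_self.trans ?_
  rw [Finset.sum_filter]
  simp only [Nat.reduceAdd, Finset.univ_unique, Fin.default_eq_zero, Fin.isValue,
    Finset.sum_singleton]
  split_ifs
  · exact le_rfl
  · exact bot_le

end Groth.Agent.H38.CodimStalk
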