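import Mathlib
import Groth.Agent.H38.GeomRedDescent

/-!
# Descent of geometric irreducibility along surjective base change; fibres under base change
-/

set_option autoImplicit false
universe u
open AlgebraicGeometry CategoryTheory Limits

namespace Groth.Agent.H38.GeomIrrDescent

/-- (DESC) Geometric irreducibility descends along surjective base changes. -/
theorem geometricallyIrreducible_of_isPullback_of_surjective {Y Y' T T' : Scheme.{u}} {g : Y ⟶ T}
    {g' : Y' ⟶ T'} {e : Y' ⟶ Y} {h : T' ⟶ T} (sq : IsPullback e g' g h) [Surjective h]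
    (hg' : GeometricallyIrreducible g') : GeometricallyIrreducible g := by
  refine ⟨fun K _ y Z fst snd hZ => ?_⟩
  let pt : Spec (CommRingCat.of K) := IsLocalRing.closedPoint K
  obtain ⟨t', ht'⟩ := h.surjective (y pt)
  obtain ⟨t'', -, -⟩ := Scheme.Pullback.exists_preimage_pullback (f := h) (g := y) t' pt ht'
  let L : Type u := (pullback h y).residueField t''
  let σ : Spec (CommRingCat.of L) ⟶ pullback h y := (pullback h y).fromSpecResidueField t''
  let yL : Spec (CommRingCat.of L) ⟶ Spec (CommRingCat.of K) := σ ≫ pullback.snd h y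
  let τ : Spec (CommRingCat.of L) ⟶ T' := σ ≫ pullback.fst h y
  have hτ : τ ≫ h = yL ≫ y := by
    simp only [τ, yL, Category.assoc, pullback.condition]
  have hZ' : IrreducibleSpace ↥(pullback g' τ) :=
    hg'.geometrically_irreducibleSpace τ _ _ (IsPullback.of_hasPullback g' τ)
  have big : IsPullback (pullback.fst g' τ ≫ e) (pullback.snd g' τ) g (yL ≫ y) := by
    rw [← hτ]
    exact (IsPullback.of_hasPullback g' τ).paste_horiz sq
  let ℓ : pullback g' τ ⟶ Z := hZ.lift (pullback.fst g' τ ≫ e) (pullback.snd g' τ ≫ yL)
    (by rw [Category.assoc]; exact big.w)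
  have hℓ1 : ℓ ≫ fst = pullback.fst g' τ ≫ e := hZ.lift_fst _ _ _
  have hℓ2 : ℓ ≫ snd = pullback.snd g' τ ≫ yL := hZ.lift_snd _ _ _
  have left : IsPullback ℓ (pullback.snd g' τ) snd yL := by
    refine IsPullback.of_right ?_ hℓ2 hZ
    rw [hℓ1]
    exact big
  haveI : Subsingleton ↥(Spec (CommRingCat.of K)) :=
    inferInstanceAs (Subsingleton (PrimeSpectrum K))
  haveI : Nonempty ↥(Spec (CommRingCat.of L)) := inferInstanceAs (Nonempty (PrimeSpectrum L))
  haveI : Surjective yL := ⟨fun t => ⟨Classical.arbitrary _, Subsingleton.elim _ _⟩⟩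
  haveI : Surjective ℓ := MorphismProperty.of_isPullback (P := @Surjective) left.flip inferInstance
  have hirr : IsIrreducible (Set.univ : Set ↥Z) := by
    have h1 : IsIrreducible (ℓ '' (Set.univ : Set ↥(pullback g' τ))) :=
      (IrreducibleSpace.isIrreducible_univ _).image ℓ ℓ.continuous.continuousOn
    rwa [Set.image_univ, Set.range_eq_univ.mpr ℓ.surjective] at h1
  exact (irreducibleSpace_def _).mpr hirr

/-- (BC) For a cartesian square, the fibre of the base change over `y` is geometrically
irreducible iff the fibre of the original morphism over the image of `y` is. -/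
theorem fiber_geometricallyIrreducible_iff {P X Y Z : Scheme.{u}} {fst : P ⟶ X}
    {snd : P ⟶ Y} {f : X ⟶ Z} {g : Y ⟶ Z} (h : IsPullback fst snd f g) (y : Y) :
    GeometricallyIrreducible (snd.fiberToSpecResidueField y) ↔
      GeometricallyIrreducible (f.fiberToSpecResidueField (g y)) := by
  have sq := isPullback_fiberToSpecResidueField_of_isPullback h y
  haveI : Subsingleton ↥(Spec (Z.residueField (g y))) :=
    inferInstanceAs (Subsingleton (PrimeSpectrum (Z.residueField (g y))))
  haveI : Nonempty ↥(Spec (Y.residueField y)) :=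
    inferInstanceAs (Nonempty (PrimeSpectrum (Y.residueField y)))
  haveI : Surjective (Spec.map (g.residueFieldMap y)) :=
    ⟨fun t => ⟨Classical.arbitrary _, Subsingleton.elim _ _⟩⟩
  constructor
  · intro h1
    exact geometricallyIrreducible_of_isPullback_of_surjective sq h1
  · intro h1
    exact MorphismProperty.of_isPullback (P := @GeometricallyIrreducible) sq h1

end Groth.Agent.H38.GeomIrrDescent
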