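import Mathlib
import Groth.Agent.H38.GeomIrrDescent
import Groth.Agent.H37.GeomSepClosed

/-!
# (GICRIT) geometric irreducibility of the generic fibre via one separably closed geometric point
-/

set_option autoImplicit false
universe u
open AlgebraicGeometry CategoryTheory Limits

namespace Groth.Agent.H38.ConnGICRIT

/-- (GICRIT) geometric irreducibility of the generic fibre can be tested on one separably closed
geometric generic point. -/
theorem geometricallyIrreducible_fiber_of_irreducibleSpace_pullback {T Y : Scheme.{u}}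
    (g : T ⟶ Y) [IrreducibleSpace ↑Y] {L : Type u} [Field L] [IsSepClosed L]
    (q : Spec (CommRingCat.of L) ⟶ Y) (hq : ∀ t, q t = genericPoint ↑Y) (Z : Scheme.{u})
    (fst : Z ⟶ T) (snd : Z ⟶ Spec (CommRingCat.of L)) (hZ : IsPullback fst snd g q)
    [IrreducibleSpace ↑Z] :
    GeometricallyIrreducible (g.fiberToSpecResidueField (genericPoint ↑Y)) := by
  obtain ⟨⟨x, ψ⟩, hxψ⟩ : ∃ xf : Σ x, Y.residueField x ⟶ CommRingCat.of L,
      Spec.map xf.2 ≫ Y.fromSpecResidueField xf.1 = q :=
    ⟨Scheme.SpecToEquivOfField L Y q, (Scheme.SpecToEquivOfField L Y).symm_apply_apply q⟩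
  simp only at hxψ
  let t₀ : Spec (CommRingCat.of L) := IsLocalRing.closedPoint L
  have hx : x = genericPoint ↑Y := by
    rw [← hq t₀, ← hxψ, Scheme.Hom.comp_apply, Scheme.fromSpecResidueField_apply]
  subst hx
  have hw : fst ≫ g = (snd ≫ Spec.map ψ) ≫ Y.fromSpecResidueField (genericPoint ↑Y) := by
    rw [hZ.w, Category.assoc, hxψ]
  let fst' : Z ⟶ g.fiber (genericPoint ↑Y) := pullback.lift fst (snd ≫ Spec.map ψ) hw
  have h1 : fst' ≫ g.fiberι (genericPoint ↑Y) = fst := pullback.lift_fst _ _ _
  have h2 : fst' ≫ g.fiberToSpecResidueField (genericPoint ↑Y) = snd ≫ Spec.map ψ :=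
    pullback.lift_snd _ _ _
  have sq : IsPullback fst' snd (g.fiberToSpecResidueField (genericPoint ↑Y)) (Spec.map ψ) := by
    refine IsPullback.of_right ?_ h2
      (IsPullback.of_hasPullback g (Y.fromSpecResidueField (genericPoint ↑Y)))
    have h1' : fst' ≫ pullback.fst g (Y.fromSpecResidueField (genericPoint ↑Y)) = fst := h1
    rw [h1', hxψ]
    exact hZ
  have h3 : GeometricallyIrreducible snd := H37.geomIrr_of_isSepClosed snd
  haveI : Subsingleton ↥(Spec (Y.residueField (genericPoint ↑Y))) :=
    inferInstanceAs (Subsingleton (PrimeSpectrum (Y.residueField (genericPoint ↑Y))))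
  haveI : Nonempty ↥(Spec (CommRingCat.of L)) := inferInstanceAs (Nonempty (PrimeSpectrum L))
  haveI : Surjective (Spec.map ψ) := ⟨fun t => ⟨Classical.arbitrary _, Subsingleton.elim _ _⟩⟩
  exact GeomIrrDescent.geometricallyIrreducible_of_isPullback_of_surjective sq h3

end Groth.Agent.H38.ConnGICRIT
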