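import Mathlib
import Groth.Agent.H24.ConsLocusMor

/-!
# EGA IV 9.2.3 for relations `P(X, k)` on schemes, deduced from the version for morphisms
-/

set_option autoImplicit false
universe u
open CategoryTheory CategoryTheory.Limits AlgebraicGeometry Topology

namespace Groth.Agent.H38.ConsLocusSch

variable {Q : ∀ ⦃Y T : Scheme.{u}⦄, (Y ⟶ T) → Prop}

/-- A constructible relation on schemes, seen as a relation on morphisms ignoring the morphism. -/
theorem isConsMor_of_isCons (hQ : ConsProp.IsCons Q) :
    ConsProp.IsConsMor (fun X Y T (_ : X ⟶ Y) (g : Y ⟶ T) => Q g) := by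
  refine ⟨?_, ?_⟩
  · intro X X' Y Y' T T' f g f' g' eX eY h _ _ _ _ _ _ _ _ sq1 _
    exact hQ.1 g g' eY h sq1
  · intro X Y S f g _ _ _ _ _ _
    exact hQ.2 g

/-- **EGA IV 9.2.3 (i)** for a constructible relation on schemes: its locus is locally
constructible for families of finite presentation. -/
theorem isLocallyConstructible_locus (hQ : ConsProp.IsCons Q) {X S : Scheme.{u}} (u : X ⟶ S)
    [LocallyOfFinitePresentation u] [QuasiCompact u] [QuasiSeparated u] :
    IsLocallyConstructible (ConsProp.locus Q u) := by
  haveI : LocallyOfFinitePresentation (𝟙 X ≫ u) := by rw [Category.id_comp]; infer_instance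
  haveI : QuasiCompact (𝟙 X ≫ u) := by rw [Category.id_comp]; infer_instance
  haveI : QuasiSeparated (𝟙 X ≫ u) := by rw [Category.id_comp]; infer_instance
  exact Groth.Agent.H24.isLocallyConstructible_locusMor (isConsMor_of_isCons hQ) (𝟙 X) u

end Groth.Agent.H38.ConsLocusSch
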