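import Groth.Agent.H38.Spectral
import Mathlib.RingTheory.Spectrum.Prime.ConstructibleSet
import Mathlib.RingTheory.LocalRing.ResidueField.Ideal

/-!
# Pro-constructible subsets of a prime spectrum are images of spectra (helper38)

* `eq_sInter_isConstructible_of_isClosed_constr`: a constructibly closed subset of a compact
  quasi-separated space is an intersection of constructible sets.
* `isSpectralMap_comap`: `Spec B → Spec A` is a spectral map.
* `range_comap_eq_sInter`: the image of `Spec B → Spec A` is an intersection of constructible sets.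
* `exists_range_comap_eq_sInter`: every intersection of constructible sets is such an image.
-/

set_option autoImplicit false
universe u

namespace Groth.Agent.H38

open Topology TopologicalSpace

section topo

variable {X : Type*} [tX : TopologicalSpace X]

theorem isConstructible_of_mem_subbasis [CompactSpace X] [QuasiSeparatedSpace X] {s : Set X}
    (hs : s ∈ constructibleTopologySubbasis X) : IsConstructible s := by
  rcases hs with hs | hs
  · exact hs.2.isConstructible hs.1
  · exact (hs.2.isConstructible hs.1.isOpen_compl).of_compl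

/-- A constructibly closed set is an intersection of constructible sets. -/
theorem eq_sInter_isConstructible_of_isClosed_constr [CompactSpace X] [QuasiSeparatedSpace X]
    {E : Set X} (hE : IsClosed[constructibleTopology X] E) :
    E = ⋂₀ {s | IsConstructible s ∧ E ⊆ s} := by
  apply Set.Subset.antisymm
  · exact Set.subset_sInter fun s hs => hs.2
  · intro x hx
    by_contra hxE
    have hopen : IsOpen[constructibleTopology X] Eᶜ :=
      (@isOpen_compl_iff _ _ (constructibleTopology X)).mpr hE
    have hb := TopologicalSpace.isTopologicalBasis_of_subbasis (t := constructibleTopology X)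
      (s := constructibleTopologySubbasis X) rfl
    obtain ⟨_, ⟨F, ⟨hFfin, hFsub⟩, rfl⟩, hxF, hFE⟩ :=
      @IsTopologicalBasis.exists_subset_of_mem_open _ (constructibleTopology X) _ hb x Eᶜ hxE hopen
    have hc : IsConstructible (⋂₀ F) :=
      IsConstructible.sInter hFfin fun s hs => isConstructible_of_mem_subbasis (hFsub hs)
    have : x ∈ (⋂₀ F)ᶜ := hx _ ⟨hc.compl, fun e he heF => hFE heF he⟩
    exact this hxF

end topo

section ring

variable {A : Type u} [CommRing A]

theorem isSpectralMap_comap {B : Type*} [CommRing B] (f : A →+* B) :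
    IsSpectralMap (PrimeSpectrum.comap f) := by
  classical
  refine ⟨PrimeSpectrum.continuous_comap f, fun s hs hc => ?_⟩
  obtain ⟨t, rfl⟩ := PrimeSpectrum.isCompact_isOpen_iff.mp ⟨hc, hs⟩
  rw [Set.preimage_compl, PrimeSpectrum.preimage_comap_zeroLocus]
  exact (PrimeSpectrum.isCompact_isOpen_iff.mpr ⟨t.image f, by simp⟩).1

/-- The image of `Spec B → Spec A` is an intersection of constructible sets. -/
theorem range_comap_eq_sInter {B : Type*} [CommRing B] (f : A →+* B) :
    ∃ S : Set (Set (PrimeSpectrum A)), (∀ s ∈ S, IsConstructible s) ∧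
      Set.range (PrimeSpectrum.comap f) = ⋂₀ S := by
  have h1 : IsClosed[constructibleTopology (PrimeSpectrum A)]
      (Set.range (PrimeSpectrum.comap f)) := by
    rw [← Set.image_univ]
    exact isClosed_constr_image (isSpectralMap_comap f)
      (@isClosed_univ _ (constructibleTopology _))
  exact ⟨_, fun s hs => hs.1, eq_sInter_isConstructible_of_isClosed_constr h1⟩

/-- Key lemma: a point of `Spec (∏_{p ∈ E} κ(p))` lying over a constructible set `t` forces
`E ∩ t` to be nonempty. -/
theorem exists_mem_of_comap_pi_mem (E t : Set (PrimeSpectrum A)) (ht : IsConstructible t)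
    (q : PrimeSpectrum (∀ p : E, p.1.asIdeal.ResidueField))
    (hq : PrimeSpectrum.comap
      (RingHom.pi fun p : E => algebraMap A p.1.asIdeal.ResidueField) q ∈ t) :
    ∃ p ∈ E, p ∈ t := by
  classical
  obtain ⟨T, rfl⟩ := PrimeSpectrum.exists_constructibleSetData_iff.mpr ht
  by_contra hno
  push Not at hno
  set f : A →+* (∀ p : E, p.1.asIdeal.ResidueField) :=
    RingHom.pi fun p : E => algebraMap A p.1.asIdeal.ResidueField with hf
  simp only [PrimeSpectrum.ConstructibleSetData.toSet, Set.mem_iUnion] at hq
  obtain ⟨C, hC, hqC⟩ := hq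
  have hq1 : ∀ i, f (C.g i) ∈ q.asIdeal := fun i => by
    have := hqC.1
    rw [PrimeSpectrum.mem_zeroLocus] at this
    exact this (Set.mem_range_self i)
  have hq2 : f C.f ∉ q.asIdeal := fun h => hqC.2 (by
    rw [PrimeSpectrum.mem_zeroLocus, Set.singleton_subset_iff]; exact h)
  let d : Fin C.n → (∀ p : E, p.1.asIdeal.ResidueField) :=
    fun i p => (algebraMap A p.1.asIdeal.ResidueField (C.g i))⁻¹
  have he : ∀ i, f (C.g i) * d i ∈ q.asIdeal := fun i => Ideal.mul_mem_right _ _ (hq1 i)
  have hu : f C.f * ∏ i, (1 - f (C.g i) * d i) = 0 := by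
    funext p
    rw [Pi.mul_apply, Finset.prod_apply, Pi.zero_apply]
    by_cases hp : C.f ∈ p.1.asIdeal
    · have : f C.f p = 0 := by
        show algebraMap A p.1.asIdeal.ResidueField C.f = 0
        exact Ideal.algebraMap_residueField_eq_zero.mpr hp
      rw [this, zero_mul]
    · have hpt : p.1 ∉ C.toSet := fun h => hno p.1 p.2 (Set.mem_biUnion hC h)
      have : ∃ i, C.g i ∉ p.1.asIdeal := by
        by_contra hall
        push Not at hall
        apply hpt
        refine ⟨?_, ?_⟩
        · rw [PrimeSpectrum.mem_zeroLocus]; rintro _ ⟨i, rfl⟩; exact hall i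
        · rw [PrimeSpectrum.mem_zeroLocus, Set.singleton_subset_iff]; exact hp
      obtain ⟨i, hi⟩ := this
      have hne : algebraMap A p.1.asIdeal.ResidueField (C.g i) ≠ 0 :=
        fun h => hi (Ideal.algebraMap_residueField_eq_zero.mp h)
      have : (1 - f (C.g i) * d i) p = 0 := by
        show 1 - algebraMap A p.1.asIdeal.ResidueField (C.g i) *
          (algebraMap A p.1.asIdeal.ResidueField (C.g i))⁻¹ = 0
        rw [mul_inv_cancel₀ hne, sub_self]
      rw [Finset.prod_eq_zero (Finset.mem_univ i) this, mul_zero]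
  have hmem : f C.f * ∏ i, (1 - f (C.g i) * d i) ∈ q.asIdeal := by
    rw [hu]; exact q.asIdeal.zero_mem
  rcases q.isPrime.mem_or_mem hmem with h | h
  · exact hq2 h
  · obtain ⟨i, -, hi⟩ := (Ideal.IsPrime.prod_mem_iff (hp := q.isPrime)).mp h
    have h1 : (1 : ∀ p : E, p.1.asIdeal.ResidueField) ∈ q.asIdeal := by
      have := q.asIdeal.add_mem hi (he i)
      rwa [sub_add_cancel] at this
    exact q.isPrime.ne_top ((Ideal.eq_top_iff_one _).mpr h1)

/-- Every intersection of constructible subsets of `Spec A` is the image of some `Spec B`. -/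
theorem exists_range_comap_eq_sInter (S : Set (Set (PrimeSpectrum A)))
    (hS : ∀ s ∈ S, IsConstructible s) :
    ∃ (B : Type u) (_ : CommRing B) (f : A →+* B),
      Set.range (PrimeSpectrum.comap f) = ⋂₀ S := by
  refine ⟨∀ p : (⋂₀ S : Set (PrimeSpectrum A)), p.1.asIdeal.ResidueField, inferInstance,
    RingHom.pi fun p : (⋂₀ S : Set (PrimeSpectrum A)) =>
      algebraMap A p.1.asIdeal.ResidueField, ?_⟩
  apply Set.Subset.antisymm
  · rintro _ ⟨q, rfl⟩
    rw [Set.mem_sInter]
    intro s hs
    by_contra hqs
    obtain ⟨p, hpE, hps⟩ := exists_mem_of_comap_pi_mem (⋂₀ S) sᶜ (hS s hs).compl q hqs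
    exact hps (Set.mem_sInter.mp hpE s hs)
  · intro p hp
    refine ⟨PrimeSpectrum.comap (Pi.evalRingHom
      (fun p : (⋂₀ S : Set (PrimeSpectrum A)) => p.1.asIdeal.ResidueField) ⟨p, hp⟩)
      ⟨⊥, Ideal.isPrime_bot⟩, ?_⟩
    ext x
    simp only [PrimeSpectrum.comap_asIdeal, Ideal.mem_comap]
    show algebraMap A p.asIdeal.ResidueField x ∈ (⊥ : Ideal p.asIdeal.ResidueField) ↔ _
    rw [Ideal.mem_bot, Ideal.algebraMap_residueField_eq_zero]

end ring

end Groth.Agent.H38
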