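import Mathlib
import Groth.Agent.H9.DimBaseField

/-!
# One-point integral schemes are spectra of fields; invariance of dimension under such base change
-/

set_option autoImplicit false
universe u
open CategoryTheory CategoryTheory.Limits AlgebraicGeometry

namespace Groth.Agent.H38.OnePoint

/-- A scheme with exactly one point is affine. -/
theorem isAffine_of_subsingleton (T : Scheme.{u}) [Nonempty T] [Subsingleton T] : IsAffine T := by
  obtain ⟨t⟩ := ‹Nonempty T›
  obtain ⟨V, hV, htV, -⟩ :=
    exists_isAffineOpen_mem_and_subset (X := T) (x := t) (U := ⊤) trivial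
  have hVtop : V = ⊤ := by
    apply top_le_iff.mp
    intro x _
    rw [Subsingleton.elim x t]
    exact htV
  subst hVtop
  haveI : IsAffine (⊤ : T.Opens).toScheme := hV
  exact IsAffine.of_isIso (Scheme.topIso T).inv

/-- The ring of global sections of a one-point integral scheme is a field. -/
theorem isField_Γ_of_subsingleton (T : Scheme.{u}) [IsIntegral T] [Subsingleton T] :
    IsField Γ(T, ⊤) := by
  haveI : IsAffine T := isAffine_of_subsingleton T
  haveI : Subsingleton (PrimeSpectrum Γ(T, ⊤)) :=
    (Scheme.homeoOfIso T.isoSpec).symm.injective.subsingleton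
  exact PrimeSpectrum.subsingleton_iff_isField_of_isReduced.mp inferInstance

/-- Base change along a morphism of one-point integral schemes does not change the dimension of a
scheme locally of finite type. -/
theorem topologicalKrullDim_eq_of_isPullback {Y Y' T T' : Scheme.{u}} (g : Y ⟶ T) (g' : Y' ⟶ T')
    (e : Y' ⟶ Y) (h : T' ⟶ T) [IsIntegral T] [Subsingleton T] [IsIntegral T'] [Subsingleton T']
    [LocallyOfFiniteType g] (sq : IsPullback e g' g h) :
    topologicalKrullDim Y' = topologicalKrullDim Y := by
  haveI : IsAffine T := isAffine_of_subsingleton T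
  haveI : IsAffine T' := isAffine_of_subsingleton T'
  letI : Field ↑Γ(T, ⊤) := (isField_Γ_of_subsingleton T).toField
  letI : Field ↑Γ(T', ⊤) := (isField_Γ_of_subsingleton T').toField
  let iT : T ≅ Spec (CommRingCat.of ↑Γ(T, ⊤)) := T.isoSpec
  let iT' : T' ≅ Spec (CommRingCat.of ↑Γ(T', ⊤)) := T'.isoSpec
  let φ : CommRingCat.of ↑Γ(T, ⊤) ⟶ CommRingCat.of ↑Γ(T', ⊤) :=
    Spec.preimage (iT'.inv ≫ h ≫ iT.hom)
  have hφ : Spec.map φ = iT'.inv ≫ h ≫ iT.hom := Spec.map_preimage _
  have sq' : IsPullback e (g' ≫ iT'.hom) (g ≫ iT.hom) (Spec.map φ) := by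
    rw [hφ]
    refine IsPullback.of_iso sq (Iso.refl _) (Iso.refl _) iT' iT ?_ ?_ ?_ ?_
    · simp
    · simp
    · simp
    · simp
  haveI : LocallyOfFiniteType (g ≫ iT.hom) := inferInstance
  exact Groth.Agent.H9.DimBaseField.topologicalKrullDim_eq_of_isPullback_field (g ≫ iT.hom) φ e
    (g' ≫ iT'.hom) sq'

end Groth.Agent.H38.OnePoint
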