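import Mathlib
import Groth.Agent.H38.DimFibreSum
import Groth.Agent.H38.OnePoint

/-!
# Dimension of a product over a field
-/

set_option autoImplicit false
universe u
open CategoryTheory AlgebraicGeometry Limits

namespace Groth.Agent.H38.ProdDim

/-- The fibres of the first projection of `X ×ₖ Y` have the dimension of `Y`. -/
theorem dim_fiber_fst {k : Type u} [Field k] {X Y : Scheme.{u}}
    (f : X ⟶ Spec (CommRingCat.of k)) (g : Y ⟶ Spec (CommRingCat.of k)) [LocallyOfFiniteType g]
    (x : X) :
    topologicalKrullDim ↥((pullback.fst f g).fiber x) = topologicalKrullDim Y := by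
  have s : IsPullback ((pullback.fst f g).fiberι x) ((pullback.fst f g).fiberToSpecResidueField x)
      (pullback.fst f g) (X.fromSpecResidueField x) := IsPullback.of_hasPullback _ _
  have t : IsPullback (pullback.fst f g) (pullback.snd f g) f g := IsPullback.of_hasPullback f g
  haveI : Subsingleton ↥(Spec (CommRingCat.of k)) :=
    inferInstanceAs (Subsingleton (PrimeSpectrum k))
  haveI : Subsingleton ↥(Spec (X.residueField x)) :=
    inferInstanceAs (Subsingleton (PrimeSpectrum (X.residueField x)))
  exact Groth.Agent.H38.OnePoint.topologicalKrullDim_eq_of_isPullback g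
    ((pullback.fst f g).fiberToSpecResidueField x)
    ((pullback.fst f g).fiberι x ≫ pullback.snd f g) (X.fromSpecResidueField x ≫ f)
    (s.flip.paste_vert t).flip

/-- The set-theoretic fibres of the first projection of `X ×ₖ Y` have the dimension of `Y`. -/
theorem dim_preimage_fst {k : Type u} [Field k] {X Y : Scheme.{u}}
    (f : X ⟶ Spec (CommRingCat.of k)) (g : Y ⟶ Spec (CommRingCat.of k)) [LocallyOfFiniteType g]
    (x : X) :
    topologicalKrullDim ↥((pullback.fst f g).base ⁻¹' {x}) = topologicalKrullDim Y := by
  rw [← dim_fiber_fst f g x]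
  exact (((pullback.fst f g).fiberHomeo x).isHomeomorph.topologicalKrullDim_eq).symm

theorem eq_top_of_forall_natCast_le (d : WithBot ℕ∞) (h : ∀ r : ℕ, (r : WithBot ℕ∞) ≤ d) :
    d = ⊤ := by
  induction d using WithBot.recBotCoe with
  | bot => exact absurd (h 0) (by simp)
  | coe m =>
    induction m using ENat.recTopCoe with
    | top => rfl
    | coe n =>
      have := h (n + 1)
      have h2 : n + 1 ≤ n := by exact_mod_cast this
      omega

/-- The dimension of a product over a field is the sum of the dimensions. -/
theorem dim_pullback {k : Type u} [Field k] {X Y : Scheme.{u}}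
    (f : X ⟶ Spec (CommRingCat.of k)) (g : Y ⟶ Spec (CommRingCat.of k)) [LocallyOfFiniteType f]
    [LocallyOfFiniteType g] :
    topologicalKrullDim ↥(pullback f g) = topologicalKrullDim ↥X + topologicalKrullDim ↥Y := by
  haveI : LocallyOfFiniteType (pullback.fst f g) := inferInstance
  have hbot : ∀ {T : Scheme.{u}}, IsEmpty T → topologicalKrullDim T = ⊥ := by
    intro T hT
    rw [topologicalKrullDim, Order.krullDim_eq_bot_iff]
    exact ⟨fun Z => hT.false Z.isIrreducible.nonempty.some⟩
  by_cases hX : Nonempty X
  · induction hd : topologicalKrullDim Y using WithBot.recBotCoe with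
    | bot =>
      rw [topologicalKrullDim, Order.krullDim_eq_bot_iff] at hd
      have hP : IsEmpty ↥(pullback f g) :=
        ⟨fun z => hd.false ⟨closure {(pullback.snd f g).base z},
          isIrreducible_singleton.closure, isClosed_closure⟩⟩
      rw [hbot hP, WithBot.add_bot]
    | coe N =>
      induction N using ENat.recTopCoe with
      | top =>
        have h1 : ∀ r : ℕ, (r : WithBot ℕ∞) ≤ topologicalKrullDim ↥(pullback f g) := by
          intro r
          have h2 := Groth.Agent.H38.DimFibreSum.add_dim_le f (pullback.fst f g) r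
            (fun η _ => by rw [dim_preimage_fst f g η, hd]; exact le_top)
          refine le_trans ?_ h2
          have h3 : (0 : WithBot ℕ∞) ≤ topologicalKrullDim X := by
            obtain ⟨x⟩ := hX
            have := Groth.Agent.H38.DimFibreSum.tdeg_le_dim f x
            exact le_trans (by exact_mod_cast Nat.zero_le _) this
          calc (r : WithBot ℕ∞) = r + 0 := (add_zero _).symm
            _ ≤ r + topologicalKrullDim X := add_le_add le_rfl h3
        rw [eq_top_of_forall_natCast_le _ h1]
        obtain ⟨x⟩ := hX
        have h3 := Groth.Agent.H38.DimFibreSum.tdeg_le_dim f x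
        symm
        rw [eq_top_iff]
        calc (⊤ : WithBot ℕ∞) = ((Groth.Agent.H54.tdeg f x : ℕ) : WithBot ℕ∞) + ((⊤ : ℕ∞) : WithBot ℕ∞) := by
              rw [show ((Groth.Agent.H54.tdeg f x : ℕ) : WithBot ℕ∞) =
                (((Groth.Agent.H54.tdeg f x : ℕ) : ℕ∞) : WithBot ℕ∞) from rfl, ← WithBot.coe_add]
              simp
          _ ≤ topologicalKrullDim X + ((⊤ : ℕ∞) : WithBot ℕ∞) := add_le_add h3 le_rfl
      | coe r =>
        have h1 := Groth.Agent.H38.DimFibreSum.add_dim_le f (pullback.fst f g) r
          (fun η _ => by rw [dim_preimage_fst f g η, hd]; exact_mod_cast le_rfl)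
        have h2 := Groth.Agent.H38.DimFibreSum.dim_le_add f (pullback.fst f g) r
          (fun z => by rw [dim_preimage_fst f g _, hd]; exact_mod_cast le_rfl)
        rw [add_comm]
        exact le_antisymm (by exact_mod_cast h2) (by exact_mod_cast h1)
  · rw [not_nonempty_iff] at hX
    have hP : IsEmpty ↥(pullback f g) := ⟨fun z => hX.false ((pullback.fst f g).base z)⟩
    rw [hbot hP, hbot hX, WithBot.bot_add]

end Groth.Agent.H38.ProdDim
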