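import Mathlib
import Groth.Agent.H38.ProdDim
import Groth.Agent.H38.DimProdComp
import Groth.Agent.H38.NowhereDenseFibre
import Groth.Agent.H9.FibreGeneric

/-!
# Local dimension of a product over a field
-/

set_option autoImplicit false
universe u
open CategoryTheory AlgebraicGeometry Limits

namespace Groth.Agent.H38.ProdLocalDim

open Groth.Agent.H54

theorem isReduced_vanishingIdeal_subscheme {X : Scheme.{u}} (C : TopologicalSpace.Closeds X) :
    IsReduced (Scheme.IdealSheafData.vanishingIdeal C).subscheme := by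
  have : ∀ U, IsReduced ((Scheme.IdealSheafData.vanishingIdeal C).subschemeCover.openCover.X U) := by
    intro (U : X.affineOpens)
    show IsReduced (Spec (CommRingCat.of
      (Γ(X, U.1) ⧸ (Scheme.IdealSheafData.vanishingIdeal C).ideal U)))
    have hrad : ((Scheme.IdealSheafData.vanishingIdeal C).ideal U).IsRadical := by
      rw [Scheme.IdealSheafData.vanishingIdeal_ideal]
      exact PrimeSpectrum.isRadical_vanishingIdeal _
    have : _root_.IsReduced (Γ(X, U.1) ⧸ (Scheme.IdealSheafData.vanishingIdeal C).ideal U) :=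
      (Ideal.isRadical_iff_quotient_reduced _).mp hrad
    infer_instance
  exact IsReduced.of_openCover _ (Scheme.IdealSheafData.vanishingIdeal C).subschemeCover.openCover

/-- An integral closed subscheme structure on the closure of a point. -/
theorem exists_integral_closedImmersion {X : Scheme.{u}} (ξ : X) :
    ∃ (Z : Scheme.{u}) (ι : Z ⟶ X), IsClosedImmersion ι ∧ IsIntegral Z ∧
      Set.range ι.base = closure {ξ} := by
  let C : TopologicalSpace.Closeds X := ⟨closure {ξ}, isClosed_closure⟩
  refine ⟨(Scheme.IdealSheafData.vanishingIdeal C).subscheme,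
    (Scheme.IdealSheafData.vanishingIdeal C).subschemeι, inferInstance, ?_, ?_⟩
  · have hr : Set.range (Scheme.IdealSheafData.vanishingIdeal C).subschemeι.base = closure {ξ} := by
      rw [Scheme.IdealSheafData.range_subschemeι,
        Scheme.IdealSheafData.coe_support_vanishingIdeal]
      rfl
    haveI := isReduced_vanishingIdeal_subscheme C
    haveI : IrreducibleSpace ↥(Scheme.IdealSheafData.vanishingIdeal C).subscheme := by
      have h1 : IrreducibleSpace
          ↥(Set.range (Scheme.IdealSheafData.vanishingIdeal C).subschemeι.base) := by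
        rw [hr]
        exact isIrreducible_iff_irreducibleSpace.mp isIrreducible_singleton.closure
      exact ((Scheme.IdealSheafData.vanishingIdeal
        C).subschemeι.isClosedEmbedding.isEmbedding.toHomeomorph).irreducibleSpace_iff.mpr h1
    exact isIntegral_of_irreducibleSpace_of_isReduced _
  · rw [Scheme.IdealSheafData.range_subschemeι, Scheme.IdealSheafData.coe_support_vanishingIdeal]
    rfl

/-- The dimension of a closed subscheme structure on the closure of a point. -/
theorem dim_of_range_eq_closure {k : Type u} [Field k] {X Z : Scheme.{u}}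
    (s : X ⟶ Spec (CommRingCat.of k)) [LocallyOfFiniteType s] (ι : Z ⟶ X) [IsClosedImmersion ι]
    (ξ : X) (hr : Set.range ι.base = closure {ξ}) :
    topologicalKrullDim Z = (tdeg s ξ : WithBot ℕ∞) := by
  rw [← topologicalKrullDim_closure_singleton s ξ, ← hr]
  exact (ι.isClosedEmbedding.isEmbedding.toHomeomorph).isHomeomorph.topologicalKrullDim_eq

theorem tdeg_le_localDim {k : Type u} [Field k] {F : Scheme.{u}}
    (s : F ⟶ Spec (CommRingCat.of k)) [LocallyOfFiniteType s] {ζ z : F} (h : ζ ⤳ z) :
    (tdeg s ζ : WithBot ℕ∞) ≤ FlatMor.localDim F z := by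
  refine le_iInf fun U => ?_
  exact tdeg_le_topologicalKrullDim s ζ U.1 (h.mem_open U.1.2 U.2)

theorem exists_specializes_tdeg_eq {k : Type u} [Field k] {F : Scheme.{u}}
    (s : F ⟶ Spec (CommRingCat.of k)) [LocallyOfFiniteType s] (z : F) :
    ∃ ζ : F, ζ ⤳ z ∧ FlatMor.localDim F z = (tdeg s ζ : WithBot ℕ∞) := by
  obtain ⟨ζ, hζ, hle⟩ := Groth.Agent.H9.FibreGeneric.exists_specializes_localDim_le s z
  exact ⟨ζ, hζ, le_antisymm hle (tdeg_le_localDim s hζ)⟩

section Prod

variable {k : Type u} [Field k] {X Y : Scheme.{u}}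
  (f : X ⟶ Spec (CommRingCat.of k)) (g : Y ⟶ Spec (CommRingCat.of k))
  [LocallyOfFiniteType f] [LocallyOfFiniteType g]

/-- Points of the product over the closures of `ξ` and `υ`: an upper bound for `tdeg` and the
existence of a generization attaining it. -/
theorem prod_aux (ξ : X) (υ : Y) (z : ↥(pullback f g))
    (hz1 : (pullback.fst f g).base z ∈ closure ({ξ} : Set X))
    (hz2 : (pullback.snd f g).base z ∈ closure ({υ} : Set Y)) :
    tdeg (pullback.fst f g ≫ f) z ≤ tdeg f ξ + tdeg g υ ∧
      ∃ ζ : ↥(pullback f g), ζ ⤳ z ∧ tdeg (pullback.fst f g ≫ f) ζ = tdeg f ξ + tdeg g υ := by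
  obtain ⟨C, jC, hjC, hCint, hCr⟩ := exists_integral_closedImmersion ξ
  obtain ⟨D, jD, hjD, hDint, hDr⟩ := exists_integral_closedImmersion υ
  let m : pullback (jC ≫ f) (jD ≫ g) ⟶ pullback f g :=
    pullback.map (jC ≫ f) (jD ≫ g) f g jC jD (𝟙 _)
      ((Category.comp_id _).trans rfl) ((Category.comp_id _).trans rfl)
  haveI : MorphismProperty.IsStableUnderComposition @IsClosedImmersion.{u} :=
    (inferInstance : MorphismProperty.IsMultiplicative
      @IsClosedImmersion.{u}).toIsStableUnderComposition
  haveI hm : IsClosedImmersion m :=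
    MorphismProperty.pullbackMap (P := @IsClosedImmersion.{u}) hjC hjD rfl rfl
  have hrange : Set.range m.base =
      (pullback.fst f g).base ⁻¹' Set.range jC.base ∩ (pullback.snd f g).base ⁻¹' Set.range jD.base :=
    Scheme.Pullback.range_map (jC ≫ f) (jD ≫ g) f g jC jD (𝟙 _) _ _
  have hzm : z ∈ Set.range m.base := by
    rw [hrange, hCr, hDr]
    exact ⟨hz1, hz2⟩
  obtain ⟨z', rfl⟩ := hzm
  have hcomp : m ≫ pullback.fst f g ≫ f = pullback.fst (jC ≫ f) (jD ≫ g) ≫ jC ≫ f := by
    rw [← Category.assoc, ← Category.assoc]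
    congr 1
    exact pullback.lift_fst _ _ _
  have htd : ∀ w, tdeg (pullback.fst f g ≫ f) (m.base w) =
      tdeg (pullback.fst (jC ≫ f) (jD ≫ g) ≫ jC ≫ f) w := by
    intro w
    rw [← Groth.Agent.H38.NowhereDenseDim.tdeg_comp_closedImmersion (pullback.fst f g ≫ f) m w]
    congr 1
  have hdC : topologicalKrullDim C = (tdeg f ξ : WithBot ℕ∞) := dim_of_range_eq_closure f jC ξ hCr
  have hdD : topologicalKrullDim D = (tdeg g υ : WithBot ℕ∞) := dim_of_range_eq_closure g jD υ hDr
  constructor
  · rw [htd z']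
    have h1 := Groth.Agent.H38.DimFibreSum.tdeg_le_dim
      (pullback.fst (jC ≫ f) (jD ≫ g) ≫ jC ≫ f) z'
    rw [Groth.Agent.H38.ProdDim.dim_pullback (jC ≫ f) (jD ≫ g), hdC, hdD] at h1
    exact_mod_cast h1
  · obtain ⟨ζ', hζ'z, hζ'⟩ := exists_generic_specializes z'
    refine ⟨m.base ζ', hζ'z.map m.continuous, ?_⟩
    rw [htd ζ']
    have h1 := Groth.Agent.H38.DimProdComp.tdeg_pullback_eq (jC ≫ f) (jD ≫ g) ζ'
      (fun ζ'' h => eq_of_specializes_generic hζ' h)
    rw [hdC, hdD] at h1
    exact_mod_cast h1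

/-- The local dimension of a product over a field is the sum of the local dimensions. -/
theorem localDim_pullback (z : ↥(pullback f g)) :
    FlatMor.localDim ↥(pullback f g) z =
      FlatMor.localDim ↥X ((pullback.fst f g).base z) +
        FlatMor.localDim ↥Y ((pullback.snd f g).base z) := by
  haveI : LocallyOfFiniteType (pullback.fst f g ≫ f) := inferInstance
  obtain ⟨ξ, hξ, hξd⟩ := exists_specializes_tdeg_eq f ((pullback.fst f g).base z)
  obtain ⟨υ, hυ, hυd⟩ := exists_specializes_tdeg_eq g ((pullback.snd f g).base z)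
  apply le_antisymm
  · obtain ⟨ζ, hζ, hζd⟩ := exists_specializes_tdeg_eq (pullback.fst f g ≫ f) z
    rw [hζd]
    have h1 := (prod_aux f g _ _ ζ (subset_closure rfl) (subset_closure rfl)).1
    have h2 := tdeg_le_localDim f (hζ.map (pullback.fst f g).continuous)
    have h3 := tdeg_le_localDim g (hζ.map (pullback.snd f g).continuous)
    refine le_trans ?_ (add_le_add h2 h3)
    exact_mod_cast h1
  · obtain ⟨ζ, hζ, hζd⟩ := (prod_aux f g ξ υ z (specializes_iff_mem_closure.mp hξ)
      (specializes_iff_mem_closure.mp hυ)).2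
    rw [hξd, hυd]
    refine le_trans ?_ (tdeg_le_localDim (pullback.fst f g ≫ f) hζ)
    rw [hζd]
    exact_mod_cast le_rfl

end Prod

end Groth.Agent.H38.ProdLocalDim
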