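import Mathlib
import Groth.Agent.H38.CodimStalk
import Groth.Agent.H38.ProdLocalDim
import Groth.Agent.H9.DimFormulaGen
import Groth.Agent.H9.Equidim
import Groth.Agent.H60.EquidimCrit

set_option autoImplicit false
universe u
open CategoryTheory AlgebraicGeometry

namespace Groth.Agent.H38.DeltaPush

open Groth.Agent.H38.CodimStalk

section Top

/-- the codimension of point closures is invariant under an embedding whose range contains the
closure of the (image of the) bigger point. -/
theorem codimPt_map_of_isEmbedding {A B : Type u} [TopologicalSpace A] [TopologicalSpace B]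
    (ι : A → B) (hι : Topology.IsEmbedding ι) {a₁ a₀ : A} (h : a₁ ⤳ a₀)
    (hr : ∀ b : B, ι a₁ ⤳ b → b ∈ Set.range ι) (h' : ι a₁ ⤳ ι a₀) :
    Algz.codimPt (ι a₁) (ι a₀) h' = Algz.codimPt a₁ a₀ h := by
  apply le_antisymm
  · unfold Algz.codimPt
    apply Order.height_le
    intro p hp
    have hmem : ∀ i, Specialization.ofEquiv (p i).1 ∈ Set.range ι := by
      intro i
      apply hr
      have h1 : p i ≤ p.last := p.monotone (Fin.le_last i)
      rw [hp] at h1
      have h2 : (p i).1 ≤ Specialization.toEquiv (ι a₁) := h1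
      exact Specialization.ofEquiv_specializes_ofEquiv.mpr h2
    choose q hq using hmem
    have hq0 : ∀ i, q i ⤳ a₀ := by
      intro i
      rw [← hι.isInducing.specializes_iff, hq i]
      exact Specialization.ofEquiv_specializes_ofEquiv.mpr (p i).2
    have hle_iff : ∀ i j, (Specialization.toEquiv (q i) ≤ Specialization.toEquiv (q j)) ↔
        p i ≤ p j := by
      intro i j
      rw [Specialization.toEquiv_le_toEquiv, ← hι.isInducing.specializes_iff, hq i, hq j]
      exact Specialization.ofEquiv_specializes_ofEquiv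
    let s : LTSeries (Set.Ici (Specialization.toEquiv a₀)) :=
      LTSeries.mk p.length
        (fun i => ⟨Specialization.toEquiv (q i), Specialization.toEquiv_le_toEquiv.mpr (hq0 i)⟩)
        (by
          intro i j hij
          have h1 := p.strictMono hij
          rw [lt_iff_le_not_ge] at h1 ⊢
          exact ⟨(hle_iff i j).mpr h1.1, fun hh => h1.2 ((hle_iff j i).mp hh)⟩)
    have hlast : s.last = ⟨Specialization.toEquiv a₁, Specialization.toEquiv_le_toEquiv.mpr h⟩ := by
      apply Subtype.ext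
      show Specialization.toEquiv (q (Fin.last p.length)) = Specialization.toEquiv a₁
      congr 1
      apply hι.injective
      rw [hq]
      have h1 : p (Fin.last p.length) = _ := hp
      rw [h1]
      rfl
    have h3 := Order.length_le_height_last (p := s)
    rw [hlast] at h3
    exact h3
  · unfold Algz.codimPt
    let g : Set.Ici (Specialization.toEquiv a₀) → Set.Ici (Specialization.toEquiv (ι a₀)) :=
      fun x => ⟨Specialization.toEquiv (ι (Specialization.ofEquiv x.1)),
        Specialization.toEquiv_le_toEquiv.mpr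
          ((Specialization.ofEquiv_specializes_ofEquiv.mpr x.2 :
            Specialization.ofEquiv x.1 ⤳ a₀).map hι.continuous)⟩
    have hle_iff : ∀ a b, g a ≤ g b ↔ a ≤ b := by
      intro a b
      show (Specialization.toEquiv (ι (Specialization.ofEquiv a.1)) ≤
        Specialization.toEquiv (ι (Specialization.ofEquiv b.1))) ↔ a.1 ≤ b.1
      rw [Specialization.toEquiv_le_toEquiv, hι.isInducing.specializes_iff]
      exact Specialization.ofEquiv_specializes_ofEquiv
    have hg : StrictMono g := by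
      intro a b hab
      rw [lt_iff_le_not_ge] at hab ⊢
      exact ⟨(hle_iff a b).mpr hab.1, fun hh => hab.2 ((hle_iff b a).mp hh)⟩
    exact Order.height_le_height_apply_of_strictMono g hg
      ⟨Specialization.toEquiv a₁, Specialization.toEquiv_le_toEquiv.mpr h⟩

end Top

/-- on a scheme with a generic point `ξ`, the dimension of the local ring at `x` is the
codimension of the closure of `x` (in the closure of `ξ`, which is everything). -/
theorem ringKrullDim_stalk_eq_codimPt (W : Scheme.{u}) (ξ x : W) (hξ : ∀ z : W, ξ ⤳ z) :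
    ringKrullDim (W.presheaf.stalk x) = ((Algz.codimPt ξ x (hξ x) : ℕ∞) : WithBot ℕ∞) := by
  obtain ⟨P0, hP0⟩ : ∃ P0 : PrimeSpectrum (W.presheaf.stalk x),
      (W.fromSpecStalk x).base P0 = ξ := by
    have : ξ ∈ Set.range (W.fromSpecStalk x).base := by
      rw [Scheme.range_fromSpecStalk]
      exact hξ x
    exact this
  rw [codimPt_eq_coheight W (hξ x) P0 hP0]
  have hmin : ∀ P : PrimeSpectrum (W.presheaf.stalk x), P0 ≤ P := by
    intro P
    rw [PrimeSpectrum.le_iff_specializes]
    refine ((W.fromSpecStalk x).isEmbedding.isInducing.specializes_iff (x := P0) (y := P)).mp ?_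
    rw [hP0]
    exact hξ _
  letI : OrderBot (PrimeSpectrum (W.presheaf.stalk x)) := { bot := P0, bot_le := hmin }
  exact (Order.coheight_bot_eq_krullDim (α := PrimeSpectrum (W.presheaf.stalk x))).symm


open Groth.Agent.H9.DimFormulaGen Groth.Agent.H9.DimFormulaEq Groth.Agent.H9.Equidim
  Groth.Agent.H9.DimFormulaScheme in
/-- **The dimension formula for a pair of point closures.**  `f : Y' ⟶ Y` locally of finite type,
`Y` locally Noetherian, `w' ⤳ v'` in `Y'`, `O_{Y,f v'}` universally catenary: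
`codim(v', w') + trdeg κ(v')/κ(f v') = codim(f v', f w') + trdeg κ(w')/κ(f w')`. -/
theorem pair_formula {Y Y' : Scheme.{u}} [IsLocallyNoetherian Y] (f : Y' ⟶ Y)
    [LocallyOfFiniteType f] {w' v' : Y'} (h' : w' ⤳ v')
    (hcat : CAlg.IsUniversallyCatenary (Y.presheaf.stalk (f.base v'))) (n E : ℕ)
    (hn : @Algebra.trdeg (Y.residueField (f.base v')) (Y'.residueField v') _ _
        (f.residueFieldMap v').hom.toAlgebra = (n : Cardinal.{u}))
    (hE : @Algebra.trdeg (Y.residueField (f.base w')) (Y'.residueField w') _ _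
        (f.residueFieldMap w').hom.toAlgebra = (E : Cardinal.{u})) :
    Algz.codimPt w' v' h' + (n : ℕ∞) =
      Algz.codimPt (f.base w') (f.base v') (h'.map f.continuous) + (E : ℕ∞) := by
  obtain ⟨W, ι, hι, hint, hr⟩ := Groth.Agent.H38.ProdLocalDim.exists_integral_closedImmersion w'
  haveI := hι
  haveI := hint
  -- the generic point of `W` maps to `w'`
  have hgen : ∀ z : W, genericPoint W ⤳ z := fun z => genericPoint_specializes z
  have hξ : ι.base (genericPoint W) = w' := by
    obtain ⟨ξ', hξ'⟩ : w' ∈ Set.range ι.base := by rw [hr]; exact subset_closure rfl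
    have h1 : ι.base (genericPoint W) ⤳ w' := by
      rw [← hξ']; exact (hgen ξ').map ι.continuous
    have h2 : w' ⤳ ι.base (genericPoint W) := by
      rw [specializes_iff_mem_closure, ← hr]; exact ⟨_, rfl⟩
    exact (h1.antisymm h2).eq
  obtain ⟨x, hx⟩ : v' ∈ Set.range ι.base := by
    rw [hr]; exact h'.mem_closure
  subst hx
  -- the prime of `O_{Y, f v'}` of `f w'`
  obtain ⟨wP, hwP⟩ : ∃ wP : PrimeSpectrum (Y.presheaf.stalk ((ι ≫ f).base x)),
      (Y.fromSpecStalk ((ι ≫ f).base x)).base wP = (ι ≫ f).base (genericPoint W) := by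
    have : (ι ≫ f).base (genericPoint W) ∈ Set.range (Y.fromSpecStalk ((ι ≫ f).base x)).base := by
      rw [Scheme.range_fromSpecStalk]
      exact (hgen x).map (ι ≫ f).continuous
    exact this
  have hn' : @Algebra.trdeg (Y.residueField ((ι ≫ f).base x)) (W.residueField x) _ _
      ((ι ≫ f).residueFieldMap x).hom.toAlgebra = (n : Cardinal.{u}) := by
    rw [trdeg_comp_of_surjectiveOnStalks ι f x]; exact hn
  have hE' : @Algebra.trdeg (Y.residueField ((ι ≫ f).base (genericPoint W)))
      (W.residueField (genericPoint W)) _ _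
      ((ι ≫ f).residueFieldMap (genericPoint W)).hom.toAlgebra = (E : Cardinal.{u}) := by
    rw [trdeg_comp_of_surjectiveOnStalks ι f (genericPoint W), trdeg_congr_point f hξ]; exact hE
  have key := stalk_add_trdeg_eq_coheight (ι ≫ f) x hcat n E hn' hE' wP hwP
  rw [ringKrullDim_stalk_eq_codimPt W (genericPoint W) x hgen] at key
  have hA : Algz.codimPt (ι.base (genericPoint W)) (ι.base x) ((hgen x).map ι.continuous) =
      Algz.codimPt (genericPoint W) x (hgen x) := by
    refine codimPt_map_of_isEmbedding ι.base ι.isClosedEmbedding.isEmbedding (hgen x) ?_ _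
    intro b hb
    rw [hr, ← hξ]
    exact hb.mem_closure
  have hB : Algz.codimPt ((ι ≫ f).base (genericPoint W)) ((ι ≫ f).base x)
      ((hgen x).map (ι ≫ f).continuous) = Order.coheight wP :=
    codimPt_eq_coheight Y _ wP hwP
  rw [← hB, ← hA] at key
  have key' : Algz.codimPt (ι.base (genericPoint W)) (ι.base x) ((hgen x).map ι.continuous) + (n : ℕ∞) =
      Algz.codimPt ((ι ≫ f).base (genericPoint W)) ((ι ≫ f).base x)
        ((hgen x).map (ι ≫ f).continuous) + (E : ℕ∞) := by
    exact_mod_cast key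
  rw [Groth.Agent.H44.codimPt_congr hξ.symm rfl h' ((hgen x).map ι.continuous), key']
  congr 1
  exact Groth.Agent.H44.codimPt_congr (congrArg f.base hξ) rfl _ _

/-- the transcendence degree of a residue field extension is at most the dimension of the
fibre. -/
theorem trdeg_le_of_fibre_dim_le {Y Y' : Scheme.{u}} (f : Y' ⟶ Y) [LocallyOfFiniteType f] (e : ℕ)
    (hfib : ∀ y : Y, topologicalKrullDim ↑(Limits.pullback f (Y.fromSpecResidueField y)) ≤
      (e : WithBot ℕ∞)) (p : Y') (m : ℕ)
    (hm : @Algebra.trdeg (Y.residueField (f.base p)) (Y'.residueField p) _ _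
        (f.residueFieldMap p).hom.toAlgebra = (m : Cardinal.{u})) : m ≤ e := by
  have h1 := Groth.Agent.H60.EquidimCrit.natCast_trdeg_le_fibreDimAt f p p specializes_rfl rfl m hm
  have h2 : FlatMor.fibreDimAt f p ≤ topologicalKrullDim ↑(f.fiber (f.base p)) := by
    unfold FlatMor.fibreDimAt FlatMor.localDim
    refine (iInf_le _ ⟨⊤, trivial⟩).trans ?_
    exact topologicalKrullDim_subspace_le _ _
  have h3 : (m : WithBot ℕ∞) ≤ (e : WithBot ℕ∞) := h1.trans (h2.trans (hfib (f.base p)))
  exact_mod_cast h3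


/-- codimensions of point closures are finite on a locally Noetherian scheme. -/
theorem codimPt_ne_top (Y : Scheme.{u}) [IsLocallyNoetherian Y] {w v : Y} (h : w ⤳ v) :
    Algz.codimPt w v h ≠ ⊤ := by
  obtain ⟨P, hP⟩ : ∃ P : PrimeSpectrum (Y.presheaf.stalk v), (Y.fromSpecStalk v).base P = w := by
    have : w ∈ Set.range (Y.fromSpecStalk v).base := by
      rw [Scheme.range_fromSpecStalk]
      exact h
    exact this
  rw [codimPt_eq_coheight Y h P hP]
  exact Groth.Agent.S8815.coheight_ne_top _ P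

section Comb

theorem sum_ite_split {n : ℕ} (F : Fin n → ℕ) (m : ℕ) (hm : m < n) :
    (∑ j : Fin n, if m ≤ j.val then F j else 0) =
      F ⟨m, hm⟩ + ∑ j : Fin n, if m + 1 ≤ j.val then F j else 0 := by
  have h1 : ∀ j : Fin n, (if m ≤ j.val then F j else 0) =
      (if j = ⟨m, hm⟩ then F j else 0) + (if m + 1 ≤ j.val then F j else 0) := by
    intro j
    by_cases h1 : j = ⟨m, hm⟩
    · subst h1
      simp
    · have h2 : j.val ≠ m := fun h => h1 (Fin.ext h)
      by_cases h3 : m ≤ j.val
      · rw [if_pos h3, if_neg h1, if_pos (by omega), zero_add]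
      · rw [if_neg h3, if_neg h1, if_neg (by omega)]
  rw [Finset.sum_congr rfl (fun j _ => h1 j), Finset.sum_add_distrib,
    Finset.sum_ite_eq' Finset.univ (⟨m, hm⟩ : Fin n) F, if_pos (Finset.mem_univ _)]

theorem sum_ite_zero {n : ℕ} (F : Fin n → ℕ) (m : ℕ) (hm : n ≤ m) :
    (∑ j : Fin n, if m ≤ j.val then F j else 0) = 0 := by
  apply Finset.sum_eq_zero
  intro j _
  rw [if_neg]
  have := j.2
  omega

theorem telescope (k : ℕ) (C C' τv τw : Fin (k + 1) → ℕ) (B B' : Fin k → ℕ)
    (hpc : ∀ j, C' j + τv j = C j + τw j)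
    (hpb : ∀ j : Fin k, B' j + τv j.succ = B j + τw j.castSucc) :
    ∀ (d m : ℕ) (hm : m + d = k),
      (∑ j : Fin (k + 1), if m ≤ j.val then C' j else 0) +
          (∑ j : Fin k, if m ≤ j.val then B j else 0) + τv ⟨m, by omega⟩ =
        (∑ j : Fin (k + 1), if m ≤ j.val then C j else 0) +
          (∑ j : Fin k, if m ≤ j.val then B' j else 0) + τw (Fin.last k) := by
  intro d
  induction d with
  | zero =>
    intro m hm
    have hmk : m = k := by omega
    subst hmk
    rw [sum_ite_split C' m (by omega), sum_ite_split C m (by omega),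
      sum_ite_zero C' (m + 1) le_rfl, sum_ite_zero C (m + 1) le_rfl,
      sum_ite_zero B m le_rfl, sum_ite_zero B' m le_rfl]
    have := hpc (Fin.last m)
    have e1 : (⟨m, by omega⟩ : Fin (m + 1)) = Fin.last m := rfl
    rw [e1]
    omega
  | succ d ih =>
    intro m hm
    have hmk : m < k := by omega
    have ih' := ih (m + 1) (by omega)
    rw [sum_ite_split C' m (by omega), sum_ite_split C m (by omega),
      sum_ite_split B m hmk, sum_ite_split B' m hmk]
    have h1 := hpc ⟨m, by omega⟩
    have h2 := hpb ⟨m, hmk⟩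
    have e1 : (⟨m, hmk⟩ : Fin k).succ = ⟨m + 1, by omega⟩ := rfl
    have e2 : (⟨m, hmk⟩ : Fin k).castSucc = ⟨m, by omega⟩ := rfl
    rw [e1, e2] at h2
    omega

theorem sum_filter_cast {n : ℕ} (p : Fin n → Prop) [DecidablePred p] (m : ℕ)
    (hp : ∀ j, p j ↔ m ≤ j.val) (F : Fin n → ℕ∞) (hF : ∀ j, F j ≠ ⊤) :
    (∑ j ∈ Finset.univ.filter p, F j) =
      ((∑ j : Fin n, if m ≤ j.val then (F j).toNat else 0 : ℕ) : ℕ∞) := by
  rw [Finset.sum_filter, Nat.cast_sum]
  refine Finset.sum_congr rfl fun j _ => ?_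
  by_cases hij : m ≤ j.val
  · rw [if_pos ((hp j).mpr hij), if_pos hij]
    exact (ENat.natCast_toNat (hF j)).symm
  · rw [if_neg (fun h => hij ((hp j).mp h)), if_neg hij]
    rfl

end Comb

section Sys

/-- the image of a system under a continuous map. -/
def mapSys {A B : Type u} [TopologicalSpace A] [TopologicalSpace B] (φ : A → B)
    (hφ : Continuous φ) {Z : Set B} {a : A} {k : ℕ}
    (S : Algz.DSystem (φ ⁻¹' Z) a k) : Algz.DSystem Z (φ a) k where
  v i := φ (S.v i)
  w i := φ (S.w i)
  spec i := (S.spec i).map hφ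
  spec_succ i := (S.spec_succ i).map hφ
  start_mem := S.start_mem
  last_eq := congrArg φ S.last_eq

end Sys


open Groth.Agent.H9.DimFormulaScheme in
/-- the value of the pushed-forward system. -/
theorem delta_mapSys_add_le (Y Y' : Scheme.{u}) [IsNoetherian Y] [IsNoetherian Y']
    (hY : ∀ y : Y, CAlg.IsUniversallyCatenary (Y.presheaf.stalk y)) (Z : Set Y)
    (f : Y' ⟶ Y) [LocallyOfFiniteType f] (e : ℕ)
    (hfib : ∀ y : Y, topologicalKrullDim ↑(Limits.pullback f (Y.fromSpecResidueField y)) ≤
      (e : WithBot ℕ∞)) (y' : Y') (t : ℕ)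
    (ht : @Algebra.trdeg (Y.residueField (f.base y')) (Y'.residueField y') _ _
      (f.residueFieldMap y').hom.toAlgebra = t) (k : ℕ)
    (S' : Algz.DSystem (f.base ⁻¹' Z) y' k) :
    (mapSys f.base f.continuous S').delta + t ≤ S'.delta + e := by
  classical
  -- the transcendence degrees
  have hex : ∀ p : Y', ∃ n : ℕ, @Algebra.trdeg (Y.residueField (f.base p)) (Y'.residueField p) _ _
      (f.residueFieldMap p).hom.toAlgebra = (n : Cardinal.{u}) := fun p => exists_trdeg_eq_nat f p
  choose τ hτ using hex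
  have hτe : ∀ p, τ p ≤ e := fun p => trdeg_le_of_fibre_dim_le f e hfib p (τ p) (hτ p)
  have hτy : τ y' = t := by
    have h1 : (τ y' : Cardinal.{u}) = (t : Cardinal.{u}) := by rw [← hτ y', ht]
    exact_mod_cast h1
  set S := mapSys f.base f.continuous S' with hS
  -- natural number codimensions
  have hc' : ∀ j, S'.c j = (((S'.c j).toNat : ℕ) : ℕ∞) := fun j =>
    (ENat.natCast_toNat (codimPt_ne_top Y' (S'.spec j))).symm
  have hb' : ∀ j, S'.b j = (((S'.b j).toNat : ℕ) : ℕ∞) := fun j =>
    (ENat.natCast_toNat (codimPt_ne_top Y' (S'.spec_succ j))).symm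
  have hc : ∀ j, S.c j = (((S.c j).toNat : ℕ) : ℕ∞) := fun j =>
    (ENat.natCast_toNat (codimPt_ne_top Y (S.spec j))).symm
  have hb : ∀ j, S.b j = (((S.b j).toNat : ℕ) : ℕ∞) := fun j =>
    (ENat.natCast_toNat (codimPt_ne_top Y (S.spec_succ j))).symm
  have hpc : ∀ j, (S'.c j).toNat + τ (S'.v j) = (S.c j).toNat + τ (S'.w j) := by
    intro j
    have h1 := pair_formula f (S'.spec j) (hY _) (τ (S'.v j)) (τ (S'.w j)) (hτ _) (hτ _)
    have h2 : S'.c j + (τ (S'.v j) : ℕ∞) = S.c j + (τ (S'.w j) : ℕ∞) := h1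
    rw [hc' j, hc j] at h2
    exact_mod_cast h2
  have hpb : ∀ j : Fin k, (S'.b j).toNat + τ (S'.v j.succ) =
      (S.b j).toNat + τ (S'.w j.castSucc) := by
    intro j
    have h1 := pair_formula f (S'.spec_succ j) (hY _) (τ (S'.v j.succ)) (τ (S'.w j.castSucc))
      (hτ _) (hτ _)
    have h2 : S'.b j + (τ (S'.v j.succ) : ℕ∞) = S.b j + (τ (S'.w j.castSucc) : ℕ∞) := h1
    rw [hb' j, hb j] at h2
    exact_mod_cast h2
  have htel := telescope k (fun j => (S.c j).toNat) (fun j => (S'.c j).toNat)
    (fun j => τ (S'.v j)) (fun j => τ (S'.w j)) (fun j => (S.b j).toNat)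
    (fun j => (S'.b j).toNat) hpc hpb
  have hlast : τ (S'.w (Fin.last k)) = t := by rw [S'.last_eq]; exact hτy
  -- the terms of the maxima
  have hterm : ∀ i : Fin (k + 1),
      ((∑ j ∈ Finset.univ.filter (fun j : Fin (k + 1) => i ≤ j), S.c j) -
        ∑ j ∈ Finset.univ.filter (fun j : Fin k => i.val ≤ j.val), S.b j) + (t : ℕ∞) ≤
      ((∑ j ∈ Finset.univ.filter (fun j : Fin (k + 1) => i ≤ j), S'.c j) -
        ∑ j ∈ Finset.univ.filter (fun j : Fin k => i.val ≤ j.val), S'.b j) + (e : ℕ∞) := by
    intro i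
    have h1 := htel (k - i.val) i.val (by have := i.2; omega)
    simp only [] at h1
    rw [hlast] at h1
    have h2 := hτe (S'.v i)
    have h3 : t ≤ e := hτy ▸ hτe y'
    rw [sum_filter_cast (fun j : Fin (k + 1) => i ≤ j) i.val (fun j => Fin.le_def) S.c
        (fun j => codimPt_ne_top Y (S.spec j)),
      sum_filter_cast (fun j : Fin k => i.val ≤ j.val) i.val (fun j => Iff.rfl) S.b
        (fun j => codimPt_ne_top Y (S.spec_succ j)),
      sum_filter_cast (fun j : Fin (k + 1) => i ≤ j) i.val (fun j => Fin.le_def) S'.c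
        (fun j => codimPt_ne_top Y' (S'.spec j)),
      sum_filter_cast (fun j : Fin k => i.val ≤ j.val) i.val (fun j => Iff.rfl) S'.b
        (fun j => codimPt_ne_top Y' (S'.spec_succ j))]
    rw [← ENat.natCast_sub, ← ENat.natCast_sub]
    have h4 : (∑ j : Fin (k + 1), if i.val ≤ j.val then (S.c j).toNat else 0) -
        (∑ j : Fin k, if i.val ≤ j.val then (S.b j).toNat else 0) + t ≤
        (∑ j : Fin (k + 1), if i.val ≤ j.val then (S'.c j).toNat else 0) -
        (∑ j : Fin k, if i.val ≤ j.val then (S'.b j).toNat else 0) + e := by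
      have e1 : (⟨i.val, by omega⟩ : Fin (k + 1)) = i := rfl
      rw [e1] at h1
      omega
    exact_mod_cast h4
  -- the maxima
  unfold Algz.DSystem.delta
  obtain ⟨i₀, -, hi₀⟩ := Finset.exists_mem_eq_sup Finset.univ Finset.univ_nonempty
    (fun i : Fin (k + 1) =>
      (∑ j ∈ Finset.univ.filter (fun j : Fin (k + 1) => i ≤ j), S.c j) -
        ∑ j ∈ Finset.univ.filter (fun j : Fin k => i.val ≤ j.val), S.b j)
  rw [hi₀, add_assoc, add_assoc]
  refine add_le_add le_rfl ((hterm i₀).trans (add_le_add ?_ le_rfl))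
  exact Finset.le_sup (f := fun i : Fin (k + 1) =>
      (∑ j ∈ Finset.univ.filter (fun j : Fin (k + 1) => i ≤ j), S'.c j) -
        ∑ j ∈ Finset.univ.filter (fun j : Fin k => i.val ≤ j.val), S'.b j) (Finset.mem_univ i₀)

/-- **The change-of-scheme inequality for the distance function.** -/
theorem deltaZ_add_le (Y Y' : Scheme.{u}) [IsNoetherian Y] [IsNoetherian Y']
    (hY : ∀ y : Y, CAlg.IsUniversallyCatenary (Y.presheaf.stalk y)) (Z : Set Y)
    (f : Y' ⟶ Y) [LocallyOfFiniteType f] (e : ℕ)
    (hfib : ∀ y : Y, topologicalKrullDim ↑(Limits.pullback f (Y.fromSpecResidueField y)) ≤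
      (e : WithBot ℕ∞)) (y' : Y') (t : ℕ)
    (ht : @Algebra.trdeg (Y.residueField (f.base y')) (Y'.residueField y') _ _
      (f.residueFieldMap y').hom.toAlgebra = t) :
    Algz.deltaZ Z (f.base y') + t ≤ Algz.deltaZ (f.base ⁻¹' Z) y' + e := by
  have hR : (⨅ (k : ℕ) (S : Algz.DSystem (f.base ⁻¹' Z) y' k), S.delta) + (e : ℕ∞) =
      ⨅ (k : ℕ) (S : Algz.DSystem (f.base ⁻¹' Z) y' k), (S.delta + (e : ℕ∞)) := by
    rw [ENat.iInf_add]
    refine iInf_congr fun k => ?_
    rw [ENat.iInf_add]
  have hR' : Algz.deltaZ (f.base ⁻¹' Z) y' + (e : ℕ∞) =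
      ⨅ (k : ℕ) (S : Algz.DSystem (f.base ⁻¹' Z) y' k), (S.delta + (e : ℕ∞)) := hR
  rw [hR']
  refine le_iInf₂ fun k S' => ?_
  have h1 : Algz.deltaZ Z (f.base y') ≤ (mapSys f.base f.continuous S').delta :=
    iInf₂_le k (mapSys f.base f.continuous S')
  exact (add_le_add h1 le_rfl).trans (delta_mapSys_add_le Y Y' hY Z f e hfib y' t ht k S')

end Groth.Agent.H38.DeltaPush
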