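import Mathlib
import Groth.Prelude.Def_FDesc
import Groth.Agent.H38.TensorMinPrime
import Groth.Agent.H38.BCChart
import Groth.Agent.H54.SchemeDim
import Groth.Agent.H54.DimClosure

/-!
# Dimension of irreducible components of the preimage of an irreducible closed subset under
extension of the base field
-/

set_option autoImplicit false
universe u
open CategoryTheory CategoryTheory.Limits AlgebraicGeometry TensorProduct

namespace Groth.Agent.H38.DimBCComp

section Top

variable {T : Type*} [TopologicalSpace T]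

/-- The generic point of an irreducible component of a closed subspace. -/
theorem exists_generic_of_mem_irreducibleComponents_subtype [QuasiSober T] [T0Space T]
    {C : Set T} (hC : IsClosed C) (W : Set ↥C) (hW : W ∈ irreducibleComponents ↥C) :
    ∃ w : T, w ∈ C ∧ closure ({w} : Set T) = Subtype.val '' W ∧
      (∀ w₁ ∈ C, w₁ ⤳ w → w₁ = w) := by
  have hWc : IsClosed W := isClosed_of_mem_irreducibleComponents W hW
  have hW'c : IsClosed (Subtype.val '' W : Set T) :=
    hC.isClosedEmbedding_subtypeVal.isClosedMap _ hWc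
  have hW'i : IsIrreducible (Subtype.val '' W : Set T) :=
    hW.1.image _ continuous_subtype_val.continuousOn
  obtain ⟨w, hw⟩ := QuasiSober.sober hW'i hW'c
  have hwW : w ∈ (Subtype.val '' W : Set T) := hw.def ▸ subset_closure rfl
  obtain ⟨⟨w', hw'C⟩, hw'W, rfl⟩ := hwW
  refine ⟨w', hw'C, hw.def, ?_⟩
  intro w₁ hw₁C hsp
  -- the closure of `w₁` in `C`
  let W₁ : Set ↥C := closure {⟨w₁, hw₁C⟩}
  have hW₁i : IsIrreducible W₁ := isIrreducible_singleton.closure
  have hsub : W ⊆ W₁ := by
    intro x hx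
    have hx' : (x : T) ∈ closure ({w'} : Set T) := by
      rw [hw.def]; exact ⟨x, hx, rfl⟩
    have h1 : w' ⤳ (x : T) := specializes_iff_mem_closure.mpr hx'
    have h2 : w₁ ⤳ (x : T) := hsp.trans h1
    have h3 : (⟨w₁, hw₁C⟩ : ↥C) ⤳ x := Topology.IsInducing.subtypeVal.specializes_iff.mp h2
    exact specializes_iff_mem_closure.mp h3
  have heq : W₁ ⊆ W := hW.2 hW₁i hsub
  have h4 : (⟨w₁, hw₁C⟩ : ↥C) ∈ W := heq (subset_closure rfl)
  have h5 : w₁ ∈ closure ({w'} : Set T) := by
    rw [hw.def]; exact ⟨_, h4, rfl⟩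
  exact (hsp.antisymm (specializes_iff_mem_closure.mpr h5)).eq

theorem topologicalKrullDim_image_subtype {C : Set T} (W : Set ↥C) :
    topologicalKrullDim ↥W = topologicalKrullDim ↥(Subtype.val '' W : Set T) :=
  IsHomeomorph.topologicalKrullDim_eq _
    (Topology.IsEmbedding.subtypeVal.homeomorphImage W).isHomeomorph

end Top

section Main

variable {k K : Type u} [Field k] [Field K] [Algebra k K] {X : Scheme.{u}}
  (f : X ⟶ Spec (CommRingCat.of k)) [LocallyOfFiniteType f]

instance locallyOfFiniteType_bcStr : LocallyOfFiniteType (FBase.bcStr f K) := by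
  show LocallyOfFiniteType (pullback.snd f _)
  infer_instance

omit [LocallyOfFiniteType f] in
instance flat_bcπ : Flat (FBase.bcπ f K) := by
  have : Flat (Spec.map (CommRingCat.ofHom (algebraMap k K))) := inferInstance
  show Flat (pullback.fst f _)
  infer_instance

/-- Core: for `w ∈ X_K` over `z ∈ X` such that `w` has no proper generization lying over the
closure of `z`, the transcendence degrees of `κ(w)/K` and `κ(z)/k` agree. -/
theorem tdeg_eq_of_maximal (z : X) (w : ↥(FBase.bc f K)) (hwz : (FBase.bcπ f K).base w = z)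
    (hmax : ∀ w₁ : ↥(FBase.bc f K), (FBase.bcπ f K).base w₁ ∈ closure ({z} : Set X) →
      w₁ ⤳ w → w₁ = w) :
    Groth.Agent.H54.tdeg (FBase.bcStr f K) w = Groth.Agent.H54.tdeg f z := by
  classical
  obtain ⟨A, j, hj, ψ, hψ, hft, ⟨P, hP⟩, -⟩ := Groth.Agent.H54.exists_chart f z ⊤ trivial
  letI : Algebra k A := ψ.hom.toAlgebra
  haveI : Algebra.FiniteType k A := hft
  obtain ⟨jK, hjK, hjKπ, hjKs, hrange⟩ := Groth.Agent.H38.BCChart.exists_bcChart (K := K) f j ψ hψ
  have hwr : w ∈ Set.range jK.base := by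
    rw [hrange]; show (FBase.bcπ f K).base w ∈ Set.range j.base; rw [hwz]; exact ⟨P, hP⟩
  obtain ⟨Q, hQ⟩ := hwr
  -- finite type of the chart of the base change
  let ψK : CommRingCat.of K ⟶ CommRingCat.of (A ⊗[k] K) :=
    CommRingCat.ofHom (Algebra.TensorProduct.includeRight : K →ₐ[k] A ⊗[k] K).toRingHom
  have hftK : ψK.hom.FiniteType := by
    have : LocallyOfFiniteType (Spec.map ψK) := by
      rw [← hjKs]; infer_instance
    exact (HasRingHomProperty.Spec_iff (P := @LocallyOfFiniteType)).mp this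
  have h3 := Groth.Agent.H54.ringKrullDim_quotient_chart f j ψ hψ hft P
  have h4 := Groth.Agent.H54.ringKrullDim_quotient_chart (FBase.bcStr f K) jK ψK hjKs.symm hftK Q
  rw [hP] at h3
  rw [hQ] at h4
  -- compatibility of the charts on points
  have hpt : ∀ Q' : Spec (CommRingCat.of (A ⊗[k] K)),
      (FBase.bcπ f K).base (jK.base Q') =
        j.base ((Spec.map (CommRingCat.ofHom
          (Algebra.TensorProduct.includeLeftRingHom : A →+* A ⊗[k] K))).base Q') := by
    intro Q'
    rw [← Scheme.Hom.comp_apply, hjKπ, Scheme.Hom.comp_apply]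
  -- the prime `Q` lies over `P`
  have hjinj : Function.Injective j.base := j.isOpenEmbedding.injective
  have hjKinj : Function.Injective jK.base := jK.isOpenEmbedding.injective
  have hQP : (Spec.map (CommRingCat.ofHom
      (Algebra.TensorProduct.includeLeftRingHom : A →+* A ⊗[k] K))).base Q = P := by
    apply hjinj
    rw [← hpt, hQ, hwz, hP]
  have hmin : (Q : PrimeSpectrum (A ⊗[k] K)).asIdeal ∈
      ((P : PrimeSpectrum A).asIdeal.map
        (Algebra.TensorProduct.includeLeft : A →ₐ[k] A ⊗[k] K)).minimalPrimes := by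
    refine ⟨⟨(Q : PrimeSpectrum (A ⊗[k] K)).isPrime, ?_⟩, ?_⟩
    · rw [Ideal.map_le_iff_le_comap]
      intro x hx
      have : x ∈ ((Spec.map (CommRingCat.ofHom
        (Algebra.TensorProduct.includeLeftRingHom : A →+* A ⊗[k] K))).base Q).asIdeal := by
        rw [hQP]; exact hx
      exact this
    · rintro Q' ⟨hQ'p, hQ'le⟩ hQ'Q
      let q' : Spec (CommRingCat.of (A ⊗[k] K)) := (⟨Q', hQ'p⟩ : PrimeSpectrum (A ⊗[k] K))
      have hsp : jK.base q' ⤳ w := by
        rw [← hQ]
        apply Specializes.map _ jK.continuous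
        exact (PrimeSpectrum.le_iff_specializes (⟨Q', hQ'p⟩ : PrimeSpectrum (A ⊗[k] K)) Q).mp hQ'Q
      have hin : (FBase.bcπ f K).base (jK.base q') ∈ closure ({z} : Set X) := by
        rw [hpt, ← hP]
        apply specializes_iff_mem_closure.mp
        apply Specializes.map _ j.continuous
        apply (PrimeSpectrum.le_iff_specializes (P : PrimeSpectrum A) _).mp
        intro x hx
        exact hQ'le (Ideal.mem_map_of_mem _ hx)
      have h5 := hmax _ hin hsp
      rw [← hQ] at h5
      have h6 : q' = Q := hjKinj h5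
      rw [← h6]
  haveI := (P : PrimeSpectrum A).isPrime
  have h5 := Groth.Agent.H38.TensorMinPrime.ringKrullDim_quotient_of_mem_minimalPrimes_map k A K
    (P : PrimeSpectrum A).asIdeal (Q : PrimeSpectrum (A ⊗[k] K)).asIdeal hmin
  rw [h3, h4] at h5
  exact_mod_cast h5

/-- **EGA IV 4.2.6/4.2.7-type statement.** Every irreducible component of the preimage in `X_K` of
an irreducible closed subset `Z` of `X` has the dimension of `Z`. -/
theorem topologicalKrullDim_component_preimage (Z : Set ↥X) (hZc : IsClosed Z)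
    (hZi : IsIrreducible Z)
    (W : Set ↥(⇑(FBase.bcπ f K).base ⁻¹' Z))
    (hW : W ∈ irreducibleComponents ↥(⇑(FBase.bcπ f K).base ⁻¹' Z)) :
    topologicalKrullDim ↥W = topologicalKrullDim ↥Z := by
  obtain ⟨z, hz⟩ := QuasiSober.sober hZi hZc
  have hC : IsClosed ((FBase.bcπ f K).base ⁻¹' Z) := hZc.preimage (FBase.bcπ f K).continuous
  obtain ⟨w, hwC, hwcl, hwmax⟩ := exists_generic_of_mem_irreducibleComponents_subtype hC W hW
  have hπw : (FBase.bcπ f K).base w = z := by
    have h1 : z ⤳ (FBase.bcπ f K).base w :=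
      specializes_iff_mem_closure.mpr (hz.def.symm ▸ hwC)
    obtain ⟨w₁, hw₁, hw₁z⟩ := (Flat.generalizingMap (FBase.bcπ f K)) h1
    have hw₁C : w₁ ∈ (FBase.bcπ f K).base ⁻¹' Z := by
      show (FBase.bcπ f K).base w₁ ∈ Z
      rw [hw₁z, ← hz.def]; exact subset_closure rfl
    have : w₁ = w := hwmax w₁ hw₁C hw₁
    rw [← this, hw₁z]
  have h1 := tdeg_eq_of_maximal f z w hπw
    (fun w₁ hw₁ hsp => hwmax w₁ (by rw [hz.def] at hw₁; exact hw₁) hsp)
  rw [topologicalKrullDim_image_subtype W, ← hwcl,
    Groth.Agent.H54.topologicalKrullDim_closure_singleton (FBase.bcStr f K) w, h1,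
    ← Groth.Agent.H54.topologicalKrullDim_closure_singleton f z, hz.def]

end Main

end Groth.Agent.H38.DimBCComp
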