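import Mathlib
import Groth.Agent.H38.DimBCComp
import Groth.Agent.H54.GenericComp

/-!
# Dimensions of irreducible components under extension of the base field (continued)
-/

set_option autoImplicit false
universe u
open CategoryTheory CategoryTheory.Limits AlgebraicGeometry TensorProduct

namespace Groth.Agent.H38.DimBCComp

section Main

variable {k K : Type u} [Field k] [Field K] [Algebra k K] {X : Scheme.{u}}
  (f : X ⟶ Spec (CommRingCat.of k)) [LocallyOfFiniteType f]

omit [LocallyOfFiniteType f] in
instance surjective_bcπ : Surjective (FBase.bcπ f K) := by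
  have : Surjective (Spec.map (CommRingCat.ofHom (algebraMap k K))) := by
    refine ⟨fun x => ?_⟩
    haveI : Subsingleton (PrimeSpectrum k) := inferInstance
    have y : PrimeSpectrum K := default
    exact ⟨y, Subsingleton.elim (α := PrimeSpectrum k) _ _⟩
  show Surjective (pullback.fst f _)
  infer_instance

/-- At the generic point of an irreducible component of `X_K`, the transcendence degree over `K`
is the transcendence degree over `k` of the image point. -/
theorem tdeg_eq_of_closure_mem_irreducibleComponents (w : ↥(FBase.bc f K))
    (hw : closure ({w} : Set ↥(FBase.bc f K)) ∈ irreducibleComponents ↥(FBase.bc f K)) :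
    Groth.Agent.H54.tdeg (FBase.bcStr f K) w =
      Groth.Agent.H54.tdeg f ((FBase.bcπ f K).base w) :=
  tdeg_eq_of_maximal f _ w rfl
    (fun _ _ hsp => Groth.Agent.H54.eq_of_specializes_of_closure_mem_irreducibleComponents hw hsp)

omit [LocallyOfFiniteType f] in
/-- The image of the generic point of an irreducible component of `X_K` is the generic point of an
irreducible component of `X`. -/
theorem closure_image_mem_irreducibleComponents (w : ↥(FBase.bc f K))
    (hw : closure ({w} : Set ↥(FBase.bc f K)) ∈ irreducibleComponents ↥(FBase.bc f K)) :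
    closure ({(FBase.bcπ f K).base w} : Set X) ∈ irreducibleComponents ↥X := by
  refine Groth.Agent.H54.closure_mem_irreducibleComponents_of_forall fun z' hz' => ?_
  obtain ⟨w', hw', hw'z⟩ := (Flat.generalizingMap (FBase.bcπ f K)) hz'
  rw [← hw'z, Groth.Agent.H54.eq_of_specializes_of_closure_mem_irreducibleComponents hw hw']

/-- **EGA IV 4.2.8-type statement.** The dimensions of the irreducible components of `X_K` are
those of the irreducible components of `X`. -/
theorem image_dim_irreducibleComponents :
    (fun Z : Set ↥(FBase.bc f K) => topologicalKrullDim ↥Z) ''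
        irreducibleComponents ↥(FBase.bc f K) =
      (fun Z : Set ↥X => topologicalKrullDim ↥Z) '' irreducibleComponents ↥X := by
  apply Set.Subset.antisymm
  · rintro _ ⟨W, hW, rfl⟩
    obtain ⟨w, hw⟩ := QuasiSober.sober hW.1 (isClosed_of_mem_irreducibleComponents W hW)
    have hwcl : closure ({w} : Set ↥(FBase.bc f K)) = W := hw.def
    have hW' : closure ({w} : Set ↥(FBase.bc f K)) ∈ irreducibleComponents ↥(FBase.bc f K) :=
      hwcl ▸ hW
    refine ⟨closure {(FBase.bcπ f K).base w}, closure_image_mem_irreducibleComponents f w hW', ?_⟩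
    show topologicalKrullDim ↥(closure ({(FBase.bcπ f K).base w} : Set X)) = topologicalKrullDim ↥W
    rw [← hwcl, Groth.Agent.H54.topologicalKrullDim_closure_singleton f,
      Groth.Agent.H54.topologicalKrullDim_closure_singleton (FBase.bcStr f K) w,
      tdeg_eq_of_closure_mem_irreducibleComponents f w hW']
  · rintro _ ⟨Z, hZ, rfl⟩
    obtain ⟨z, hz⟩ := QuasiSober.sober hZ.1 (isClosed_of_mem_irreducibleComponents Z hZ)
    have hzcl : closure ({z} : Set X) = Z := hz.def
    have hZ' : closure ({z} : Set X) ∈ irreducibleComponents ↥X := hzcl ▸ hZ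
    obtain ⟨w₀, hw₀⟩ := (surjective_bcπ (K := K) f).surj z
    have hW : irreducibleComponent w₀ ∈ irreducibleComponents ↥(FBase.bc f K) :=
      irreducibleComponent_mem_irreducibleComponents w₀
    obtain ⟨w, hw⟩ := QuasiSober.sober hW.1 (isClosed_of_mem_irreducibleComponents _ hW)
    have hwcl : closure ({w} : Set ↥(FBase.bc f K)) = irreducibleComponent w₀ := hw.def
    have hW' : closure ({w} : Set ↥(FBase.bc f K)) ∈ irreducibleComponents ↥(FBase.bc f K) :=
      hwcl ▸ hW
    have hsp : w ⤳ w₀ := by
      rw [specializes_iff_mem_closure, hwcl]; exact mem_irreducibleComponent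
    have hπ : (FBase.bcπ f K).base w = z := by
      have h1 : (FBase.bcπ f K).base w ⤳ z := hw₀ ▸ hsp.map (FBase.bcπ f K).continuous
      exact Groth.Agent.H54.eq_of_specializes_of_closure_mem_irreducibleComponents hZ' h1
    refine ⟨irreducibleComponent w₀, hW, ?_⟩
    show topologicalKrullDim ↥(irreducibleComponent w₀) = topologicalKrullDim ↥Z
    rw [← hwcl, ← hzcl, Groth.Agent.H54.topologicalKrullDim_closure_singleton f,
      Groth.Agent.H54.topologicalKrullDim_closure_singleton (FBase.bcStr f K) w,
      tdeg_eq_of_closure_mem_irreducibleComponents f w hW', hπ]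

end Main

end Groth.Agent.H38.DimBCComp
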