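import Mathlib
import Groth.Agent.H60.FibreDimBC
import Groth.Agent.H60.EquidimAtConv
import Groth.Agent.H9.FibreFormula

set_option autoImplicit false
universe u
open CategoryTheory AlgebraicGeometry Limits

namespace Groth.Agent.H38.DimFunBC

/-- a maximal point of a flat base change maps to a maximal point. -/
theorem fst_maximal {X S S' : Scheme.{u}} (a : X ⟶ S) (g : S' ⟶ S) [Flat g]
    (x' : ↥(pullback a g)) (hx' : ∀ y : ↥(pullback a g), y ⤳ x' → y = x') :
    ∀ t : X, t ⤳ (pullback.fst a g).base x' → t = (pullback.fst a g).base x' := by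
  intro t ht
  obtain ⟨y, hy, rfl⟩ := (Flat.generalizingMap (f := pullback.fst a g)) ht
  rw [hx' y hy]

/-- a maximal point of a base change maps to a point which is maximal in its fibre. -/
theorem snd_maximal_in_fibre {X S S' : Scheme.{u}} (a : X ⟶ S) (g : S' ⟶ S)
    (x' : ↥(pullback a g)) (hx' : ∀ y : ↥(pullback a g), y ⤳ x' → y = x') :
    ∀ y : S', g.base y = g.base ((pullback.snd a g).base x') →
      y ⤳ (pullback.snd a g).base x' → y = (pullback.snd a g).base x' := by
  intro y hy hsp
  set s' := (pullback.snd a g).base x' with hs'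
  set s := g.base s' with hs
  -- the points in the fibre
  obtain ⟨y₀, hy₀⟩ : y ∈ Set.range (g.fiberι s).base := by
    rw [Scheme.Hom.range_fiberι]; exact hy
  obtain ⟨σ, hσ⟩ : s' ∈ Set.range (g.fiberι s).base := by
    rw [Scheme.Hom.range_fiberι]; rfl
  have hsp₀ : y₀ ⤳ σ := by
    rw [← (g.fiberι s).isEmbedding.isInducing.specializes_iff, hy₀, hσ]
    exact hsp
  -- the base change to the fibre is flat
  have hleft := IsPullback.of_hasPullback (pullback.snd a g) (g.fiberι s)
  have hbig := hleft.paste_horiz (IsPullback.of_hasPullback a g)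
  rw [g.fiber_fac s] at hbig
  have hfib : IsPullback (a.fiberι s) (a.fiberToSpecResidueField s) a
      (S.fromSpecResidueField s) := IsPullback.of_hasPullback a (S.fromSpecResidueField s)
  have hsq := IsPullback.of_right' hbig hfib
  haveI : Flat (pullback.snd (pullback.snd a g) (g.fiberι s)) :=
    MorphismProperty.of_isPullback (P := @Flat) hsq inferInstance
  -- lift the generization
  obtain ⟨p, hp1, hp2⟩ := Scheme.Pullback.exists_preimage_pullback
    (f := pullback.snd a g) (g := g.fiberι s) x' σ hσ.symm
  have hsp' : y₀ ⤳ (pullback.snd (pullback.snd a g) (g.fiberι s)).base p := by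
    rw [hp2]; exact hsp₀
  obtain ⟨p', hp', hp'2⟩ :=
    (Flat.generalizingMap (f := pullback.snd (pullback.snd a g) (g.fiberι s))) hsp'
  have h1 : (pullback.fst (pullback.snd a g) (g.fiberι s)).base p' = x' := by
    apply hx'
    rw [← hp1]
    exact hp'.map (pullback.fst (pullback.snd a g) (g.fiberι s)).continuous
  have hcomm : (pullback.snd a g).base ((pullback.fst (pullback.snd a g) (g.fiberι s)).base p') =
      (g.fiberι s).base ((pullback.snd (pullback.snd a g) (g.fiberι s)).base p') := by
    have := congrArg (fun h : pullback (pullback.snd a g) (g.fiberι s) ⟶ S' => h.base p')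
      (pullback.condition (f := pullback.snd a g) (g := g.fiberι s))
    exact this
  rw [h1, hp'2, hy₀] at hcomm
  exact hcomm.symm

open Groth.Agent.H9.FibreFormula in
/-- transcendence degrees of residue field extensions at maximal points are invariant under base
change. -/
theorem trdeg_baseChange_of_maximal {X S S' : Scheme.{u}} (a : X ⟶ S) [LocallyOfFiniteType a]
    (g : S' ⟶ S) (x' : ↥(pullback a g)) (hx' : ∀ y : ↥(pullback a g), y ⤳ x' → y = x')
    (hx : ∀ t : X, t ⤳ (pullback.fst a g).base x' → t = (pullback.fst a g).base x')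
    (n n' : ℕ)
    (hn : @Algebra.trdeg (S.residueField (a.base ((pullback.fst a g).base x')))
      (X.residueField ((pullback.fst a g).base x')) _ _
      (a.residueFieldMap ((pullback.fst a g).base x')).hom.toAlgebra = (n : Cardinal.{u}))
    (hn' : @Algebra.trdeg (S'.residueField ((pullback.snd a g).base x'))
      ((pullback a g).residueField x') _ _
      ((pullback.snd a g).residueFieldMap x').hom.toAlgebra = (n' : Cardinal.{u})) : n' = n := by
  obtain ⟨n1, b1, h11, h12, h13⟩ := fibre_formula (pullback.snd a g) x'
  obtain ⟨n2, b2, h21, h22, h23⟩ := fibre_formula a ((pullback.fst a g).base x')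
  have hb1 : b1 = 0 := by
    rw [ringKrullDim_stalk_eq_coheight,
      Groth.Agent.H60.EquidimAtConv.coheight_asFiber_of_maximal (pullback.snd a g) x' hx'] at h12
    exact_mod_cast h12.symm
  have hb2 : b2 = 0 := by
    rw [ringKrullDim_stalk_eq_coheight,
      Groth.Agent.H60.EquidimAtConv.coheight_asFiber_of_maximal a _ hx] at h22
    exact_mod_cast h22.symm
  have hbc := Groth.Agent.H60.FibreDimBC.fibreDimAt_baseChange a g x'
  rw [h13, h23, hb1, hb2] at hbc
  have e1 : n1 = n2 := by exact_mod_cast hbc
  have e2 : (n' : Cardinal.{u}) = (n1 : Cardinal.{u}) := by rw [← hn', h11]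
  have e3 : (n : Cardinal.{u}) = (n2 : Cardinal.{u}) := by rw [← hn, h21]
  have e2' : n' = n1 := by exact_mod_cast e2
  have e3' : n = n2 := by exact_mod_cast e3
  omega

end Groth.Agent.H38.DimFunBC
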