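import Mathlib
import Groth.Agent.H38.DeltaPush
import Groth.Agent.H44.DeltaZDim
import Groth.Agent.H23.RegularLocal
import Groth.Agent.H60.DimFunX

set_option autoImplicit false
universe u
open CategoryTheory AlgebraicGeometry

namespace Groth.Agent.H38.DimFunReg

open Groth.Agent.H38.CodimStalk Groth.Agent.H38.DeltaPush

/-- the codimension of point closures is invariant under an embedding whose range contains the
points between the two images. -/
theorem codimPt_map_of_isEmbedding' {A B : Type u} [TopologicalSpace A] [TopologicalSpace B]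
    (ι : A → B) (hι : Topology.IsEmbedding ι) {a₁ a₀ : A} (h : a₁ ⤳ a₀)
    (hr : ∀ b : B, ι a₁ ⤳ b → b ⤳ ι a₀ → b ∈ Set.range ι) (h' : ι a₁ ⤳ ι a₀) :
    Algz.codimPt (ι a₁) (ι a₀) h' = Algz.codimPt a₁ a₀ h := by
  apply le_antisymm
  · unfold Algz.codimPt
    apply Order.height_le
    intro p hp
    have hmem : ∀ i, Specialization.ofEquiv (p i).1 ∈ Set.range ι := by
      intro i
      apply hr
      · have h1 : p i ≤ p.last := p.monotone (Fin.le_last i)
        rw [hp] at h1
        have h2 : (p i).1 ≤ Specialization.toEquiv (ι a₁) := h1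
        exact Specialization.ofEquiv_specializes_ofEquiv.mpr h2
      · exact Specialization.ofEquiv_specializes_ofEquiv.mpr (p i).2
    choose q hq using hmem
    have hq0 : ∀ i, q i ⤳ a₀ := by
      intro i
      rw [← hι.isInducing.specializes_iff, hq i]
      exact Specialization.ofEquiv_specializes_ofEquiv.mpr (p i).2
    have hle_iff : ∀ i j, (Specialization.toEquiv (q i) ≤ Specialization.toEquiv (q j)) ↔
        p i ≤ p j := by
      intro i j
      rw [Specialization.toEquiv_le_toEquiv, ← hι.isInducing.specializes_iff, hq i, hq j]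
      exact Specialization.ofEquiv_specializes_ofEquiv
    let s : LTSeries (Set.Ici (Specialization.toEquiv a₀)) :=
      LTSeries.mk p.length
        (fun i => ⟨Specialization.toEquiv (q i), Specialization.toEquiv_le_toEquiv.mpr (hq0 i)⟩)
        (by
          intro i j hij
          have h1 := p.strictMono hij
          rw [lt_iff_le_not_ge] at h1 ⊢
          exact ⟨(hle_iff i j).mpr h1.1, fun hh => h1.2 ((hle_iff j i).mp hh)⟩)
    have hlast : s.last = ⟨Specialization.toEquiv a₁, Specialization.toEquiv_le_toEquiv.mpr h⟩ := by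
      apply Subtype.ext
      show Specialization.toEquiv (q (Fin.last p.length)) = Specialization.toEquiv a₁
      congr 1
      apply hι.injective
      rw [hq]
      have h1 : p (Fin.last p.length) = _ := hp
      rw [h1]
      rfl
    have h3 := Order.length_le_height_last (p := s)
    rw [hlast] at h3
    exact h3
  · unfold Algz.codimPt
    let g : Set.Ici (Specialization.toEquiv a₀) → Set.Ici (Specialization.toEquiv (ι a₀)) :=
      fun x => ⟨Specialization.toEquiv (ι (Specialization.ofEquiv x.1)),
        Specialization.toEquiv_le_toEquiv.mpr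
          ((Specialization.ofEquiv_specializes_ofEquiv.mpr x.2 :
            Specialization.ofEquiv x.1 ⤳ a₀).map hι.continuous)⟩
    have hle_iff : ∀ a b, g a ≤ g b ↔ a ≤ b := by
      intro a b
      show (Specialization.toEquiv (ι (Specialization.ofEquiv a.1)) ≤
        Specialization.toEquiv (ι (Specialization.ofEquiv b.1))) ↔ a.1 ≤ b.1
      rw [Specialization.toEquiv_le_toEquiv, hι.isInducing.specializes_iff]
      exact Specialization.ofEquiv_specializes_ofEquiv
    have hg : StrictMono g := by
      intro a b hab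
      rw [lt_iff_le_not_ge] at hab ⊢
      exact ⟨(hle_iff a b).mpr hab.1, fun hh => hab.2 ((hle_iff b a).mp hh)⟩
    exact Order.height_le_height_apply_of_strictMono g hg
      ⟨Specialization.toEquiv a₁, Specialization.toEquiv_le_toEquiv.mpr h⟩

/-- codimensions of generizations of `y`, computed in `Spec O_{S,y}`. -/
theorem codimPt_fromSpecStalk (S : Scheme.{u}) (y : S) (P Q : PrimeSpectrum (S.presheaf.stalk y))
    (h : P ⤳ Q) (h' : (S.fromSpecStalk y).base P ⤳ (S.fromSpecStalk y).base Q) :
    Algz.codimPt ((S.fromSpecStalk y).base P) ((S.fromSpecStalk y).base Q) h' =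
      Algz.codimPt P Q h := by
  refine codimPt_map_of_isEmbedding' (A := PrimeSpectrum (S.presheaf.stalk y))
    (fun P => (S.fromSpecStalk y).base P) (S.fromSpecStalk y).isEmbedding h ?_ h'
  intro b _ hb
  have h1 : (S.fromSpecStalk y).base Q ∈ Set.range (S.fromSpecStalk y).base := ⟨Q, rfl⟩
  rw [Scheme.range_fromSpecStalk] at h1
  have h2 : b ∈ Set.range (S.fromSpecStalk y).base := by
    rw [Scheme.range_fromSpecStalk]
    exact hb.trans h1
  exact h2

/-- **`s ↦ -dim O_{S,s}` is a dimension function** on a locally Noetherian scheme whose local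
rings are catenary domains. -/
theorem isDimFun_neg_dim (S : Scheme.{u}) [IsLocallyNoetherian S]
    (hdom : ∀ s : S, IsDomain (S.presheaf.stalk s))
    (hcat : ∀ s : S, CAlg.IsCatenary (S.presheaf.stalk s))
    (δS : S → ℤ)
    (hδS : ∀ s : S, ringKrullDim (S.presheaf.stalk s) = ((-δS s).toNat : WithBot ℕ∞) ∧ δS s ≤ 0) :
    Cyc.IsDimFun S δS := by
  intro x y hxy hne
  haveI := hdom y
  haveI := hdom x
  -- the primes of `O_{S,y}`
  obtain ⟨P, hP⟩ : ∃ P : PrimeSpectrum (S.presheaf.stalk y), (S.fromSpecStalk y).base P = x := by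
    have : x ∈ Set.range (S.fromSpecStalk y).base := by
      rw [Scheme.range_fromSpecStalk]; exact hxy
    exact this
  set η := (S.fromSpecStalk y).base (⊥ : PrimeSpectrum (S.presheaf.stalk y)) with hη
  have hbotP : (⊥ : PrimeSpectrum (S.presheaf.stalk y)) ⤳ P :=
    (PrimeSpectrum.le_iff_specializes _ _).mp bot_le
  have hηx : η ⤳ x := by
    rw [← hP]; exact hbotP.map (S.fromSpecStalk y).continuous
  have hηy : η ⤳ y := hηx.trans hxy
  -- `η` is also the generic point at `x`
  have hηx' : (S.fromSpecStalk x).base (⊥ : PrimeSpectrum (S.presheaf.stalk x)) = η := by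
    obtain ⟨Q, hQ⟩ : ∃ Q : PrimeSpectrum (S.presheaf.stalk x), (S.fromSpecStalk x).base Q = η := by
      have : η ∈ Set.range (S.fromSpecStalk x).base := by
        rw [Scheme.range_fromSpecStalk]; exact hηx
      exact this
    have h1 : (S.fromSpecStalk x).base (⊥ : PrimeSpectrum (S.presheaf.stalk x)) ⤳ η := by
      rw [← hQ]
      exact ((PrimeSpectrum.le_iff_specializes _ _).mp bot_le).map (S.fromSpecStalk x).continuous
    have h2 : (S.fromSpecStalk x).base (⊥ : PrimeSpectrum (S.presheaf.stalk x)) ∈
        Set.range (S.fromSpecStalk y).base := by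
      rw [Scheme.range_fromSpecStalk]
      have h3 : (S.fromSpecStalk x).base (⊥ : PrimeSpectrum (S.presheaf.stalk x)) ∈
          Set.range (S.fromSpecStalk x).base := ⟨_, rfl⟩
      rw [Scheme.range_fromSpecStalk] at h3
      exact h3.trans hxy
    obtain ⟨Q', hQ'⟩ := h2
    have h4 : η ⤳ (S.fromSpecStalk x).base (⊥ : PrimeSpectrum (S.presheaf.stalk x)) := by
      rw [← hQ']
      exact ((PrimeSpectrum.le_iff_specializes (⊥ : PrimeSpectrum (S.presheaf.stalk y)) Q').mp
        bot_le).map (S.fromSpecStalk y).continuous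
    exact (h1.antisymm h4).eq
  -- the three codimensions
  have hdimy : ringKrullDim (S.presheaf.stalk y) =
      ((Order.coheight (⊥ : PrimeSpectrum (S.presheaf.stalk y)) : ℕ∞) : WithBot ℕ∞) :=
    (Order.coheight_bot_eq_krullDim (α := PrimeSpectrum (S.presheaf.stalk y))).symm
  have hdimx : ringKrullDim (S.presheaf.stalk x) =
      ((Algz.codimPt η x hηx : ℕ∞) : WithBot ℕ∞) := by
    rw [codimPt_eq_coheight S hηx (⊥ : PrimeSpectrum (S.presheaf.stalk x)) hηx']
    exact (Order.coheight_bot_eq_krullDim (α := PrimeSpectrum (S.presheaf.stalk x))).symm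
  have hcxy : Algz.codimPt x y hxy = Order.coheight P := codimPt_eq_coheight S hxy P hP
  -- the dimension function on `Spec O_{S,y}`
  have hdf := Groth.Agent.S8815.dimFun (S.presheaf.stalk y) (hcat y)
  have hηx2 : Algz.codimPt η x hηx =
      Algz.codimPt (⊥ : PrimeSpectrum (S.presheaf.stalk y)) P hbotP := by
    rw [← codimPt_fromSpecStalk S y ⊥ P hbotP (by rw [hP]; exact hηx)]
    exact Groth.Agent.H44.codimPt_congr rfl hP.symm _ _
  rw [Groth.Agent.H44.codimPt_eq_of_dimFun hdf hbotP] at hηx2
  -- natural numbers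
  have hD : ((Groth.Agent.S8815.d (S.presheaf.stalk y) ⊥).toNat : ℕ∞) =
      Order.coheight (⊥ : PrimeSpectrum (S.presheaf.stalk y)) :=
    Groth.Agent.S8815.d_toNat _ _
  have hDP : ((Groth.Agent.S8815.d (S.presheaf.stalk y) P).toNat : ℕ∞) = Order.coheight P :=
    Groth.Agent.S8815.d_toNat _ _
  have hd0 : ∀ Q, 0 ≤ Groth.Agent.S8815.d (S.presheaf.stalk y) Q := fun Q => by
    unfold Groth.Agent.S8815.d; positivity
  have hmono : Groth.Agent.S8815.d (S.presheaf.stalk y) P ≤
      Groth.Agent.S8815.d (S.presheaf.stalk y) ⊥ := Groth.Agent.H44.dimFun_mono hdf hbotP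
  obtain ⟨h1y, h2y⟩ := hδS y
  obtain ⟨h1x, h2x⟩ := hδS x
  rw [hdimy, ← hD] at h1y
  rw [hdimx, hηx2] at h1x
  have e1 : (Groth.Agent.S8815.d (S.presheaf.stalk y) ⊥).toNat = (-δS y).toNat := by
    exact_mod_cast h1y
  have e2 : (Groth.Agent.S8815.d (S.presheaf.stalk y) ⊥ -
      Groth.Agent.S8815.d (S.presheaf.stalk y) P).toNat = (-δS x).toNat := by
    exact_mod_cast h1x
  have hdiff : δS x = δS y + (Groth.Agent.S8815.d (S.presheaf.stalk y) P) := by
    have := hd0 ⊥
    have := hd0 P
    omega
  have hPc : ((Groth.Agent.S8815.d (S.presheaf.stalk y) P).toNat : ℕ∞) = Algz.codimPt x y hxy := by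
    rw [hcxy]; exact hDP
  have hnsp : ¬ y ⤳ x := fun hh => hne (hxy.antisymm hh).eq
  constructor
  · have h1 := Groth.Agent.H44.one_le_codimPt hxy hnsp
    rw [← hPc] at h1
    have h2 : 1 ≤ (Groth.Agent.S8815.d (S.presheaf.stalk y) P).toNat := by exact_mod_cast h1
    omega
  · intro himm
    have h1 := Groth.Agent.H44.codimPt_eq_one hxy hnsp himm
    rw [← hPc] at h1
    have h2 : (Groth.Agent.S8815.d (S.presheaf.stalk y) P).toNat = 1 := by exact_mod_cast h1
    have := hd0 P
    omega

end Groth.Agent.H38.DimFunReg
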