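import Mathlib
import Groth.Prelude.Def_PBC
import Groth.Prelude.Def_ProEtS
import Groth.Agent.H23.EpsDefs
import Groth.Agent.H23.WCDefs
import Groth.Agent.H23.EpsIndDefs
import Groth.Agent.H23.WCover
import Groth.Agent.H23.WCMain
import Groth.Agent.S0177
import Groth.Agent.S0736

/-!
# (LA) ind-étale presentation data of a w-contractible pro-étale cover of an affine étale `U`
-/

set_option autoImplicit false
set_option backward.isDefEq.respectTransparency.types false
universe u
open CategoryTheory CategoryTheory.Limits AlgebraicGeometry Opposite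
open Groth.Agent.H23.EpsDefs Groth.Agent.H23.WCDefs Groth.Agent.H23.EpsIndDefs

namespace Groth.Agent.H38.Eps_LA

variable (X : Scheme.{u})

section construction

variable {X} (U : X.Etale) {Jf : Type u} [SmallCategory Jf] [IsFiltered Jf]
  (Dg : Jf ⥤ Under (CommRingCat.of ↑Γ(U.left, ⊤)))
  (het : ∀ j, (Dg.obj j).hom.hom.Etale)
  [IsAffine U.left]

/-- the structure morphism of a stage. -/
noncomputable def uSt (j : Jf) : Spec (Dg.obj j).right ⟶ U.left :=
  Spec.map (Dg.obj j).hom ≫ U.left.isoSpec.inv

include het in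
theorem etale_uSt (j : Jf) : Etale (uSt U Dg j ≫ U.hom) := by
  haveI : Etale (Spec.map (Dg.obj j).hom) := (HasRingHomProperty.Spec_iff (P := @Etale)).mpr (het j)
  unfold uSt
  infer_instance

theorem uSt_map {i j : Jf} (f : i ⟶ j) :
    Spec.map (Dg.map f).right ≫ uSt U Dg i = uSt U Dg j := by
  unfold uSt
  rw [← Category.assoc, ← Spec.map_comp, Under.w]

/-- the stages as étale `X`-schemes. -/
noncomputable def StF : Jfᵒᵖ ⥤ X.Etale where
  obj j := @Scheme.Etale.mk X _ (uSt U Dg j.unop ≫ U.hom) (etale_uSt U Dg het j.unop)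
  map {j i} f := MorphismProperty.Over.homMk (Spec.map (Dg.map f.unop).right)
    (by
      show Spec.map (Dg.map f.unop).right ≫ uSt U Dg i.unop ≫ U.hom = uSt U Dg j.unop ≫ U.hom
      rw [← Category.assoc, uSt_map]) trivial
  map_id j := by
    apply MorphismProperty.Over.Hom.ext
    show Spec.map (Dg.map (𝟙 j.unop)).right = 𝟙 _
    rw [Dg.map_id]
    exact Spec.map_id _
  map_comp {j i k} f g := by
    apply MorphismProperty.Over.Hom.ext
    show Spec.map (Dg.map (g.unop ≫ f.unop)).right = Spec.map (Dg.map f.unop).right ≫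
      Spec.map (Dg.map g.unop).right
    rw [Dg.map_comp, Under.comp_right, Spec.map_comp]

end construction

section main

/-- (LA) -/
theorem nonempty_indData (U : X.Etale) (hU : IsAffine U.left) : Nonempty (IndData X U) := by
  classical
  obtain ⟨D, iD, iAD, hff, hIE, hWC⟩ := Groth.Agent.S0177.result ↑Γ(U.left, ⊤)
  have hWE : Algebra.WeaklyEtale ↑Γ(U.left, ⊤) D := Groth.Agent.S0736.result _ D hIE
  obtain ⟨Jf, iJ, iF, Dg, c, hc, het, ⟨e⟩⟩ := hIE
  have het' : ∀ j, (Dg.obj j).hom.hom.Etale := fun j => het j
  let φ : CommRingCat.of ↑Γ(U.left, ⊤) ⟶ CommRingCat.of D := CommRingCat.ofHom (algebraMap _ D)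
  let a : Spec (CommRingCat.of D) ⟶ U.left := Spec.map φ ≫ U.left.isoSpec.inv
  haveI h1 : WeaklyEtale (Spec.map φ) := Groth.Agent.H23.WCover.weaklyEtale_SpecMap _ D
  haveI h2 : Surjective (Spec.map φ) := Groth.Agent.H23.WCover.surjective_SpecMap _ D
  haveI h3 : WeaklyEtale (a ≫ U.hom) := by
    show WeaklyEtale ((Spec.map φ ≫ U.left.isoSpec.inv) ≫ U.hom)
    infer_instance
  let W : X.ProEt := Scheme.ProEt.mk (a ≫ U.hom)
  let w : W ⟶ (ProEtS.eps X).obj U :=
    MorphismProperty.Over.homMk (A := W) (B := (ProEtS.eps X).obj U) a rfl trivial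
  let tt : ∀ j : Jf, (Dg.obj j).right ⟶ CommRingCat.of D := fun j => (c.ι.app j ≫ e.hom).right
  have htt : ∀ j, (Dg.obj j).hom ≫ tt j = φ := fun j => Under.w (c.ι.app j ≫ e.hom)
  have htt_nat : ∀ {i j : Jf} (f : i ⟶ j), (Dg.map f).right ≫ tt j = tt i := by
    intro i j f
    show (Dg.map f).right ≫ (c.ι.app j ≫ e.hom).right = (c.ι.app i ≫ e.hom).right
    rw [← Under.comp_right, ← Category.assoc, c.w f]
  have hπw : ∀ j : Jf, Spec.map (tt j) ≫ uSt U Dg j = a := by
    intro j
    show Spec.map (tt j) ≫ Spec.map (Dg.obj j).hom ≫ U.left.isoSpec.inv = Spec.map φ ≫ _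
    rw [← Category.assoc, ← Spec.map_comp, htt]
  let P : IndPre X U :=
    { W := W
      w := w
      J := Jfᵒᵖ
      St := StF U Dg het'
      b := fun j => MorphismProperty.Over.homMk (A := (StF U Dg het').obj j) (B := U)
        (uSt U Dg j.unop) rfl trivial
      b_nat := by
        intro i j f
        apply MorphismProperty.Over.Hom.ext
        show Spec.map (Dg.map f.unop).right ≫ uSt U Dg j.unop = uSt U Dg i.unop
        exact uSt_map U Dg f.unop
      π := fun j => MorphismProperty.Over.homMk (A := W)
        (B := (ProEtS.eps X).obj ((StF U Dg het').obj j)) (Spec.map (tt j.unop)) (by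
          show Spec.map (tt j.unop) ≫ uSt U Dg j.unop ≫ U.hom = a ≫ U.hom
          rw [← Category.assoc, hπw]) trivial
      π_nat := by
        intro i j f
        apply MorphismProperty.Over.Hom.ext
        show Spec.map (tt i.unop) ≫ Spec.map (Dg.map f.unop).right = Spec.map (tt j.unop)
        rw [← Spec.map_comp, htt_nat]
      π_b := by
        intro j
        apply MorphismProperty.Over.Hom.ext
        show Spec.map (tt j.unop) ≫ uSt U Dg j.unop = a
        exact hπw j.unop }
  have ha1 : WeaklyEtale a := by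
    show WeaklyEtale (Spec.map φ ≫ U.left.isoSpec.inv)
    infer_instance
  haveI ha2 : Surjective a := by
    show Surjective (Spec.map φ ≫ U.left.isoSpec.inv)
    infer_instance
  haveI ha3 : QuasiCompact a := by
    show QuasiCompact (Spec.map φ ≫ U.left.isoSpec.inv)
    infer_instance
  haveI hWaff : IsAffine W.left := by
    show IsAffine (Spec (CommRingCat.of D))
    infer_instance
  refine ⟨IndData.mk P ?_ hWaff ?_ ?_ ?_ ?_⟩
  · intro j
    show IsAffine (Spec (Dg.obj j.unop).right)
    infer_instance
  · refine (Groth.Agent.H23.WCStmts.S0715 W).mp ?_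
    show EtPBC.IsWContractible ↥(Γ(Spec (CommRingCat.of D), ⊤))
    exact Groth.Agent.H23.WCover.isWContractible_of_ringEquiv
      (Scheme.ΓSpecIso (CommRingCat.of D)).commRingCatIsoToRingEquiv.symm hWC
  · show Function.Surjective a
    exact a.surjective
  · let E : Scheme.Cover.{u} Scheme.proetalePrecoverage U.left :=
      @Scheme.Cover.ofQuasiCompactCover @WeaklyEtale _ (Scheme.Hom.cover.{u} a ha1)
        (QuasiCompactCover.homCover a ha1)
    have hmem : Presieve.singleton a ∈ Scheme.proetalePrecoverage U.left := by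
      have h := E.mem₀
      have h' : E.presieve₀ = Presieve.singleton a := Scheme.Hom.presieve₀_cover a ha1
      rwa [h'] at h
    have hR : Presieve.singleton w ∈ Scheme.ProEt.precoverage X ((ProEtS.eps X).obj U) := by
      simp only [Scheme.ProEt.precoverage, Precoverage.mem_comap_iff, Presieve.map_singleton]
      exact hmem
    exact Precoverage.generate_mem_toGrothendieck hR
  · haveI : IsConnected Jf := IsFiltered.isConnected Jf
    have hc' : IsColimit ((Under.forget _).mapCocone c) :=
      isColimitOfPreserves (Under.forget _) hc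
    have hl : IsLimit (Scheme.Spec.mapCone ((Under.forget _).mapCocone c).op) :=
      isLimitOfPreserves Scheme.Spec hc'.op
    let α : (Dg ⋙ Under.forget _).op ⋙ Scheme.Spec ≅
        P.St ⋙ Scheme.Etale.forget X ⋙ Over.forget X :=
      NatIso.ofComponents (fun j => Iso.refl _) (by
        intro i j f
        exact (Category.comp_id _).trans (Category.id_comp _).symm)
    have hl' := (IsLimit.postcomposeHomEquiv α _).symm hl
    refine IsLimit.ofIsoLimit hl' (Cone.ext
      (Scheme.Spec.mapIso ((Under.forget _).mapIso e).op).symm (fun j => ?_))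
    show Spec.map (c.ι.app j.unop).right ≫ 𝟙 _ = Spec.map (e.inv.right) ≫ Spec.map (tt j.unop)
    rw [Category.comp_id, ← Spec.map_comp]
    congr 1
    show _ = ((c.ι.app j.unop ≫ e.hom) ≫ e.inv).right
    rw [Category.assoc, e.hom_inv_id]
    exact congrArg Under.Hom.right (Category.comp_id (c.ι.app j.unop)).symm

end main

end Groth.Agent.H38.Eps_LA
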