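import Mathlib
import Groth.Prelude.Def_AlgSpModX
import Groth.Prelude.Def_AlgSp2
import Groth.Agent.H32.QCBC.EtSite
import Groth.Agent.H52.Topology
import Groth.Agent.H52.FQDecent

/-!
# (BCCOV) for helper32's S10577: étale-locally every object of the small étale site of `X` factors through
an affine object mapping to the base change of an affine étale chart of `Y`.
-/

set_option autoImplicit false
universe u
open CategoryTheory Opposite Limits AlgebraicGeometry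
open AlgSp

namespace Groth.Agent.H38.FPres_BCCOV

open Groth.Agent.H32.QCBC

theorem exists_factor_through_open {S : Scheme.{u}} {X : AlgSp.Sp S} (E₀ V : EtOver X)
    (W : E₀.obj.left.left.Opens) (v : ↥V.obj.left.left) (u : ↥E₀.obj.left.left) (huW : u ∈ W)
    (h : Points.ofPt E₀.obj.hom u = Points.ofPt V.obj.hom v) :
    ∃ (O : (EtOver.prodObj V (openObj E₀ W)).obj.left.left.Opens), IsAffineOpen O ∧
      v ∈ Set.range (openObjι _ O ≫ EtOver.prodFst V (openObj E₀ W)).hom.left.left := by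
  have hsq : IsPullback ((yon S).map ((openObj E₀ W).property.1.fst' V.obj.hom))
      ((yon S).map ((openObj E₀ W).property.1.snd V.obj.hom)) (openObj E₀ W).obj.hom V.obj.hom := by
    rw [Functor.relativelyRepresentable.map_fst']
    exact (openObj E₀ W).property.1.isPullback V.obj.hom
  have hE : Points.ofPt (openObj E₀ W).obj.hom (⟨u, huW⟩ : W) = Points.ofPt V.obj.hom v := by
    have h1 := Groth.Agent.H52.ofPt_yon_map_comp
      (Groth.Agent.H52.overOfHom (U := E₀.obj.left) W.ι) E₀.obj.hom (⟨u, huW⟩ : W)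
    exact h1.trans h
  obtain ⟨z, hz1, hz2⟩ := Groth.Agent.H52.exists_of_ofPt_eq_ofPt hsq (⟨u, huW⟩ : W) v hE
  obtain ⟨O, hO, hzO, -⟩ := exists_isAffineOpen_mem_and_subset
    (X := (EtOver.prodObj V (openObj E₀ W)).obj.left.left) (x := z) (U := ⊤) trivial
  exact ⟨O, hO, ⟨(⟨z, hzO⟩ : O), hz2⟩⟩

/-- A point of the base change of an affine chart of `Y` through the image of a given point of `X`. -/
theorem exists_chart_point {S : Scheme.{u}} {X Y : AlgSp.Sp S} {f : X ⟶ Y}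
    (hf : AlgSp.Representable f) (hY : AlgSp.IsAlgSpace Y) (x : Points X) :
    ∃ (E : AlgSp.EtOver Y), IsAffine E.obj.left.left ∧
      ∃ w : ↥((AlgSp.EtOver.bc hf).obj E).obj.left.left,
        Points.ofPt ((AlgSp.EtOver.bc hf).obj E).obj.hom w = x := by
  obtain ⟨U, a, u, hUaff, hae, hu⟩ := Groth.Agent.H52.exists_affine_chart_at hY (Points.map f x)
  let E : EtOver Y := EtOver.mk a hae
  refine ⟨E, hUaff, ?_⟩
  have hpb : IsPullback (hf.fst E.obj.hom) ((yon S).map (hf.snd E.obj.hom)) f E.obj.hom :=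
    hf.isPullback E.obj.hom
  have hxy : Points.map f x = Points.map E.obj.hom (Points.ofScheme U u) := by
    rw [← hu]
    exact Points.ofPt_eq_map_ofScheme a u
  obtain ⟨z, hz1, -⟩ := Groth.Agent.H52.exists_point_of_isPullback hpb x (Points.ofScheme U u) hxy
  obtain ⟨w, rfl⟩ := (Points.schemeEquiv (hf.pullback E.obj.hom)).surjective z
  exact ⟨w, (Points.ofPt_eq_map_ofScheme _ w).trans hz1⟩

theorem cover_of_family {S : Scheme.{u}} {X : AlgSp.Sp S} (V : AlgSp.EtOver X) {κ : Type (u + 1)}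
    (B : κ → AlgSp.EtOver X)
    (hB : ∀ v : ↥V.obj.left.left, ∃ (k : κ) (w : ↥(B k).obj.left.left),
      Points.ofPt (B k).obj.hom w = Points.ofPt V.obj.hom v) :
    ∃ T ∈ AlgSp.etTop X V, ∀ ⦃V' : AlgSp.EtOver X⦄ (g : V' ⟶ V), T g →
      ∃ (Z : AlgSp.EtOver X) (a : V' ⟶ Z) (b : Z ⟶ V), a ≫ b = g ∧ IsAffine Z.obj.left.left ∧
        ∃ k : κ, Nonempty (Z ⟶ B k) := by
  let ι := Σ k : κ,
    {O : (EtOver.prodObj V (openObj (B k) ⊤)).obj.left.left.Opens // IsAffineOpen O}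
  let Z : ι → EtOver X := fun i => openObj _ i.2.1
  let b : ∀ i : ι, Z i ⟶ V := fun i => openObjι _ i.2.1 ≫ EtOver.prodFst V _
  refine ⟨Sieve.ofArrows Z b, ofArrows_mem_etTop Z b ?_, ?_⟩
  · intro v
    obtain ⟨k, w, hw⟩ := hB v
    obtain ⟨O, hO, hv⟩ := exists_factor_through_open (B k) V ⊤ v w trivial hw
    exact ⟨⟨k, ⟨O, hO⟩⟩, hv⟩
  · intro V' g hg
    obtain ⟨i, k, hk⟩ := (Sieve.mem_ofArrows_iff Z b g).1 hg
    exact ⟨Z i, k, b i, hk.symm, i.2.2, i.1,
      ⟨openObjι _ i.2.1 ≫ EtOver.prodSnd V _ ≫ openObjι _ ⊤⟩⟩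

theorem exists_cover_bc {S : Scheme.{u}} {X Y : AlgSp.Sp S} {f : X ⟶ Y}
    (hf : AlgSp.Representable f) (hY : AlgSp.IsAlgSpace Y) (V : AlgSp.EtOver X) :
    ∃ T ∈ AlgSp.etTop X V, ∀ ⦃V' : AlgSp.EtOver X⦄ (g : V' ⟶ V), T g →
      ∃ (Z : AlgSp.EtOver X) (a : V' ⟶ Z) (b : Z ⟶ V), a ≫ b = g ∧ IsAffine Z.obj.left.left ∧
        ∃ (E : AlgSp.EtOver Y), IsAffine E.obj.left.left ∧
          Nonempty (Z ⟶ (AlgSp.EtOver.bc hf).obj E) := by
  obtain ⟨T, hT, h⟩ := cover_of_family V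
    (κ := {E : EtOver Y // IsAffine E.obj.left.left})
    (fun k => (AlgSp.EtOver.bc hf).obj k.1)
    (fun v => by
      obtain ⟨E, hE, w, hw⟩ := exists_chart_point hf hY (Points.ofPt V.obj.hom v)
      exact ⟨⟨E, hE⟩, w, hw⟩)
  refine ⟨T, hT, fun V' g hg => ?_⟩
  obtain ⟨Z, a, b, hab, hZ, k, hk⟩ := h g hg
  exact ⟨Z, a, b, hab, hZ, k.1, k.2, hk⟩

end Groth.Agent.H38.FPres_BCCOV
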