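import Mathlib
import Groth.Agent.H38.NowhereDenseDim
import Groth.Agent.H38.DimFibreSum
import Groth.Agent.H54.DimClosure

/-!
# Dimension of subsets of schemes locally of finite type over a field
-/

set_option autoImplicit false
universe u
open CategoryTheory AlgebraicGeometry

namespace Groth.Agent.H38.SubsetDim

open Groth.Agent.H54

/-- The dimension of a subset is bounded by any bound for the transcendence degrees of the residue
fields at the points of its closure. -/
theorem dim_subset_le_of_forall_tdeg_le {k : Type u} [Field k] {Y : Scheme.{u}}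
    (s : Y ⟶ Spec (CommRingCat.of k)) [LocallyOfFiniteType s] (Z : Set Y) (n : ℕ)
    (h : ∀ z ∈ closure Z, tdeg s z ≤ n) : topologicalKrullDim ↥Z ≤ n := by
  classical
  have hirr : ∀ W : TopologicalSpace.IrreducibleCloseds ↥Z,
      IsIrreducible (closure (Subtype.val '' (W : Set ↥Z)) : Set Y) := fun W =>
    (W.isIrreducible.image _ continuous_subtype_val.continuousOn).closure
  let ξ : TopologicalSpace.IrreducibleCloseds ↥Z → Y := fun W => (hirr W).genericPoint
  have hgen : ∀ W : TopologicalSpace.IrreducibleCloseds ↥Z,
      closure ({ξ W} : Set Y) = closure (Subtype.val '' (W : Set ↥Z)) := fun W =>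
    (hirr W).closure_genericPoint isClosed_closure
  have hW : ∀ W : TopologicalSpace.IrreducibleCloseds ↥Z,
      (W : Set ↥Z) = Subtype.val ⁻¹' closure (Subtype.val '' (W : Set ↥Z)) := by
    intro W
    rw [← Topology.IsInducing.subtypeVal.closure_eq_preimage_closure_image, W.isClosed.closure_eq]
  let g : TopologicalSpace.IrreducibleCloseds ↥Z → ℕ := fun W => tdeg s (ξ W)
  have hg : StrictMono g := by
    intro W W' hlt
    have hsub : (W : Set ↥Z) ⊆ (W' : Set ↥Z) := hlt.le
    have hmem : ξ W ∈ closure ({ξ W'} : Set Y) := by
      rw [hgen W']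
      refine closure_mono (Set.image_mono hsub) ?_
      rw [← hgen W]
      exact subset_closure rfl
    have hsp : ξ W' ⤳ ξ W := specializes_iff_mem_closure.mpr hmem
    have hne : ξ W' ≠ ξ W := by
      intro heq
      apply hlt.ne
      apply TopologicalSpace.IrreducibleCloseds.ext
      rw [hW W, hW W', ← hgen W, ← hgen W', heq]
    exact tdeg_lt_of_specializes s hsp hne
  have hbound : ∀ W, g W ≤ n := by
    intro W
    apply h
    have h1 : ξ W ∈ closure (Subtype.val '' (W : Set ↥Z)) := by
      rw [← hgen W]; exact subset_closure rfl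
    refine closure_mono ?_ h1
    rintro _ ⟨z, -, rfl⟩
    exact z.2
  unfold topologicalKrullDim
  rw [Order.krullDim]
  apply iSup_le
  intro p
  have h1 := LTSeries.head_add_length_le_nat (p.map g hg)
  have h2 : (p.map g hg).last ≤ n := hbound _
  have h3 : p.length ≤ n := by
    have : (p.map g hg).length = p.length := rfl
    omega
  exact_mod_cast h3

end Groth.Agent.H38.SubsetDim
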