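import Mathlib
import Groth.Agent.H38.ProdLocalDim
import Groth.Agent.H38.SubsetDim
import Groth.Agent.H38.DimFibreSum
import Groth.Agent.H38.NowhereDenseDim
import Groth.Agent.H9.DimBaseField

/-!
# Transcendence degrees of points under extension of the base field
-/

set_option autoImplicit false
universe u
open CategoryTheory AlgebraicGeometry Limits

namespace Groth.Agent.H38.FieldExtTdeg

open Groth.Agent.H54

/-- A subset of dimension at least `r` has a point in its closure of transcendence degree at least
`r`. -/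
theorem exists_mem_le_tdeg_of_le_dim {k : Type u} [Field k] {F : Scheme.{u}}
    (sF : F ⟶ Spec (CommRingCat.of k)) [LocallyOfFiniteType sF] (Z₀ : Set F) (r : ℕ)
    (h : (r : WithBot ℕ∞) ≤ topologicalKrullDim ↥Z₀) : ∃ z ∈ closure Z₀, r ≤ tdeg sF z := by
  by_contra hcon
  push Not at hcon
  rcases Nat.eq_zero_or_pos r with rfl | hr
  · have hemp : Z₀ = ∅ := by
      rw [Set.eq_empty_iff_forall_notMem]
      intro z hz
      exact absurd (hcon z (subset_closure hz)) (by omega)
    have hbot : topologicalKrullDim ↥Z₀ = ⊥ := by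
      rw [topologicalKrullDim, Order.krullDim_eq_bot_iff]
      exact ⟨fun W => by
        have h1 := (W.isIrreducible.nonempty.some).2
        have h2 : ∀ z : F, z ∉ Z₀ := fun z hz => by rw [hemp] at hz; exact hz
        exact h2 _ h1⟩
    rw [hbot] at h
    exact absurd h (by simp)
  · have h1 := Groth.Agent.H38.SubsetDim.dim_subset_le_of_forall_tdeg_le sF Z₀ (r - 1)
      (fun z hz => by have := hcon z hz; omega)
    have h2 := h.trans h1
    have h3 : r ≤ r - 1 := by exact_mod_cast h2
    omega

variable {k K : Type u} [Field k] [Field K] {F P : Scheme.{u}}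
  (sF : F ⟶ Spec (CommRingCat.of k)) [LocallyOfFiniteType sF]
  (φ : CommRingCat.of k ⟶ CommRingCat.of K)
  (q : P ⟶ F) (sP : P ⟶ Spec (CommRingCat.of K)) (sq : IsPullback q sP sF (Spec.map φ))

include sq in
theorem locallyOfFiniteType_snd : LocallyOfFiniteType sP :=
  MorphismProperty.of_isPullback (P := @LocallyOfFiniteType) sq inferInstance

include sq in
/-- The base change of the integral closed subscheme on the closure of a point. -/
theorem exists_closedImmersion_preimage_closure (z : F) :
    haveI := locallyOfFiniteType_snd sF φ q sP sq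
    ∃ (P' : Scheme.{u}) (i : P' ⟶ P) (_ : IsClosedImmersion i),
      Set.range i.base = q.base ⁻¹' closure {z} ∧
      topologicalKrullDim P' = (tdeg sF z : WithBot ℕ∞) := by
  haveI := locallyOfFiniteType_snd sF φ q sP sq
  obtain ⟨V, jV, hjV, -, hrange⟩ := Groth.Agent.H38.ProdLocalDim.exists_integral_closedImmersion z
  haveI := hjV
  refine ⟨pullback jV q, pullback.snd jV q, inferInstance, ?_, ?_⟩
  · rw [Scheme.Pullback.range_snd, hrange]
  · have sq' : IsPullback (pullback.fst jV q) (pullback.snd jV q ≫ sP) (jV ≫ sF) (Spec.map φ) :=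
      (IsPullback.of_hasPullback jV q).paste_vert sq
    rw [Groth.Agent.H9.DimBaseField.topologicalKrullDim_eq_of_isPullback_field (jV ≫ sF) φ
      (pullback.fst jV q) (pullback.snd jV q ≫ sP) sq']
    exact Groth.Agent.H38.ProdLocalDim.dim_of_range_eq_closure sF jV z hrange

include sq in
/-- Transcendence degrees do not increase under base field extension. -/
theorem tdeg_le_tdeg_image (u : P) :
    haveI := locallyOfFiniteType_snd sF φ q sP sq
    tdeg sP u ≤ tdeg sF (q.base u) := by
  haveI := locallyOfFiniteType_snd sF φ q sP sq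
  obtain ⟨P', i, hi, hrange, hdim⟩ := exists_closedImmersion_preimage_closure sF φ q sP sq (q.base u)
  haveI := hi
  obtain ⟨u', rfl⟩ : u ∈ Set.range i.base := by
    rw [hrange]; exact subset_closure rfl
  rw [← Groth.Agent.H38.NowhereDenseDim.tdeg_comp_closedImmersion sP i u']
  have h1 := Groth.Agent.H38.DimFibreSum.tdeg_le_dim (i ≫ sP) u'
  rw [hdim] at h1
  exact_mod_cast h1

include sq in
/-- A closed subset of dimension at least `r` has a point over it, after base field extension, of
transcendence degree at least `r`. -/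
theorem exists_point_over_closed (Z₀ : Set F) (hZ₀ : IsClosed Z₀) (r : ℕ)
    (h : (r : WithBot ℕ∞) ≤ topologicalKrullDim ↥Z₀) :
    haveI := locallyOfFiniteType_snd sF φ q sP sq
    ∃ u : P, q.base u ∈ Z₀ ∧ r ≤ tdeg sP u := by
  haveI := locallyOfFiniteType_snd sF φ q sP sq
  obtain ⟨z, hz, hrz⟩ := exists_mem_le_tdeg_of_le_dim sF Z₀ r h
  rw [hZ₀.closure_eq] at hz
  obtain ⟨P', i, hi, hrange, hdim⟩ := exists_closedImmersion_preimage_closure sF φ q sP sq z
  haveI := hi
  have h1 : (r : WithBot ℕ∞) ≤ topologicalKrullDim P' := by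
    rw [hdim]; exact_mod_cast hrz
  obtain ⟨u', hu'⟩ := Groth.Agent.H38.DimFibreSum.exists_le_tdeg (i ≫ sP) r h1
  refine ⟨i.base u', ?_, ?_⟩
  · have h2 : i.base u' ∈ q.base ⁻¹' closure {z} := hrange ▸ Set.mem_range_self u'
    exact (hZ₀.closure_subset_iff.mpr (Set.singleton_subset_iff.mpr hz)) h2
  · rw [← Groth.Agent.H38.NowhereDenseDim.tdeg_comp_closedImmersion sP i u']
    exact hu'

end Groth.Agent.H38.FieldExtTdeg
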