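import Mathlib
import Groth.Agent.H38.ProdLocalDim
import Groth.Agent.H38.SubsetDim
import Groth.Agent.H9.Equidim
import Groth.Agent.H9.FibDimTarget
import Groth.Agent.H9.FibreFormula
import Groth.Agent.H9.DimFormulaEq
import Groth.Agent.H38.FibreDimCons
import Groth.Agent.S4702

/-!
# Connected components of fibres through a section: dimension statements
-/

set_option autoImplicit false
universe u
open CategoryTheory AlgebraicGeometry Limits

namespace Groth.Agent.H38.SectionComp

open Groth.Agent.H54

section Top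

theorem homeomorph_image_connectedComponent {A B : Type*} [TopologicalSpace A] [TopologicalSpace B]
    (h : A ≃ₜ B) (a : A) : h '' connectedComponent a = connectedComponent (h a) := by
  apply Set.Subset.antisymm
  · exact h.continuous.image_connectedComponent_subset a
  · intro b hb
    refine ⟨h.symm b, ?_, h.apply_symm_apply b⟩
    have h1 := h.symm.continuous.image_connectedComponent_subset (h a) ⟨b, hb, rfl⟩
    rwa [h.symm_apply_apply] at h1

/-- The dimension of the image of a set under an embedding. -/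
theorem dim_image_of_isEmbedding {A B : Type*} [TopologicalSpace A] [TopologicalSpace B]
    {e : A → B} (he : Topology.IsEmbedding e) (S : Set A) :
    topologicalKrullDim ↥(e '' S) = topologicalKrullDim ↥S := by
  have h1 : Topology.IsEmbedding (fun s : ↥S => e s.1) := he.comp Topology.IsEmbedding.subtypeVal
  have h2 : Set.range (fun s : ↥S => e s.1) = e '' S := by
    ext b
    constructor
    · rintro ⟨s, rfl⟩; exact ⟨s.1, s.2, rfl⟩
    · rintro ⟨a, ha, rfl⟩; exact ⟨⟨a, ha⟩, rfl⟩
  rw [← h2]
  exact (h1.toHomeomorph.isHomeomorph.topologicalKrullDim_eq).symm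

/-- Local dimension is monotone along inducing maps. -/
theorem localDim_le_of_isInducing {A B : Type*} [TopologicalSpace A] [TopologicalSpace B]
    {ψ : A → B} (hψ : Topology.IsInducing ψ) (a : A) :
    FlatMor.localDim A a ≤ FlatMor.localDim B (ψ a) := by
  refine le_iInf fun V => ?_
  let W : TopologicalSpace.Opens A := ⟨ψ ⁻¹' (V.1 : Set B), V.1.2.preimage hψ.continuous⟩
  have haW : a ∈ W := V.2
  refine (Groth.Agent.H9.FibDim.localDim_le_of_mem A a W haW).trans ?_
  have hind : Topology.IsInducing (fun w : ↥(W : Set A) => (⟨ψ w.1, w.2⟩ : ↥(V.1 : Set B))) := by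
    have h1 : Topology.IsInducing (fun w : ↥(W : Set A) => ψ w.1) :=
      hψ.comp Topology.IsInducing.subtypeVal
    exact h1.codRestrict _
  exact hind.topologicalKrullDim_le

/-- The canonical homeomorphism of a set with its image under an embedding. -/
noncomputable def homeoImage {A B : Type*} [TopologicalSpace A] [TopologicalSpace B]
    {e : A → B} (he : Topology.IsEmbedding e) (S : Set A) : ↥S ≃ₜ ↥(e '' S) :=
  (he.comp Topology.IsEmbedding.subtypeVal).toHomeomorph.trans
    (Homeomorph.setCongr (by
      ext b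
      constructor
      · rintro ⟨s, rfl⟩; exact ⟨s.1, s.2, rfl⟩
      · rintro ⟨a, ha, rfl⟩; exact ⟨⟨a, ha⟩, rfl⟩))

theorem isIrreducible_of_image_of_isEmbedding {A B : Type*} [TopologicalSpace A]
    [TopologicalSpace B] {e : A → B} (he : Topology.IsEmbedding e) (S : Set A)
    (h : IsIrreducible (e '' S)) : IsIrreducible S := by
  haveI : IrreducibleSpace ↥(e '' S) := isIrreducible_iff_irreducibleSpace.mp h
  exact isIrreducible_iff_irreducibleSpace.mpr ((homeoImage he S).irreducibleSpace_iff.mpr inferInstance)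

end Top

section Field

theorem isOpen_connectedComponent_of_noetherianSpace {α : Type*} [TopologicalSpace α]
    [TopologicalSpace.NoetherianSpace α] (x : α) : IsOpen (connectedComponent x) := by
  rw [← isClosed_compl_iff]
  have hfin := TopologicalSpace.NoetherianSpace.finite_irreducibleComponents (α := α)
  have h : (connectedComponent x)ᶜ =
      ⋃₀ {Z ∈ irreducibleComponents α | ¬ Z ⊆ connectedComponent x} := by
    ext y
    constructor
    · intro hy
      exact ⟨irreducibleComponent y, ⟨irreducibleComponent_mem_irreducibleComponents y,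
        fun h => hy (h mem_irreducibleComponent)⟩, mem_irreducibleComponent⟩
    · rintro ⟨Z, ⟨hZ, hZx⟩, hyZ⟩ hy
      apply hZx
      have hZpre : IsPreconnected Z := hZ.1.isConnected.isPreconnected
      have h1 := hZpre.subset_connectedComponent hyZ
      rwa [← connectedComponent_eq hy] at h1
  rw [h, Set.sUnion_eq_biUnion]
  have hfin' : {Z ∈ irreducibleComponents α | ¬ Z ⊆ connectedComponent x}.Finite :=
    hfin.subset (fun Z hZ => hZ.1)
  exact hfin'.isClosed_biUnion
    (fun Z hZ => isClosed_of_mem_irreducibleComponents Z hZ.1)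

theorem locallyConnectedSpace_of_isLocallyNoetherian (F : Scheme.{u}) [IsLocallyNoetherian F] :
    LocallyConnectedSpace F := by
  rw [locallyConnectedSpace_iff_connected_subsets]
  intro x N hN
  obtain ⟨O, hON, hO, hxO⟩ := mem_nhds_iff.1 hN
  obtain ⟨W, hW, hxW, hWO⟩ := exists_isAffineOpen_mem_and_subset (x := x) (U := ⟨O, hO⟩) hxO
  haveI : IsNoetherianRing Γ(F, W) := IsLocallyNoetherian.component_noetherian ⟨W, hW⟩
  haveI : TopologicalSpace.NoetherianSpace ↥W := noetherianSpace_of_isAffineOpen W hW
  let C : Set ↥W := connectedComponent (⟨x, hxW⟩ : ↥W)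
  have hCo : IsOpen C := isOpen_connectedComponent_of_noetherianSpace _
  refine ⟨Subtype.val '' C, ?_, ?_, ?_⟩
  · refine IsOpen.mem_nhds (W.2.isOpenMap_subtype_val _ hCo) ⟨⟨x, hxW⟩, mem_connectedComponent, rfl⟩
  · exact isPreconnected_connectedComponent.image _ continuous_subtype_val.continuousOn
  · rintro _ ⟨y, -, rfl⟩
    exact hON (hWO y.2)

variable {k : Type u} [Field k] {F : Scheme.{u}} (s : F ⟶ Spec (CommRingCat.of k))
  [LocallyOfFiniteType s]

include s in
theorem isOpen_connectedComponent (a : F) : IsOpen (connectedComponent a) := by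
  haveI : IsLocallyNoetherian F := LocallyOfFiniteType.isLocallyNoetherian s
  haveI := locallyConnectedSpace_of_isLocallyNoetherian F
  exact _root_.isOpen_connectedComponent

include s in
/-- The local dimension is at most the dimension of the connected component. -/
theorem localDim_le_dim_connectedComponent (a : F) :
    FlatMor.localDim F a ≤ topologicalKrullDim ↥(connectedComponent a) :=
  Groth.Agent.H9.FibDim.localDim_le_of_mem F a ⟨connectedComponent a, isOpen_connectedComponent s a⟩
    mem_connectedComponent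

/-- In an irreducible open subset `U` of a scheme locally of finite type over a field, with generic
point `ξ`: `dim U = tdeg ξ`, and the local dimension at every point of `U` is `tdeg ξ`. -/
theorem dim_open_eq_tdeg (U : F.Opens) (ξ : F) (hξU : ξ ∈ U)
    (hξ : ∀ b ∈ U, ξ ⤳ b) :
    topologicalKrullDim ↥(U : Set F) = (tdeg s ξ : WithBot ℕ∞) ∧
      ∀ b ∈ U, FlatMor.localDim F b = (tdeg s ξ : WithBot ℕ∞) := by
  have h1 : topologicalKrullDim ↥(U : Set F) ≤ (tdeg s ξ : WithBot ℕ∞) := by
    apply Groth.Agent.H38.SubsetDim.dim_subset_le_of_forall_tdeg_le s (U : Set F) (tdeg s ξ)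
    intro z hz
    -- z ∈ closure U = closure {ξ}
    have hz' : ξ ⤳ z := by
      rw [specializes_iff_mem_closure]
      refine closure_minimal ?_ isClosed_closure hz
      intro b hb
      exact specializes_iff_mem_closure.mp (hξ b hb)
    exact tdeg_le_of_specializes s hz'
  have h2 : (tdeg s ξ : WithBot ℕ∞) ≤ topologicalKrullDim ↥(U : Set F) :=
    tdeg_le_topologicalKrullDim s ξ U hξU
  refine ⟨le_antisymm h1 h2, fun b hb => le_antisymm ?_ ?_⟩
  · exact (Groth.Agent.H9.FibDim.localDim_le_of_mem F b U hb).trans h1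
  · exact Groth.Agent.H38.ProdLocalDim.tdeg_le_localDim s (hξ b hb)

include s in
/-- An irreducible connected component: dimension and local dimensions agree. -/
theorem exists_dim_connectedComponent_of_isIrreducible (a : F)
    (hirr : IsIrreducible (connectedComponent a)) :
    ∃ ξ : F, ξ ∈ connectedComponent a ∧ (∀ b ∈ connectedComponent a, ξ ⤳ b) ∧
      topologicalKrullDim ↥(connectedComponent a) = (tdeg s ξ : WithBot ℕ∞) ∧
      ∀ b ∈ connectedComponent a, FlatMor.localDim F b = (tdeg s ξ : WithBot ℕ∞) := by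
  obtain ⟨ξ, hξ⟩ := QuasiSober.sober hirr isClosed_connectedComponent
  have hcl : closure ({ξ} : Set F) = connectedComponent a := hξ.def
  have hξmem : ξ ∈ connectedComponent a := by rw [← hcl]; exact subset_closure rfl
  have hsp : ∀ b ∈ connectedComponent a, ξ ⤳ b := by
    intro b hb
    rw [specializes_iff_mem_closure, hcl]
    exact hb
  obtain ⟨h1, h2⟩ := dim_open_eq_tdeg s ⟨connectedComponent a, isOpen_connectedComponent s a⟩ ξ
    hξmem hsp
  exact ⟨ξ, hξmem, hsp, h1, h2⟩

include s in
/-- A closed set not containing an irreducible connected component meets it in a set of smaller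
dimension. -/
theorem dim_inter_connectedComponent_lt (a : F) (hirr : IsIrreducible (connectedComponent a))
    (S : Set F) (hS : IsClosed S) (hnot : ¬ connectedComponent a ⊆ S) :
    topologicalKrullDim ↥(S ∩ connectedComponent a) <
      topologicalKrullDim ↥(connectedComponent a) := by
  obtain ⟨ξ, hξmem, hsp, hdim, -⟩ := exists_dim_connectedComponent_of_isIrreducible s a hirr
  rw [hdim]
  have hξS : ξ ∉ S := by
    intro h
    apply hnot
    intro b hb
    exact (hsp b hb).mem_closed hS h
  have hcl : closure (S ∩ connectedComponent a) ⊆ S ∩ connectedComponent a :=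
    (hS.inter isClosed_connectedComponent).closure_subset
  have hlt : ∀ z ∈ closure (S ∩ connectedComponent a), tdeg s z + 1 ≤ tdeg s ξ := by
    intro z hz
    have hz' := hcl hz
    have hne : ξ ≠ z := fun h => hξS (h ▸ hz'.1)
    exact tdeg_lt_of_specializes s (hsp z hz'.2) hne
  by_cases hne : (S ∩ connectedComponent a).Nonempty
  · obtain ⟨z, hz⟩ := hne
    have h0 := hlt z (subset_closure hz)
    have h1 := Groth.Agent.H38.SubsetDim.dim_subset_le_of_forall_tdeg_le s
      (S ∩ connectedComponent a) (tdeg s ξ - 1) (fun z hz => by have := hlt z hz; omega)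
    refine lt_of_le_of_lt h1 ?_
    exact_mod_cast (by omega : tdeg s ξ - 1 < tdeg s ξ)
  · rw [Set.not_nonempty_iff_eq_empty] at hne
    rw [hne]
    have : topologicalKrullDim ↥(∅ : Set F) = ⊥ := by
      rw [topologicalKrullDim, Order.krullDim_eq_bot_iff]
      exact ⟨fun W => (W.isIrreducible.nonempty.some).2⟩
    rw [this]
    exact WithBot.bot_lt_coe _

end Field

section Fibre

variable {X Y : Scheme.{u}} (f : X ⟶ Y)

/-- The connected component of a fibre (as a subset of the source) through a point is the image of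
the connected component in the scheme-theoretic fibre. -/
theorem connectedComponentIn_fibre (y : Y) (a : f.fiber y) :
    connectedComponentIn (f.base ⁻¹' {y}) ((f.fiberι y).base a) =
      (f.fiberι y).base '' connectedComponent a := by
  have hmem : (f.fiberι y).base a ∈ f.base ⁻¹' {y} := fiberι_mem f y a
  rw [connectedComponentIn_eq_image hmem]
  have h1 : (⟨(f.fiberι y).base a, hmem⟩ : ↥(f.base ⁻¹' {y})) = f.fiberHomeo y a :=
    Subtype.ext (f.fiberHomeo_apply y a).symm
  rw [h1, ← homeomorph_image_connectedComponent (f.fiberHomeo y) a, Set.image_image]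
  rfl


theorem exists_fiber_pt (y : Y) (x : X) (hx : f.base x = y) :
    ∃ a : f.fiber y, (f.fiberι y).base a = x := by
  have h : x ∈ Set.range (f.fiberι y).base := by
    rw [f.range_fiberι y]; exact hx
  exact h

variable [LocallyOfFiniteType f]

/-- (M1) The local fibre dimension is at most the dimension of the connected component of the
fibre. -/
theorem fibreDimAt_le_dim_connectedComponentIn (y : Y) (x : X) (hx : f.base x = y) :
    FlatMor.fibreDimAt f x ≤ topologicalKrullDim ↥(connectedComponentIn (f.base ⁻¹' {y}) x) := by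
  obtain ⟨a, rfl⟩ := exists_fiber_pt f y x hx
  rw [connectedComponentIn_fibre, dim_image_of_isEmbedding (f.fiberι y).isEmbedding,
    ← Groth.Agent.H9.FibDim.localDim_fiber]
  exact localDim_le_dim_connectedComponent (fiberQ f y) a

/-- (M2) If the connected component of the fibre is irreducible, its dimension is the local fibre
dimension. -/
theorem dim_connectedComponentIn_eq_of_isIrreducible (y : Y) (x : X) (hx : f.base x = y)
    (hirr : IsIrreducible (connectedComponentIn (f.base ⁻¹' {y}) x)) :
    topologicalKrullDim ↥(connectedComponentIn (f.base ⁻¹' {y}) x) = FlatMor.fibreDimAt f x := by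
  obtain ⟨a, rfl⟩ := exists_fiber_pt f y x hx
  rw [connectedComponentIn_fibre] at hirr ⊢
  have hirr' := isIrreducible_of_image_of_isEmbedding (f.fiberι y).isEmbedding _ hirr
  obtain ⟨ξ, hξmem, hsp, hdim, hloc⟩ :=
    exists_dim_connectedComponent_of_isIrreducible (fiberQ f y) a hirr'
  rw [dim_image_of_isEmbedding (f.fiberι y).isEmbedding, hdim,
    ← Groth.Agent.H9.FibDim.localDim_fiber, hloc a mem_connectedComponent]

/-- (M3) A closed subset not containing an irreducible connected component of a fibre meets it in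
smaller dimension. -/
theorem dim_inter_connectedComponentIn_lt (y : Y) (x : X) (hx : f.base x = y)
    (hirr : IsIrreducible (connectedComponentIn (f.base ⁻¹' {y}) x))
    (T : Set X) (hT : IsClosed T) (hnot : ¬ connectedComponentIn (f.base ⁻¹' {y}) x ⊆ T) :
    topologicalKrullDim ↥(T ∩ connectedComponentIn (f.base ⁻¹' {y}) x) <
      topologicalKrullDim ↥(connectedComponentIn (f.base ⁻¹' {y}) x) := by
  obtain ⟨a, rfl⟩ := exists_fiber_pt f y x hx
  rw [connectedComponentIn_fibre] at hirr hnot ⊢
  have hirr' := isIrreducible_of_image_of_isEmbedding (f.fiberι y).isEmbedding _ hirr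
  rw [← Set.image_preimage_inter, dim_image_of_isEmbedding (f.fiberι y).isEmbedding,
    dim_image_of_isEmbedding (f.fiberι y).isEmbedding]
  apply dim_inter_connectedComponent_lt (fiberQ f y) a hirr' _
    (hT.preimage (f.fiberι y).continuous)
  intro h
  apply hnot
  rintro _ ⟨b, hb, rfl⟩
  exact h hb

/-- (M4) The local fibre dimension can only go up under specialization. -/
theorem fibreDimAt_le_of_specializes {x' x : X} (h : x' ⤳ x) :
    FlatMor.fibreDimAt f x' ≤ FlatMor.fibreDimAt f x := by
  obtain ⟨n, hn⟩ := Groth.Agent.H38.FibreDimCons.exists_fibreDimAt_eq f x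
  have hopen := Groth.Agent.H9.FibDim.isOpen_setOf_fibreDimAt_le f n
  have hx : x ∈ {x : X | FlatMor.fibreDimAt f x ≤ n} := hn.le
  have h1 := h.mem_open hopen hx
  rw [hn]
  exact h1

/-- (M6) The connected component of a fibre is open in the fibre. -/
theorem exists_isOpen_connectedComponentIn_eq (y : Y) (x : X) (hx : f.base x = y) :
    ∃ O : Set X, IsOpen O ∧ connectedComponentIn (f.base ⁻¹' {y}) x = f.base ⁻¹' {y} ∩ O := by
  obtain ⟨a, rfl⟩ := exists_fiber_pt f y x hx
  have hopen := isOpen_connectedComponent (fiberQ f y) a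
  obtain ⟨O, hO, hOeq⟩ := (f.fiberι y).isEmbedding.isInducing.isOpen_iff.mp hopen
  refine ⟨O, hO, ?_⟩
  rw [connectedComponentIn_fibre, ← hOeq, Set.image_preimage_eq_inter_range, f.range_fiberι y,
    Set.inter_comm]

/-- (M5) -/
theorem fibreDimAt_comp_le_dim_inter {T' : Scheme.{u}} (j : T' ⟶ X)
    (hj : Topology.IsEmbedding j.base) (y : Y) (x : X) (hx : f.base x = y) (t : T')
    (ht : j.base t = x) :
    FlatMor.fibreDimAt (j ≫ f) t ≤
      topologicalKrullDim ↥(Set.range j.base ∩ connectedComponentIn (f.base ⁻¹' {y}) x) := by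
  subst hx
  obtain ⟨O, hO, hOeq⟩ := exists_isOpen_connectedComponentIn_eq f (f.base x) x rfl
  rw [← Groth.Agent.H9.Equidim.localDim_inter_fibre_eq j hj (Set.range j.base) rfl f t x ht ⟨t, ht⟩]
  have hxC : x ∈ connectedComponentIn (f.base ⁻¹' {f.base x}) x :=
    mem_connectedComponentIn (by rfl : x ∈ f.base ⁻¹' {f.base x})
  have hxO : x ∈ O := by
    rw [hOeq] at hxC; exact hxC.2
  let S : Set X := Set.range j.base ∩ f.base ⁻¹' {f.base x}
  let U : TopologicalSpace.Opens ↥S := ⟨Subtype.val ⁻¹' O, hO.preimage continuous_subtype_val⟩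
  have hmem : (⟨x, ⟨⟨t, ht⟩, rfl⟩⟩ : ↥S) ∈ U := hxO
  refine (Groth.Agent.H9.FibDim.localDim_le_of_mem ↥S _ U hmem).trans ?_
  have h1 : Set.range j.base ∩ connectedComponentIn (f.base ⁻¹' {f.base x}) x =
      Subtype.val '' (U : Set ↥S) := by
    rw [hOeq]
    show _ = Subtype.val '' (Subtype.val ⁻¹' O : Set ↥S)
    rw [Subtype.image_preimage_coe, Set.inter_assoc]
  rw [h1, dim_image_of_isEmbedding Topology.IsEmbedding.subtypeVal]

/-- (M7) -/
theorem tdeg_le_fibreDimAt_comp {T' : Scheme.{u}} (j : T' ⟶ X) [IsClosedImmersion j] (y : Y)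
    (ζ₀ : f.fiber y) (w : T') (hw : j.base w = (f.fiberι y).base ζ₀) :
    (tdeg (fiberQ f y) ζ₀ : WithBot ℕ∞) ≤ FlatMor.fibreDimAt (j ≫ f) w := by
  obtain ⟨n, b, hn, -, hdim⟩ := Groth.Agent.H9.FibreFormula.fibre_formula (j ≫ f) w
  rw [Groth.Agent.H9.Equidim.trdeg_comp_of_surjectiveOnStalks j f w,
    Groth.Agent.H9.DimFormulaEq.trdeg_congr_point f hw, trdeg_fiber_eq f y ζ₀] at hn
  have h1 : tdeg (fiberQ f y) ζ₀ = n := by exact_mod_cast hn
  rw [hdim, h1]
  exact_mod_cast Nat.le_add_right n b

/-- (M8) A maximal irreducible subset of a fibre is the image of the closure of a point of the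
scheme-theoretic fibre, and its dimension is the transcendence degree at that point. -/
theorem exists_generic_of_maximal (y : Y) (Z : Set X) (hZsub : Z ⊆ f.base ⁻¹' {y})
    (hZirr : IsIrreducible Z)
    (hZmax : ∀ Z' : Set X, IsIrreducible Z' → Z' ⊆ f.base ⁻¹' {y} → Z ⊆ Z' → Z' = Z) :
    ∃ ζ₀ : f.fiber y, Z = (f.fiberι y).base '' closure {ζ₀} ∧
      topologicalKrullDim ↥Z = (tdeg (fiberQ f y) ζ₀ : WithBot ℕ∞) := by
  let Z₀ : Set (f.fiber y) := (f.fiberι y).base ⁻¹' Z
  have himg : (f.fiberι y).base '' Z₀ = Z := by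
    rw [Set.image_preimage_eq_inter_range, f.range_fiberι y]
    exact Set.inter_eq_left.mpr hZsub
  have hZ₀irr : IsIrreducible Z₀ :=
    isIrreducible_of_image_of_isEmbedding (f.fiberι y).isEmbedding Z₀ (himg.symm ▸ hZirr)
  have hZ₀comp : Z₀ ∈ irreducibleComponents (f.fiber y) := by
    refine ⟨hZ₀irr, fun W hW hsub => ?_⟩
    have h1 : IsIrreducible ((f.fiberι y).base '' W) :=
      hW.image _ (f.fiberι y).continuous.continuousOn
    have h2 : (f.fiberι y).base '' W ⊆ f.base ⁻¹' {y} := by
      rintro _ ⟨b, -, rfl⟩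
      exact fiberι_mem f y b
    have h3 : Z ⊆ (f.fiberι y).base '' W := by
      rw [← himg]; exact Set.image_mono hsub
    have h4 := hZmax _ h1 h2 h3
    intro b hb
    show (f.fiberι y).base b ∈ Z
    rw [← h4]
    exact ⟨b, hb, rfl⟩
  obtain ⟨ζ₀, hcl, hdim⟩ :=
    Groth.Agent.S4702.dim_irreducibleComponent_eq_tdeg (fiberQ f y) Z₀ hZ₀comp
  refine ⟨ζ₀, ?_, ?_⟩
  · rw [hcl, himg]
  · rw [← himg, dim_image_of_isEmbedding (f.fiberι y).isEmbedding, hdim]

section Main

variable (g : Y ⟶ X) (hg : g ≫ f = 𝟙 Y)

omit [LocallyOfFiniteType f] in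
include hg in
theorem section_apply (z : Y) : f.base (g.base z) = z := by
  have h := congrArg (fun h => h.base z) hg
  simpa using h

include hg in
/-- (i) -/
theorem dim_le_of_specializes (y y' : Y) (hy : y' ⤳ y) (Z : Set X)
    (hZsub : Z ⊆ f.base ⁻¹' {y'}) (hZirr : IsIrreducible Z)
    (hZmax : ∀ Z' : Set X, IsIrreducible Z' → Z' ⊆ f.base ⁻¹' {y'} → Z ⊆ Z' → Z' = Z)
    (hgZ : g.base y' ∈ Z) :
    topologicalKrullDim ↥Z ≤
      topologicalKrullDim ↥(connectedComponentIn (f.base ⁻¹' {y}) (g.base y)) := by
  obtain ⟨ζ₀, hZeq, hZdim⟩ := exists_generic_of_maximal f y' Z hZsub hZirr hZmax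
  obtain ⟨a', ha'⟩ := exists_fiber_pt f y' (g.base y') (section_apply f g hg y')
  have hsp : ζ₀ ⤳ a' := by
    rw [hZeq, ← ha'] at hgZ
    obtain ⟨c, hc, hca⟩ := hgZ
    have : c = a' := (f.fiberι y').isEmbedding.injective hca
    rw [specializes_iff_mem_closure, ← this]
    exact hc
  have h1 := Groth.Agent.H38.ProdLocalDim.tdeg_le_localDim (fiberQ f y') hsp
  rw [Groth.Agent.H9.FibDim.localDim_fiber, ha'] at h1
  have h2 := fibreDimAt_le_of_specializes f (hy.map g.continuous)
  have h3 := fibreDimAt_le_dim_connectedComponentIn f y (g.base y) (section_apply f g hg y)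
  rw [hZdim]
  exact h1.trans (h2.trans h3)

include hg in
/-- (ii) -/
theorem subset_closure_of_dim_le (y y' : Y) (hy : y' ⤳ y) (Z : Set X)
    (hZsub : Z ⊆ f.base ⁻¹' {y'}) (hZirr : IsIrreducible Z)
    (hZmax : ∀ Z' : Set X, IsIrreducible Z' → Z' ⊆ f.base ⁻¹' {y'} → Z ⊆ Z' → Z' = Z)
    (hgZ : g.base y' ∈ Z)
    (hirr : IsIrreducible (connectedComponentIn (f.base ⁻¹' {y}) (g.base y)))
    (hdim : topologicalKrullDim ↥(connectedComponentIn (f.base ⁻¹' {y}) (g.base y)) ≤
      topologicalKrullDim ↥Z) :
    connectedComponentIn (f.base ⁻¹' {y}) (g.base y) ⊆ closure Z := by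
  obtain ⟨ζ₀, hZeq, hZdim⟩ := exists_generic_of_maximal f y' Z hZsub hZirr hZmax
  have hZcl : closure Z = closure {(f.fiberι y').base ζ₀} := by
    apply Set.Subset.antisymm
    · apply closure_minimal _ isClosed_closure
      rw [hZeq]
      exact image_closure_subset_closure_image (f.fiberι y').continuous |>.trans
        (by rw [Set.image_singleton])
    · apply closure_minimal _ isClosed_closure
      rw [Set.singleton_subset_iff]
      apply subset_closure
      rw [hZeq]
      exact ⟨ζ₀, subset_closure rfl, rfl⟩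
  obtain ⟨T', j, hjcl, -, hrange⟩ :=
    Groth.Agent.H38.ProdLocalDim.exists_integral_closedImmersion ((f.fiberι y').base ζ₀)
  haveI := hjcl
  obtain ⟨w', hw'⟩ : (f.fiberι y').base ζ₀ ∈ Set.range j.base := hrange ▸ subset_closure rfl
  have hgy' : g.base y' ∈ closure {(f.fiberι y').base ζ₀} := hZcl ▸ subset_closure hgZ
  have hsp : g.base y' ⤳ g.base y := hy.map g.continuous
  have hgy : g.base y ∈ closure {(f.fiberι y').base ζ₀} := hsp.mem_closed isClosed_closure hgy'
  obtain ⟨t, ht⟩ : g.base y ∈ Set.range j.base := hrange ▸ hgy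
  have hwt : w' ⤳ t := by
    rw [← j.isEmbedding.isInducing.specializes_iff, hw', ht]
    exact specializes_iff_mem_closure.mpr hgy
  have h1 := tdeg_le_fibreDimAt_comp f j y' ζ₀ w' hw'
  have h2 := fibreDimAt_le_of_specializes (j ≫ f) hwt
  have h3 := fibreDimAt_comp_le_dim_inter f j j.isEmbedding y (g.base y) (section_apply f g hg y)
    t ht
  by_contra hnot
  have hnot' : ¬ connectedComponentIn (f.base ⁻¹' {y}) (g.base y) ⊆ Set.range j.base := by
    rw [hrange, ← hZcl]; exact hnot
  have h4 := dim_inter_connectedComponentIn_lt f y (g.base y) (section_apply f g hg y) hirr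
    (Set.range j.base) j.isClosedEmbedding.isClosed_range hnot'
  exact absurd (h4.trans_le (hdim.trans (hZdim.le.trans (h1.trans (h2.trans h3))))) (lt_irrefl _)

end Main

end Fibre

end Groth.Agent.H38.SectionComp
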