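import Mathlib
import Groth.Agent.H9.FibDimGeneric
import Groth.Agent.H54.AffineTrdeg

/-!
# Fibre dimension over a valuation ring (ring form)
-/

set_option autoImplicit false
universe u
open TensorProduct MvPolynomial

namespace Groth.Agent.H38.ValFibreDim

section Content

variable {R : Type*} [CommRing R] [IsDomain R] [ValuationRing R]

/-- Among finitely many elements of a valuation ring one divides all the others. -/
theorem exists_dvd_all {ι : Type*} (s : Finset ι) (hs : s.Nonempty) (f : ι → R) :
    ∃ i ∈ s, ∀ j ∈ s, f i ∣ f j := by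
  classical
  induction hs using Finset.Nonempty.cons_induction with
  | singleton a => exact ⟨a, Finset.mem_singleton_self a, fun j hj => by
      rw [Finset.mem_singleton.mp hj]⟩
  | cons a s ha hs ih =>
    obtain ⟨i, hi, hdiv⟩ := ih
    rcases ValuationRing.dvd_total (f a) (f i) with h | h
    · refine ⟨a, Finset.mem_cons_self a s, fun j hj => ?_⟩
      rcases Finset.mem_cons.mp hj with rfl | hj
      · exact dvd_rfl
      · exact h.trans (hdiv j hj)
    · refine ⟨i, Finset.mem_cons.mpr (Or.inr hi), fun j hj => ?_⟩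
      rcases Finset.mem_cons.mp hj with rfl | hj
      · exact h
      · exact hdiv j hj

/-- A nonzero polynomial over a valuation ring is a nonzero constant times a polynomial with a
coefficient equal to one. -/
theorem exists_eq_C_mul {σ : Type*} (F : MvPolynomial σ R) (hF : F ≠ 0) :
    ∃ (c : R) (F' : MvPolynomial σ R) (m₀ : σ →₀ ℕ), c ≠ 0 ∧ F = C c * F' ∧ coeff m₀ F' = 1 := by
  classical
  have hs : F.support.Nonempty := by
    rw [Finset.nonempty_iff_ne_empty, Ne, MvPolynomial.support_eq_empty]; exact hF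
  obtain ⟨m₀, hm₀, hdiv⟩ := exists_dvd_all F.support hs (fun m => coeff m F)
  have hc : coeff m₀ F ≠ 0 := MvPolynomial.mem_support_iff.mp hm₀
  let a : (σ →₀ ℕ) → R := fun m =>
    if h : m ∈ F.support then Classical.choose (hdiv m h) else 0
  have ha : ∀ m, coeff m F = coeff m₀ F * a m := by
    intro m
    by_cases h : m ∈ F.support
    · simp only [a, dif_pos h]
      exact Classical.choose_spec (hdiv m h)
    · simp only [a, dif_neg h, mul_zero]
      exact MvPolynomial.notMem_support_iff.mp h
  have ha0 : ∀ m, m ∉ F.support → a m = 0 := fun m h => by simp only [a, dif_neg h]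
  let F' : MvPolynomial σ R := ∑ m ∈ F.support, monomial m (a m)
  have hF' : ∀ m, coeff m F' = a m := by
    intro m
    simp only [F', MvPolynomial.coeff_sum, MvPolynomial.coeff_monomial]
    rw [Finset.sum_ite_eq' F.support m]
    by_cases h : m ∈ F.support
    · rw [if_pos h]
    · rw [if_neg h, ha0 m h]
  refine ⟨coeff m₀ F, F', m₀, hc, ?_, ?_⟩
  · ext m
    rw [MvPolynomial.coeff_C_mul, hF', ← ha]
  · rw [hF']
    have h1 := ha m₀
    have h2 : coeff m₀ F * 1 = coeff m₀ F * a m₀ := by rw [mul_one]; exact h1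
    exact (mul_left_cancel₀ hc h2).symm

end Content

section Main

variable {R S : Type u} [CommRing R] [IsDomain R] [ValuationRing R] [CommRing S] [IsDomain S]
  [Algebra R S]

/-- Every element of `κ ⊗ S` is of the form `1 ⊗ σ`. -/
theorem exists_one_tmul_eq (x : IsLocalRing.ResidueField R ⊗[R] S) :
    ∃ σ : S, (1 : IsLocalRing.ResidueField R) ⊗ₜ[R] σ = x := by
  induction x using TensorProduct.induction_on with
  | zero => exact ⟨0, by simp⟩
  | tmul a b =>
    obtain ⟨r, rfl⟩ := IsLocalRing.residue_surjective a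
    refine ⟨r • b, ?_⟩
    rw [← TensorProduct.smul_tmul]
    congr 1
    rw [Algebra.smul_def, mul_one]
    rfl
  | add x y hx hy =>
    obtain ⟨σ, rfl⟩ := hx
    obtain ⟨τ, rfl⟩ := hy
    exact ⟨σ + τ, TensorProduct.tmul_add _ _ _⟩

attribute [local instance] Algebra.TensorProduct.rightAlgebra in
theorem isDomain_fractionRing_tensor (hinj : Function.Injective (algebraMap R S))
    (K : Type u) [Field K] [Algebra R K] [IsFractionRing R K] : IsDomain (K ⊗[R] S) := by
  haveI : IsLocalization (Algebra.algebraMapSubmonoid S (nonZeroDivisors R)) (K ⊗[R] S) :=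
    IsLocalization.tensorRight K (nonZeroDivisors R)
  refine IsLocalization.isDomain_of_le_nonZeroDivisors (K ⊗[R] S)
    (M := Algebra.algebraMapSubmonoid S (nonZeroDivisors R)) ?_
  rintro _ ⟨r, hr, rfl⟩
  apply mem_nonZeroDivisors_of_ne_zero
  intro h0
  have : r = 0 := hinj (by rw [h0, map_zero])
  exact (nonZeroDivisors.ne_zero hr) this

attribute [local instance] Algebra.TensorProduct.rightAlgebra in
theorem injective_includeRight_fractionRing (hinj : Function.Injective (algebraMap R S))
    (K : Type u) [Field K] [Algebra R K] [IsFractionRing R K] :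
    Function.Injective (Algebra.TensorProduct.includeRight : S →ₐ[R] K ⊗[R] S) := by
  haveI : IsLocalization (Algebra.algebraMapSubmonoid S (nonZeroDivisors R)) (K ⊗[R] S) :=
    IsLocalization.tensorRight K (nonZeroDivisors R)
  have h := IsLocalization.injective (K ⊗[R] S)
    (M := Algebra.algebraMapSubmonoid S (nonZeroDivisors R)) (by
      rintro _ ⟨r, hr, rfl⟩
      apply mem_nonZeroDivisors_of_ne_zero
      intro h0
      have : r = 0 := hinj (by rw [h0, map_zero])
      exact (nonZeroDivisors.ne_zero hr) this)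
  exact h

/-- The special fibre of a torsion-free domain of finite type over a valuation ring has dimension at
most that of the generic fibre. -/
theorem ringKrullDim_residue_tensor_le (hinj : Function.Injective (algebraMap R S))
    [Algebra.FiniteType R S] [Nontrivial (IsLocalRing.ResidueField R ⊗[R] S)]
    (K : Type u) [Field K] [Algebra R K] [IsFractionRing R K] :
    ringKrullDim (IsLocalRing.ResidueField R ⊗[R] S) ≤ ringKrullDim (K ⊗[R] S) := by
  classical
  set k := IsLocalRing.ResidueField R with hk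
  obtain ⟨s, g, hginj, hgfin⟩ := exists_finite_inj_algHom_of_fg k (k ⊗[R] S)
  have hdim0 : ringKrullDim (k ⊗[R] S) = (s : WithBot ℕ∞) := by
    rw [Groth.Agent.H54.ringKrullDim_eq_of_ringHom_isIntegral_of_injective g.toRingHom
      (RingHom.Finite.to_isIntegral hgfin) hginj, Groth.Agent.H54.ringKrullDim_mvPolynomial_field]
  choose σ hσ using fun i : Fin s => exists_one_tmul_eq (R := R) (S := S) (g (X i))
  let φ : MvPolynomial (Fin s) R →ₐ[R] S := MvPolynomial.aeval σ
  -- compatibility
  have hcompat : ∀ F : MvPolynomial (Fin s) R,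
      g (MvPolynomial.map (algebraMap R k) F) = (1 : k) ⊗ₜ[R] φ F := by
    intro F
    have : (g.toRingHom.comp (MvPolynomial.map (algebraMap R k))) =
        ((Algebra.TensorProduct.includeRight : S →ₐ[R] k ⊗[R] S).toRingHom.comp φ.toRingHom) := by
      apply MvPolynomial.ringHom_ext
      · intro r
        simp only [RingHom.comp_apply, MvPolynomial.map_C, AlgHom.toRingHom_eq_coe,
          RingHom.coe_coe, φ]
        rw [← MvPolynomial.algebraMap_eq, AlgHom.commutes, ← MvPolynomial.algebraMap_eq,
          AlgHom.commutes, Algebra.TensorProduct.includeRight_apply,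
          Algebra.TensorProduct.algebraMap_apply, Algebra.algebraMap_self, RingHom.id_apply,
          Algebra.algebraMap_eq_smul_one r, TensorProduct.smul_tmul, Algebra.smul_def, mul_one]
      · intro i
        simp only [RingHom.comp_apply, MvPolynomial.map_X, AlgHom.toRingHom_eq_coe,
          RingHom.coe_coe, φ, MvPolynomial.aeval_X, Algebra.TensorProduct.includeRight_apply]
        exact (hσ i).symm
    exact congrArg (fun ρ => ρ F) this
  -- injectivity of φ
  have hφinj : Function.Injective φ := by
    rw [injective_iff_map_eq_zero]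
    intro F hF
    by_contra hF0
    obtain ⟨c, F', m₀, hc, hFF', hm₀⟩ := exists_eq_C_mul F hF0
    have h1 : algebraMap R S c * φ F' = 0 := by
      rw [← hF, hFF', map_mul, ← MvPolynomial.algebraMap_eq, AlgHom.commutes]
    have hc' : algebraMap R S c ≠ 0 := fun h => hc (hinj (by rw [h, map_zero]))
    have h2 : φ F' = 0 := (mul_eq_zero.mp h1).resolve_left hc'
    have h3 : g (MvPolynomial.map (algebraMap R k) F') = 0 := by
      rw [hcompat, h2, TensorProduct.tmul_zero]
    have h4 : MvPolynomial.map (algebraMap R k) F' = 0 := by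
      apply hginj; rw [h3, map_zero]
    have h5 := congrArg (MvPolynomial.coeff m₀) h4
    rw [MvPolynomial.coeff_map, hm₀, map_one, MvPolynomial.coeff_zero] at h5
    exact one_ne_zero h5
  -- pass to the fraction field
  haveI : IsDomain (K ⊗[R] S) := isDomain_fractionRing_tensor hinj K
  let ψ₁ : MvPolynomial (Fin s) K →ₐ[K] K ⊗[R] S :=
    (Algebra.TensorProduct.map (AlgHom.id K K) φ).comp
      (MvPolynomial.algebraTensorAlgEquiv R K).symm.toAlgHom
  have hψ₁ : Function.Injective ψ₁ := by
    haveI : Module.Flat R K := IsLocalization.flat K (nonZeroDivisors R)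
    have h1 : Function.Injective (LinearMap.lTensor K φ.toLinearMap) :=
      Module.Flat.lTensor_preserves_injective_linearMap φ.toLinearMap hφinj
    have h2 : Function.Injective (Algebra.TensorProduct.map (AlgHom.id K K) φ) := h1
    exact h2.comp (MvPolynomial.algebraTensorAlgEquiv R K).symm.injective
  obtain ⟨n₁, htr, hdim1⟩ := Groth.Agent.H54.exists_ringKrullDim_eq_trdeg K (K ⊗[R] S)
  have h3 := trdeg_le_of_injective ψ₁ hψ₁
  rw [MvPolynomial.trdeg_of_isDomain, htr] at h3
  have h4 : s ≤ n₁ := by
    simpa using h3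
  rw [hdim0, hdim1]
  exact_mod_cast h4

open Groth.Agent.H9.FibDim in
/-- Chevalley: the generic fibre ring has dimension at most that of any nonzero fibre ring. -/
theorem ringKrullDim_bot_fiber_le (hinj : Function.Injective (algebraMap R S))
    [Algebra.FiniteType R S] (p : Ideal R) [p.IsPrime] [Nontrivial (p.Fiber S)] :
    ringKrullDim ((⊥ : Ideal R).Fiber S) ≤ ringKrullDim (p.Fiber S) := by
  classical
  -- the dimension of the fibre over `p` is a natural number
  obtain ⟨s, g, hginj, hgfin⟩ := exists_finite_inj_algHom_of_fg p.ResidueField (p.Fiber S)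
  have hdim0 : ringKrullDim (p.Fiber S) = (s : WithBot ℕ∞) := by
    rw [Groth.Agent.H54.ringKrullDim_eq_of_ringHom_isIntegral_of_injective g.toRingHom
      (RingHom.Finite.to_isIntegral hgfin) hginj, Groth.Agent.H54.ringKrullDim_mvPolynomial_field]
  -- a prime over `p`
  obtain ⟨Q₀⟩ : Nonempty (PrimeSpectrum (p.Fiber S)) := inferInstance
  let e := PrimeSpectrum.preimageHomeomorphFiber R S ⟨p, inferInstance⟩
  let q₀ : PrimeSpectrum S := (e.symm Q₀).1
  have hq₀ : q₀.asIdeal.under R = p := congrArg PrimeSpectrum.asIdeal (e.symm Q₀).2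
  have hQ₀ : Q₀.asIdeal.comap Algebra.TensorProduct.includeRight.toRingHom = q₀.asIdeal := rfl
  have h1 : tfd (PrimeSpectrum.comap (algebraMap R S)) q₀ ≤ (s : WithBot ℕ∞) := by
    rw [← localDim_fiber_eq_tfd p q₀ hq₀ Q₀ hQ₀, ← hdim0,
      ← PrimeSpectrum.topologicalKrullDim_eq_ringKrullDim]
    exact localDim_le_dim _ Q₀
  -- the generic point
  let ξ : PrimeSpectrum S := ⟨⊥, Ideal.isPrime_bot⟩
  have hξ : ξ ⤳ q₀ := (PrimeSpectrum.le_iff_specializes ξ q₀).mp bot_le
  have h2 : tfd (PrimeSpectrum.comap (algebraMap R S)) ξ ≤ (s : WithBot ℕ∞) :=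
    hξ.mem_open (isOpen_setOf_tfd_le R S s) h1
  -- the generic fibre ring
  haveI : IsDomain ((⊥ : Ideal R).Fiber S) :=
    isDomain_fractionRing_tensor hinj (⊥ : Ideal R).ResidueField
  let Qξ : PrimeSpectrum ((⊥ : Ideal R).Fiber S) := ⟨⊥, Ideal.isPrime_bot⟩
  have hξR : ξ.asIdeal.under R = ⊥ := by
    rw [Ideal.under_def]
    show (⊥ : Ideal S).comap (algebraMap R S) = ⊥
    rw [← RingHom.ker_eq_comap_bot, (RingHom.injective_iff_ker_eq_bot _).mp hinj]
  have hQξ : Qξ.asIdeal.comap
      (Algebra.TensorProduct.includeRight : S →ₐ[R] (⊥ : Ideal R).Fiber S).toRingHom =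
      ξ.asIdeal := by
    show (⊥ : Ideal ((⊥ : Ideal R).Fiber S)).comap _ = ⊥
    rw [← RingHom.ker_eq_comap_bot, (RingHom.injective_iff_ker_eq_bot _).mp]
    exact injective_includeRight_fractionRing hinj (⊥ : Ideal R).ResidueField
  rw [← localDim_fiber_eq_tfd ⊥ ξ hξR Qξ hQξ,
    Groth.Agent.H9.FibDim.localDim_eq_of_le_all (⊥ : Ideal R).ResidueField
      ((⊥ : Ideal R).Fiber S) Qξ (fun Q => bot_le) Qξ] at h2
  rw [hdim0]
  refine le_trans ?_ h2
  exact (ringKrullDim_eq_of_ringEquiv (RingEquiv.quotientBot ((⊥ : Ideal R).Fiber S))).ge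

/-- **Fibre dimension over a valuation ring.** -/
theorem ringKrullDim_residue_tensor_eq (hinj : Function.Injective (algebraMap R S))
    [Algebra.FiniteType R S] [Nontrivial (IsLocalRing.ResidueField R ⊗[R] S)]
    (K : Type u) [Field K] [Algebra R K] [IsFractionRing R K] :
    ringKrullDim (IsLocalRing.ResidueField R ⊗[R] S) = ringKrullDim (K ⊗[R] S) := by
  apply le_antisymm (ringKrullDim_residue_tensor_le hinj K)
  -- field isomorphisms
  let ek : IsLocalRing.ResidueField R ≃ₐ[R] (IsLocalRing.maximalIdeal R).ResidueField :=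
    AlgEquiv.ofBijective (IsScalarTower.toAlgHom R (R ⧸ IsLocalRing.maximalIdeal R)
      (IsLocalRing.maximalIdeal R).ResidueField)
      (Ideal.bijective_algebraMap_quotient_residueField (IsLocalRing.maximalIdeal R))
  let eK : K ≃ₐ[R] (⊥ : Ideal R).ResidueField :=
    IsLocalization.algEquiv (nonZeroDivisors R) K (⊥ : Ideal R).ResidueField
  let e₀ : IsLocalRing.ResidueField R ⊗[R] S ≃ₐ[R] (IsLocalRing.maximalIdeal R).Fiber S :=
    Algebra.TensorProduct.congr ek AlgEquiv.refl
  let e₁ : K ⊗[R] S ≃ₐ[R] (⊥ : Ideal R).Fiber S :=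
    Algebra.TensorProduct.congr eK AlgEquiv.refl
  haveI : Nontrivial ((IsLocalRing.maximalIdeal R).Fiber S) :=
    e₀.toRingEquiv.injective.nontrivial
  rw [ringKrullDim_eq_of_ringEquiv e₀.toRingEquiv, ringKrullDim_eq_of_ringEquiv e₁.toRingEquiv]
  exact ringKrullDim_bot_fiber_le hinj (IsLocalRing.maximalIdeal R)

end Main

end Groth.Agent.H38.ValFibreDim
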