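import Mathlib
import Groth.Agent.H38.ValFibreDim

/-!
# Fibre dimension over a valuation ring: pointwise form
-/

set_option autoImplicit false
universe u
open TensorProduct MvPolynomial

namespace Groth.Agent.H38.ValFibreDim

open Groth.Agent.H9.FibDim

section

variable {R S : Type u} [CommRing R] [IsDomain R] [ValuationRing R] [CommRing S] [IsDomain S]
  [Algebra R S]

/-- The topological fibre dimension at the generic point is the dimension of the generic fibre
ring. -/
theorem tfd_bot_eq (hinj : Function.Injective (algebraMap R S)) [Algebra.FiniteType R S] :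
    tfd (PrimeSpectrum.comap (algebraMap R S)) (⟨⊥, Ideal.isPrime_bot⟩ : PrimeSpectrum S) =
      ringKrullDim ((⊥ : Ideal R).Fiber S) := by
  haveI : IsDomain ((⊥ : Ideal R).Fiber S) :=
    isDomain_fractionRing_tensor hinj (⊥ : Ideal R).ResidueField
  let ξ : PrimeSpectrum S := ⟨⊥, Ideal.isPrime_bot⟩
  let Qξ : PrimeSpectrum ((⊥ : Ideal R).Fiber S) := ⟨⊥, Ideal.isPrime_bot⟩
  have hξR : ξ.asIdeal.under R = ⊥ := by
    rw [Ideal.under_def]
    show (⊥ : Ideal S).comap (algebraMap R S) = ⊥
    rw [← RingHom.ker_eq_comap_bot, (RingHom.injective_iff_ker_eq_bot _).mp hinj]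
  have hQξ : Qξ.asIdeal.comap
      (Algebra.TensorProduct.includeRight : S →ₐ[R] (⊥ : Ideal R).Fiber S).toRingHom =
      ξ.asIdeal := by
    show (⊥ : Ideal ((⊥ : Ideal R).Fiber S)).comap _ = ⊥
    rw [← RingHom.ker_eq_comap_bot, (RingHom.injective_iff_ker_eq_bot _).mp]
    exact injective_includeRight_fractionRing hinj (⊥ : Ideal R).ResidueField
  rw [← localDim_fiber_eq_tfd ⊥ ξ hξR Qξ hQξ,
    Groth.Agent.H9.FibDim.localDim_eq_of_le_all (⊥ : Ideal R).ResidueField
      ((⊥ : Ideal R).Fiber S) Qξ (fun Q => bot_le) Qξ]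
  exact ringKrullDim_eq_of_ringEquiv (RingEquiv.quotientBot ((⊥ : Ideal R).Fiber S))

end

section

variable {R S : Type u} [CommRing R] [IsDomain R] [ValuationRing R] [CommRing S] [IsDomain S]
  [Algebra R S]

/-- Over a valuation ring, the fibre ring over the closed point has dimension at most that of the
generic fibre ring. -/
theorem ringKrullDim_maximalIdeal_fiber_le (hinj : Function.Injective (algebraMap R S))
    [Algebra.FiniteType R S] [Nontrivial ((IsLocalRing.maximalIdeal R).Fiber S)] :
    ringKrullDim ((IsLocalRing.maximalIdeal R).Fiber S) ≤ ringKrullDim ((⊥ : Ideal R).Fiber S) := by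
  let ek : IsLocalRing.ResidueField R ≃ₐ[R] (IsLocalRing.maximalIdeal R).ResidueField :=
    AlgEquiv.ofBijective (IsScalarTower.toAlgHom R (R ⧸ IsLocalRing.maximalIdeal R)
      (IsLocalRing.maximalIdeal R).ResidueField)
      (Ideal.bijective_algebraMap_quotient_residueField (IsLocalRing.maximalIdeal R))
  let e₀ : IsLocalRing.ResidueField R ⊗[R] S ≃ₐ[R] (IsLocalRing.maximalIdeal R).Fiber S :=
    Algebra.TensorProduct.congr ek AlgEquiv.refl
  haveI : Nontrivial (IsLocalRing.ResidueField R ⊗[R] S) :=
    e₀.symm.toRingEquiv.injective.nontrivial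
  rw [← ringKrullDim_eq_of_ringEquiv e₀.toRingEquiv]
  exact ringKrullDim_residue_tensor_le hinj (⊥ : Ideal R).ResidueField

/-- Over a valuation ring, the fibre dimension at a point over the closed point is at most the
fibre dimension at the generic point (domain case). -/
theorem tfd_le_tfd_bot (hinj : Function.Injective (algebraMap R S)) [Algebra.FiniteType R S]
    (q : PrimeSpectrum S) (hq : q.asIdeal.under R = IsLocalRing.maximalIdeal R) :
    tfd (PrimeSpectrum.comap (algebraMap R S)) q ≤
      tfd (PrimeSpectrum.comap (algebraMap R S)) (⟨⊥, Ideal.isPrime_bot⟩ : PrimeSpectrum S) := by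
  haveI : q.asIdeal.LiesOver (IsLocalRing.maximalIdeal R) := ⟨hq.symm⟩
  obtain ⟨Q, hQ⟩ := exists_fiber_prime (IsLocalRing.maximalIdeal R) q.asIdeal
  haveI : Nontrivial ((IsLocalRing.maximalIdeal R).Fiber S) :=
    (PrimeSpectrum.nonempty_iff_nontrivial.mp ⟨Q⟩)
  rw [tfd_bot_eq hinj, ← localDim_fiber_eq_tfd (IsLocalRing.maximalIdeal R) q hq Q hQ]
  refine (localDim_le_dim _ Q).trans ?_
  rw [PrimeSpectrum.topologicalKrullDim_eq_ringKrullDim]
  exact ringKrullDim_maximalIdeal_fiber_le hinj

end

section

variable {R B : Type u} [CommRing R] [IsDomain R] [ValuationRing R] [CommRing B] [Algebra R B]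

/-- Over a valuation ring, the fibre dimension at a point over the closed point is at most the
fibre dimension at the generic point (irreducible, possibly non-reduced case). -/
theorem tfd_le_tfd_nilradical [Algebra.FiniteType R B] (hN : (nilradical B).IsPrime)
    (hinj : ∀ r : R, algebraMap R B r ∈ nilradical B → r = 0)
    (q : PrimeSpectrum B) (hq : q.asIdeal.under R = IsLocalRing.maximalIdeal R) :
    tfd (PrimeSpectrum.comap (algebraMap R B)) q ≤
      tfd (PrimeSpectrum.comap (algebraMap R B)) (⟨nilradical B, hN⟩ : PrimeSpectrum B) := by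
  haveI := hN
  let S := B ⧸ nilradical B
  have hinjS : Function.Injective (algebraMap R S) := by
    rw [injective_iff_map_eq_zero]
    intro r hr
    apply hinj r
    rw [IsScalarTower.algebraMap_apply R B S, Ideal.Quotient.algebraMap_eq,
      Ideal.Quotient.eq_zero_iff_mem] at hr
    exact hr
  have hhomeo : IsHomeomorph (PrimeSpectrum.comap (Ideal.Quotient.mk (nilradical B))) := by
    refine PrimeSpectrum.isHomeomorph_comap _ (fun x => ⟨1, one_pos, ?_⟩) ?_
    · obtain ⟨b, rfl⟩ := Ideal.Quotient.mk_surjective x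
      exact ⟨b, by rw [pow_one]⟩
    · rw [Ideal.mk_ker]
  have hsq : ∀ a' : PrimeSpectrum S,
      PrimeSpectrum.comap (algebraMap R B) (PrimeSpectrum.comap (Ideal.Quotient.mk (nilradical B)) a') =
        id (PrimeSpectrum.comap (algebraMap R S) a') := by
    intro a'
    rw [id, ← PrimeSpectrum.comap_comp_apply]
    rfl
  have key := fun a' => tfd_eq_of_square (PrimeSpectrum.comap (algebraMap R B))
    (PrimeSpectrum.comap (algebraMap R S)) (PrimeSpectrum.comap (Ideal.Quotient.mk (nilradical B))) id
    hhomeo.isOpenEmbedding Function.injective_id hsq a'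
  obtain ⟨q', rfl⟩ := hhomeo.surjective q
  have hbot : PrimeSpectrum.comap (Ideal.Quotient.mk (nilradical B))
      (⟨⊥, Ideal.isPrime_bot⟩ : PrimeSpectrum S) = ⟨nilradical B, hN⟩ := by
    apply PrimeSpectrum.ext
    show Ideal.comap (Ideal.Quotient.mk (nilradical B)) ⊥ = nilradical B
    rw [← RingHom.ker_eq_comap_bot, Ideal.mk_ker]
  rw [← hbot, ← key q', ← key ⟨⊥, Ideal.isPrime_bot⟩]
  apply tfd_le_tfd_bot hinjS q'
  have h1 : (PrimeSpectrum.comap (algebraMap R S) q').asIdeal = IsLocalRing.maximalIdeal R := by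
    rw [← hq]
    have := congrArg PrimeSpectrum.asIdeal (hsq q')
    exact this.symm
  exact h1

end

end Groth.Agent.H38.ValFibreDim
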