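import Mathlib
import Groth.Agent.H38.ValFibreDim2
import Groth.Agent.H9.Equidim
import Groth.Agent.H9.FibDimTarget

/-!
# Fibre dimension over a valuation ring: scheme form, pointwise
-/

set_option autoImplicit false
universe u
open CategoryTheory AlgebraicGeometry

namespace Groth.Agent.H38.ValFibreDim

/-- Over a valuation ring, with irreducible source and dominant morphism locally of finite type,
the fibre dimension at a point over the closed point is at most the dimension of the generic
fibre. -/
theorem fibreDimAt_le_dim_generic_fiber {A : Type u} [CommRing A] [IsDomain A]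
    [ValuationRing A] {X : Scheme.{u}} [IrreducibleSpace X] (f : X ⟶ Spec (CommRingCat.of A))
    [LocallyOfFiniteType f] (hdom : DenseRange f.base) (x : X)
    (hx : f.base x = IsLocalRing.closedPoint A) :
    FlatMor.fibreDimAt f x ≤
      topologicalKrullDim ↥(f.fiber (genericPoint (Spec (CommRingCat.of A)))) := by
  haveI : IrreducibleSpace (Spec (CommRingCat.of A)) :=
    inferInstanceAs (IrreducibleSpace (PrimeSpectrum A))
  have hgenA : genericPoint (Spec (CommRingCat.of A)) = (⊥ : PrimeSpectrum A) :=
    genericPoint_eq_bot_of_affine (CommRingCat.of A)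
  obtain ⟨W, hW, hxW, -⟩ :=
    exists_isAffineOpen_mem_and_subset (X := X) (x := x) (U := ⊤) trivial
  have hx' : x ∈ Set.range hW.fromSpec.base := by rw [hW.range_fromSpec]; exact hxW
  obtain ⟨q, rfl⟩ := hx'
  let ψ : CommRingCat.of A ⟶ Γ(X, W) := Spec.preimage (hW.fromSpec ≫ f)
  have hψ : Spec.map ψ = hW.fromSpec ≫ f := Spec.map_preimage _
  letI : Algebra A Γ(X, W) := ψ.hom.toAlgebra
  haveI : LocallyOfFiniteType (Spec.map ψ) := by rw [hψ]; infer_instance
  have hft : ψ.hom.FiniteType :=
    (HasRingHomProperty.Spec_iff (P := @LocallyOfFiniteType) (φ := ψ)).mp inferInstance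
  haveI : Algebra.FiniteType A Γ(X, W) := hft
  haveI : Nonempty (Spec Γ(X, W)) := ⟨q⟩
  haveI : IrreducibleSpace (Spec Γ(X, W)) := by
    haveI : PreirreducibleSpace (Spec Γ(X, W)) := by
      constructor
      have := (IrreducibleSpace.isIrreducible_univ X).isPreirreducible.preimage
        hW.fromSpec.isOpenEmbedding
      rwa [Set.preimage_univ] at this
    exact ⟨inferInstance⟩
  have hN : (nilradical Γ(X, W)).IsPrime :=
    PrimeSpectrum.irreducibleSpace_iff_isPrime_nilradical.mp
      (inferInstanceAs (IrreducibleSpace (Spec Γ(X, W))))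
  have hdense : DenseRange (PrimeSpectrum.comap ψ.hom) := by
    have h0 : DenseRange hW.fromSpec.base := by
      rw [DenseRange, hW.range_fromSpec]
      exact (W.2.dense ⟨_, hxW⟩)
    have h1 : DenseRange (f.base ∘ hW.fromSpec.base) :=
      DenseRange.comp hdom h0 f.continuous
    have h2 : (f.base ∘ hW.fromSpec.base : Spec Γ(X, W) → Spec (CommRingCat.of A)) =
        (Spec.map ψ).base := by
      rw [hψ]; rfl
    rw [h2] at h1
    exact h1
  have hker := (PrimeSpectrum.denseRange_comap_iff_ker_le_nilRadical ψ.hom).mp hdense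
  have hinj : ∀ r : A, algebraMap A Γ(X, W) r ∈ nilradical Γ(X, W) → r = 0 := by
    intro r hr
    obtain ⟨n, hn⟩ := hr
    have h2 : r ^ n ∈ RingHom.ker ψ.hom := by
      rw [RingHom.mem_ker, map_pow]
      exact hn
    have h3 := hker h2
    rw [nilradical_eq_zero, Ideal.zero_eq_bot, Ideal.mem_bot] at h3
    exact IsNilpotent.eq_zero ⟨n, h3⟩
  have hfd : ∀ q' : Spec Γ(X, W), FlatMor.fibreDimAt f (hW.fromSpec.base q') =
      Groth.Agent.H9.FibDim.tfd (PrimeSpectrum.comap (algebraMap A Γ(X, W))) q' := by
    intro q'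
    rw [← Groth.Agent.H9.Equidim.fibreDimAt_comp_of_isOpenImmersion,
      Groth.Agent.H9.FibDim.fibreDimAt_eq_tfd, ← hψ]
    rfl
  have hq : q.asIdeal.under A = IsLocalRing.maximalIdeal A := by
    have h1 : (Spec.map ψ).base q = IsLocalRing.closedPoint A := by rw [hψ]; exact hx
    have h2 := congrArg PrimeSpectrum.asIdeal h1
    exact h2
  rw [hfd q]
  refine (Groth.Agent.H38.ValFibreDim.tfd_le_tfd_nilradical hN hinj q hq).trans ?_
  refine le_of_eq_of_le (hfd ⟨nilradical Γ(X, W), hN⟩).symm ?_
  have hgen : f.base (hW.fromSpec.base ⟨nilradical Γ(X, W), hN⟩) =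
      genericPoint (Spec (CommRingCat.of A)) := by
    rw [hgenA]
    have h1 : (Spec.map ψ).base ⟨nilradical Γ(X, W), hN⟩ = (⊥ : PrimeSpectrum A) := by
      apply PrimeSpectrum.ext
      show Ideal.comap ψ.hom (nilradical Γ(X, W)) = ⊥
      ext r
      rw [Ideal.mem_comap, Ideal.mem_bot]
      exact ⟨hinj r, fun h => by rw [h, map_zero]; exact zero_mem _⟩
    rw [hψ] at h1
    exact h1
  exact (Groth.Agent.H9.FibDim.dim_fiber_le_iff f _ _).mp le_rfl _ hgen

/-- Over a valuation ring, with irreducible source and dominant morphism locally of finite type,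
the fibre dimension at every point over the closed point equals the dimension of the generic
fibre. -/
theorem fibreDimAt_eq_dim_generic_fiber {A : Type u} [CommRing A] [IsDomain A]
    [ValuationRing A] {X : Scheme.{u}} [IrreducibleSpace X] (f : X ⟶ Spec (CommRingCat.of A))
    [LocallyOfFiniteType f] (hdom : DenseRange f.base) (x : X)
    (hx : f.base x = IsLocalRing.closedPoint A) :
    FlatMor.fibreDimAt f x =
      topologicalKrullDim ↥(f.fiber (genericPoint (Spec (CommRingCat.of A)))) := by
  haveI : IrreducibleSpace (Spec (CommRingCat.of A)) :=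
    inferInstanceAs (IrreducibleSpace (PrimeSpectrum A))
  haveI : IsDominant f := ⟨hdom⟩
  exact le_antisymm (fibreDimAt_le_dim_generic_fiber f hdom x hx)
    (Groth.Agent.H9.FibDim.dim_generic_fiber_le_fibreDimAt f x)

/-- If the fibre dimension is constant `e₁` along a fibre, every irreducible component of that
fibre has dimension `e₁`. -/
theorem dim_component_fiber_eq {X Y : Scheme.{u}} (f : X ⟶ Y) [LocallyOfFiniteType f] (y : Y)
    (e₁ : ℕ) (h : ∀ a : f.fiber y, FlatMor.fibreDimAt f ((f.fiberι y).base a) = (e₁ : WithBot ℕ∞))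
    (Z : Set ↥(f.fiber y)) (hZ : Z ∈ irreducibleComponents ↥(f.fiber y)) :
    topologicalKrullDim ↥Z = (e₁ : WithBot ℕ∞) := by
  refine Groth.Agent.H9.Equidim.dim_component_eq_of_localDim
    (Groth.Agent.H54.fiberQ f y) e₁ ?_ Z hZ
  intro a
  rw [Groth.Agent.H9.FibDim.localDim_fiber]
  exact h a

end Groth.Agent.H38.ValFibreDim
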