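import Mathlib
import Groth.Agent.H38.ValFibreDim3
import Groth.Agent.H38.SectionComp

/-!
# Specializations over a valuation ring: transcendence degrees

For `f : X ⟶ Spec A` locally of finite type over a valuation domain, a point `ξ` of the generic
fibre and a specialization `x` of `ξ` in the closed fibre: `trdeg κ(x)/κ(c) ≤ trdeg κ(ξ)/K`, with
equality when `x` is a maximal point of the closed fibre.
-/

set_option autoImplicit false
universe u
open CategoryTheory AlgebraicGeometry Limits

namespace Groth.Agent.H38.ValSpec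

open Groth.Agent.H54 Groth.Agent.H38.ValFibreDim Groth.Agent.H38.SectionComp

/-- Transcendence degrees in fibres are unchanged by a closed immersion into the source. -/
theorem tdeg_fiber_comp_eq {W X Y : Scheme.{u}} (j : W ⟶ X) [IsClosedImmersion j] (f : X ⟶ Y)
    [LocallyOfFiniteType f] (y : Y) (z : (j ≫ f).fiber y) (z' : f.fiber y)
    (hz : (f.fiberι y).base z' = j.base (((j ≫ f).fiberι y).base z)) :
    tdeg (fiberQ (j ≫ f) y) z = tdeg (fiberQ f y) z' := by
  have h1 := trdeg_fiber_eq (j ≫ f) y z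
  have h2 := trdeg_fiber_eq f y z'
  rw [Groth.Agent.H9.Equidim.trdeg_comp_of_surjectiveOnStalks j f _,
    ← Groth.Agent.H9.DimFormulaEq.trdeg_congr_point f hz, h2] at h1
  exact_mod_cast h1.symm

variable {A : Type u} [CommRing A] [IsDomain A] [ValuationRing A] {X : Scheme.{u}}
  (f : X ⟶ Spec (CommRingCat.of A)) [LocallyOfFiniteType f]

/-- The integral closed subscheme on the closure of a point `ξ` of the generic fibre: at a point of
the closed fibre, its fibre dimension is the transcendence degree of `ξ`. -/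
theorem exists_closedImmersion_fibreDimAt_eq
    (c : ↥(Spec (CommRingCat.of A))) (hc : c = IsLocalRing.closedPoint A)
    (ξ₀ : f.fiber (genericPoint (Spec (CommRingCat.of A))))
    (x₀ : f.fiber c)
    (h : (f.fiberι _).base ξ₀ ⤳ (f.fiberι _).base x₀) :
    ∃ (W : Scheme.{u}) (j : W ⟶ X) (_ : IsClosedImmersion j) (w : W),
      j.base w = (f.fiberι _).base x₀ ∧
      Set.range j.base = closure {(f.fiberι _).base ξ₀} ∧
      FlatMor.fibreDimAt (j ≫ f) w = (tdeg (fiberQ f _) ξ₀ : WithBot ℕ∞) := by
  haveI : IrreducibleSpace (Spec (CommRingCat.of A)) :=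
    inferInstanceAs (IrreducibleSpace (PrimeSpectrum A))
  obtain ⟨W, j, hjcl, hjint, hrange⟩ :=
    Groth.Agent.H38.ProdLocalDim.exists_integral_closedImmersion
      ((f.fiberι (genericPoint (Spec (CommRingCat.of A)))).base ξ₀)
  haveI := hjcl
  haveI := hjint
  obtain ⟨w, hw⟩ : (f.fiberι c).base x₀ ∈ Set.range j.base :=
    hrange ▸ (specializes_iff_mem_closure.mp h)
  obtain ⟨wξ, hwξ⟩ : (f.fiberι (genericPoint (Spec (CommRingCat.of A)))).base ξ₀ ∈
      Set.range j.base := hrange ▸ subset_closure rfl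
  have hfξ : (j ≫ f).base wξ = genericPoint (Spec (CommRingCat.of A)) := by
    show f.base (j.base wξ) = _
    rw [hwξ]; exact fiberι_mem f _ ξ₀
  have hdom : DenseRange (j ≫ f).base := by
    have h1 : closure ({genericPoint (Spec (CommRingCat.of A))} : Set (Spec (CommRingCat.of A))) =
        Set.univ := (genericPoint_spec (Spec (CommRingCat.of A))).def
    rw [DenseRange, Dense]
    intro a
    have : ({genericPoint (Spec (CommRingCat.of A))} : Set (Spec (CommRingCat.of A))) ⊆
        Set.range (j ≫ f).base := by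
      rw [Set.singleton_subset_iff]; exact ⟨wξ, hfξ⟩
    exact closure_mono this (h1 ▸ Set.mem_univ a)
  have hxc : (j ≫ f).base w = IsLocalRing.closedPoint A := by
    show f.base (j.base w) = _
    rw [hw, ← hc]; exact fiberι_mem f _ x₀
  refine ⟨W, j, hjcl, w, hw, hrange, ?_⟩
  rw [fibreDimAt_eq_dim_generic_fiber (j ≫ f) hdom w hxc]
  apply le_antisymm
  · apply topologicalKrullDim_le_of_forall_tdeg_le (fiberQ (j ≫ f) _)
    intro z
    -- the image of `z` in `X` lies in the generic fibre and in the closure of `ξ`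
    have hz1 : f.base (j.base (((j ≫ f).fiberι _).base z)) =
        genericPoint (Spec (CommRingCat.of A)) := fiberι_mem (j ≫ f) _ z
    obtain ⟨z', hz'⟩ := exists_fiber_pt f _ _ hz1
    have hz2 : j.base (((j ≫ f).fiberι _).base z) ∈
        closure {(f.fiberι (genericPoint (Spec (CommRingCat.of A)))).base ξ₀} :=
      hrange ▸ Set.mem_range_self _
    have hsp : ξ₀ ⤳ z' := by
      rw [← (f.fiberι _).isEmbedding.isInducing.specializes_iff, hz']
      exact specializes_iff_mem_closure.mpr hz2
    rw [tdeg_fiber_comp_eq j f _ z z' hz']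
    exact tdeg_le_of_specializes _ hsp
  · obtain ⟨u, hu⟩ := exists_fiber_pt (j ≫ f) _ wξ hfξ
    have h1 := tdeg_fiber_comp_eq j f _ u ξ₀ (by rw [hu, hwξ])
    rw [← h1]
    exact Groth.Agent.H38.DimFibreSum.tdeg_le_dim _ u

/-- The dimension inequality over a valuation ring. -/
theorem tdeg_le_of_specializes_val
    (c : ↥(Spec (CommRingCat.of A))) (hc : c = IsLocalRing.closedPoint A)
    (ξ₀ : f.fiber (genericPoint (Spec (CommRingCat.of A))))
    (x₀ : f.fiber c)
    (h : (f.fiberι _).base ξ₀ ⤳ (f.fiberι _).base x₀) :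
    tdeg (fiberQ f _) x₀ ≤ tdeg (fiberQ f _) ξ₀ := by
  obtain ⟨W, j, hjcl, w, hw, -, hdim⟩ := exists_closedImmersion_fibreDimAt_eq f c hc ξ₀ x₀ h
  haveI := hjcl
  have h1 := tdeg_le_fibreDimAt_comp f j _ x₀ w hw
  rw [hdim] at h1
  exact_mod_cast h1

end Groth.Agent.H38.ValSpec
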