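import Mathlib
import Groth.Agent.H38.ValSpec
import Groth.Agent.H38.FieldExtTdeg
import Groth.Agent.H69.SubtrScheme
import Groth.Agent.S3404

/-!
# Dimension of the closure of images of universally open families in the fibres: valuation ring case
-/

set_option autoImplicit false
universe u
open CategoryTheory AlgebraicGeometry Limits

namespace Groth.Agent.H38.UnivOpenFibreDim

open Groth.Agent.H54 Groth.Agent.H38.SectionComp

theorem le_of_forall_natCast_le (a b : WithBot ℕ∞)
    (h : ∀ r : ℕ, (r : WithBot ℕ∞) ≤ a → (r : WithBot ℕ∞) ≤ b) : a ≤ b := by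
  induction a using WithBot.recBotCoe with
  | bot => exact bot_le
  | coe a =>
    induction a using ENat.recTopCoe with
    | top =>
      have : b = ⊤ := Groth.Agent.H38.ProdDim.eq_top_of_forall_natCast_le b (fun r => h r le_top)
      rw [this]
      exact le_top
    | coe n => exact h n le_rfl

section BaseChange

variable {X S T : Scheme.{u}} (f : X ⟶ S) (γ : T ⟶ S)

/-- The map from the fibre of the base change to the fibre of the original morphism. -/
noncomputable def Qmap (a : T) : (pullback.snd f γ).fiber a ⟶ f.fiber (γ.base a) :=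
  pullback.map _ _ _ _ (pullback.fst f γ) (Spec.map (γ.residueFieldMap a)) γ
    (IsPullback.of_hasPullback f γ).w.symm (by simp)

theorem isPullback_Qmap (a : T) :
    IsPullback (Qmap f γ a) ((pullback.snd f γ).fiberToSpecResidueField a)
      (f.fiberToSpecResidueField (γ.base a)) (Spec.map (γ.residueFieldMap a)) :=
  isPullback_fiberToSpecResidueField_of_isPullback (IsPullback.of_hasPullback f γ) a

theorem Qmap_fiberι (a : T) :
    Qmap f γ a ≫ f.fiberι (γ.base a) = (pullback.snd f γ).fiberι a ≫ pullback.fst f γ := by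
  unfold Qmap Scheme.Hom.fiberι
  exact pullback.lift_fst _ _ _

theorem Qmap_fiberι_apply (a : T) (b : (pullback.snd f γ).fiber a) :
    (f.fiberι (γ.base a)).base ((Qmap f γ a).base b) =
      (pullback.fst f γ).base (((pullback.snd f γ).fiberι a).base b) := by
  have h := congrArg (fun q => q.base b) (Qmap_fiberι f γ a)
  exact h

theorem isOpenMap_Qmap (a : T) : IsOpenMap (Qmap f γ a).base := by
  haveI : Subsingleton ↥(Spec (S.residueField (γ.base a))) :=
    inferInstanceAs (Subsingleton (PrimeSpectrum (S.residueField (γ.base a))))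
  haveI : UniversallyOpen (Spec.map (γ.residueFieldMap a)) := inferInstance
  haveI : UniversallyOpen (Qmap f γ a) :=
    MorphismProperty.of_isPullback (P := @UniversallyOpen) (isPullback_Qmap f γ a).flip inferInstance
  exact (Qmap f γ a).isOpenMap

/-- Closure in the fibres commutes with base change (one inclusion). -/
theorem preimage_closure_subset (a : T) (E : Set X) :
    (pullback.fst f γ).base ⁻¹' (closure (E ∩ f.base ⁻¹' {γ.base a})) ∩
        (pullback.snd f γ).base ⁻¹' {a} ⊆
      closure ((pullback.fst f γ).base ⁻¹' E ∩ (pullback.snd f γ).base ⁻¹' {a}) := by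
  rintro xA ⟨h1, h2⟩
  obtain ⟨b, rfl⟩ := exists_fiber_pt (pullback.snd f γ) a xA h2
  let E₀ : Set (f.fiber (γ.base a)) := (f.fiberι (γ.base a)).base ⁻¹' E
  have himg : (f.fiberι (γ.base a)).base '' E₀ = E ∩ f.base ⁻¹' {γ.base a} := by
    rw [Set.image_preimage_eq_inter_range, f.range_fiberι (γ.base a)]
  have hb1 : (Qmap f γ a).base b ∈ closure E₀ := by
    rw [(f.fiberι (γ.base a)).isEmbedding.isInducing.closure_eq_preimage_closure_image, himg]
    show (f.fiberι (γ.base a)).base ((Qmap f γ a).base b) ∈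
      closure (E ∩ f.base ⁻¹' {γ.base a})
    rw [Qmap_fiberι_apply]
    exact h1
  have hb2 : b ∈ closure ((Qmap f γ a).base ⁻¹' E₀) :=
    (isOpenMap_Qmap f γ a).preimage_closure_subset_closure_preimage hb1
  have hb3 := image_closure_subset_closure_image ((pullback.snd f γ).fiberι a).continuous
    ⟨b, hb2, rfl⟩
  refine closure_mono ?_ hb3
  rintro _ ⟨b', hb', rfl⟩
  refine ⟨?_, fiberι_mem (pullback.snd f γ) a b'⟩
  show (pullback.fst f γ).base (((pullback.snd f γ).fiberι a).base b') ∈ E
  rw [← Qmap_fiberι_apply]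
  exact hb'

/-- Generizations lift inside the preimage of the image of a universally open `S`-scheme. -/
theorem exists_generization {Y : Scheme.{u}} (g : Y ⟶ S) [UniversallyOpen g] (v : Y ⟶ X)
    (hv : v ≫ f = g) (e : ↥(pullback f γ)) (he : (pullback.fst f γ).base e ∈ Set.range v.base)
    (a' : T) (ha' : a' ⤳ (pullback.snd f γ).base e) :
    ∃ e' : ↥(pullback f γ), e' ⤳ e ∧ (pullback.snd f γ).base e' = a' ∧
      (pullback.fst f γ).base e' ∈ Set.range v.base := by
  obtain ⟨y, hy⟩ := he
  obtain ⟨π, hπ1, hπ2⟩ := Scheme.Pullback.exists_preimage_pullback (f := v)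
    (g := pullback.fst f γ) y e hy
  have sq : IsPullback (pullback.fst v (pullback.fst f γ))
      (pullback.snd v (pullback.fst f γ) ≫ pullback.snd f γ) (v ≫ f) γ :=
    (IsPullback.of_hasPullback v (pullback.fst f γ)).paste_vert (IsPullback.of_hasPullback f γ)
  haveI : UniversallyOpen (v ≫ f) := hv ▸ inferInstance
  haveI : UniversallyOpen (pullback.snd v (pullback.fst f γ) ≫ pullback.snd f γ) :=
    MorphismProperty.of_isPullback (P := @UniversallyOpen) sq inferInstance
  have hopen : EGA43.IsOpenAt (pullback.snd v (pullback.fst f γ) ≫ pullback.snd f γ).base π :=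
    fun U hU => (pullback.snd v (pullback.fst f γ) ≫ pullback.snd f γ).isOpenMap.image_mem_nhds hU
  have hπa : a' ⤳ (pullback.snd v (pullback.fst f γ) ≫ pullback.snd f γ).base π := by
    show a' ⤳ (pullback.snd f γ).base ((pullback.snd v (pullback.fst f γ)).base π)
    have : (pullback.snd v (pullback.fst f γ)).base π = e := hπ2
    rw [this]; exact ha'
  obtain ⟨π', hπ', hπ'a⟩ := Groth.Agent.S3404.lift_of_isOpenAt _ π hopen a' hπa
  refine ⟨(pullback.snd v (pullback.fst f γ)).base π', ?_, hπ'a, ?_⟩
  · have : (pullback.snd v (pullback.fst f γ)).base π = e := hπ2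
    rw [← this]
    exact hπ'.map (pullback.snd v (pullback.fst f γ)).continuous
  · refine ⟨(pullback.fst v (pullback.fst f γ)).base π', ?_⟩
    have h := congrArg (fun q => q.base π') (pullback.condition (f := v) (g := pullback.fst f γ))
    exact h

end BaseChange

section Val

variable {X S : Scheme.{u}} (f : X ⟶ S) [LocallyOfFiniteType f]
  {A : Type u} [CommRing A] [IsDomain A] [ValuationRing A] (γ : Spec (CommRingCat.of A) ⟶ S)

/-- The valuation ring case: the dimension of the closure of the images in the closed fibre is at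
most that in the generic fibre. -/
theorem dim_le_of_valuationRing {ι : Type u} (Y : ι → Scheme.{u}) (g : ∀ i, Y i ⟶ S)
    [∀ i, UniversallyOpen (g i)] (v : ∀ i, Y i ⟶ X) (hv : ∀ i, v i ≫ f = g i)
    (c : ↥(Spec (CommRingCat.of A))) (hc : c = IsLocalRing.closedPoint A) :
    topologicalKrullDim ↥(f.base ⁻¹' {γ.base c} ∩
        closure ((⋃ i, Set.range (v i).base) ∩ f.base ⁻¹' {γ.base c})) ≤
      topologicalKrullDim ↥(f.base ⁻¹' {γ.base (genericPoint (Spec (CommRingCat.of A)))} ∩
        closure ((⋃ i, Set.range (v i).base) ∩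
          f.base ⁻¹' {γ.base (genericPoint (Spec (CommRingCat.of A)))})) := by
  haveI : IrreducibleSpace (Spec (CommRingCat.of A)) :=
    inferInstanceAs (IrreducibleSpace (PrimeSpectrum A))
  set E : Set X := ⋃ i, Set.range (v i).base with hE
  set η := genericPoint (Spec (CommRingCat.of A)) with hη
  apply le_of_forall_natCast_le
  intro r hr
  -- the closed fibre
  let Z₀ : Set (f.fiber (γ.base c)) :=
    (f.fiberι (γ.base c)).base ⁻¹' closure (E ∩ f.base ⁻¹' {γ.base c})
  have hZ₀cl : IsClosed Z₀ := isClosed_closure.preimage (f.fiberι (γ.base c)).continuous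
  have himg : (f.fiberι (γ.base c)).base '' Z₀ =
      f.base ⁻¹' {γ.base c} ∩ closure (E ∩ f.base ⁻¹' {γ.base c}) := by
    rw [Set.image_preimage_eq_inter_range, f.range_fiberι (γ.base c), Set.inter_comm]
  rw [← himg, dim_image_of_isEmbedding (f.fiberι (γ.base c)).isEmbedding] at hr
  obtain ⟨u, huZ, hur⟩ := Groth.Agent.H38.FieldExtTdeg.exists_point_over_closed
    (fiberQ f (γ.base c)) (γ.residueFieldMap c) (Qmap f γ c) (fiberQ (pullback.snd f γ) c)
    (isPullback_Qmap f γ c) Z₀ hZ₀cl r hr
  have hxA1 : (pullback.snd f γ).base (((pullback.snd f γ).fiberι c).base u) = c :=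
    fiberι_mem (pullback.snd f γ) c u
  have hxA2 : (pullback.fst f γ).base (((pullback.snd f γ).fiberι c).base u) ∈
      closure (E ∩ f.base ⁻¹' {γ.base c}) := by
    rw [← Qmap_fiberι_apply]; exact huZ
  have hxA3 := preimage_closure_subset f γ c E ⟨hxA2, hxA1⟩
  -- the closure of the generic fibre part
  set G : Set ↥(pullback f γ) :=
    (pullback.fst f γ).base ⁻¹' E ∩ (pullback.snd f γ).base ⁻¹' {η} with hG
  have hGT : (pullback.fst f γ).base ⁻¹' E ∩ (pullback.snd f γ).base ⁻¹' {c} ⊆ closure G := by
    rintro e ⟨he1, he2⟩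
    obtain ⟨i, hi⟩ := Set.mem_iUnion.mp he1
    obtain ⟨e', he'sp, he'a, he'r⟩ := exists_generization f γ (g i) (v i) (hv i) e hi η
      (genericPoint_specializes _)
    exact he'sp.mem_closed isClosed_closure
      (subset_closure ⟨Set.mem_iUnion.mpr ⟨i, he'r⟩, he'a⟩)
  have hxAT : ((pullback.snd f γ).fiberι c).base u ∈ closure G :=
    closure_minimal hGT isClosed_closure hxA3
  -- a generization in the generic fibre
  let Zη : Set ((pullback.snd f γ).fiber η) := ((pullback.snd f γ).fiberι η).base ⁻¹' closure G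
  have hZηcl : IsClosed Zη := isClosed_closure.preimage ((pullback.snd f γ).fiberι η).continuous
  have hGZ : G ⊆ ((pullback.snd f γ).fiberι η).base '' Zη := by
    rintro e ⟨he1, he2⟩
    obtain ⟨b, rfl⟩ := exists_fiber_pt (pullback.snd f γ) η e he2
    exact ⟨b, subset_closure ⟨he1, he2⟩, rfl⟩
  haveI : QuasiCompact ((pullback.snd f γ).fiberι η) := by
    haveI : QuasiCompact ((Spec (CommRingCat.of A)).fromSpecResidueField η) := inferInstance
    exact inferInstanceAs (QuasiCompact (pullback.fst (pullback.snd f γ)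
      ((Spec (CommRingCat.of A)).fromSpecResidueField η)))
  obtain ⟨ξ₀, hξ₀Z, hξ₀sp⟩ := Groth.Agent.H69.Subtr.exists_specializes_of_mem_closure_image
    ((pullback.snd f γ).fiberι η) hZηcl (closure_mono hGZ hxAT)
  have h1 := Groth.Agent.H38.ValSpec.tdeg_le_of_specializes_val (pullback.snd f γ) c hc ξ₀ u hξ₀sp
  have h2 := Groth.Agent.H38.FieldExtTdeg.tdeg_le_tdeg_image
    (fiberQ f (γ.base η)) (γ.residueFieldMap η) (Qmap f γ η) (fiberQ (pullback.snd f γ) η)
    (isPullback_Qmap f γ η) ξ₀
  -- the generic fibre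
  let Z₀' : Set (f.fiber (γ.base η)) :=
    (f.fiberι (γ.base η)).base ⁻¹' closure (E ∩ f.base ⁻¹' {γ.base η})
  have hZ₀'cl : IsClosed Z₀' := isClosed_closure.preimage (f.fiberι (γ.base η)).continuous
  have himg' : (f.fiberι (γ.base η)).base '' Z₀' =
      f.base ⁻¹' {γ.base η} ∩ closure (E ∩ f.base ⁻¹' {γ.base η}) := by
    rw [Set.image_preimage_eq_inter_range, f.range_fiberι (γ.base η), Set.inter_comm]
  have hQξ : (Qmap f γ η).base ξ₀ ∈ Z₀' := by
    show (f.fiberι (γ.base η)).base ((Qmap f γ η).base ξ₀) ∈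
      closure (E ∩ f.base ⁻¹' {γ.base η})
    rw [Qmap_fiberι_apply]
    have h3 := image_closure_subset_closure_image (pullback.fst f γ).continuous
      ⟨_, hξ₀Z, rfl⟩
    refine closure_mono ?_ h3
    rintro _ ⟨e, ⟨he1, he2⟩, rfl⟩
    refine ⟨he1, ?_⟩
    show f.base ((pullback.fst f γ).base e) = γ.base η
    have h4 := congrArg (fun q => q.base e) (pullback.condition (f := f) (g := γ))
    have he2' : (pullback.snd f γ).base e = η := he2
    rw [← he2']
    exact h4
  have h3 : (tdeg (fiberQ f (γ.base η)) ((Qmap f γ η).base ξ₀) : WithBot ℕ∞) ≤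
      topologicalKrullDim ↥Z₀' := by
    rw [← topologicalKrullDim_closure_singleton]
    exact Groth.Agent.H9.FibDim.dim_mono_subset
      (hZ₀'cl.closure_subset_iff.mpr (Set.singleton_subset_iff.mpr hQξ))
  rw [← himg', dim_image_of_isEmbedding (f.fiberι (γ.base η)).isEmbedding]
  refine le_trans ?_ h3
  exact_mod_cast hur.trans (h1.trans h2)

end Val

end Groth.Agent.H38.UnivOpenFibreDim
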