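import Mathlib
import Groth.Agent.H38.ValSpec

/-!
# Specializations over a valuation ring: the equality case
-/

set_option autoImplicit false
universe u
open CategoryTheory AlgebraicGeometry Limits

namespace Groth.Agent.H38.ValSpec

open Groth.Agent.H54 Groth.Agent.H38.ValFibreDim Groth.Agent.H38.SectionComp

variable {A : Type u} [CommRing A] [IsDomain A] [ValuationRing A] {X : Scheme.{u}}
  (f : X ⟶ Spec (CommRingCat.of A)) [LocallyOfFiniteType f]

/-- If `x` is a maximal point of the closed fibre and `ξ` a point of the generic fibre specializing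
to `x`, then `trdeg κ(ξ)/K = trdeg κ(x)/κ(c)`. -/
theorem tdeg_eq_of_specializes_val_of_isMax
    (c : ↥(Spec (CommRingCat.of A))) (hc : c = IsLocalRing.closedPoint A)
    (ξ₀ : f.fiber (genericPoint (Spec (CommRingCat.of A))))
    (x₀ : f.fiber c)
    (h : (f.fiberι _).base ξ₀ ⤳ (f.fiberι _).base x₀)
    (hmax : ∀ z₀ : f.fiber c, z₀ ⤳ x₀ → z₀ = x₀) :
    tdeg (fiberQ f _) ξ₀ = tdeg (fiberQ f _) x₀ := by
  apply le_antisymm _ (tdeg_le_of_specializes_val f c hc ξ₀ x₀ h)
  obtain ⟨W, j, hjcl, w, hw, -, hdim⟩ := exists_closedImmersion_fibreDimAt_eq f c hc ξ₀ x₀ h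
  haveI := hjcl
  obtain ⟨ζ, hζ, hloc⟩ := Groth.Agent.H38.ProdLocalDim.exists_specializes_tdeg_eq
    (fiberQ (j ≫ f) ((j ≫ f).base w)) ((j ≫ f).asFiber w)
  have hdim' : FlatMor.fibreDimAt (j ≫ f) w =
      (tdeg (fiberQ (j ≫ f) ((j ≫ f).base w)) ζ : WithBot ℕ∞) := hloc
  -- the image of `ζ` in `X` is `x`
  have h1 : (((j ≫ f).fiberι ((j ≫ f).base w)).base ζ) ⤳ w := by
    have := hζ.map ((j ≫ f).fiberι ((j ≫ f).base w)).continuous
    rwa [(j ≫ f).fiberι_asFiber w] at this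
  have h2 : j.base (((j ≫ f).fiberι ((j ≫ f).base w)).base ζ) ⤳ (f.fiberι c).base x₀ := by
    rw [← hw]; exact h1.map j.continuous
  have hfw : f.base (j.base w) = c := by rw [hw]; exact fiberι_mem f c x₀
  have h3 : f.base (j.base (((j ≫ f).fiberι ((j ≫ f).base w)).base ζ)) = c := by
    have := fiberι_mem (j ≫ f) ((j ≫ f).base w) ζ
    exact this.trans hfw
  obtain ⟨z₀, hz₀⟩ := exists_fiber_pt f c _ h3
  have h4 : z₀ ⤳ x₀ := by
    rw [← (f.fiberι c).isEmbedding.isInducing.specializes_iff, hz₀]; exact h2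
  have h5 := hmax z₀ h4
  subst h5
  -- compare transcendence degrees
  have e1 := trdeg_fiber_eq (j ≫ f) ((j ≫ f).base w) ζ
  have e2 := trdeg_fiber_eq f c z₀
  rw [Groth.Agent.H9.Equidim.trdeg_comp_of_surjectiveOnStalks j f _,
    ← Groth.Agent.H9.DimFormulaEq.trdeg_congr_point f hz₀, e2] at e1
  have e3 : tdeg (fiberQ f c) z₀ = tdeg (fiberQ (j ≫ f) ((j ≫ f).base w)) ζ := by
    exact_mod_cast e1
  rw [hdim] at hdim'
  rw [e3]
  exact_mod_cast hdim'.le

end Groth.Agent.H38.ValSpec
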