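import Mathlib
import Groth.Agent.H38.ValSpec2
import Groth.Agent.H38.UnivOpenFibreDim
import Groth.Agent.H60.FibreDimBC
import Groth.Agent.H32.ValWit

/-!
# Universal openness at a maximal point of a fibre and dimensions of nearby fibres (EGA IV 14.3.?)
-/

set_option autoImplicit false
universe u
open CategoryTheory AlgebraicGeometry Limits

namespace Groth.Agent.H38.UnivOpenAtDim

open Groth.Agent.H54 Groth.Agent.H38.SectionComp

/-- The local fibre dimension at a point of an open set is at most the dimension of the trace of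
the open set on the fibre. -/
theorem fibreDimAt_le_dim_inter_open {X Y : Scheme.{u}} (f : X ⟶ Y) (w : X) (U : X.Opens)
    (hw : w ∈ U) (y' : Y) (hy' : f.base w = y') :
    FlatMor.fibreDimAt f w ≤ topologicalKrullDim ↥((U : Set X) ∩ f.base ⁻¹' {y'}) := by
  subst hy'
  rw [Groth.Agent.H9.FibDim.fibreDimAt_eq_tfd]
  unfold Groth.Agent.H9.FibDim.tfd
  let S : Set X := f.base ⁻¹' {f.base w}
  let V : TopologicalSpace.Opens ↥S := ⟨Subtype.val ⁻¹' (U : Set X), U.2.preimage continuous_subtype_val⟩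
  have hmem : (⟨w, rfl⟩ : ↥S) ∈ V := hw
  refine (Groth.Agent.H9.FibDim.localDim_le_of_mem ↥S _ V hmem).trans ?_
  have h1 : (U : Set X) ∩ f.base ⁻¹' {f.base w} = Subtype.val '' (V : Set ↥S) := by
    show _ = Subtype.val '' (Subtype.val ⁻¹' (U : Set X) : Set ↥S)
    rw [Subtype.image_preimage_coe, Set.inter_comm]
  rw [h1, dim_image_of_isEmbedding Topology.IsEmbedding.subtypeVal]

/-- Over a valuation ring: a morphism open at a maximal point `z` of the closed fibre has a
generization of `z` in the generic fibre at which the fibre dimension is at least that at `z`. -/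
theorem exists_generization_fibreDimAt_le {A : Type u} [CommRing A] [IsDomain A] [ValuationRing A]
    {X : Scheme.{u}} (f : X ⟶ Spec (CommRingCat.of A)) [LocallyOfFiniteType f]
    (c : ↥(Spec (CommRingCat.of A))) (hc : c = IsLocalRing.closedPoint A) (z : X)
    (hz : f.base z = c) (hmax : ∀ z' : X, f.base z' = f.base z → z' ⤳ z → z' = z)
    (hopen : EGA43.IsOpenAt f.base z) :
    ∃ ξ : X, ξ ⤳ z ∧ f.base ξ = genericPoint (Spec (CommRingCat.of A)) ∧
      FlatMor.fibreDimAt f z ≤ FlatMor.fibreDimAt f ξ := by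
  haveI : IrreducibleSpace (Spec (CommRingCat.of A)) :=
    inferInstanceAs (IrreducibleSpace (PrimeSpectrum A))
  obtain ⟨ξ, hξz, hξη⟩ := Groth.Agent.S3404.lift_of_isOpenAt f z hopen
    (genericPoint (Spec (CommRingCat.of A))) (genericPoint_specializes _)
  refine ⟨ξ, hξz, hξη, ?_⟩
  obtain ⟨z₀, rfl⟩ := exists_fiber_pt f c z hz
  obtain ⟨ξ₀, rfl⟩ := exists_fiber_pt f _ ξ hξη
  have hmax₀ : ∀ ζ : f.fiber c, ζ ⤳ z₀ → ζ = z₀ := by
    intro ζ h
    apply (f.fiberι c).isEmbedding.injective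
    exact hmax _ ((fiberι_mem f c ζ).trans (fiberι_mem f c z₀).symm)
      (h.map (f.fiberι c).continuous)
  have e1 := Groth.Agent.H38.ValSpec.tdeg_eq_of_specializes_val_of_isMax f c hc ξ₀ z₀ hξz hmax₀
  obtain ⟨ζ, hζ, hloc⟩ := Groth.Agent.H38.ProdLocalDim.exists_specializes_tdeg_eq (fiberQ f c) z₀
  have hζeq := hmax₀ ζ hζ
  subst hζeq
  rw [← Groth.Agent.H9.FibDim.localDim_fiber, ← Groth.Agent.H9.FibDim.localDim_fiber, hloc, ← e1]
  exact Groth.Agent.H38.ProdLocalDim.tdeg_le_localDim _ specializes_rfl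

/-- (a) ⇒ (b'): if `f` is universally open at a maximal point `x` of its fibre then every
neighbouring fibre has, near `x`, dimension at least the local fibre dimension at `x`. -/
theorem fibreDimAt_le_of_isUnivOpenAt {X Y : Scheme.{u}} (f : X ⟶ Y) [LocallyOfFiniteType f]
    (x : X) (hmax : ∀ x' : X, f.base x' = f.base x → x ∈ closure {x'} → x' = x)
    (hopen : EGA43.IsUnivOpenAt f x) (U : X.Opens) (hxU : x ∈ U) (y' : Y)
    (hy' : y' ⤳ f.base x) :
    FlatMor.fibreDimAt f x ≤ topologicalKrullDim ↥((U : Set X) ∩ f.base ⁻¹' {y'}) := by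
  obtain ⟨A, γ, hw, hγc⟩ := Groth.Agent.H32.ValWit.exists_valuationSubring_of_specializes
    (𝟙 Y) y' (f.base x) (by simpa using hy')
  obtain ⟨c, hc⟩ : ∃ c : ↥(Spec (CommRingCat.of A)), c = IsLocalRing.closedPoint A := ⟨_, rfl⟩
  have hγc' : γ.base c = f.base x := by rw [hc]; exact hγc
  have hγη : γ.base (genericPoint (Spec (CommRingCat.of A))) = y' := by
    have h1 := congrArg (fun q => q.base (IsLocalRing.closedPoint (Y.residueField y'))) hw
    simp only [Category.comp_id] at h1
    have h2 : (Y.fromSpecResidueField y').base (IsLocalRing.closedPoint (Y.residueField y')) = y' :=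
      Scheme.fromSpecResidueField_apply _ _
    have h3 : (Spec.map (CommRingCat.ofHom (algebraMap A (Y.residueField y')))).base
        (IsLocalRing.closedPoint (Y.residueField y')) = genericPoint (Spec (CommRingCat.of A)) := by
      rw [genericPoint_eq_bot_of_affine]
      apply PrimeSpectrum.ext
      show Ideal.comap (algebraMap A (Y.residueField y'))
        (IsLocalRing.closedPoint (Y.residueField y')).asIdeal = ⊥
      have h0 : (IsLocalRing.closedPoint (Y.residueField y')).asIdeal = ⊥ :=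
        IsLocalRing.maximalIdeal_eq_bot
      rw [h0, ← RingHom.ker_eq_comap_bot, RingHom.ker_eq_bot_iff_eq_zero]
      intro a ha
      exact Subtype.ext ha
    rw [← h3]
    have h4 : (Y.fromSpecResidueField y').base (IsLocalRing.closedPoint (Y.residueField y')) =
      γ.base ((Spec.map (CommRingCat.ofHom (algebraMap A (Y.residueField y')))).base
        (IsLocalRing.closedPoint (Y.residueField y'))) := h1
    rw [← h4, h2]
  -- a point of the base change over `x` and the closed point, maximal in its fibre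
  obtain ⟨xA, hxA1, hxA2⟩ := Scheme.Pullback.exists_preimage_pullback (f := f) (g := γ) x
    c hγc'.symm
  have hxA1' : (pullback.fst f γ).base xA = x := hxA1
  have hxA2' : (pullback.snd f γ).base xA = c := hxA2
  obtain ⟨a₀, ha₀⟩ := exists_fiber_pt (pullback.snd f γ) _ xA hxA2'
  obtain ⟨ζ, hζa, hζcomp⟩ := exists_generic_specializes a₀
  set z := ((pullback.snd f γ).fiberι c).base ζ with hzdef
  have hzc : (pullback.snd f γ).base z = c := fiberι_mem _ _ ζ
  have hzxA : z ⤳ xA := by
    rw [← ha₀]; exact hζa.map ((pullback.snd f γ).fiberι _).continuous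
  have hcond : ∀ e : ↥(pullback f γ), f.base ((pullback.fst f γ).base e) =
      γ.base ((pullback.snd f γ).base e) := fun e =>
    congrArg (fun q => q.base e) (pullback.condition (f := f) (g := γ))
  have hpz : (pullback.fst f γ).base z = x := by
    apply hmax
    · rw [hcond, hzc, hγc']
    · rw [← specializes_iff_mem_closure, ← hxA1']
      exact hzxA.map (pullback.fst f γ).continuous
  have hzmax : ∀ z' : ↥(pullback f γ), (pullback.snd f γ).base z' = (pullback.snd f γ).base z →
      z' ⤳ z → z' = z := by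
    intro z' hz'1 hz'2
    obtain ⟨b, rfl⟩ := exists_fiber_pt (pullback.snd f γ) _ z' (hz'1.trans hzc)
    have hb : b ⤳ ζ := by
      rw [← ((pullback.snd f γ).fiberι _).isEmbedding.isInducing.specializes_iff]; exact hz'2
    rw [eq_of_specializes_generic hζcomp hb]
  have hopenA : EGA43.IsOpenAt (pullback.snd f γ).base z := hopen _ γ z hpz
  obtain ⟨ξ, hξz, hξη, hle⟩ := exists_generization_fibreDimAt_le (pullback.snd f γ)
    c hc z hzc hzmax hopenA
  rw [Groth.Agent.H60.FibreDimBC.fibreDimAt_baseChange f γ z,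
    Groth.Agent.H60.FibreDimBC.fibreDimAt_baseChange f γ ξ, hpz] at hle
  refine hle.trans ?_
  apply fibreDimAt_le_dim_inter_open f _ U
  · have : (pullback.fst f γ).base ξ ⤳ x := by
      rw [← hpz]; exact hξz.map (pullback.fst f γ).continuous
    exact this.mem_open U.2 hxU
  · rw [hcond, hξη, hγη]

/-- A nonempty-dimension argument: an open part of a fibre of dimension at least `n` contains a
point of local fibre dimension at least `n`. -/
theorem exists_mem_le_fibreDimAt {X Y : Scheme.{u}} (f : X ⟶ Y) [LocallyOfFiniteType f]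
    (U : X.Opens) (y' : Y) (n : ℕ)
    (h : (n : WithBot ℕ∞) ≤ topologicalKrullDim ↥((U : Set X) ∩ f.base ⁻¹' {y'})) :
    ∃ w : X, w ∈ U ∧ f.base w = y' ∧ (n : WithBot ℕ∞) ≤ FlatMor.fibreDimAt f w := by
  rw [Groth.Agent.S5792.result] at h
  by_contra hcon
  push Not at hcon
  have hle : ∀ t : ↥((U : Set X) ∩ f.base ⁻¹' {y'}),
      FlatMor.localDim ↥((U : Set X) ∩ f.base ⁻¹' {y'}) t = FlatMor.fibreDimAt f t.1 := by
    rintro ⟨w, hwU, hwy⟩
    have hwy' : f.base w = y' := hwy
    rw [Groth.Agent.H9.FibDim.fibreDimAt_eq_tfd,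
      Groth.Agent.H9.FibDim.tfd_eq_of_eq f.base w y' hwy']
    have hopen : Topology.IsOpenEmbedding
        (Set.inclusion (Set.inter_subset_right : (U : Set X) ∩ f.base ⁻¹' {y'} ⊆ f.base ⁻¹' {y'})) := by
      apply Topology.IsOpenEmbedding.inclusion
      show IsOpen (Subtype.val ⁻¹' ((U : Set X) ∩ f.base ⁻¹' {y'}) : Set ↥(f.base ⁻¹' {y'}))
      rw [Set.preimage_inter, Subtype.coe_preimage_self, Set.inter_univ]
      exact U.2.preimage continuous_subtype_val
    exact Groth.Agent.H9.FibDim.localDim_of_isOpenEmbedding hopen ⟨w, hwU, hwy⟩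
  rcases Nat.eq_zero_or_pos n with rfl | hn
  · have hemp : IsEmpty ↥((U : Set X) ∩ f.base ⁻¹' {y'}) := by
      refine ⟨fun t => ?_⟩
      have h1 := hcon t.1 t.2.1 t.2.2
      obtain ⟨m, hm⟩ := Groth.Agent.H38.FibreDimCons.exists_fibreDimAt_eq f t.1
      rw [hm] at h1
      have h2 : m < 0 := by exact_mod_cast h1
      omega
    rw [iSup_of_empty] at h
    exact absurd h (by simp)
  · have h1 : (⨆ t : ↥((U : Set X) ∩ f.base ⁻¹' {y'}),
        FlatMor.localDim ↥((U : Set X) ∩ f.base ⁻¹' {y'}) t) ≤ ((n - 1 : ℕ) : WithBot ℕ∞) := by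
      refine iSup_le fun t => ?_
      rw [hle t]
      have h2 := hcon t.1 t.2.1 t.2.2
      have h3 := (Groth.Agent.H9.FibDim.natCast_le_iff_not_le (FlatMor.fibreDimAt f t.1) (n - 1)).not.mp
        (by rw [Nat.sub_add_cancel hn]; exact not_le.mpr h2)
      exact not_not.mp h3
    have h4 := h.trans h1
    have h5 : n ≤ n - 1 := by exact_mod_cast h4
    omega

theorem quasiCompact_fiberι {X Y : Scheme.{u}} (f : X ⟶ Y) (y : Y) : QuasiCompact (f.fiberι y) := by
  haveI : Subsingleton ↥(Spec (Y.residueField y)) :=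
    inferInstanceAs (Subsingleton (PrimeSpectrum (Y.residueField y)))
  have h : QuasiCompact (Y.fromSpecResidueField y) :=
    ⟨fun U _ _ => (Set.subsingleton_of_subsingleton).finite.isCompact⟩
  exact MorphismProperty.of_isPullback (P := @QuasiCompact.{u})
    (IsPullback.of_hasPullback f (Y.fromSpecResidueField y)).flip h

/-- (b') ⇒ (b). -/
theorem exists_component_of_forall_le {X Y : Scheme.{u}} (f : X ⟶ Y) [LocallyOfFiniteType f]
    (x : X)
    (hb' : ∀ U : X.Opens, x ∈ U → ∀ y' : Y, y' ⤳ f.base x →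
      FlatMor.fibreDimAt f x ≤ topologicalKrullDim ↥((U : Set X) ∩ f.base ⁻¹' {y'}))
    (Y₀ : Set Y) (hY₀ : Y₀ ∈ irreducibleComponents (Y : Type u)) (hxY₀ : f.base x ∈ Y₀) :
    ∃ Z ∈ irreducibleComponents (X : Type u), ∃ hx : x ∈ Z, closure (f.base '' Z) = Y₀ ∧
      ∀ η : Y, closure ({η} : Set Y) = Y₀ →
        FlatMor.fibreDimAt f x = FlatMor.localDim ↥(Z ∩ f.base ⁻¹' {f.base x}) ⟨x, ⟨hx, rfl⟩⟩ ∧
        FlatMor.localDim ↥(Z ∩ f.base ⁻¹' {f.base x}) ⟨x, ⟨hx, rfl⟩⟩ =
          topologicalKrullDim ↥(Z ∩ f.base ⁻¹' {η}) := by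
  obtain ⟨η₀, hη₀⟩ := QuasiSober.sober hY₀.1 (isClosed_of_mem_irreducibleComponents Y₀ hY₀)
  have hη₀cl : closure ({η₀} : Set Y) = Y₀ := hη₀.def
  have hη₀comp : closure ({η₀} : Set Y) ∈ irreducibleComponents (Y : Type u) := hη₀cl ▸ hY₀
  have hη₀x : η₀ ⤳ f.base x := by rw [specializes_iff_mem_closure, hη₀cl]; exact hxY₀
  obtain ⟨n, hn⟩ := Groth.Agent.H38.FibreDimCons.exists_fibreDimAt_eq f x
  -- the closed set where the fibre dimension is at least `n`
  have hDcl := Groth.Agent.H9.FibDim.isClosed_setOf_natCast_le_fibreDimAt f n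
  set D : Set X := {w : X | (n : WithBot ℕ∞) ≤ FlatMor.fibreDimAt f w} with hD
  let D₀ : Set (f.fiber η₀) := (f.fiberι η₀).base ⁻¹' D
  have hD₀cl : IsClosed D₀ := hDcl.preimage (f.fiberι η₀).continuous
  have hxcl : x ∈ closure ((f.fiberι η₀).base '' D₀) := by
    rw [Set.image_preimage_eq_inter_range, f.range_fiberι η₀, mem_closure_iff]
    intro o ho hxo
    have h1 := hb' ⟨o, ho⟩ hxo η₀ hη₀x
    rw [hn] at h1
    obtain ⟨w, hwo, hwη, hwn⟩ := exists_mem_le_fibreDimAt f ⟨o, ho⟩ η₀ n h1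
    exact ⟨w, hwo, hwn, hwη⟩
  haveI := quasiCompact_fiberι f η₀
  obtain ⟨w₀, hw₀D, hw₀x⟩ := Groth.Agent.H69.Subtr.exists_specializes_of_mem_closure_image
    (f.fiberι η₀) hD₀cl hxcl
  have hw₀n : (n : WithBot ℕ∞) ≤ FlatMor.localDim (f.fiber η₀) w₀ := by
    rw [Groth.Agent.H9.FibDim.localDim_fiber]; exact hw₀D
  obtain ⟨ζ, hζw₀, hζloc⟩ := Groth.Agent.H38.ProdLocalDim.exists_specializes_tdeg_eq
    (fiberQ f η₀) w₀
  obtain ⟨ζ', hζ'ζ, hζ'comp⟩ := exists_generic_specializes ζ
  have hnd : n ≤ tdeg (fiberQ f η₀) ζ' := by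
    have h1 := tdeg_le_of_specializes (fiberQ f η₀) hζ'ζ
    rw [hζloc] at hw₀n
    have h2 : n ≤ tdeg (fiberQ f η₀) ζ := by exact_mod_cast hw₀n
    omega
  set ξ := (f.fiberι η₀).base ζ' with hξ
  have hfξ : f.base ξ = η₀ := fiberι_mem f η₀ ζ'
  have hξx : ξ ⤳ x := ((hζ'ζ.trans hζw₀).map (f.fiberι η₀).continuous).trans hw₀x
  have hξmax : ∀ w : X, w ⤳ ξ → w = ξ := by
    intro w hw
    have h1 : f.base w = η₀ := by
      have := hw.map f.continuous
      rw [hfξ] at this
      exact eq_of_specializes_generic hη₀comp this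
    obtain ⟨w₁, rfl⟩ := exists_fiber_pt f η₀ w h1
    have h2 : w₁ ⤳ ζ' := by
      rw [← (f.fiberι η₀).isEmbedding.isInducing.specializes_iff]; exact hw
    rw [eq_of_specializes_generic hζ'comp h2]
  have hZcomp : closure ({ξ} : Set X) ∈ irreducibleComponents (X : Type u) :=
    closure_mem_irreducibleComponents_of_forall hξmax
  have hxZ : x ∈ closure ({ξ} : Set X) := specializes_iff_mem_closure.mp hξx
  refine ⟨closure {ξ}, hZcomp, hxZ, ?_, ?_⟩
  · apply Set.Subset.antisymm
    · apply closure_minimal _ (isClosed_of_mem_irreducibleComponents Y₀ hY₀)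
      refine (image_closure_subset_closure_image f.continuous).trans ?_
      rw [Set.image_singleton, hfξ, hη₀cl]
    · rw [← hη₀cl]
      apply closure_mono
      rw [Set.singleton_subset_iff]
      exact ⟨ξ, subset_closure rfl, hfξ⟩
  · intro η hη
    have hηeq : η = η₀ := by
      have h1 : IsGenericPoint η Y₀ := hη
      exact h1.eq hη₀
    subst hηeq
    obtain ⟨Z', j, hjcl, -, hrange⟩ :=
      Groth.Agent.H38.ProdLocalDim.exists_integral_closedImmersion ξ
    haveI := hjcl
    obtain ⟨w, hw⟩ : x ∈ Set.range j.base := hrange ▸ hxZ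
    obtain ⟨wξ, hwξ⟩ : ξ ∈ Set.range j.base := hrange ▸ subset_closure rfl
    have hwξw : wξ ⤳ w := by
      rw [← j.isEmbedding.isInducing.specializes_iff, hwξ, hw]; exact hξx
    have hL := Groth.Agent.H9.Equidim.localDim_inter_fibre_eq j j.isEmbedding (closure {ξ}) hrange f
      w x hw hxZ
    have h1 := tdeg_le_fibreDimAt_comp f j η ζ' wξ hwξ
    have h2 := fibreDimAt_le_of_specializes (j ≫ f) hwξw
    have h3 : FlatMor.localDim ↥(closure ({ξ} : Set X) ∩ f.base ⁻¹' {f.base x}) ⟨x, ⟨hxZ, rfl⟩⟩ ≤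
        FlatMor.fibreDimAt f x := by
      rw [Groth.Agent.H9.FibDim.fibreDimAt_eq_tfd]
      unfold Groth.Agent.H9.FibDim.tfd
      exact localDim_le_of_isInducing (Topology.IsEmbedding.inclusion
        (Set.inter_subset_right : closure ({ξ} : Set X) ∩ f.base ⁻¹' {f.base x} ⊆
          f.base ⁻¹' {f.base x})).isInducing ⟨x, ⟨hxZ, rfl⟩⟩
    have hdim : topologicalKrullDim ↥(closure ({ξ} : Set X) ∩ f.base ⁻¹' {η}) =
        (tdeg (fiberQ f η) ζ' : WithBot ℕ∞) := by
      have h4 : closure ({ξ} : Set X) ∩ f.base ⁻¹' {η} =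
          (f.fiberι η).base '' closure ({ζ'} : Set (f.fiber η)) := by
        rw [(f.fiberι η).isEmbedding.isInducing.closure_eq_preimage_closure_image,
          Set.image_singleton, Set.image_preimage_eq_inter_range, f.range_fiberι η]
      rw [h4, dim_image_of_isEmbedding (f.fiberι η).isEmbedding]
      exact topologicalKrullDim_closure_singleton (fiberQ f η) ζ'
    rw [hL] at h3 ⊢
    rw [hdim, hn] at *
    have hd : (n : WithBot ℕ∞) ≤ (tdeg (fiberQ f η) ζ' : WithBot ℕ∞) := by exact_mod_cast hnd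
    have hchain := h1.trans h2
    exact ⟨le_antisymm (hd.trans hchain) h3, le_antisymm (h3.trans hd) hchain⟩

end Groth.Agent.H38.UnivOpenAtDim
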