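import Mathlib
import Groth.Agent.H38.UnivOpenAtDim
import Groth.Agent.S1333

/-!
# Lower semicontinuity of the fibre dimension for flat morphisms of finite presentation
-/

set_option autoImplicit false
universe u
open CategoryTheory AlgebraicGeometry Limits

namespace Groth.Agent.H38.FibreDimLSC

open Groth.Agent.H54 Groth.Agent.H38.SectionComp

/-- A locally constructible subset of a scheme which is stable under generization is open. -/
theorem isOpen_of_isLocallyConstructible_of_stableUnderGeneralization {S : Scheme.{u}} {E : Set S}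
    (hE : Topology.IsLocallyConstructible E) (hs : StableUnderGeneralization E) : IsOpen E := by
  rw [isOpen_iff_forall_mem_open]
  intro x hx
  obtain ⟨V, hV, hxV, -⟩ := exists_isAffineOpen_mem_and_subset (X := S) (x := x) (U := ⊤) trivial
  have hj : Topology.IsOpenEmbedding hV.fromSpec.base := hV.fromSpec.isOpenEmbedding
  have hE' : Topology.IsConstructible (hV.fromSpec.base ⁻¹' E) :=
    (hE.preimage_of_isOpenEmbedding hj).isConstructible
  have hs' : StableUnderGeneralization (hV.fromSpec.base ⁻¹' E) :=
    fun y y' hyy' hy => hs (hyy'.map hV.fromSpec.continuous) hy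
  have hopen : IsOpen (hV.fromSpec.base ⁻¹' E) :=
    PrimeSpectrum.isOpen_of_stableUnderGeneralization_of_isConstructible hs' hE'
  refine ⟨hV.fromSpec.base '' (hV.fromSpec.base ⁻¹' E), Set.image_preimage_subset _ _,
    hj.isOpenMap _ hopen, ?_⟩
  have : x ∈ Set.range hV.fromSpec.base := by rw [hV.range_fromSpec]; exact hxV
  obtain ⟨y, rfl⟩ := this
  exact ⟨y, hx, rfl⟩

/-- A point of a fibre of large local dimension can be replaced by a maximal point of the fibre. -/
theorem exists_isMax_lt_fibreDimAt {X S : Scheme.{u}} (f : X ⟶ S) [LocallyOfFiniteType f] (s : S)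
    (c : WithBot ℕ∞) (h : c < topologicalKrullDim (f.fiber s)) :
    ∃ x : X, f.base x = s ∧ (∀ x' : X, f.base x' = f.base x → x ∈ closure {x'} → x' = x) ∧
      c < FlatMor.fibreDimAt f x := by
  rw [Groth.Agent.H9.FibDim.dim_fiber_eq_iSup f s] at h
  obtain ⟨a, ha⟩ := lt_iSup_iff.mp h
  obtain ⟨ζ, hζa, hζloc⟩ := Groth.Agent.H38.ProdLocalDim.exists_specializes_tdeg_eq (fiberQ f s) a
  obtain ⟨ζ', hζ'ζ, hζ'comp⟩ := exists_generic_specializes ζ
  refine ⟨(f.fiberι s).base ζ', fiberι_mem f s ζ', ?_, ?_⟩
  · intro x' hx' hcl
    obtain ⟨b, rfl⟩ := exists_fiber_pt f s x' (hx'.trans (fiberι_mem f s ζ'))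
    have hb : b ⤳ ζ' := by
      rw [← (f.fiberι s).isEmbedding.isInducing.specializes_iff, specializes_iff_mem_closure]
      exact hcl
    rw [eq_of_specializes_generic hζ'comp hb]
  · rw [← Groth.Agent.H9.FibDim.localDim_fiber] at ha ⊢
    rw [hζloc] at ha
    refine lt_of_lt_of_le ha ?_
    have h1 := tdeg_le_of_specializes (fiberQ f s) hζ'ζ
    have h2 := Groth.Agent.H38.ProdLocalDim.tdeg_le_localDim (fiberQ f s)
      (specializes_rfl : ζ' ⤳ ζ')
    refine le_trans ?_ h2
    exact_mod_cast h1

/-- For a universally open morphism locally of finite type, the set of points of the base with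
fibre dimension `> c` is stable under generization. -/
theorem stableUnderGeneralization_setOf_lt_dim_fiber {X S : Scheme.{u}} (f : X ⟶ S)
    [LocallyOfFiniteType f] [UniversallyOpen f] (c : WithBot ℕ∞) :
    StableUnderGeneralization {s : S | c < topologicalKrullDim (f.fiber s)} := by
  intro s s' hs' hs
  obtain ⟨x, hxs, hmax, hcx⟩ := exists_isMax_lt_fibreDimAt f s c hs
  have hopen : EGA43.IsUnivOpenAt f x := by
    intro Y' g x' _ U hU
    exact (pullback.snd f g).isOpenMap.image_mem_nhds hU
  have h1 := Groth.Agent.H38.UnivOpenAtDim.fibreDimAt_le_of_isUnivOpenAt f x hmax hopen ⊤ trivial s'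
    (hxs ▸ hs')
  have h2 : topologicalKrullDim ↥(((⊤ : X.Opens) : Set X) ∩ f.base ⁻¹' {s'}) =
      topologicalKrullDim (f.fiber s') := by
    rw [(f.fiberHomeo s').isHomeomorph.topologicalKrullDim_eq]
    have : ((⊤ : X.Opens) : Set X) ∩ f.base ⁻¹' {s'} = f.base ⁻¹' {s'} := by
      rw [TopologicalSpace.Opens.coe_top, Set.univ_inter]
    rw [this]
  show c < topologicalKrullDim (f.fiber s')
  rw [← h2]
  exact lt_of_lt_of_le hcx h1

theorem le_natCast_iff (d : WithBot ℕ∞) (m : ℕ) :
    d ≤ (m : WithBot ℕ∞) ↔ d = ⊥ ∨ ∃ n ∈ Finset.range (m + 1), d = ((n : ℕ) : WithBot ℕ∞) := by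
  induction d using WithBot.recBotCoe with
  | bot => simp
  | coe d =>
    induction d using ENat.recTopCoe with
    | top =>
      constructor
      · intro h
        exact absurd h (by
          rw [not_le]
          exact_mod_cast WithBot.coe_lt_coe.mpr (ENat.natCast_lt_top m))
      · rintro (h | ⟨n, -, h⟩)
        · exact absurd h (by simp)
        · exfalso
          have : (⊤ : ℕ∞) = (n : ℕ∞) := by exact_mod_cast h
          exact ENat.top_ne_natCast n this
    | coe k =>
      constructor
      · intro h
        have hk : k ≤ m := by exact_mod_cast h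
        exact Or.inr ⟨k, Finset.mem_range.mpr (by omega), rfl⟩
      · rintro (h | ⟨n, hn, h⟩)
        · exact absurd h (by simp)
        · have hkn : k = n := by exact_mod_cast h
          have := Finset.mem_range.mp hn
          have hk : k ≤ m := by omega
          exact_mod_cast hk

/-- Lower semicontinuity of the fibre dimension of a flat morphism of finite presentation. -/
theorem isOpen_setOf_lt_dim_fiber {X S : Scheme.{u}} (f : X ⟶ S) [Flat f]
    [LocallyOfFinitePresentation f] [QuasiCompact f] [QuasiSeparated f] (c : WithBot ℕ∞) :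
    IsOpen {s : S | c < topologicalKrullDim (f.fiber s)} := by
  apply isOpen_of_isLocallyConstructible_of_stableUnderGeneralization
  · have hcompl : Topology.IsLocallyConstructible {s : S | topologicalKrullDim (f.fiber s) ≤ c} := by
      induction c using WithBot.recBotCoe with
      | bot =>
        have : {s : S | topologicalKrullDim (f.fiber s) ≤ ⊥} =
            {s : S | topologicalKrullDim (f.fiber s) = ⊥} := by
          ext s
          show topologicalKrullDim (f.fiber s) ≤ ⊥ ↔ topologicalKrullDim (f.fiber s) = ⊥
          exact le_bot_iff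
        rw [this]
        exact Groth.Agent.S1333.result f ⊥
      | coe c =>
        induction c using ENat.recTopCoe with
        | top =>
          have : {s : S | topologicalKrullDim (f.fiber s) ≤ ((⊤ : ℕ∞) : WithBot ℕ∞)} = Set.univ := by
            ext s
            simp only [Set.mem_ofPred_eq, Set.mem_univ, iff_true]
            exact le_top
          rw [this]
          exact Topology.IsConstructible.univ.isLocallyConstructible
        | coe m =>
          have : {s : S | topologicalKrullDim (f.fiber s) ≤ ((m : ℕ∞) : WithBot ℕ∞)} =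
              {s : S | topologicalKrullDim (f.fiber s) = ⊥} ∪
                ⋃ n ∈ Finset.range (m + 1),
                  {s : S | topologicalKrullDim (f.fiber s) = ((n : ℕ) : WithBot ℕ∞)} := by
            ext s
            simp only [Set.mem_ofPred_eq, Set.mem_union, Set.mem_iUnion, exists_prop]
            exact le_natCast_iff _ m
          rw [this]
          refine (Groth.Agent.S1333.result f ⊥).union ?_
          exact Topology.IsLocallyConstructible.biUnion (Finset.finite_toSet _)
            (fun n _ => Groth.Agent.S1333.result f _)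
    have : {s : S | c < topologicalKrullDim (f.fiber s)} =
        {s : S | topologicalKrullDim (f.fiber s) ≤ c}ᶜ := by
      ext s
      simp only [Set.mem_ofPred_eq, Set.mem_compl_iff, not_le]
    rw [this]
    intro x
    obtain ⟨U, hxU, hU, hc⟩ := hcompl x
    refine ⟨U, hxU, hU, ?_⟩
    have h := hc.compl
    rwa [← Set.preimage_compl] at h
  · exact stableUnderGeneralization_setOf_lt_dim_fiber f c

end Groth.Agent.H38.FibreDimLSC
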