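import Mathlib

/-!
# Dense retrocompact opens contain a generization of every point
-/

set_option autoImplicit false
universe u
open CategoryTheory AlgebraicGeometry

namespace Groth.Agent.H38.RetroGen

/-- If `a` lies in every prime contained in `p`, then `u * a ^ n = 0` for some `u ∉ p`. -/
theorem exists_mul_pow_eq_zero {R : Type*} [CommRing R] (p : Ideal R) [p.IsPrime] (a : R)
    (h : ∀ q : Ideal R, q.IsPrime → q ≤ p → a ∈ q) : ∃ u : R, u ∉ p ∧ ∃ n : ℕ, u * a ^ n = 0 := by
  by_contra hcon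
  push Not at hcon
  have hdisj : Disjoint ((⊥ : Ideal R) : Set R) (p.primeCompl ⊔ Submonoid.powers a : Submonoid R) := by
    rw [Set.disjoint_left]
    intro x hx hxM
    have hx0 : x = 0 := hx
    obtain ⟨y, hy, z, ⟨n, rfl⟩, hyz⟩ := Submonoid.mem_sup.mp hxM
    exact hcon y hy n (hyz.trans hx0)
  obtain ⟨q, hq, -, hqM⟩ := Ideal.exists_le_prime_disjoint (⊥ : Ideal R) _ hdisj
  have hqp : q ≤ p := by
    intro x hx
    by_contra hxp
    exact Set.disjoint_left.mp hqM hx (Submonoid.mem_sup_left hxp)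
  have haq := h q hq hqp
  exact Set.disjoint_left.mp hqM haq (Submonoid.mem_sup_right (Submonoid.mem_powers a))

/-- A dense quasi-compact open subset of a prime spectrum contains a generization of every
point. -/
theorem exists_specializes_mem_of_dense {R : Type*} [CommRing R] (U : Set (PrimeSpectrum R))
    (hUo : IsOpen U) (hUc : IsCompact U) (hUd : Dense U) (p : PrimeSpectrum R) :
    ∃ p' ∈ U, p' ⤳ p := by
  classical
  obtain ⟨t, ht⟩ := PrimeSpectrum.isCompact_isOpen_iff.mp ⟨hUc, hUo⟩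
  by_contra hcon
  push Not at hcon
  have hall : ∀ a ∈ t, ∀ q : Ideal R, q.IsPrime → q ≤ p.asIdeal → a ∈ q := by
    intro a ha q hq hqp
    by_contra haq
    have hqU : (⟨q, hq⟩ : PrimeSpectrum R) ∈ U := by
      rw [← ht]
      intro hz
      exact haq (hz ha)
    exact hcon ⟨q, hq⟩ hqU ((PrimeSpectrum.le_iff_specializes _ _).mp hqp)
  have hex : ∀ a ∈ t, ∃ u : R, u ∉ p.asIdeal ∧ ∃ n : ℕ, u * a ^ n = 0 :=
    fun a ha => exists_mul_pow_eq_zero p.asIdeal a (hall a ha)
  choose! u hu n hn using hex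
  set v := ∏ a ∈ t, u a with hv
  have hvp : v ∉ p.asIdeal := by
    rw [hv]
    intro hmem
    obtain ⟨a, ha, hua⟩ := (Ideal.IsPrime.prod_mem_iff (hp := p.isPrime)).mp hmem
    exact hu a ha hua
  have hpD : p ∈ (PrimeSpectrum.basicOpen v : Set (PrimeSpectrum R)) := hvp
  obtain ⟨q, hqD, hqU⟩ := hUd.inter_open_nonempty _ (PrimeSpectrum.basicOpen v).2 ⟨p, hpD⟩
  rw [← ht] at hqU
  apply hqU
  intro a ha
  have h1 : u a * a ^ n a ∈ q.asIdeal := by rw [hn a ha]; exact q.asIdeal.zero_mem
  rcases q.isPrime.mem_or_mem h1 with h2 | h2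
  · exfalso
    apply hqD
    show v ∈ q.asIdeal
    rw [hv]
    exact Ideal.prod_mem q.asIdeal ha h2
  · exact q.isPrime.mem_of_pow_mem _ h2

/-- A dense retrocompact open subset of a scheme contains a generization of every point. -/
theorem exists_specializes_mem_of_dense_of_isRetrocompact {S : Scheme.{u}} (U : S.Opens)
    (hUd : Dense (U : Set S)) (hUr : IsRetrocompact (U : Set S)) (s : S) :
    ∃ s' ∈ U, s' ⤳ s := by
  obtain ⟨V, hV, hsV, -⟩ := exists_isAffineOpen_mem_and_subset (X := S) (x := s) (U := ⊤) trivial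
  have hj : Topology.IsOpenEmbedding hV.fromSpec.base := hV.fromSpec.isOpenEmbedding
  have hU'o : IsOpen (hV.fromSpec.base ⁻¹' (U : Set S)) := U.2.preimage hV.fromSpec.continuous
  have hU'd : Dense (hV.fromSpec.base ⁻¹' (U : Set S)) := hUd.preimage hj.isOpenMap
  have hU'c : IsCompact (hV.fromSpec.base ⁻¹' (U : Set S)) := by
    have h1 : IsCompact ((U : Set S) ∩ V) := hUr hV.isCompact V.2
    have h2 : hV.fromSpec.base ⁻¹' (U : Set S) = hV.fromSpec.base ⁻¹' ((U : Set S) ∩ V) := by
      ext y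
      simp only [Set.mem_preimage, Set.mem_inter_iff, iff_self_and]
      intro _
      have : hV.fromSpec.base y ∈ Set.range hV.fromSpec.base := Set.mem_range_self y
      rw [hV.range_fromSpec] at this
      exact this
    rw [h2]
    refine (hj.isInducing.isCompact_preimage_iff ?_).mpr h1
    rw [hV.range_fromSpec]
    exact Set.inter_subset_right
  obtain ⟨p, hp⟩ : s ∈ Set.range hV.fromSpec.base := by rw [hV.range_fromSpec]; exact hsV
  obtain ⟨p', hp'U, hp'p⟩ := exists_specializes_mem_of_dense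
    (R := Γ(S, V)) (hV.fromSpec.base ⁻¹' (U : Set S)) hU'o hU'c hU'd p
  exact ⟨hV.fromSpec.base p', hp'U, hp ▸ hp'p.map hV.fromSpec.continuous⟩

end Groth.Agent.H38.RetroGen
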