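import Mathlib
import Groth.Agent.H38.FibreDimLSC
import Groth.Agent.H38.RetroGen

/-!
# A bound for the fibre dimension over a dense open extends to all fibres (flat case)
-/

set_option autoImplicit false
universe u
open CategoryTheory AlgebraicGeometry Limits

namespace Groth.Agent.H38.FibreDimDense

open Groth.Agent.H54 Groth.Agent.H38.SectionComp

/-- A valuation ring through a specialization `y' ⤳ y`. -/
theorem exists_valuationRing_through {Y : Scheme.{u}} {y y' : Y} (hy' : y' ⤳ y) :
    ∃ (A : Type u) (_ : CommRing A) (_ : IsDomain A) (_ : ValuationRing A)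
      (γ : Spec (CommRingCat.of A) ⟶ Y) (c : ↥(Spec (CommRingCat.of A))),
      c = IsLocalRing.closedPoint A ∧ γ.base c = y ∧
      γ.base (genericPoint (Spec (CommRingCat.of A))) = y' := by
  obtain ⟨A, γ, hw, hγc⟩ := Groth.Agent.H32.ValWit.exists_valuationSubring_of_specializes
    (𝟙 Y) y' y (by simpa using hy')
  refine ⟨A, inferInstance, inferInstance, inferInstance, γ, IsLocalRing.closedPoint A, rfl, hγc, ?_⟩
  have h1 := congrArg (fun q => q.base (IsLocalRing.closedPoint (Y.residueField y'))) hw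
  simp only [Category.comp_id] at h1
  have h2 : (Y.fromSpecResidueField y').base (IsLocalRing.closedPoint (Y.residueField y')) = y' :=
    Scheme.fromSpecResidueField_apply _ _
  have h3 : (Spec.map (CommRingCat.ofHom (algebraMap A (Y.residueField y')))).base
      (IsLocalRing.closedPoint (Y.residueField y')) = genericPoint (Spec (CommRingCat.of A)) := by
    rw [genericPoint_eq_bot_of_affine]
    apply PrimeSpectrum.ext
    show Ideal.comap (algebraMap A (Y.residueField y'))
      (IsLocalRing.closedPoint (Y.residueField y')).asIdeal = ⊥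
    have h0 : (IsLocalRing.closedPoint (Y.residueField y')).asIdeal = ⊥ :=
      IsLocalRing.maximalIdeal_eq_bot
    rw [h0, ← RingHom.ker_eq_comap_bot, RingHom.ker_eq_bot_iff_eq_zero]
    intro a ha
    exact Subtype.ext ha
  rw [← h3]
  have h4 : (Y.fromSpecResidueField y').base (IsLocalRing.closedPoint (Y.residueField y')) =
    γ.base ((Spec.map (CommRingCat.ofHom (algebraMap A (Y.residueField y')))).base
      (IsLocalRing.closedPoint (Y.residueField y'))) := h1
  rw [← h4, h2]

/-- Over a valuation ring: if a maximal point `z` of the closed fibre has a generization in the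
generic fibre, then it has one at which the fibre dimension is at least that at `z`. -/
theorem fibreDimAt_le_of_generization {A : Type u} [CommRing A] [IsDomain A] [ValuationRing A]
    {X : Scheme.{u}} (f : X ⟶ Spec (CommRingCat.of A)) [LocallyOfFiniteType f]
    (c : ↥(Spec (CommRingCat.of A))) (hc : c = IsLocalRing.closedPoint A) (z : X)
    (hz : f.base z = c) (hmax : ∀ z' : X, f.base z' = f.base z → z' ⤳ z → z' = z)
    (ξ : X) (hξz : ξ ⤳ z) (hξη : f.base ξ = genericPoint (Spec (CommRingCat.of A))) :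
    FlatMor.fibreDimAt f z ≤ FlatMor.fibreDimAt f ξ := by
  obtain ⟨z₀, rfl⟩ := exists_fiber_pt f c z hz
  obtain ⟨ξ₀, rfl⟩ := exists_fiber_pt f _ ξ hξη
  have hmax₀ : ∀ ζ : f.fiber c, ζ ⤳ z₀ → ζ = z₀ := by
    intro ζ h
    apply (f.fiberι c).isEmbedding.injective
    exact hmax _ ((fiberι_mem f c ζ).trans (fiberι_mem f c z₀).symm)
      (h.map (f.fiberι c).continuous)
  have e1 := Groth.Agent.H38.ValSpec.tdeg_eq_of_specializes_val_of_isMax f c hc ξ₀ z₀ hξz hmax₀
  obtain ⟨ζ, hζ, hloc⟩ := Groth.Agent.H38.ProdLocalDim.exists_specializes_tdeg_eq (fiberQ f c) z₀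
  have hζeq := hmax₀ ζ hζ
  subst hζeq
  rw [← Groth.Agent.H9.FibDim.localDim_fiber, ← Groth.Agent.H9.FibDim.localDim_fiber, hloc, ← e1]
  exact Groth.Agent.H38.ProdLocalDim.tdeg_le_localDim _ specializes_rfl

/-- If generizations lift along every valuation-ring base change of `f` at the points over a
maximal point `x` of its fibre, then every generization `y'` of `f x` has a point `w ⤳ x` above it
with `fibreDimAt f x ≤ fibreDimAt f w`. -/
theorem exists_generization_of_lifting {X Y : Scheme.{u}} (f : X ⟶ Y) [LocallyOfFiniteType f]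
    (x : X) (hmax : ∀ x' : X, f.base x' = f.base x → x ∈ closure {x'} → x' = x)
    (hlift : ∀ (A : Type u) [CommRing A] [IsDomain A] [ValuationRing A]
      (γ : Spec (CommRingCat.of A) ⟶ Y) (z : ↥(pullback f γ)),
      (pullback.fst f γ).base z = x → ∀ a' : ↥(Spec (CommRingCat.of A)),
        a' ⤳ (pullback.snd f γ).base z →
        ∃ ξ : ↥(pullback f γ), ξ ⤳ z ∧ (pullback.snd f γ).base ξ = a')
    (y' : Y) (hy' : y' ⤳ f.base x) :
    ∃ w : X, w ⤳ x ∧ f.base w = y' ∧ FlatMor.fibreDimAt f x ≤ FlatMor.fibreDimAt f w := by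
  obtain ⟨A, _, _, _, γ, c, hc, hγc', hγη⟩ := exists_valuationRing_through hy'
  haveI : IrreducibleSpace (Spec (CommRingCat.of A)) :=
    inferInstanceAs (IrreducibleSpace (PrimeSpectrum A))
  obtain ⟨xA, hxA1, hxA2⟩ := Scheme.Pullback.exists_preimage_pullback (f := f) (g := γ) x
    c hγc'.symm
  have hxA1' : (pullback.fst f γ).base xA = x := hxA1
  have hxA2' : (pullback.snd f γ).base xA = c := hxA2
  obtain ⟨a₀, ha₀⟩ := exists_fiber_pt (pullback.snd f γ) _ xA hxA2'
  obtain ⟨ζ, hζa, hζcomp⟩ := exists_generic_specializes a₀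
  set z := ((pullback.snd f γ).fiberι c).base ζ with hzdef
  have hzc : (pullback.snd f γ).base z = c := fiberι_mem _ _ ζ
  have hzxA : z ⤳ xA := by
    rw [← ha₀]; exact hζa.map ((pullback.snd f γ).fiberι _).continuous
  have hcond : ∀ e : ↥(pullback f γ), f.base ((pullback.fst f γ).base e) =
      γ.base ((pullback.snd f γ).base e) := fun e =>
    congrArg (fun q => q.base e) (pullback.condition (f := f) (g := γ))
  have hpz : (pullback.fst f γ).base z = x := by
    apply hmax
    · rw [hcond, hzc, hγc']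
    · rw [← specializes_iff_mem_closure, ← hxA1']
      exact hzxA.map (pullback.fst f γ).continuous
  have hzmax : ∀ z' : ↥(pullback f γ), (pullback.snd f γ).base z' = (pullback.snd f γ).base z →
      z' ⤳ z → z' = z := by
    intro z' hz'1 hz'2
    obtain ⟨b, rfl⟩ := exists_fiber_pt (pullback.snd f γ) _ z' (hz'1.trans hzc)
    have hb : b ⤳ ζ := by
      rw [← ((pullback.snd f γ).fiberι _).isEmbedding.isInducing.specializes_iff]; exact hz'2
    rw [eq_of_specializes_generic hζcomp hb]
  obtain ⟨ξ, hξz, hξη⟩ := hlift A γ z hpz (genericPoint (Spec (CommRingCat.of A)))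
    (genericPoint_specializes _)
  have hle := fibreDimAt_le_of_generization (pullback.snd f γ) c hc z hzc hzmax ξ hξz hξη
  rw [Groth.Agent.H60.FibreDimBC.fibreDimAt_baseChange f γ z,
    Groth.Agent.H60.FibreDimBC.fibreDimAt_baseChange f γ ξ, hpz] at hle
  refine ⟨(pullback.fst f γ).base ξ, ?_, ?_, hle⟩
  · rw [← hpz]; exact hξz.map (pullback.fst f γ).continuous
  · rw [hcond, hξη, hγη]

/-- Flat case: generizations of the base lift to generizations with at least the same fibre
dimension, at maximal points of fibres. -/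
theorem exists_generization_of_flat {X Y : Scheme.{u}} (f : X ⟶ Y) [LocallyOfFiniteType f]
    [Flat f] (x : X) (hmax : ∀ x' : X, f.base x' = f.base x → x ∈ closure {x'} → x' = x)
    (y' : Y) (hy' : y' ⤳ f.base x) :
    ∃ w : X, w ⤳ x ∧ f.base w = y' ∧ FlatMor.fibreDimAt f x ≤ FlatMor.fibreDimAt f w := by
  apply exists_generization_of_lifting f x hmax _ y' hy'
  intro A _ _ _ γ z _ a' ha'
  exact Flat.generalizingMap (pullback.snd f γ) ha'

/-- Retrocompact case of the extension of fibre dimension bounds. -/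
theorem fibreDimAt_le_of_isRetrocompact {X S : Scheme.{u}} (f : X ⟶ S) [Flat f]
    [LocallyOfFiniteType f] (U : S.Opens) (hU : Dense (U : Set S)) (e : ℕ)
    (hle : ∀ x : X, f.base x ∈ U → FlatMor.fibreDimAt f x ≤ e)
    (hr : IsRetrocompact (U : Set S)) (x : X) : FlatMor.fibreDimAt f x ≤ e := by
  by_contra hcon
  rw [not_le] at hcon
  have h1 : ((e : ℕ) : WithBot ℕ∞) < topologicalKrullDim (f.fiber (f.base x)) :=
    lt_of_lt_of_le hcon (Groth.Agent.H9.FibDim.localDim_le_dim _ _)
  obtain ⟨x₁, hx₁s, hmax, hcx₁⟩ :=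
    Groth.Agent.H38.FibreDimLSC.exists_isMax_lt_fibreDimAt f (f.base x) e h1
  obtain ⟨s', hs'U, hs's⟩ :=
    Groth.Agent.H38.RetroGen.exists_specializes_mem_of_dense_of_isRetrocompact U hU hr (f.base x₁)
  obtain ⟨w, -, hws', hw⟩ := exists_generization_of_flat f x₁ hmax s' hs's
  have h2 := hle w (hws' ▸ hs'U)
  exact absurd (lt_of_lt_of_le hcx₁ (hw.trans h2)) (lt_irrefl _)

/-- Locally finitely presented case of the extension of fibre dimension bounds. -/
theorem fibreDimAt_le_of_locallyOfFinitePresentation {X S : Scheme.{u}} (f : X ⟶ S) [Flat f]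
    [LocallyOfFinitePresentation f] (U : S.Opens) (hU : Dense (U : Set S)) (e : ℕ)
    (hle : ∀ x : X, f.base x ∈ U → FlatMor.fibreDimAt f x ≤ e) (x : X) :
    FlatMor.fibreDimAt f x ≤ e := by
  obtain ⟨V, hV, hsV, -⟩ :=
    exists_isAffineOpen_mem_and_subset (X := S) (x := f.base x) (U := ⊤) trivial
  obtain ⟨W, hW, hxW, hWV₀⟩ :=
    exists_isAffineOpen_mem_and_subset (X := X) (x := x) (U := f ⁻¹ᵁ V) hsV
  have hWV : W ≤ f ⁻¹ᵁ V := hWV₀
  haveI : IsAffine W.toScheme := hW
  haveI : IsAffine V.toScheme := hV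
  have hopen := Groth.Agent.H38.FibreDimLSC.isOpen_setOf_lt_dim_fiber (f.resLE V W hWV)
    ((e : ℕ) : WithBot ℕ∞)
  have hcomm : ∀ a' : W.toScheme,
      f.base (W.ι.base a') = V.ι.base ((f.resLE V W hWV).base a') := by
    intro a'
    have := congrArg (fun q => q.base a') (Scheme.Hom.resLE_comp_ι f hWV)
    exact this.symm
  have hsq : ∀ w : W.toScheme, FlatMor.fibreDimAt (f.resLE V W hWV) w =
      FlatMor.fibreDimAt f (W.ι.base w) := by
    intro w
    rw [Groth.Agent.H9.FibDim.fibreDimAt_eq_tfd, Groth.Agent.H9.FibDim.fibreDimAt_eq_tfd]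
    exact Groth.Agent.H9.FibDim.tfd_eq_of_square f.base (f.resLE V W hWV).base W.ι.base V.ι.base
      W.ι.isOpenEmbedding V.ι.isOpenEmbedding.injective hcomm w
  have hemp : ∀ v : V.toScheme,
      ¬ ((e : ℕ) : WithBot ℕ∞) < topologicalKrullDim ((f.resLE V W hWV).fiber v) := by
    intro v₀ hv₀
    have hne : (V.ι.base '' {v : V.toScheme | ((e : ℕ) : WithBot ℕ∞) <
        topologicalKrullDim ((f.resLE V W hWV).fiber v)}).Nonempty := ⟨_, v₀, hv₀, rfl⟩
    obtain ⟨_, ⟨v, hvE, rfl⟩, hvU⟩ := hU.inter_open_nonempty _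
      (V.ι.isOpenEmbedding.isOpenMap _ hopen) hne
    have h1 := (Groth.Agent.H9.FibDim.dim_fiber_le_iff (f.resLE V W hWV) v e).not.mp
      (not_le.mpr hvE)
    push Not at h1
    obtain ⟨w, hwv, hwe⟩ := h1
    have h2 := hle (W.ι.base w) (by rw [hcomm w, hwv]; exact hvU)
    rw [← hsq] at h2
    exact absurd (lt_of_lt_of_le hwe h2) (lt_irrefl _)
  obtain ⟨w, rfl⟩ : x ∈ Set.range W.ι.base := by
    rw [Scheme.Opens.range_ι]; exact hxW
  rw [← hsq]
  have h3 := not_lt.mp (hemp ((f.resLE V W hWV).base w))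
  exact (Groth.Agent.H9.FibDim.dim_fiber_le_iff (f.resLE V W hWV) _ e).mp h3 w rfl

end Groth.Agent.H38.FibreDimDense
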