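import Mathlib
import Groth.Agent.S9176
import Groth.Agent.H7.CFun
import Groth.Agent.H9.FibDimTop

/-!
# Local constructibility of the sublevel sets of the local fibre dimension (finite presentation)
-/

set_option autoImplicit false
universe u
open CategoryTheory AlgebraicGeometry Limits Topology TopologicalSpace

namespace Groth.Agent.H38.FibreDimLC

open Groth.Agent.H9.FibDim

/-- For a morphism locally of finite presentation, the set of points where the local dimension of
the fibre is at most `n` is (open and) locally constructible. -/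
theorem isLocallyConstructible_setOf_fibreDimAt_le {X Y : Scheme.{u}} (f : X ⟶ Y)
    [LocallyOfFinitePresentation f] (n : ℕ) :
    IsLocallyConstructible {x : X | FlatMor.fibreDimAt f x ≤ (n : WithBot ℕ∞)} := by
  have key : ∀ x : X, ∃ W : X.Opens, x ∈ W ∧
      IsLocallyConstructible (Subtype.val ⁻¹' {x : X | FlatMor.fibreDimAt f x ≤ (n : WithBot ℕ∞)} :
        Set ↥(W : Set X)) := by
    intro x
    obtain ⟨U, hU, hxU, -⟩ := Opens.isBasis_iff_nbhd.mp Y.isBasis_affineOpens
      (Opens.mem_top (f x))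
    obtain ⟨W, hW, hxW, hWU⟩ := Opens.isBasis_iff_nbhd.mp X.isBasis_affineOpens
      (show x ∈ f ⁻¹ᵁ U from hxU)
    refine ⟨W, hxW, ?_⟩
    have hφ : (f.appLE U W hWU).hom.FinitePresentation :=
      HasRingHomProperty.appLE @LocallyOfFinitePresentation f inferInstance ⟨U, hU⟩ ⟨W, hW⟩ hWU
    letI : Algebra Γ(Y, U) Γ(X, W) := (f.appLE U W hWU).hom.toAlgebra
    haveI : Algebra.FinitePresentation Γ(Y, U) Γ(X, W) := hφ
    obtain ⟨ho, hc⟩ := Groth.Agent.S9176.main Γ(Y, U) Γ(X, W) n
    have h1 : IsLocallyConstructible {q : PrimeSpectrum Γ(X, W) |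
        tfd (PrimeSpectrum.comap (algebraMap Γ(Y, U) Γ(X, W))) q ≤ (n : WithBot ℕ∞)} :=
      (hc.isRetrocompact ho).isLocallyConstructible ho
    have h2 := Groth.Agent.H7.isLocallyConstructible_preimage hW.isoSpec.hom
      (s := {q : PrimeSpectrum Γ(X, W) |
        tfd (PrimeSpectrum.comap (algebraMap Γ(Y, U) Γ(X, W))) q ≤ (n : WithBot ℕ∞)}) h1
    have h3 : (Subtype.val ⁻¹' {x : X | FlatMor.fibreDimAt f x ≤ (n : WithBot ℕ∞)} :
        Set ↥(W : Set X)) = (hW.isoSpec.hom.base ⁻¹' {q : PrimeSpectrum Γ(X, W) |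
          tfd (PrimeSpectrum.comap (algebraMap Γ(Y, U) Γ(X, W))) q ≤ (n : WithBot ℕ∞)} :
            Set ↥(W : Scheme.{u})) := by
      ext w
      show FlatMor.fibreDimAt f ((Scheme.Opens.ι W).base w) ≤ _ ↔
        tfd (PrimeSpectrum.comap (algebraMap Γ(Y, U) Γ(X, W))) (hW.isoSpec.hom.base w) ≤ _
      have hsq : ∀ a' : ↥(Spec Γ(X, W)), f.base (hW.fromSpec.base a') =
          hU.fromSpec.base ((Spec.map (f.appLE U W hWU)).base a') := by
        intro a'
        have := congrArg (fun q => q.base a') (IsAffineOpen.SpecMap_appLE_fromSpec f hU hW hWU)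
        simpa only [Scheme.Hom.comp_base, TopCat.comp_app] using this.symm
      haveI := hW.isOpenImmersion_fromSpec
      haveI := hU.isOpenImmersion_fromSpec
      have h4 := tfd_eq_of_square f.base (Spec.map (f.appLE U W hWU)).base hW.fromSpec.base
        hU.fromSpec.base hW.fromSpec.isOpenEmbedding hU.fromSpec.isOpenEmbedding.injective hsq
        (hW.isoSpec.hom.base w)
      have h5 : hW.fromSpec.base (hW.isoSpec.hom.base w) = (Scheme.Opens.ι W).base w := by
        have := congrArg (fun q => q.base w) hW.isoSpec_hom_fromSpec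
        exact this
      rw [fibreDimAt_eq_tfd, ← h5, ← h4]
      rfl
    rw [h3]
    exact h2
  choose W hxW hW using key
  exact IsLocallyConstructible.of_isOpenCover (U := W) (IsOpenCover.mk (by
      rw [eq_top_iff]; intro x _; exact Opens.mem_iSup.mpr ⟨x, hxW x⟩)) hW

end Groth.Agent.H38.FibreDimLC
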