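import Mathlib

/-!
# Localizing a valuation ring between two primes
-/

set_option autoImplicit false
universe u
open CategoryTheory AlgebraicGeometry

namespace Groth.Agent.H38.ValLocal

theorem valuationRing_of_isLocalization {R : Type*} [CommRing R] [IsDomain R] [ValuationRing R]
    (M : Submonoid R) (S : Type*) [CommRing S] [IsDomain S] [Algebra R S] [IsLocalization M S] :
    ValuationRing S := by
  haveI : PreValuationRing S := ⟨fun a b => by
    obtain ⟨⟨x, s⟩, hx⟩ := IsLocalization.surj M a
    obtain ⟨⟨y, t⟩, hy⟩ := IsLocalization.surj M b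
    obtain ⟨us, hus⟩ := IsLocalization.map_units S s
    obtain ⟨ut, hut⟩ := IsLocalization.map_units S t
    simp only at hx hy
    obtain ⟨c, h | h⟩ := PreValuationRing.cond x y
    · refine ⟨algebraMap R S (s * c) * ↑ut⁻¹, Or.inl ?_⟩
      have h1 : a * algebraMap R S (s * c) = b * algebraMap R S t := by
        rw [map_mul, ← mul_assoc, hx, ← map_mul, h, hy]
      rw [← mul_assoc, h1, ← hut, mul_assoc, Units.mul_inv, mul_one]
    · refine ⟨algebraMap R S (t * c) * ↑us⁻¹, Or.inr ?_⟩
      have h1 : b * algebraMap R S (t * c) = a * algebraMap R S s := by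
        rw [map_mul, ← mul_assoc, hy, ← map_mul, h, hx]
      rw [← mul_assoc, h1, ← hus, mul_assoc, Units.mul_inv, mul_one]⟩
  exact .mk

/-- For primes `p ≤ q` of a valuation domain `R` there is a valuation domain `R'` with a ring map
`ψ : R → R'` inducing a preimmersion on spectra, whose kernel is `p` and such that the maximal
ideal of `R'` lies over `q`. -/
theorem exists_valuationRing_between {R : Type u} [CommRing R] [IsDomain R] [ValuationRing R]
    (p q : Ideal R) [p.IsPrime] [q.IsPrime] (hpq : p ≤ q) :
    ∃ (R' : Type u) (_ : CommRing R') (_ : IsDomain R') (_ : ValuationRing R') (ψ : R →+* R'),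
      Ideal.comap ψ (IsLocalRing.maximalIdeal R') = q ∧ RingHom.ker ψ = p ∧
      IsPreimmersion (Spec.map (CommRingCat.ofHom ψ)) := by
  haveI hq' : (q.map (Ideal.Quotient.mk p)).IsPrime :=
    Ideal.map_isPrime_of_surjective Ideal.Quotient.mk_surjective (by rwa [Ideal.mk_ker])
  haveI : ValuationRing (R ⧸ p) :=
    Function.Surjective.valuationRing (Ideal.Quotient.mk p) Ideal.Quotient.mk_surjective
  haveI : ValuationRing (Localization.AtPrime (q.map (Ideal.Quotient.mk p))) :=
    valuationRing_of_isLocalization (q.map (Ideal.Quotient.mk p)).primeCompl _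
  refine ⟨Localization.AtPrime (q.map (Ideal.Quotient.mk p)), inferInstance, inferInstance,
    inferInstance,
    (algebraMap (R ⧸ p) (Localization.AtPrime (q.map (Ideal.Quotient.mk p)))).comp
      (Ideal.Quotient.mk p), ?_, ?_, ?_⟩
  · rw [← Ideal.comap_comap]
    have h1 : Ideal.comap (algebraMap (R ⧸ p) (Localization.AtPrime (q.map (Ideal.Quotient.mk p))))
        (IsLocalRing.maximalIdeal _) = q.map (Ideal.Quotient.mk p) :=
      Localization.AtPrime.under_maximalIdeal
    rw [h1, Ideal.comap_map_of_surjective _ Ideal.Quotient.mk_surjective, ← RingHom.ker_eq_comap_bot,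
      Ideal.mk_ker]
    exact sup_eq_left.mpr hpq
  · rw [← RingHom.comap_ker]
    have h1 : RingHom.ker (algebraMap (R ⧸ p)
        (Localization.AtPrime (q.map (Ideal.Quotient.mk p)))) = ⊥ := by
      rw [RingHom.ker_eq_bot_iff_eq_zero]
      intro a ha
      exact (IsLocalization.to_map_eq_zero_iff _
        (q.map (Ideal.Quotient.mk p)).primeCompl_le_nonZeroDivisors).mp ha
    rw [h1, ← RingHom.ker_eq_comap_bot, Ideal.mk_ker]
  · have h1 : CommRingCat.ofHom ((algebraMap (R ⧸ p)
        (Localization.AtPrime (q.map (Ideal.Quotient.mk p)))).comp (Ideal.Quotient.mk p)) =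
        CommRingCat.ofHom (Ideal.Quotient.mk p) ≫ CommRingCat.ofHom (algebraMap (R ⧸ p)
        (Localization.AtPrime (q.map (Ideal.Quotient.mk p)))) := rfl
    rw [h1, Spec.map_comp]
    haveI : IsPreimmersion (Spec.map (CommRingCat.ofHom (algebraMap (R ⧸ p)
        (Localization.AtPrime (q.map (Ideal.Quotient.mk p)))))) :=
      IsPreimmersion.of_isLocalization (q.map (Ideal.Quotient.mk p)).primeCompl
    haveI : IsClosedImmersion (Spec.map (CommRingCat.ofHom (Ideal.Quotient.mk p))) :=
      IsClosedImmersion.spec_of_surjective _ Ideal.Quotient.mk_surjective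
    infer_instance

end Groth.Agent.H38.ValLocal
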