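import Mathlib
import Groth.Agent.H38.ValSpec2
import Groth.Agent.H38.ValLocal

/-!
# Generic points of fibres over a valuation ring are stable under generization
-/

set_option autoImplicit false
universe u
open CategoryTheory AlgebraicGeometry Limits

namespace Groth.Agent.H38.FibreGenericGen

open Groth.Agent.H54 Groth.Agent.H38.SectionComp

/-- Closed/generic point case. -/
theorem eq_of_specializes_of_isMax {A : Type u} [CommRing A] [IsDomain A] [ValuationRing A]
    {X : Scheme.{u}} (f : X ⟶ Spec (CommRingCat.of A)) [LocallyOfFiniteType f]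
    (c : ↥(Spec (CommRingCat.of A))) (hc : c = IsLocalRing.closedPoint A)
    (x₁ x'₁ y₁ : X) (hx : f.base x₁ = c)
    (hx' : f.base x'₁ = genericPoint (Spec (CommRingCat.of A)))
    (hy : f.base y₁ = genericPoint (Spec (CommRingCat.of A)))
    (h1 : y₁ ⤳ x'₁) (h2 : x'₁ ⤳ x₁)
    (hmax : ∀ z : X, z ⤳ x₁ → f.base z = f.base x₁ → z = x₁) : y₁ = x'₁ := by
  obtain ⟨x₀, rfl⟩ := exists_fiber_pt f c x₁ hx
  obtain ⟨ξ', rfl⟩ := exists_fiber_pt f _ x'₁ hx'
  obtain ⟨υ, rfl⟩ := exists_fiber_pt f _ y₁ hy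
  have hmax₀ : ∀ z₀ : f.fiber c, z₀ ⤳ x₀ → z₀ = x₀ := by
    intro z₀ h
    apply (f.fiberι c).isEmbedding.injective
    exact hmax _ (h.map (f.fiberι c).continuous)
      ((fiberι_mem f c z₀).trans (fiberι_mem f c x₀).symm)
  have e1 := Groth.Agent.H38.ValSpec.tdeg_eq_of_specializes_val_of_isMax f c hc υ x₀
    (h1.trans h2) hmax₀
  have e2 := Groth.Agent.H38.ValSpec.tdeg_eq_of_specializes_val_of_isMax f c hc ξ' x₀ h2 hmax₀
  have hsp : υ ⤳ ξ' := by
    rw [← (f.fiberι _).isEmbedding.isInducing.specializes_iff]; exact h1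
  by_contra hne
  have hne' : υ ≠ ξ' := fun h => hne (by rw [h])
  have := tdeg_lt_of_specializes (fiberQ f _) hsp hne'
  omega

/-- Over a valuation ring, every generization of a maximal point of a fibre is a maximal point of
its fibre. -/
theorem isMax_of_specializes {R : Type u} [CommRing R] [IsDomain R] [ValuationRing R]
    {X : Scheme.{u}} (φ : X ⟶ Spec (CommRingCat.of R)) [LocallyOfFiniteType φ]
    (x x' : X) (hgen : x' ⤳ x) (hx : ∀ y : X, y ⤳ x → φ.base y = φ.base x → y = x) :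
    ∀ y : X, y ⤳ x' → φ.base y = φ.base x' → y = x' := by
  intro y hyx' hyφ
  have hpq : (φ.base x' : PrimeSpectrum R).asIdeal ≤ (φ.base x : PrimeSpectrum R).asIdeal := by
    have h := hgen.map φ.continuous
    exact (PrimeSpectrum.le_iff_specializes (φ.base x' : PrimeSpectrum R) (φ.base x)).mpr h
  haveI : (φ.base x' : PrimeSpectrum R).asIdeal.IsPrime := (φ.base x' : PrimeSpectrum R).isPrime
  haveI : (φ.base x : PrimeSpectrum R).asIdeal.IsPrime := (φ.base x : PrimeSpectrum R).isPrime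
  obtain ⟨R', _, _, _, ψ, hq, hp, hpre⟩ := Groth.Agent.H38.ValLocal.exists_valuationRing_between
    (φ.base x' : PrimeSpectrum R).asIdeal (φ.base x : PrimeSpectrum R).asIdeal hpq
  haveI := hpre
  have hσc : (Spec.map (CommRingCat.ofHom ψ)).base (IsLocalRing.closedPoint R') = φ.base x := by
    apply PrimeSpectrum.ext
    exact hq
  have hgenR' : genericPoint (Spec (CommRingCat.of R')) = (⊥ : PrimeSpectrum R') :=
    genericPoint_eq_bot_of_affine (CommRingCat.of R')
  have hση : (Spec.map (CommRingCat.ofHom ψ)).base (genericPoint (Spec (CommRingCat.of R'))) =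
      φ.base x' := by
    rw [hgenR']
    apply PrimeSpectrum.ext
    show Ideal.comap ψ ⊥ = _
    rw [← RingHom.ker_eq_comap_bot]
    exact hp
  haveI : IsPreimmersion (pullback.fst φ (Spec.map (CommRingCat.ofHom ψ))) :=
    MorphismProperty.of_isPullback (P := @IsPreimmersion.{u})
      (IsPullback.of_hasPullback φ (Spec.map (CommRingCat.ofHom ψ))).flip hpre
  obtain ⟨x₁, hx₁π, hx₁φ⟩ := Scheme.Pullback.exists_preimage_pullback (f := φ)
    (g := Spec.map (CommRingCat.ofHom ψ)) x (IsLocalRing.closedPoint R') hσc.symm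
  obtain ⟨x'₁, hx'₁π, hx'₁φ⟩ := Scheme.Pullback.exists_preimage_pullback (f := φ)
    (g := Spec.map (CommRingCat.ofHom ψ)) x' (genericPoint (Spec (CommRingCat.of R'))) hση.symm
  obtain ⟨y₁, hy₁π, hy₁φ⟩ := Scheme.Pullback.exists_preimage_pullback (f := φ)
    (g := Spec.map (CommRingCat.ofHom ψ)) y (genericPoint (Spec (CommRingCat.of R')))
    (hyφ.trans hση.symm)
  have hx₁π' : (pullback.fst φ (Spec.map (CommRingCat.ofHom ψ))).base x₁ = x := hx₁π
  have hx'₁π' : (pullback.fst φ (Spec.map (CommRingCat.ofHom ψ))).base x'₁ = x' := hx'₁π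
  have hy₁π' : (pullback.fst φ (Spec.map (CommRingCat.ofHom ψ))).base y₁ = y := hy₁π
  have hemb := (pullback.fst φ (Spec.map (CommRingCat.ofHom ψ))).isEmbedding
  have h1 : y₁ ⤳ x'₁ := by
    rw [← hemb.isInducing.specializes_iff, hy₁π', hx'₁π']; exact hyx'
  have h2 : x'₁ ⤳ x₁ := by
    rw [← hemb.isInducing.specializes_iff, hx'₁π', hx₁π']; exact hgen
  have hcond : ∀ z : ↥(pullback φ (Spec.map (CommRingCat.ofHom ψ))),
      φ.base ((pullback.fst φ (Spec.map (CommRingCat.ofHom ψ))).base z) =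
      (Spec.map (CommRingCat.ofHom ψ)).base
        ((pullback.snd φ (Spec.map (CommRingCat.ofHom ψ))).base z) := fun z =>
    congrArg (fun q => q.base z) (pullback.condition (f := φ) (g := Spec.map (CommRingCat.ofHom ψ)))
  have hmax₁ : ∀ z : ↥(pullback φ (Spec.map (CommRingCat.ofHom ψ))), z ⤳ x₁ →
      (pullback.snd φ (Spec.map (CommRingCat.ofHom ψ))).base z =
        (pullback.snd φ (Spec.map (CommRingCat.ofHom ψ))).base x₁ → z = x₁ := by
    intro z hz hzφ
    apply hemb.injective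
    rw [hx₁π']
    apply hx
    · rw [← hx₁π']; exact hz.map (pullback.fst φ (Spec.map (CommRingCat.ofHom ψ))).continuous
    · rw [hcond z, hzφ, ← hcond x₁, hx₁π']
  have key := eq_of_specializes_of_isMax (pullback.snd φ (Spec.map (CommRingCat.ofHom ψ)))
    (IsLocalRing.closedPoint R') rfl x₁ x'₁ y₁ hx₁φ hx'₁φ hy₁φ h1 h2 hmax₁
  rw [← hy₁π', ← hx'₁π', key]

end Groth.Agent.H38.FibreGenericGen
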