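import Mathlib
import Groth.Agent.H38.Spectral

set_option autoImplicit false
universe u

namespace Groth.Agent.H38

open Topology TopologicalSpace Set

section
variable {I : Type u}

/-- basic open of the Sierpiński power -/
def sierB (F : Finset I) : Set (I → Prop) := {p | ∀ i ∈ F, p i}

theorem isOpen_coord (i : I) : IsOpen {p : I → Prop | p i} :=
  continuous_Prop.mp (continuous_apply i)

theorem isOpen_sierB (F : Finset I) : IsOpen (sierB F) := by
  have : sierB F = ⋂ i ∈ F, {p : I → Prop | p i} := by
    ext p; simp only [sierB, Set.mem_ofPred_eq, mem_iInter]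
  rw [this]; exact isOpen_biInter_finset fun i _ => isOpen_coord i

theorem exists_sierB_subset {p : I → Prop} {u : Set (I → Prop)} (hp : p ∈ u) (hu : IsOpen u) :
    ∃ F : Finset I, p ∈ sierB F ∧ sierB F ⊆ u := by
  classical
  obtain ⟨F₀, v, hv, hsub⟩ := isOpen_pi_iff.mp hu p hp
  refine ⟨F₀.filter (fun a => p a), fun i hi => (Finset.mem_filter.mp hi).2, ?_⟩
  intro q hq
  apply hsub
  intro a ha
  have ha' : a ∈ F₀ := Finset.mem_coe.mp ha
  obtain ⟨hva, hpa⟩ := hv a ha'
  by_cases h : p a
  · have hqa : q a := hq a (Finset.mem_filter.mpr ⟨ha', h⟩)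
    have : q a = p a := propext ⟨fun _ => h, fun _ => hqa⟩
    rw [this]; exact hpa
  · have hpa' : p a = False := eq_false h
    rw [hpa'] at hpa
    have hmem : v a ∈ 𝓝 False := hva.mem_nhds hpa
    rw [nhds_false, Filter.mem_top] at hmem
    rw [hmem]; trivial

theorem isTopologicalBasis_sierB : IsTopologicalBasis (range (sierB (I := I))) :=
  isTopologicalBasis_of_isOpen_of_nhds (by rintro _ ⟨F, rfl⟩; exact isOpen_sierB F)
    (fun p u hp hu => by
      obtain ⟨F, hpF, hFu⟩ := exists_sierB_subset hp hu
      exact ⟨sierB F, ⟨F, rfl⟩, hpF, hFu⟩)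

theorem isCompact_sierB (F : Finset I) : IsCompact (sierB F) := by
  classical
  rw [isCompact_iff_finite_subcover]
  intro ι U hUo hcov
  have hpF : (fun i => i ∈ F) ∈ sierB F := fun i hi => hi
  obtain ⟨j, hj⟩ := mem_iUnion.mp (hcov hpF)
  obtain ⟨F', hpF', hF'U⟩ := exists_sierB_subset hj (hUo j)
  refine ⟨{j}, ?_⟩
  intro q hq
  simp only [Finset.mem_singleton, iUnion_iUnion_eq_left]
  apply hF'U
  intro i hi
  exact hq i (hpF' i hi)

theorem sierB_inter [DecidableEq I] (F G : Finset I) : sierB F ∩ sierB G = sierB (F ∪ G) := by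
  ext p
  simp only [sierB, mem_inter_iff, Set.mem_ofPred_eq, Finset.mem_union]
  constructor
  · rintro ⟨h1, h2⟩ i (hi | hi)
    exacts [h1 i hi, h2 i hi]
  · intro h; exact ⟨fun i hi => h i (Or.inl hi), fun i hi => h i (Or.inr hi)⟩

theorem spectralSpace_sierpinskiPi : SpectralSpace (I → Prop) := by
  classical
  have hT0 : T0Space (I → Prop) := by
    rw [t0Space_iff_inseparable]
    intro p q h
    funext i
    exact propext (h.mem_open_iff (isOpen_coord i))
  have hC : CompactSpace (I → Prop) := ⟨by
    have : (univ : Set (I → Prop)) = sierB ∅ := by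
      ext p; simp [sierB]
    rw [this]; exact isCompact_sierB ∅⟩
  have hP : PrespectralSpace (I → Prop) :=
    PrespectralSpace.of_isTopologicalBasis' isTopologicalBasis_sierB isCompact_sierB
  have hQS : QuasiSeparatedSpace (I → Prop) :=
    QuasiSeparatedSpace.of_isTopologicalBasis isTopologicalBasis_sierB
      (fun F G => by rw [sierB_inter]; exact isCompact_sierB _)
  have hQ : QuasiSober (I → Prop) := by
    constructor
    intro Z hirr hcl
    have hgZ : (fun i => ∃ p ∈ Z, p i) ∈ Z := by
      apply hcl.closure_subset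
      rw [isTopologicalBasis_sierB.mem_closure_iff]
      rintro _ ⟨F, rfl⟩ hgF
      have h := (isIrreducible_iff_sInter.mp hirr) (F.image fun i => {p : I → Prop | p i})
        (by intro u hu; obtain ⟨i, -, rfl⟩ := Finset.mem_image.mp hu; exact isOpen_coord i)
        (by
          intro u hu
          obtain ⟨i, hi, rfl⟩ := Finset.mem_image.mp hu
          obtain ⟨p, hpZ, hpi⟩ := hgF i hi
          exact ⟨p, hpZ, hpi⟩)
      obtain ⟨p, hpZ, hp⟩ := h
      refine ⟨p, ?_, hpZ⟩
      intro i hi
      exact hp _ (Finset.mem_coe.mpr (Finset.mem_image.mpr ⟨i, hi, rfl⟩))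
    refine ⟨fun i => ∃ p ∈ Z, p i, ?_⟩
    rw [isGenericPoint_iff_forall_closed hcl hgZ]
    intro C hC hgC p hpZ
    by_contra hpC
    obtain ⟨F, hpF, hFC⟩ := exists_sierB_subset (show p ∈ Cᶜ from hpC) hC.isOpen_compl
    have hgF : (fun i => ∃ p ∈ Z, p i) ∈ sierB F := fun i hi => ⟨p, hpZ, hpF i hi⟩
    exact hFC hgF hgC
  exact { }

end

theorem isCompact_isOpen_biInter_finset {X : Type*} [TopologicalSpace X] [CompactSpace X]
    [QuasiSeparatedSpace X] {ι : Type*} (F : Finset ι) (U : ι → Set X)
    (hU : ∀ i ∈ F, IsOpen (U i) ∧ IsCompact (U i)) :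
    IsOpen (⋂ i ∈ F, U i) ∧ IsCompact (⋂ i ∈ F, U i) := by
  classical
  induction F using Finset.induction_on with
  | empty => simp [isCompact_univ]
  | insert a F ha ih =>
    rw [Finset.set_biInter_insert]
    have h1 := hU a (Finset.mem_insert_self a F)
    have h2 := ih fun i hi => hU i (Finset.mem_insert_of_mem hi)
    exact ⟨h1.1.inter h2.1, h1.2.inter_of_isOpen h2.2 h1.1 h2.1⟩

/-- A space is spectral iff it embeds into a power of the Sierpiński space with constructibly
closed image. -/
theorem spectralSpace_iff_embedding_pi_sierpinski (X : Type u) [TopologicalSpace X] :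
    SpectralSpace X ↔ ∃ (I : Type u) (f : X → (I → Prop)),
      Topology.IsEmbedding f ∧
        @IsClosed (I → Prop) (constructibleTopology (I → Prop)) (Set.range f) := by
  constructor
  · intro hX
    let I := {U : Set X // IsOpen U ∧ IsCompact U}
    let f : X → (I → Prop) := fun x U => x ∈ U.1
    haveI := spectralSpace_sierpinskiPi (I := I)
    have hcont : Continuous f := continuous_pi fun U => continuous_Prop.mpr U.2.1
    have hind : IsInducing f := by
      constructor
      apply le_antisymm
      · exact hcont.le_induced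
      · have hB := (PrespectralSpace.isTopologicalBasis (X := X)).eq_generateFrom
        refine (le_generateFrom (t := induced f inferInstance) ?_).trans_eq hB.symm
        intro s hs
        rw [isOpen_induced_iff]
        exact ⟨{p | p ⟨s, hs.1, hs.2⟩}, isOpen_coord _, rfl⟩
    have hemb : IsEmbedding f := ⟨hind, hind.injective⟩
    have hspec : IsSpectralMap f := by
      refine ⟨hcont, ?_⟩
      intro V hVo hVc
      obtain ⟨s, hs, rfl⟩ := (isCompact_open_iff_eq_finite_iUnion_of_isTopologicalBasis _
        isTopologicalBasis_sierB isCompact_sierB V).mp ⟨hVc, hVo⟩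
      rw [preimage_iUnion₂]
      refine hs.isCompact_biUnion fun F _ => ?_
      have : f ⁻¹' sierB F = ⋂ U ∈ F, (U : I).1 := by
        ext x; simp only [sierB, f, mem_preimage, Set.mem_ofPred_eq, mem_iInter]
      rw [this]
      exact (isCompact_isOpen_biInter_finset F (fun U : I => U.1) fun U _ => U.2).2
    have hcl : IsClosed[constructibleTopology (I → Prop)] (f '' univ) :=
      isClosed_constr_image hspec (@isClosed_univ _ (constructibleTopology X))
    rw [image_univ] at hcl
    exact ⟨I, f, hemb, hcl⟩
  · rintro ⟨I, f, hemb, hcl⟩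
    haveI := spectralSpace_sierpinskiPi (I := I)
    haveI : SpectralSpace (range f) := spectralSpace_of_isClosed_constr hcl
    haveI : CompactSpace X := hemb.toHomeomorph.symm.compactSpace
    exact hemb.toHomeomorph.isOpenEmbedding.spectralSpace

end Groth.Agent.H38
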