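import Mathlib
import Groth.Agent.H38.Spectral
import Groth.Agent.H38.Sierpinski

set_option autoImplicit false
universe u

namespace Groth.Agent.H38

open CategoryTheory CategoryTheory.Limits Topology TopologicalSpace Set Opposite

section
variable (X : Type u) [TopologicalSpace X]

/-- compact opens -/
abbrev KO := {U : Set X // IsOpen U ∧ IsCompact U}

variable {X}

/-- evaluation on a finite set of compact opens -/
def evalF (𝒰 : Finset (KO X)) (x : X) : (𝒰 → Prop) := fun U => x ∈ U.1.1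

theorem continuous_evalF (𝒰 : Finset (KO X)) : Continuous (evalF 𝒰) :=
  continuous_pi fun U => continuous_Prop.mpr U.1.2.1

/-- restriction -/
def restrF {𝒰 𝒱 : Finset (KO X)} (h : 𝒰 ⊆ 𝒱) (p : 𝒱 → Prop) : 𝒰 → Prop :=
  fun U => p ⟨U.1, h U.2⟩

theorem continuous_restrF {𝒰 𝒱 : Finset (KO X)} (h : 𝒰 ⊆ 𝒱) : Continuous (restrF h) :=
  continuous_pi fun _ => continuous_apply _

theorem restrF_mem_range {𝒰 𝒱 : Finset (KO X)} (h : 𝒰 ⊆ 𝒱) {p : 𝒱 → Prop}
    (hp : p ∈ range (evalF 𝒱)) : restrF h p ∈ range (evalF 𝒰) := by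
  obtain ⟨x, rfl⟩ := hp
  exact ⟨x, rfl⟩

theorem existsUnique_point [SpectralSpace X] (q : ∀ 𝒰 : Finset (KO X), 𝒰 → Prop)
    (hq_range : ∀ 𝒰, q 𝒰 ∈ range (evalF 𝒰))
    (hq_compat : ∀ (𝒰 𝒱 : Finset (KO X)) (h : 𝒰 ⊆ 𝒱), restrF h (q 𝒱) = q 𝒰) :
    ∃! x : X, ∀ 𝒰, evalF 𝒰 x = q 𝒰 := by
  classical
  have hcl : ∀ 𝒰, IsClosed[constructibleTopology X] {x | evalF 𝒰 x = q 𝒰} := by
    intro 𝒰
    have : {x | evalF 𝒰 x = q 𝒰} = ⋂ U : 𝒰, {x | x ∈ U.1.1 ↔ q 𝒰 U} := by
      ext x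
      simp only [Set.mem_ofPred_eq, mem_iInter]
      constructor
      · intro h U; rw [← h]; rfl
      · intro h; funext U; exact propext (h U)
    rw [this]
    refine @isClosed_iInter _ _ (constructibleTopology X) _ fun U => ?_
    by_cases hU : q 𝒰 U
    · have : {x | x ∈ U.1.1 ↔ q 𝒰 U} = U.1.1 := by
        ext x; simp only [Set.mem_ofPred_eq, hU, iff_true]
      rw [this]
      exact isClosed_constr_of_isCompact_isOpen U.1.2.1 U.1.2.2
    · have : {x | x ∈ U.1.1 ↔ q 𝒰 U} = (U.1.1)ᶜ := by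
        ext x; simp only [Set.mem_ofPred_eq, hU, iff_false, mem_compl_iff]
      rw [this]
      rw [@isClosed_compl_iff _ (constructibleTopology X)]
      exact U.1.2.2.isOpen_constructibleTopology_of_isOpen U.1.2.1
  have hne : (⋂ 𝒰, {x | evalF 𝒰 x = q 𝒰}).Nonempty := by
    apply nonempty_iInter_of_isClosed_constr _ hcl
    intro u
    obtain ⟨x₀, hx₀⟩ := hq_range (u.biUnion id)
    refine ⟨x₀, mem_iInter₂.mpr fun 𝒰 h𝒰 => ?_⟩
    have hsub : 𝒰 ⊆ u.biUnion id := Finset.subset_biUnion_of_mem id h𝒰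
    show evalF 𝒰 x₀ = q 𝒰
    rw [← hq_compat 𝒰 _ hsub, ← hx₀]
    rfl
  obtain ⟨x, hx⟩ := hne
  refine ⟨x, fun 𝒰 => mem_iInter.mp hx 𝒰, ?_⟩
  intro x' hx'
  have hmem : ∀ U : KO X, x' ∈ U.1 ↔ x ∈ U.1 := by
    intro U
    have h1 := congrFun (hx' {U}) ⟨U, Finset.mem_singleton_self U⟩
    have h2 := congrFun (mem_iInter.mp hx {U}) ⟨U, Finset.mem_singleton_self U⟩
    exact Iff.of_eq (h1.trans h2.symm)
  apply Inseparable.eq
  rw [inseparable_iff_forall_isOpen]
  intro s hs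
  constructor
  · intro hxs
    obtain ⟨U, hU, hxU, hUs⟩ :=
      PrespectralSpace.isTopologicalBasis.exists_subset_of_mem_open hxs hs
    exact hUs ((hmem ⟨U, hU⟩).mp hxU)
  · intro hxs
    obtain ⟨U, hU, hxU, hUs⟩ :=
      PrespectralSpace.isTopologicalBasis.exists_subset_of_mem_open hxs hs
    exact hUs ((hmem ⟨U, hU⟩).mpr hxU)

variable (X)

/-- The diagram of finite quotients. -/
noncomputable def finFunctor : (Finset (KO X))ᵒᵖ ⥤ TopCat.{u} where
  obj 𝒰 := TopCat.of (range (evalF 𝒰.unop))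
  map {𝒱 𝒰} f := TopCat.ofHom
    ⟨fun v => ⟨restrF (leOfHom f.unop) v.1, restrF_mem_range _ v.2⟩,
      Continuous.subtype_mk ((continuous_restrF _).comp continuous_subtype_val)
        (fun v => restrF_mem_range _ v.2)⟩
  map_id 𝒰 := by
    refine TopCat.hom_ext (ContinuousMap.ext fun v => Subtype.ext ?_)
    rfl
  map_comp f g := by
    refine TopCat.hom_ext (ContinuousMap.ext fun v => Subtype.ext ?_)
    rfl

/-- The cone with vertex `X`. -/
noncomputable def finCone : Cone (finFunctor X) where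
  pt := TopCat.of X
  π :=
    { app := fun 𝒰 => TopCat.ofHom
        ⟨fun x => ⟨evalF 𝒰.unop x, mem_range_self x⟩,
          (continuous_evalF _).subtype_mk (fun x => mem_range_self x)⟩
      naturality := by
        intro 𝒱 𝒰 f
        refine TopCat.hom_ext (ContinuousMap.ext fun x => Subtype.ext ?_)
        rfl }

variable {X}

/-- the underlying function of a point of `(finFunctor X).obj 𝒰` -/
def pv (𝒰 : Finset (KO X)) (v : (finFunctor X).obj (op 𝒰)) : 𝒰 → Prop :=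
  Subtype.val (p := fun p => p ∈ range (evalF 𝒰)) v

theorem pv_mem (𝒰 : Finset (KO X)) (v : (finFunctor X).obj (op 𝒰)) :
    pv 𝒰 v ∈ range (evalF 𝒰) :=
  Subtype.property (p := fun p => p ∈ range (evalF 𝒰)) v

theorem continuous_pv (𝒰 : Finset (KO X)) : Continuous (pv (X := X) 𝒰) :=
  continuous_subtype_val (p := fun p => p ∈ range (evalF 𝒰))

theorem cone_compat (s : Cone (finFunctor X)) (y : s.pt) (𝒰 𝒱 : Finset (KO X)) (h : 𝒰 ⊆ 𝒱) :
    restrF h (pv 𝒱 (s.π.app (op 𝒱) y)) = pv 𝒰 (s.π.app (op 𝒰) y) := by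
  have := s.w (homOfLE h).op
  have h2 := congrArg (fun φ => pv 𝒰 (φ.hom y)) this
  exact h2

theorem cone_existsUnique [SpectralSpace X] (s : Cone (finFunctor X)) (y : s.pt) :
    ∃! x : X, ∀ 𝒰, evalF 𝒰 x = pv 𝒰 (s.π.app (op 𝒰) y) :=
  existsUnique_point (fun 𝒰 => pv 𝒰 (s.π.app (op 𝒰) y)) (fun 𝒰 => pv_mem 𝒰 _)
    (fun 𝒰 𝒱 h => cone_compat s y 𝒰 𝒱 h)

/-- the lift -/
noncomputable def liftFun [SpectralSpace X] (s : Cone (finFunctor X)) (y : s.pt) : X :=
  (cone_existsUnique s y).choose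

theorem liftFun_spec [SpectralSpace X] (s : Cone (finFunctor X)) (y : s.pt)
    (𝒰 : Finset (KO X)) : evalF 𝒰 (liftFun s y) = pv 𝒰 (s.π.app (op 𝒰) y) :=
  (cone_existsUnique s y).choose_spec.1 𝒰

theorem liftFun_unique [SpectralSpace X] (s : Cone (finFunctor X)) (y : s.pt) (x : X)
    (hx : ∀ 𝒰, evalF 𝒰 x = pv 𝒰 (s.π.app (op 𝒰) y)) : x = liftFun s y :=
  (cone_existsUnique s y).choose_spec.2 x hx

theorem continuous_liftFun [SpectralSpace X] (s : Cone (finFunctor X)) :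
    Continuous (liftFun s) := by
  rw [PrespectralSpace.isTopologicalBasis.continuous_iff]
  rintro U ⟨hUo, hUc⟩
  have hpre : liftFun s ⁻¹' U =
      (fun y : s.pt => pv {⟨U, hUo, hUc⟩} (s.π.app (op {⟨U, hUo, hUc⟩}) y)) ⁻¹'
        {p : ({⟨U, hUo, hUc⟩} : Finset (KO X)) → Prop |
          p ⟨⟨U, hUo, hUc⟩, Finset.mem_singleton_self _⟩} := by
    ext y
    have h := congrFun (liftFun_spec s y {⟨U, hUo, hUc⟩})
      ⟨⟨U, hUo, hUc⟩, Finset.mem_singleton_self _⟩
    exact Iff.of_eq h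
  rw [hpre]
  have hcont : Continuous
      (fun y : s.pt => pv {⟨U, hUo, hUc⟩} (s.π.app (op {⟨U, hUo, hUc⟩}) y)) :=
    (continuous_pv _).comp (s.π.app (op {⟨U, hUo, hUc⟩})).hom.continuous
  exact (continuous_Prop.mp (continuous_apply _)).preimage hcont

/-- `X` is the limit of its finite quotients. -/
noncomputable def finConeIsLimit [SpectralSpace X] : IsLimit (finCone X) where
  lift s := TopCat.ofHom (X := s.pt) (Y := TopCat.of X) ⟨liftFun s, continuous_liftFun s⟩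
  fac s 𝒰 := by
    refine TopCat.hom_ext (ContinuousMap.ext fun y => ?_)
    apply Subtype.ext (p := fun p => p ∈ range (evalF 𝒰.unop))
    exact liftFun_spec s y 𝒰.unop
  uniq s m hm := by
    refine TopCat.hom_ext (ContinuousMap.ext fun y => ?_)
    apply liftFun_unique s y
    intro 𝒰
    have h2 := congrArg (fun φ => pv 𝒰 (φ.hom y)) (hm (op 𝒰))
    exact h2

theorem finite_sober_obj [SpectralSpace X] (𝒰 : (Finset (KO X))ᵒᵖ) :
    Finite ((finFunctor X).obj 𝒰) ∧ T0Space ((finFunctor X).obj 𝒰) ∧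
      QuasiSober ((finFunctor X).obj 𝒰) := by
  show Finite (range (evalF 𝒰.unop)) ∧ T0Space (range (evalF 𝒰.unop)) ∧
      QuasiSober (range (evalF 𝒰.unop))
  generalize 𝒰.unop = 𝒱
  haveI := spectralSpace_sierpinskiPi (I := ↥𝒱)
  have hfin : Finite (↥𝒱 → Prop) := inferInstance
  have hcl : IsClosed[constructibleTopology (↥𝒱 → Prop)] (range (evalF 𝒱)) :=
    @Set.Finite.isClosed _ (constructibleTopology _)
      (@T2Space.t1Space _ (constructibleTopology _) t2Space_constr) _ (Set.toFinite _)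
  haveI : SpectralSpace (range (evalF 𝒱)) := spectralSpace_of_isClosed_constr hcl
  exact ⟨inferInstance, inferInstance, inferInstance⟩

theorem exists_isLimit_finite_sober (X : Type u) [TopologicalSpace X] [SpectralSpace X] :
    ∃ (J : Type u) (_ : Preorder J) (_ : Nonempty J) (_ : IsDirected J (· ≤ ·))
      (F : Jᵒᵖ ⥤ TopCat.{u}) (c : Cone F), Nonempty (IsLimit c) ∧
        (∀ j : Jᵒᵖ, Finite (F.obj j) ∧ T0Space (F.obj j) ∧ QuasiSober (F.obj j)) ∧
        Nonempty (c.pt ≅ TopCat.of X) := by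
  classical
  refine ⟨Finset (KO X), inferInstance, ⟨∅⟩,
    ⟨fun a b => ⟨a ∪ b, Finset.subset_union_left, Finset.subset_union_right⟩⟩,
    finFunctor X, finCone X, ⟨finConeIsLimit⟩, fun j => finite_sober_obj j, ⟨Iso.refl _⟩⟩

end

end Groth.Agent.H38
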