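import Mathlib

/-!
# Points whose generic point is isolated in their closure (Noetherian case) have finite closure
-/

set_option autoImplicit false
universe u
open CategoryTheory AlgebraicGeometry Topology TopologicalSpace

namespace Groth.Agent.H38.FiniteClosure

/-- In a Noetherian domain in which every nonzero prime contains a fixed nonzero element `f`,
every nonzero prime is minimal over `(f)`. -/
theorem mem_minimalPrimes_of_forall_mem {A : Type*} [CommRing A] [IsDomain A] [IsNoetherianRing A]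
    (f : A) (hf : f ≠ 0) (h : ∀ p : Ideal A, p.IsPrime → p ≠ ⊥ → f ∈ p)
    (p : Ideal A) (hp : p.IsPrime) (hp0 : p ≠ ⊥) :
    p ∈ (Ideal.span {f}).minimalPrimes := by
  by_contra hnot
  have hfp : f ∈ p := h p hp hp0
  have hMfin : ((Ideal.span {f}).minimalPrimes).Finite :=
    Ideal.finite_minimalPrimes_of_isNoetherianRing A _
  have hMprime : ∀ q ∈ (Ideal.span {f}).minimalPrimes, q.IsPrime := fun q hq => hq.1.1
  have hMht : ∀ q ∈ (Ideal.span {f}).minimalPrimes, q.height ≤ 1 := fun q hq =>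
    Ideal.height_le_one_of_isPrincipal_of_mem_minimalPrimes _ q hq
  have hMf : ∀ q ∈ (Ideal.span {f}).minimalPrimes, f ∈ q := fun q hq =>
    hq.1.2 (Ideal.subset_span rfl)
  have key : ∀ (a b : Ideal A), a.IsPrime → b.IsPrime → a ≠ ⊥ → a ≤ b → b.height ≤ 1 → a = b := by
    intro a b ha hb ha0 hab hb1
    by_contra hne
    have hlt : a < b := lt_of_le_of_ne hab hne
    have h1 := Ideal.height_add_one_le_of_lt_of_isPrime hlt
    have h2 : a.height ≠ 0 := fun h0 => ha0 (Ideal.height_eq_zero_iff_eq_bot.mp h0)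
    have h3 : (1 : ℕ∞) ≤ a.height := ENat.one_le_iff_ne_zero.mpr h2
    have h4 : (2 : ℕ∞) ≤ 1 := calc
      (2 : ℕ∞) = 1 + 1 := by norm_num
      _ ≤ a.height + 1 := by gcongr
      _ ≤ b.height := h1
      _ ≤ 1 := hb1
    exact absurd h4 (by norm_num)
  have hpq : ∀ q ∈ (Ideal.span {f}).minimalPrimes, ¬ p ≤ q := by
    intro q hq hle
    have h5 := key p q hp (hMprime q hq) hp0 hle (hMht q hq)
    exact hnot (h5 ▸ hq)
  have havoid : ¬ ((p : Set A) ⊆ ⋃ q ∈ (hMfin.toFinset : Set (Ideal A)), (q : Set A)) := by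
    intro hsub
    obtain ⟨q, hq, hle⟩ := (Ideal.subset_union_prime (f := fun q : Ideal A => q) ⊥ ⊥
      (fun q hq _ _ => hMprime q (hMfin.mem_toFinset.mp hq))).mp hsub
    exact hpq q (hMfin.mem_toFinset.mp hq) hle
  obtain ⟨g, hgp, hgM⟩ := Set.not_subset.mp havoid
  have hgM' : ∀ q ∈ (Ideal.span {f}).minimalPrimes, g ∉ q := by
    intro q hq hgq
    apply hgM
    simp only [Set.mem_iUnion]
    exact ⟨q, by simpa using hq, hgq⟩
  haveI := hp
  obtain ⟨q₀, hq₀, -⟩ := Ideal.exists_minimalPrimes_le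
    (show Ideal.span {f} ≤ p from (Ideal.span_singleton_le_iff_mem _).mpr hfp)
  have hg0 : g ≠ 0 := by
    rintro rfl
    exact hgM' q₀ hq₀ (Ideal.zero_mem _)
  obtain ⟨p', hp'min, hp'p⟩ := Ideal.exists_minimalPrimes_le
    (show Ideal.span {g} ≤ p from (Ideal.span_singleton_le_iff_mem _).mpr hgp)
  have hp'prime : p'.IsPrime := hp'min.1.1
  have hgp' : g ∈ p' := hp'min.1.2 (Ideal.subset_span rfl)
  have hp'0 : p' ≠ ⊥ := by
    rintro rfl
    exact hg0 (by simpa using hgp')
  have hp'ht : p'.height ≤ 1 :=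
    Ideal.height_le_one_of_isPrincipal_of_mem_minimalPrimes _ p' hp'min
  have hfp' : f ∈ p' := h p' hp'prime hp'0
  haveI := hp'prime
  obtain ⟨q, hq, hqp'⟩ := Ideal.exists_minimalPrimes_le
    (show Ideal.span {f} ≤ p' from (Ideal.span_singleton_le_iff_mem _).mpr hfp')
  have hq0 : q ≠ ⊥ := by
    rintro rfl
    exact hf (by simpa using hMf ⊥ hq)
  have h6 := key q p' (hMprime q hq) hp'prime hq0 hqp' hp'ht
  exact hgM' q hq (h6 ▸ hgp')

theorem finite_primeSpectrum_of_forall_mem {A : Type*} [CommRing A] [IsDomain A]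
    [IsNoetherianRing A] (f : A) (hf : f ≠ 0)
    (h : ∀ p : Ideal A, p.IsPrime → p ≠ ⊥ → f ∈ p) : Finite (PrimeSpectrum A) := by
  have hfin : ((Ideal.span {f}).minimalPrimes ∪ {⊥}).Finite :=
    (Ideal.finite_minimalPrimes_of_isNoetherianRing A _).union (Set.finite_singleton _)
  haveI := hfin.to_subtype
  have hmem : ∀ P : PrimeSpectrum A, P.asIdeal ∈ (Ideal.span {f}).minimalPrimes ∪ {⊥} := by
    intro P
    by_cases hP : P.asIdeal = ⊥
    · exact Or.inr hP
    · exact Or.inl (mem_minimalPrimes_of_forall_mem f hf h P.asIdeal P.isPrime hP)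
  exact Finite.of_injective
    (fun P : PrimeSpectrum A => (⟨P.asIdeal, hmem P⟩ : ↥((Ideal.span {f}).minimalPrimes ∪ {⊥})))
    (fun P Q hPQ => PrimeSpectrum.ext (congrArg Subtype.val hPQ))

/-- Non-domain version. -/
theorem finite_zeroLocus_of_forall_mem {R : Type*} [CommRing R] [IsNoetherianRing R]
    (P : Ideal R) [hP : P.IsPrime] (f : R) (hf : f ∉ P)
    (h : ∀ Q : Ideal R, Q.IsPrime → P ≤ Q → Q ≠ P → f ∈ Q) :
    (PrimeSpectrum.zeroLocus (P : Set R)).Finite := by
  have hfbar : Ideal.Quotient.mk P f ≠ 0 := fun h0 => hf (Ideal.Quotient.eq_zero_iff_mem.mp h0)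
  have hA : Finite (PrimeSpectrum (R ⧸ P)) := by
    refine finite_primeSpectrum_of_forall_mem (Ideal.Quotient.mk P f) hfbar ?_
    intro q hq hq0
    have hQ : (q.comap (Ideal.Quotient.mk P)).IsPrime := Ideal.comap_isPrime _ _
    have hPQ : P ≤ q.comap (Ideal.Quotient.mk P) := by
      intro a ha
      rw [Ideal.mem_comap, Ideal.Quotient.eq_zero_iff_mem.mpr ha]
      exact Ideal.zero_mem _
    have hne : q.comap (Ideal.Quotient.mk P) ≠ P := by
      intro heq
      apply hq0
      rw [eq_bot_iff]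
      intro a ha
      obtain ⟨b, rfl⟩ := Ideal.Quotient.mk_surjective a
      have hb : b ∈ q.comap (Ideal.Quotient.mk P) := ha
      rw [heq] at hb
      rw [Ideal.mem_bot]
      exact Ideal.Quotient.eq_zero_iff_mem.mpr hb
    exact h _ hQ hPQ hne
  have hrange : Set.range (PrimeSpectrum.comap (Ideal.Quotient.mk P)) =
      PrimeSpectrum.zeroLocus (P : Set R) := by
    rw [_root_.range_comap_of_surjective _ _ Ideal.Quotient.mk_surjective, Ideal.mk_ker]
  rw [← hrange]
  exact Set.finite_range _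

/-- In a Noetherian scheme, a point which is isolated in its closure has finite closure. -/
theorem finite_closure_of_isOpen_singleton (X : Scheme.{u}) [IsNoetherian X] (x : X) (U : Set X)
    (hU : IsOpen U) (hUx : U ∩ closure {x} = {x}) : (closure ({x} : Set X)).Finite := by
  -- the affine case
  have haff : ∀ W : X.Opens, IsAffineOpen W → (closure ({x} : Set X) ∩ W).Finite := by
    intro W hW
    by_cases hxW : x ∈ W
    · have hR : IsNoetherianRing Γ(X, W) := IsLocallyNoetherian.component_noetherian ⟨W, hW⟩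
      obtain ⟨P, hP⟩ : ∃ P : PrimeSpectrum Γ(X, W), hW.fromSpec P = x := by
        have h1 : x ∈ Set.range hW.fromSpec := by
          rw [hW.range_fromSpec]
          exact hxW
        exact h1
      have hopen : IsOpen (hW.fromSpec ⁻¹' U) := hU.preimage hW.fromSpec.continuous
      have hPU : P ∈ hW.fromSpec ⁻¹' U := by
        show hW.fromSpec P ∈ U
        rw [hP]
        have h2 : x ∈ U ∩ closure {x} := by rw [hUx]; rfl
        exact h2.1
      obtain ⟨_, ⟨f, rfl⟩, hPf, hsub⟩ :=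
        PrimeSpectrum.isTopologicalBasis_basic_opens.exists_subset_of_mem_open hPU hopen
      have hfP : f ∉ P.asIdeal := hPf
      have hfin := finite_zeroLocus_of_forall_mem P.asIdeal f hfP (by
        intro Q hQ hPQ hne
        by_contra hfQ
        let Q' : PrimeSpectrum Γ(X, W) := ⟨Q, hQ⟩
        have h3 : hW.fromSpec Q' ∈ U := hsub (show Q' ∈ PrimeSpectrum.basicOpen f from hfQ)
        have h4 : P ⤳ Q' := (PrimeSpectrum.le_iff_specializes P Q').mp hPQ
        have h5 : hW.fromSpec P ⤳ hW.fromSpec Q' := h4.map hW.fromSpec.continuous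
        rw [hP] at h5
        have h6 : hW.fromSpec Q' ∈ U ∩ closure {x} := ⟨h3, h5.mem_closure⟩
        rw [hUx] at h6
        have h7 : hW.fromSpec Q' = hW.fromSpec P := by rw [hP]; exact h6
        have h8 : Q' = P := hW.fromSpec.isOpenEmbedding.injective h7
        exact hne (congrArg PrimeSpectrum.asIdeal h8))
      refine (hfin.image hW.fromSpec).subset ?_
      rintro z ⟨hzc, hzW⟩
      obtain ⟨Q', hQ'⟩ : ∃ Q' : PrimeSpectrum Γ(X, W), hW.fromSpec Q' = z := by
        have h1 : z ∈ Set.range hW.fromSpec := by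
          rw [hW.range_fromSpec]
          exact hzW
        exact h1
      refine ⟨Q', ?_, hQ'⟩
      have h9 : hW.fromSpec P ⤳ hW.fromSpec Q' := by
        rw [hP, hQ']
        exact specializes_iff_mem_closure.mpr hzc
      have h10 : P ⤳ Q' := hW.fromSpec.isOpenEmbedding.isInducing.specializes_iff.mp h9
      exact (PrimeSpectrum.mem_zeroLocus _ _).mpr ((PrimeSpectrum.le_iff_specializes P Q').mpr h10)
    · convert Set.finite_empty
      rw [Set.eq_empty_iff_forall_notMem]
      rintro z ⟨hzc, hzW⟩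
      have h1 : x ⤳ z := specializes_iff_mem_closure.mpr hzc
      exact hxW (h1.mem_open W.isOpen hzW)
  choose W hW hyW _ using fun y : X =>
    exists_isAffineOpen_mem_and_subset (x := y) (U := (⊤ : X.Opens)) trivial
  obtain ⟨t, ht⟩ := isCompact_univ.elim_nhds_subcover (fun y => (W y : Set X))
    (fun y _ => (W y).isOpen.mem_nhds (hyW y))
  refine (Set.Finite.biUnion t.finite_toSet (fun y _ => haff (W y) (hW y))).subset ?_
  intro z hz
  obtain ⟨y, hy, hzy⟩ := Set.mem_iUnion₂.mp (ht.2 (Set.mem_univ z))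
  exact Set.mem_iUnion₂.mpr ⟨y, hy, hz, hzy⟩

/-- A Noetherian ring with finite spectrum has no chain of three primes. -/
theorem not_chain3_of_finite_primeSpectrum {R : Type*} [CommRing R] [IsNoetherianRing R]
    [Finite (PrimeSpectrum R)] {P₀ P₁ P₂ : Ideal R} (h₀ : P₀.IsPrime) (h₁ : P₁.IsPrime)
    (h₂ : P₂.IsPrime) (h01 : P₀ < P₁) (h12 : P₁ < P₂) : False := by
  classical
  -- nonzero primes of `A = R ⧸ P₀` all contain a common nonzero element
  haveI : Finite (PrimeSpectrum (R ⧸ P₀)) :=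
    Finite.of_injective (PrimeSpectrum.comap (Ideal.Quotient.mk P₀))
      (PrimeSpectrum.comap_injective_of_surjective _ Ideal.Quotient.mk_surjective)
  haveI := Fintype.ofFinite (PrimeSpectrum (R ⧸ P₀))
  have hex : ∀ Q : PrimeSpectrum (R ⧸ P₀), ∃ a : R ⧸ P₀, a ≠ 0 ∧ (Q.asIdeal ≠ ⊥ → a ∈ Q.asIdeal) := by
    intro Q
    by_cases hQ : Q.asIdeal = ⊥
    · exact ⟨1, one_ne_zero, fun h => absurd hQ h⟩
    · obtain ⟨a, ha, ha0⟩ := Submodule.exists_mem_ne_zero_of_ne_bot hQ
      exact ⟨a, ha0, fun _ => ha⟩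
  choose a ha0 ha using hex
  set f : R ⧸ P₀ := ∏ Q, a Q with hf
  have hf0 : f ≠ 0 := Finset.prod_ne_zero_iff.mpr (fun Q _ => ha0 Q)
  have hall : ∀ p : Ideal (R ⧸ P₀), p.IsPrime → p ≠ ⊥ → f ∈ p := by
    intro p hp hp0
    exact Ideal.mul_mem_left _ _ (ha ⟨p, hp⟩ hp0) |> fun h => by
      rw [hf, ← Finset.prod_erase_mul _ _ (Finset.mem_univ (⟨p, hp⟩ : PrimeSpectrum (R ⧸ P₀)))]
      exact h
  -- the images of `P₁`, `P₂`
  have hmapprime : ∀ P : Ideal R, P.IsPrime → P₀ ≤ P → (P.map (Ideal.Quotient.mk P₀)).IsPrime := by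
    intro P hP hle
    exact Ideal.map_isPrime_of_surjective Ideal.Quotient.mk_surjective (by rwa [Ideal.mk_ker])
  have hcomap : ∀ P : Ideal R, P₀ ≤ P →
      (P.map (Ideal.Quotient.mk P₀)).comap (Ideal.Quotient.mk P₀) = P := by
    intro P hle
    rw [Ideal.comap_map_of_surjective _ Ideal.Quotient.mk_surjective, ← RingHom.ker_eq_comap_bot,
      Ideal.mk_ker, sup_eq_left.mpr hle]
  have hq1 := hmapprime P₁ h₁ h01.le
  have hq2 := hmapprime P₂ h₂ (h01.le.trans h12.le)
  have hq1ne : P₁.map (Ideal.Quotient.mk P₀) ≠ ⊥ := by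
    intro h
    have h3 := hcomap P₁ h01.le
    rw [h, ← RingHom.ker_eq_comap_bot, Ideal.mk_ker] at h3
    exact h01.ne h3
  have hlt : P₁.map (Ideal.Quotient.mk P₀) < P₂.map (Ideal.Quotient.mk P₀) := by
    refine lt_of_le_of_ne (Ideal.map_mono h12.le) ?_
    intro h
    have h3 := hcomap P₁ h01.le
    rw [h, hcomap P₂ (h01.le.trans h12.le)] at h3
    exact h12.ne h3.symm
  have hq2ne : P₂.map (Ideal.Quotient.mk P₀) ≠ ⊥ := fun h => by
    rw [h] at hlt
    exact not_lt_bot hlt
  have hmin2 := mem_minimalPrimes_of_forall_mem f hf0 hall _ hq2 hq2ne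
  have hf1 : Ideal.span {f} ≤ P₁.map (Ideal.Quotient.mk P₀) :=
    (Ideal.span_singleton_le_iff_mem _).mpr (hall _ hq1 hq1ne)
  exact absurd (hmin2.2 ⟨hq1, hf1⟩ hlt.le) (not_le_of_gt hlt)

/-- A finite Noetherian scheme has no chain of three distinct points under specialization. -/
theorem not_chain3_of_finite (X : Scheme.{u}) [IsNoetherian X] [Finite X] {a b c : X}
    (h1 : c ⤳ b) (h2 : b ⤳ a) (hne1 : c ≠ b) (hne2 : b ≠ a) : False := by
  obtain ⟨W, hW, haW, -⟩ :=
    exists_isAffineOpen_mem_and_subset (x := a) (U := (⊤ : X.Opens)) trivial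
  have hbW : b ∈ W := h2.mem_open W.isOpen haW
  have hcW : c ∈ W := h1.mem_open W.isOpen hbW
  have hR : IsNoetherianRing Γ(X, W) := IsLocallyNoetherian.component_noetherian ⟨W, hW⟩
  haveI : Finite (PrimeSpectrum Γ(X, W)) :=
    Finite.of_injective (fun P : PrimeSpectrum Γ(X, W) => hW.fromSpec P)
      hW.fromSpec.isOpenEmbedding.injective
  have hpre : ∀ z : X, z ∈ W → ∃ P : PrimeSpectrum Γ(X, W), hW.fromSpec P = z := by
    intro z hz
    have h3 : z ∈ Set.range hW.fromSpec := by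
      rw [hW.range_fromSpec]
      exact hz
    exact h3
  obtain ⟨Pa, hPa⟩ := hpre a haW
  obtain ⟨Pb, hPb⟩ := hpre b hbW
  obtain ⟨Pc, hPc⟩ := hpre c hcW
  have hcb : Pc ≤ Pb := by
    have h9 : hW.fromSpec Pc ⤳ hW.fromSpec Pb := by
      rw [hPc, hPb]
      exact h1
    exact (PrimeSpectrum.le_iff_specializes Pc Pb).mpr
      (hW.fromSpec.isOpenEmbedding.isInducing.specializes_iff.mp h9)
  have hba : Pb ≤ Pa := by
    have h9 : hW.fromSpec Pb ⤳ hW.fromSpec Pa := by
      rw [hPb, hPa]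
      exact h2
    exact (PrimeSpectrum.le_iff_specializes Pb Pa).mpr
      (hW.fromSpec.isOpenEmbedding.isInducing.specializes_iff.mp h9)
  have hcb' : Pc.asIdeal < Pb.asIdeal := lt_of_le_of_ne hcb (fun h => hne1 (by
    rw [← hPc, ← hPb, PrimeSpectrum.ext h]))
  have hba' : Pb.asIdeal < Pa.asIdeal := lt_of_le_of_ne hba (fun h => hne2 (by
    rw [← hPb, ← hPa, PrimeSpectrum.ext h]))
  exact not_chain3_of_finite_primeSpectrum Pc.isPrime Pb.isPrime Pa.isPrime hcb' hba'

/-- A sober space without chains of three distinct points has dimension at most one. -/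
theorem topologicalKrullDim_le_one_of_no_chain3 {T : Type*} [TopologicalSpace T] [QuasiSober T]
    (h : ∀ a b c : T, c ⤳ b → b ⤳ a → c ≠ b → b ≠ a → False) : topologicalKrullDim T ≤ 1 := by
  unfold topologicalKrullDim Order.krullDim
  apply iSup_le
  intro p
  by_contra hlt
  have h2 : 2 ≤ p.length := by
    have h3 : ¬ p.length ≤ 1 := by exact_mod_cast hlt
    omega
  have hab : p ⟨0, by omega⟩ < p ⟨1, by omega⟩ := p.strictMono (by simp [Fin.lt_def])
  have hbc : p ⟨1, by omega⟩ < p ⟨2, by omega⟩ := p.strictMono (by simp [Fin.lt_def])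
  obtain ⟨a, ha⟩ := QuasiSober.sober (p ⟨0, by omega⟩).isIrreducible (p ⟨0, by omega⟩).isClosed
  obtain ⟨b, hb⟩ := QuasiSober.sober (p ⟨1, by omega⟩).isIrreducible (p ⟨1, by omega⟩).isClosed
  obtain ⟨c, hc⟩ := QuasiSober.sober (p ⟨2, by omega⟩).isIrreducible (p ⟨2, by omega⟩).isClosed
  refine h a b c (hc.specializes (hbc.le hb.mem)) (hb.specializes (hab.le ha.mem)) ?_ ?_
  · rintro rfl
    exact hbc.ne (TopologicalSpace.IrreducibleCloseds.ext (hb.def.symm.trans hc.def))
  · rintro rfl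
    exact hab.ne (TopologicalSpace.IrreducibleCloseds.ext (ha.def.symm.trans hb.def))

end Groth.Agent.H38.FiniteClosure
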