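import Mathlib
import Groth.Agent.H38.DeltaPush
import Groth.Agent.H60.FlatDim
import Groth.Agent.H54.FibreTdeg
import Groth.Agent.H54.SchemeDim2
import Groth.Agent.H54.DimClosure
import Groth.Prelude.Def_Cyc

set_option autoImplicit false
universe u
open CategoryTheory AlgebraicGeometry Limits

namespace Groth.Agent.H38.FlatRelDim

open Groth.Agent.H38.DeltaPush Groth.Agent.H54

/-- a flat morphism between irreducible schemes maps the generic point to the generic point. -/
theorem map_genericPoint_of_flat {X Y : Scheme.{u}} (f : X ⟶ Y) [Flat f]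
    [IrreducibleSpace X] [IrreducibleSpace Y] : f.base (genericPoint X) = genericPoint Y := by
  obtain ⟨t, ht, hft⟩ := (Flat.generalizingMap (f := f))
    (genericPoint_specializes (f.base (genericPoint X)))
  have : t = genericPoint X := (ht.antisymm (genericPoint_specializes t)).eq
  rw [← hft, this]

open Groth.Agent.H9.DimFormulaScheme in
/-- **Key claim**: for a flat morphism locally of finite type between irreducible schemes with
universally catenary locally Noetherian target, the residue field of every maximal point of every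
fibre has the same transcendence degree as the function field extension. -/
theorem tdeg_maximal_fibre_eq {X Y : Scheme.{u}} (f : X ⟶ Y) [Flat f] [LocallyOfFiniteType f]
    [IrreducibleSpace X] [IrreducibleSpace Y] [IsLocallyNoetherian Y]
    (hcat : ∀ y : Y, CAlg.IsUniversallyCatenary (Y.presheaf.stalk y)) (E : ℕ)
    (hE : @Algebra.trdeg (Y.residueField (f.base (genericPoint X)))
      (X.residueField (genericPoint X)) _ _
      (f.residueFieldMap (genericPoint X)).hom.toAlgebra = (E : Cardinal.{u}))
    (y : Y) (z : f.fiber y) (hz : ∀ z' : f.fiber y, z' ⤳ z → z' = z) :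
    tdeg (fiberQ f y) z = E := by
  haveI : IsLocallyNoetherian X := LocallyOfFiniteType.isLocallyNoetherian f
  set x := (f.fiberι y).base z with hx
  have hn := trdeg_fiber_eq f y z
  have hgenX : ∀ t : X, genericPoint X ⤳ t := fun t => genericPoint_specializes t
  have hgenY : ∀ t : Y, genericPoint Y ⤳ t := fun t => genericPoint_specializes t
  have key := pair_formula f (hgenX x) (hcat _) (tdeg (fiberQ f y) z) E hn hE
  -- the two codimensions are the dimensions of the local rings
  have h1 : ringKrullDim (X.presheaf.stalk x) =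
      ((Algz.codimPt (genericPoint X) x (hgenX x) : ℕ∞) : WithBot ℕ∞) :=
    ringKrullDim_stalk_eq_codimPt X (genericPoint X) x hgenX
  have hfξ := map_genericPoint_of_flat f
  have h2 : ringKrullDim (Y.presheaf.stalk (f.base x)) =
      ((Algz.codimPt (f.base (genericPoint X)) (f.base x)
        ((hgenX x).map f.continuous) : ℕ∞) : WithBot ℕ∞) := by
    rw [ringKrullDim_stalk_eq_codimPt Y (genericPoint Y) (f.base x) hgenY]
    congr 1
    exact Groth.Agent.H44.codimPt_congr hfξ.symm rfl _ _
  -- flatness
  have hflat := Groth.Agent.H60.FlatDim.coheight_eq_add_of_flat f y z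
  have hz0 : Order.coheight z = 0 := by
    rw [Order.coheight_eq_zero]
    intro z' hz'
    have h3 : z' ⤳ z := Scheme.le_iff_specializes.mp hz'
    rw [hz z' h3]
  rw [hz0] at hflat
  rw [← ringKrullDim_stalk_eq_coheight, ← ringKrullDim_stalk_eq_coheight] at hflat
  have hflat' : ringKrullDim (X.presheaf.stalk x) = ringKrullDim (Y.presheaf.stalk (f.base x)) := by
    have h4 : ringKrullDim (X.presheaf.stalk x) =
        ringKrullDim (Y.presheaf.stalk (f.base x)) + (((0 : ℕ∞) : ℕ∞) : WithBot ℕ∞) := hflat
    rw [h4]; simp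
  rw [h1, h2] at hflat'
  have h3 : Algz.codimPt (genericPoint X) x (hgenX x) =
      Algz.codimPt (f.base (genericPoint X)) (f.base x) ((hgenX x).map f.continuous) := by
    exact_mod_cast hflat'
  rw [h3] at key
  have hfin := codimPt_ne_top Y ((hgenX x).map f.continuous)
  obtain ⟨c, hc⟩ := ENat.ne_top_iff_exists.mp hfin
  rw [← hc] at key
  have : c + tdeg (fiberQ f y) z = c + E := by exact_mod_cast key
  omega

/-- **S17840.** -/
theorem main {X Y : Scheme.{u}} (f : X ⟶ Y) [Flat f] [LocallyOfFiniteType f]
    [IrreducibleSpace X] [IrreducibleSpace Y] (δX : X → ℤ) (δY : Y → ℤ) (hY : Cyc.IsSetup Y δY)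
    (hδ : Cyc.DeltaCompat f δX δY) :
    0 ≤ δX (genericPoint X) - δY (genericPoint Y) ∧
      Cyc.HasRelDim f (δX (genericPoint X) - δY (genericPoint Y)).toNat ∧
      ∀ x : X, topologicalKrullDim ↥(f.fiber (f x)) =
        ((δX (genericPoint X) - δY (genericPoint Y)).toNat : WithBot ℕ∞) := by
  obtain ⟨hN, hcat, -⟩ := hY
  haveI := hN
  obtain ⟨E, hE1, hE2⟩ := hδ (genericPoint X)
  have hfξ : f.base (genericPoint X) = genericPoint Y := map_genericPoint_of_flat f
  have hE2' : δX (genericPoint X) = δY (f.base (genericPoint X)) + E := hE2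
  rw [hfξ] at hE2'
  have hd : δX (genericPoint X) - δY (genericPoint Y) = E := by omega
  rw [hd]
  have htn : ((E : ℤ)).toNat = E := Int.toNat_natCast E
  rw [htn]
  have hkey := tdeg_maximal_fibre_eq f hcat E hE1
  refine ⟨by positivity, ?_, ?_⟩
  · intro y T hT
    obtain ⟨ζ, hζ⟩ := Groth.Agent.H60.FlatDim.exists_generic_of_mem_irreducibleComponents T hT
    have hmax : ∀ z' : f.fiber y, z' ⤳ ζ → z' = ζ := fun z' hz' =>
      eq_of_specializes_generic (by rw [hζ]; exact hT) hz'
    rw [← hζ, topologicalKrullDim_closure_singleton (fiberQ f y) ζ, hkey y ζ hmax]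
  · intro x
    apply le_antisymm
    · refine topologicalKrullDim_le_of_forall_tdeg_le (fiberQ f (f.base x)) E fun z => ?_
      obtain ⟨ζ, hζz, hζ⟩ := exists_generic_specializes z
      have hmax : ∀ z' : f.fiber (f.base x), z' ⤳ ζ → z' = ζ := fun z' hz' =>
        eq_of_specializes_generic hζ hz'
      rw [← hkey (f.base x) ζ hmax]
      exact tdeg_le_of_specializes (fiberQ f (f.base x)) hζz
    · obtain ⟨ζ, hζz, hζ⟩ := exists_generic_specializes (f.asFiber x)
      have hmax : ∀ z' : f.fiber (f.base x), z' ⤳ ζ → z' = ζ := fun z' hz' =>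
        eq_of_specializes_generic hζ hz'
      have h1 := tdeg_le_topologicalKrullDim (fiberQ f (f.base x)) ζ ⊤ trivial
      rw [hkey (f.base x) ζ hmax] at h1
      refine h1.trans ?_
      exact topologicalKrullDim_subspace_le _ _

end Groth.Agent.H38.FlatRelDim
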