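import Groth.Agent.H38.BaseChangeAffine
import Mathlib.RingTheory.Flat.Basic
import Mathlib.FieldTheory.IsAlgClosed.AlgebraicClosure

/-!
# Reducedness after adjoining `p`-th roots implies geometric reducedness

For a field `k` of characteristic `p`, a `k`-algebra `A` and a field extension `K/k` in which every
element of `k` has a `p`-th root: if `A ⊗[k] K` is reduced then `A` is geometrically reduced.
(The linear independence argument follows `H44.MacLane.isGeometricallyReduced_of_powLI`.)
-/

set_option autoImplicit false
universe u v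
open TensorProduct

namespace Groth.Agent.H38.FrobReduced

variable (p : ℕ) [Fact p.Prime] {k : Type u} {A : Type u} [Field k] [CommRing A] [Algebra k A]
  [CharP k p]

theorem isGeometricallyReduced_of_powLI
    (h : ∀ (ι : Type u) (s : ι → A), LinearIndependent k s →
      LinearIndependent k (fun i => s i ^ p)) : Algebra.IsGeometricallyReduced k A := by
  classical
  have hp : p.Prime := Fact.out
  rw [Algebra.isGeometricallyReduced_field_iff]
  rcases subsingleton_or_nontrivial A with hA | hA
  · haveI : Subsingleton (AlgebraicClosure k ⊗[k] A) := by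
      refine subsingleton_of_zero_eq_one ?_
      rw [Algebra.TensorProduct.one_def, Subsingleton.elim (1 : A) 0, TensorProduct.tmul_zero]
    exact ⟨fun x _ => Subsingleton.elim x 0⟩
  rw [isReduced_iff_pow_one_lt p hp.one_lt]
  have : CharP (AlgebraicClosure k) p :=
    charP_of_injective_algebraMap (algebraMap k (AlgebraicClosure k)).injective p
  have hinjK : Function.Injective (algebraMap (AlgebraicClosure k) (AlgebraicClosure k ⊗[k] A)) :=
    Algebra.TensorProduct.includeLeft_injective (S := AlgebraicClosure k)
      (algebraMap k A).injective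
  have : CharP (AlgebraicClosure k ⊗[k] A) p := charP_of_injective_algebraMap hinjK p
  intro θ hθ
  let b := Module.Basis.ofVectorSpace k A
  have hθ' : θ = ∑ i ∈ ((b.baseChange (AlgebraicClosure k)).repr θ).support,
      ((b.baseChange (AlgebraicClosure k)).repr θ i) ⊗ₜ[k] b i := by
    conv_lhs => rw [← (b.baseChange (AlgebraicClosure k)).linearCombination_repr θ,
      Finsupp.linearCombination_apply, Finsupp.sum]
    refine Finset.sum_congr rfl fun i _ => ?_
    rw [Module.Basis.baseChange_apply, TensorProduct.smul_tmul', smul_eq_mul, mul_one]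
  have hpow := h _ b b.linearIndependent
  have hli := Module.Flat.linearIndependent_one_tmul (S := AlgebraicClosure k) hpow
  rw [linearIndependent_iff'] at hli
  have hθp : (∑ i ∈ ((b.baseChange (AlgebraicClosure k)).repr θ).support,
      ((b.baseChange (AlgebraicClosure k)).repr θ i) ⊗ₜ[k] b i) ^ p = 0 := by
    rw [← hθ', hθ]
  rw [sum_pow_char] at hθp
  have h1 : ∑ i ∈ ((b.baseChange (AlgebraicClosure k)).repr θ).support,
      ((b.baseChange (AlgebraicClosure k)).repr θ i) ^ p •
        ((1 : AlgebraicClosure k) ⊗ₜ[k] (b i ^ p)) = 0 := by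
    rw [← hθp]
    refine Finset.sum_congr rfl fun i _ => ?_
    rw [Algebra.TensorProduct.tmul_pow, TensorProduct.smul_tmul', smul_eq_mul, mul_one]
  have h2 := hli _ (fun i => ((b.baseChange (AlgebraicClosure k)).repr θ i) ^ p) h1
  have h3 : (b.baseChange (AlgebraicClosure k)).repr θ = 0 := by
    ext i
    by_cases hi : i ∈ ((b.baseChange (AlgebraicClosure k)).repr θ).support
    · exact (pow_eq_zero_iff hp.ne_zero).mp (h2 i hi)
    · exact Finsupp.notMem_support_iff.mp hi
  exact (b.baseChange (AlgebraicClosure k)).repr.map_eq_zero_iff.mp h3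



theorem isGeometricallyReduced_of_isReduced_tensor_of_roots {K : Type u} [Field K] [Algebra k K]
    (hK : ∀ c : k, ∃ d : K, d ^ p = algebraMap k K c) (hred : IsReduced (K ⊗[k] A)) :
    Algebra.IsGeometricallyReduced k A := by
  classical
  have hp : p.Prime := Fact.out
  refine isGeometricallyReduced_of_powLI p ?_
  intro ι s hs
  rcases subsingleton_or_nontrivial A with hA | hA
  · have : IsEmpty ι := ⟨fun i => hs.ne_zero i (Subsingleton.elim _ _)⟩
    exact linearIndependent_empty_type
  have hinj : Function.Injective (algebraMap K (K ⊗[k] A)) :=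
    Algebra.TensorProduct.includeLeft_injective (S := K) (algebraMap k A).injective
  have : CharP K p := charP_of_injective_algebraMap (algebraMap k K).injective p
  have : CharP (K ⊗[k] A) p := charP_of_injective_algebraMap hinj p
  have hli := Module.Flat.linearIndependent_one_tmul (S := K) hs
  rw [linearIndependent_iff'] at hli ⊢
  intro t c hc i₀ hi₀
  choose d hd using hK
  have hθp : (∑ i ∈ t, d (c i) ⊗ₜ[k] s i) ^ p = 0 := by
    rw [sum_pow_char]
    have : ∀ i ∈ t, (d (c i) ⊗ₜ[k] s i) ^ p = (1 : K) ⊗ₜ[k] (c i • s i ^ p) := by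
      intro i _
      rw [Algebra.TensorProduct.tmul_pow, hd, Algebra.algebraMap_eq_smul_one,
        TensorProduct.smul_tmul]
    rw [Finset.sum_congr rfl this, ← TensorProduct.tmul_sum, hc, TensorProduct.tmul_zero]
  have hθ : (∑ i ∈ t, d (c i) ⊗ₜ[k] s i) = 0 := IsReduced.eq_zero _ ⟨p, hθp⟩
  have h1 : ∑ i ∈ t, d (c i) • ((1 : K) ⊗ₜ[k] s i) = 0 := by
    rw [← hθ]
    refine Finset.sum_congr rfl fun i _ => ?_
    rw [TensorProduct.smul_tmul', smul_eq_mul, mul_one]
  have h2 := hli t (fun i => d (c i)) h1 i₀ hi₀
  have h3 : algebraMap k K (c i₀) = 0 := by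
    rw [← hd, h2, zero_pow hp.ne_zero]
  exact (map_eq_zero (algebraMap k K)).mp h3


/-- `k` regarded as an extension of itself through the Frobenius endomorphism. -/
def FrobK (k : Type u) (_p : ℕ) : Type u := k

instance (k : Type u) [Field k] (p : ℕ) : Field (FrobK k p) := inferInstanceAs (Field k)

noncomputable instance frobAlgebra (k : Type u) [Field k] (p : ℕ) [Fact p.Prime] [CharP k p] :
    Algebra k (FrobK k p) := (frobenius k p).toAlgebra

theorem algebraMap_frobK (k : Type u) [Field k] (p : ℕ) [Fact p.Prime] [CharP k p] (c : k) :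
    algebraMap k (FrobK k p) c = (show FrobK k p from c) ^ p := rfl

end Groth.Agent.H38.FrobReduced
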