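import Mathlib

/-!
# Finite type points of schemes (helper38)

* `exists_ne_zero_forall_prime_eq_bot`: a domain `D` inside a field `k` of finite type over `D`
  becomes a field after inverting one element (Artin–Tate / Goldman).
* `exists_notMem_ker_forall_prime_le`: the same for a finite type ring map `R → k`.
* `exists_affineOpen_isClosed_of_lft`: the image of a morphism `Spec k → S` locally of finite type
  is a closed point of some affine open.
* `lft_fromSpecResidueField_of_isClosed`: a point closed in an open subscheme is a finite type point.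
* `exists_mem_isClosed_singleton`: a nonempty relatively closed subset of an affine open contains
  a point closed in that affine open.
-/

set_option autoImplicit false
universe u

namespace Groth.Agent.H38.FtPts

open AlgebraicGeometry CategoryTheory Topology

section algebra

theorem exists_mul_pow_eq {D k : Type*} [CommRing D] [Field k] [Algebra D k] (g : D)
    (hγ : algebraMap D k g ≠ 0)
    {x : k} (hx : x ∈ Algebra.adjoin D {(algebraMap D k g)⁻¹}) :
    ∃ (m : ℕ) (d : D), x * (algebraMap D k g) ^ m = algebraMap D k d := by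
  induction hx using Algebra.adjoin_induction with
  | mem x hx =>
    rw [Set.mem_singleton_iff] at hx
    exact ⟨1, 1, by rw [hx, pow_one, inv_mul_cancel₀ hγ, map_one]⟩
  | algebraMap r => exact ⟨0, r, by rw [pow_zero, mul_one]⟩
  | add x y _ _ hx hy =>
    obtain ⟨m, d, hd⟩ := hx
    obtain ⟨n, e, he⟩ := hy
    refine ⟨m + n, d * g ^ n + e * g ^ m, ?_⟩
    rw [map_add, map_mul, map_mul, map_pow, map_pow, ← hd, ← he, pow_add]
    ring
  | mul x y _ _ hx hy =>
    obtain ⟨m, d, hd⟩ := hx
    obtain ⟨n, e, he⟩ := hy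
    exact ⟨m + n, d * e, by rw [map_mul, ← hd, ← he, pow_add]; ring⟩

/-- **Artin–Tate**: if a field `k` is of finite type over a subdomain `D`, then some nonzero
`g ∈ D` lies in every nonzero prime of `D`. -/
theorem exists_ne_zero_forall_prime_eq_bot {D k : Type*} [CommRing D] [IsDomain D] [Field k]
    [Algebra D k] [Algebra.FiniteType D k] (hinj : Function.Injective (algebraMap D k)) :
    ∃ g : D, g ≠ 0 ∧ ∀ q : Ideal D, q.IsPrime → g ∉ q → q = ⊥ := by
  classical
  have halg : Algebra.IsAlgebraic D k := by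
    letI : Algebra (FractionRing D) k := (IsFractionRing.lift hinj).toAlgebra
    haveI : IsScalarTower D (FractionRing D) k :=
      IsScalarTower.of_algebraMap_eq fun x => (IsFractionRing.lift_algebraMap hinj x).symm
    haveI : Algebra.FiniteType (FractionRing D) k :=
      Algebra.FiniteType.of_restrictScalars_finiteType D (FractionRing D) k
    haveI : Module.Finite (FractionRing D) k :=
      finite_of_finite_type_of_isJacobsonRing (FractionRing D) k
    haveI : Algebra.IsAlgebraic (FractionRing D) k := Algebra.IsAlgebraic.of_finite _ _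
    exact (IsFractionRing.comap_isAlgebraic_iff (A := D) (K := FractionRing D) (C := k)).mpr
      inferInstance
  obtain ⟨s, hs⟩ := (Algebra.FiniteType.out : (⊤ : Subalgebra D k).FG)
  have hy : ∀ x : k, ∃ y : D, y ≠ 0 ∧ IsIntegral D (y • x) :=
    fun x => (halg.isAlgebraic x).exists_integral_multiple
  choose y hy0 hyint using hy
  have hmap0 : ∀ d : D, d ≠ 0 → algebraMap D k d ≠ 0 :=
    fun d hd h => hd (hinj (by rw [h, map_zero]))
  let g : D := ∏ x ∈ s, y x
  have hg0 : g ≠ 0 := Finset.prod_ne_zero_iff.mpr fun x _ => hy0 x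
  refine ⟨g, hg0, fun q hq hgq => ?_⟩
  have hγ0 : algebraMap D k g ≠ 0 := hmap0 g hg0
  let D' : Subalgebra D k := Algebra.adjoin D {(algebraMap D k g)⁻¹}
  have hint : ∀ x ∈ s, IsIntegral D' x := by
    intro x hx
    have h1 : IsIntegral D' (y x • x) := (hyint x).tower_top
    have hyx : algebraMap D k (y x) ≠ 0 := hmap0 _ (hy0 x)
    have h2 : (algebraMap D k (y x))⁻¹ ∈ D' := by
      have : (algebraMap D k (y x))⁻¹ =
          algebraMap D k (∏ z ∈ s.erase x, y z) * (algebraMap D k g)⁻¹ := by
        have hg : g = y x * ∏ z ∈ s.erase x, y z := (Finset.mul_prod_erase s y hx).symm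
        have hz : algebraMap D k (∏ z ∈ s.erase x, y z) ≠ 0 :=
          hmap0 _ (Finset.prod_ne_zero_iff.mpr fun z _ => hy0 z)
        rw [hg, map_mul, mul_inv, mul_comm ((algebraMap D k) (y x))⁻¹, ← mul_assoc,
          mul_inv_cancel₀ hz, one_mul]
      rw [this]
      exact D'.mul_mem (D'.algebraMap_mem _) (Algebra.subset_adjoin rfl)
    have h3 : x = (algebraMap D k (y x))⁻¹ * (y x • x) := by
      rw [Algebra.smul_def, ← mul_assoc, inv_mul_cancel₀ hyx, one_mul]
    rw [h3]
    exact (isIntegral_algebraMap (R := D') (A := k) (x := ⟨_, h2⟩)).mul h1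
  have hall : ∀ x : k, IsIntegral D' x := by
    intro x
    have hx : x ∈ Algebra.adjoin D (s : Set k) := by rw [hs]; trivial
    have hle : Algebra.adjoin D (s : Set k) ≤ (integralClosure D' k).restrictScalars D :=
      Algebra.adjoin_le fun z hz => hint z hz
    exact hle hx
  haveI : Algebra.IsIntegral D' k := ⟨hall⟩
  haveI : FaithfulSMul D' k :=
    (faithfulSMul_iff_algebraMap_injective D' k).mpr Subtype.val_injective
  rw [eq_bot_iff]
  intro a ha
  rw [Ideal.mem_bot]
  by_contra ha0
  have hα : algebraMap D k a ≠ 0 := hmap0 a ha0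
  have hunit : IsUnit (algebraMap D D' a) := by
    apply isUnit_of_map_unit (algebraMap D' k)
    exact IsUnit.mk0 _ hα
  obtain ⟨b, hb⟩ := isUnit_iff_exists_inv.mp hunit
  have hb' : algebraMap D k a * (b : k) = 1 := by
    have := congrArg (Subtype.val : D' → k) hb
    simpa using this
  obtain ⟨m, d, hd⟩ := exists_mul_pow_eq g hγ0 b.2
  have hgm : g ^ m = a * d := by
    apply hinj
    rw [map_pow, map_mul, ← hd, ← mul_assoc, hb', one_mul]
  exact hgq (hq.mem_of_pow_mem m (hgm ▸ q.mul_mem_right d ha))

/-- **Artin–Tate** for a finite type ring map to a field. -/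
theorem exists_notMem_ker_forall_prime_le {R k : Type*} [CommRing R] [Field k] (φ : R →+* k)
    (hφ : φ.FiniteType) :
    ∃ g : R, φ g ≠ 0 ∧
      ∀ q : Ideal R, q.IsPrime → RingHom.ker φ ≤ q → g ∉ q → q ≤ RingHom.ker φ := by
  haveI : (RingHom.ker φ).IsPrime := RingHom.ker_isPrime φ
  letI : Algebra (R ⧸ RingHom.ker φ) k := (RingHom.kerLift φ).toAlgebra
  have hinj : Function.Injective (algebraMap (R ⧸ RingHom.ker φ) k) := RingHom.kerLift_injective φ
  have hft : (RingHom.kerLift φ).FiniteType := by
    apply RingHom.FiniteType.of_comp_finiteType (f := Ideal.Quotient.mk (RingHom.ker φ))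
    convert hφ using 1
    exact RingHom.ext fun x => RingHom.kerLift_mk φ x
  haveI : Algebra.FiniteType (R ⧸ RingHom.ker φ) k := hft
  obtain ⟨g', hg', hq'⟩ := exists_ne_zero_forall_prime_eq_bot (D := R ⧸ RingHom.ker φ) (k := k) hinj
  obtain ⟨g, rfl⟩ := Ideal.Quotient.mk_surjective g'
  refine ⟨g, fun h => hg' ?_, fun q hq hle hgq => ?_⟩
  · rw [Ideal.Quotient.eq_zero_iff_mem]; exact h
  · have hprime : (q.map (Ideal.Quotient.mk (RingHom.ker φ))).IsPrime :=
      Ideal.map_isPrime_of_surjective Ideal.Quotient.mk_surjective (by rwa [Ideal.mk_ker])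
    have hnot : Ideal.Quotient.mk (RingHom.ker φ) g ∉ q.map (Ideal.Quotient.mk (RingHom.ker φ)) := by
      rw [Ideal.mem_quotient_iff_mem hle]; exact hgq
    have hbot := hq' _ hprime hnot
    intro a ha
    have : Ideal.Quotient.mk (RingHom.ker φ) a ∈ q.map (Ideal.Quotient.mk (RingHom.ker φ)) :=
      Ideal.mem_map_of_mem _ ha
    rw [hbot, Ideal.mem_bot, Ideal.Quotient.eq_zero_iff_mem] at this
    exact this

end algebra

section topology

theorem isClosed_singleton_subtype {X : Type*} [TopologicalSpace X] {U : Set X} {x : X}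
    (hx : x ∈ U) (h : ∀ y ∈ U, x ⤳ y → y = x) : IsClosed ({⟨x, hx⟩} : Set U) := by
  rw [← closure_subset_iff_isClosed]
  intro z hz
  have h1 : (⟨x, hx⟩ : U) ⤳ z := specializes_iff_mem_closure.mpr hz
  have h2 : x ⤳ z.1 := (subtype_specializes_iff _ _).mp h1
  exact Subtype.ext (h z.1 z.2 h2)

end topology

section scheme

variable {S : Scheme.{u}}

/-- The image point of a morphism `Spec k → S` locally of finite type is closed in some affine
open neighbourhood. -/
theorem exists_affineOpen_isClosed_of_lft (k : Type u) [Field k]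
    (f : Spec (CommRingCat.of k) ⟶ S) [LocallyOfFiniteType f] (u : S)
    (hu : f.base (IsLocalRing.closedPoint k) = u) :
    ∃ U : S.Opens, IsAffineOpen U ∧ ∃ hu : u ∈ U, IsClosed ({⟨u, hu⟩} : Set ↥U) := by
  subst hu
  set x0 : Spec (CommRingCat.of k) := IsLocalRing.closedPoint k with hx0
  obtain ⟨V, hV, hsV, -⟩ :=
    exists_isAffineOpen_mem_and_subset (x := f.base x0) (U := (⊤ : S.Opens)) trivial
  have hsub : ∀ x : Spec (CommRingCat.of k), x = x0 := fun x =>
    (inferInstance : Subsingleton (PrimeSpectrum k)).elim _ _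
  have hrange : Set.range f.base ⊆ Set.range hV.fromSpec.base := by
    rw [hV.range_fromSpec]
    rintro _ ⟨x, rfl⟩
    rw [hsub x]
    exact hsV
  let g := IsOpenImmersion.lift hV.fromSpec f hrange
  have hg : g ≫ hV.fromSpec = f := IsOpenImmersion.lift_fac _ _ _
  obtain ⟨φ, hφ⟩ := Spec.map_surjective g
  have h1 : LocallyOfFiniteType (Spec.map φ) := by
    rw [hφ]
    have : LocallyOfFiniteType (g ≫ hV.fromSpec) := by rw [hg]; infer_instance
    exact locallyOfFiniteType_of_comp g hV.fromSpec
  have h2 : φ.hom.FiniteType := HasRingHomProperty.Spec_iff.mp h1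
  obtain ⟨r, hr, hq⟩ := exists_notMem_ker_forall_prime_le φ.hom h2
  let p' : PrimeSpectrum Γ(S, V) := (Spec.map φ).base x0
  have hp'ideal : p'.asIdeal = RingHom.ker φ.hom := by
    ext a
    change a ∈ Ideal.comap φ.hom (IsLocalRing.maximalIdeal k) ↔ _
    rw [Ideal.mem_comap, RingHom.mem_ker, IsLocalRing.maximalIdeal_eq_bot, Ideal.mem_bot]
  have hu_eq : f.base x0 = hV.fromSpec.base p' := by
    rw [← hg, ← hφ]; rfl
  refine ⟨S.basicOpen r, hV.basicOpen r, ?_, ?_⟩
  · have : p' ∈ hV.fromSpec ⁻¹ᵁ S.basicOpen r := by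
      rw [hV.fromSpec_preimage_basicOpen]
      change r ∉ p'.asIdeal
      rw [hp'ideal, RingHom.mem_ker]; exact hr
    rw [hu_eq]; exact this
  · apply isClosed_singleton_subtype
    intro y hy hspec
    have hyV : y ∈ V := S.basicOpen_le r hy
    obtain ⟨q, rfl⟩ : ∃ q : PrimeSpectrum Γ(S, V), hV.fromSpec.base q = y := by
      have : y ∈ Set.range hV.fromSpec.base := by rw [hV.range_fromSpec]; exact hyV
      exact this
    rw [hu_eq] at hspec ⊢
    have hsp : p' ⤳ q := hV.fromSpec.isOpenEmbedding.isInducing.specializes_iff.mp hspec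
    have hle : p'.asIdeal ≤ q.asIdeal := (PrimeSpectrum.le_iff_specializes p' q).mpr hsp
    have hrq : r ∉ q.asIdeal := by
      have : q ∈ hV.fromSpec ⁻¹ᵁ S.basicOpen r := hy
      rw [hV.fromSpec_preimage_basicOpen] at this
      exact this
    have hle2 : q.asIdeal ≤ p'.asIdeal := by
      rw [hp'ideal]; exact hq q.asIdeal q.isPrime (hp'ideal ▸ hle) hrq
    congr 1
    exact PrimeSpectrum.ext (le_antisymm hle2 hle)

/-- A point which is closed in an open subscheme is a finite type point. -/
theorem lft_fromSpecResidueField_of_isClosed (U : S.Opens) (s : S) (hs : s ∈ U)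
    (hcl : IsClosed ({⟨s, hs⟩} : Set ↥U)) : LocallyOfFiniteType (S.fromSpecResidueField s) := by
  let s' : U.toScheme := ⟨s, hs⟩
  have h1 : IsClosedImmersion (U.toScheme.fromSpecResidueField s') :=
    isClosed_singleton_iff_isClosedImmersion.mp hcl
  have h2 : LocallyOfFiniteType (U.toScheme.fromSpecResidueField s' ≫ U.ι) := inferInstance
  rw [← Scheme.Hom.SpecMap_residueFieldMap_fromSpecResidueField] at h2
  haveI : IsIso (U.ι.residueFieldMap s') := inferInstance
  haveI : IsIso (Spec.map (U.ι.residueFieldMap s')) := inferInstance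
  exact (MorphismProperty.cancel_left_of_respectsIso @LocallyOfFiniteType
    (Spec.map (U.ι.residueFieldMap s')) (S.fromSpecResidueField (U.ι.base s'))).mp h2

/-- A nonempty relatively closed subset of an affine open contains a point which is closed in that
affine open. -/
theorem exists_mem_isClosed_singleton {W : S.Opens} (hW : IsAffineOpen W) (C : Set S)
    (hC : IsClosed C) {z : S} (hzC : z ∈ C) (hzW : z ∈ W) :
    ∃ t : S, t ∈ C ∧ ∃ ht : t ∈ W, IsClosed ({⟨t, ht⟩} : Set ↥W) := by
  haveI : CompactSpace ↥W := isCompact_iff_compactSpace.mp hW.isCompact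
  have hcl : IsClosed ((Subtype.val : ↥W → S) ⁻¹' C) := hC.preimage continuous_subtype_val
  obtain ⟨t, htC, ht⟩ := hcl.exists_closed_singleton ⟨⟨z, hzW⟩, hzC⟩
  exact ⟨t.1, htC, t.2, ht⟩

/-- The finite type points are exactly the points closed in some affine open. -/
theorem lft_iff (s : S) :
    LocallyOfFiniteType (S.fromSpecResidueField s) ↔
      ∃ U : S.Opens, IsAffineOpen U ∧ ∃ hs : s ∈ U, IsClosed ({⟨s, hs⟩} : Set ↥U) := by
  constructor
  · intro h
    exact exists_affineOpen_isClosed_of_lft (S.residueField s) (S.fromSpecResidueField s) s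
      (Scheme.fromSpecResidueField_apply s _)
  · rintro ⟨U, -, hs, hcl⟩
    exact lft_fromSpecResidueField_of_isClosed U s hs hcl

end scheme

end Groth.Agent.H38.FtPts
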