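import Mathlib

/-!
# Generic finiteness, ring side (helper38)

* `isIntegral_of_surjective_algebraMap`: integral over a quotient ring ⇒ integral over the ring.
* `isIntegral_of_quotient_nil`: integrality lifts modulo a nil ideal.
* `exists_notMem_isIntegral_smul`: `A → B` of finite type, `p` a minimal prime of `A` with finitely
  many primes of `B` over it. Then each `b : B` has a multiple `a • b`, `a ∉ p`, integral over `A`.
* `exists_finite_localization`: under the same hypotheses there is `g ∉ p` such that `A_g → B_g`
  is finite (stated for arbitrary models of the two localizations).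
-/

set_option autoImplicit false
universe u

namespace Groth.Agent.H38.GenFiniteRing

open TensorProduct Polynomial

theorem isIntegral_of_surjective_algebraMap {R R' S : Type*} [CommRing R] [CommRing R']
    [CommRing S] [Algebra R R'] [Algebra R' S] [Algebra R S] [IsScalarTower R R' S]
    (hsurj : Function.Surjective (algebraMap R R')) {x : S} (hx : IsIntegral R' x) :
    IsIntegral R x := by
  rcases subsingleton_or_nontrivial R' with h | h
  · haveI := (algebraMap R' S).codomain_trivial
    exact ⟨Polynomial.X, Polynomial.monic_X, Subsingleton.elim _ _⟩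
  obtain ⟨Q, hQ, hx⟩ := hx
  have hl : Q ∈ Polynomial.lifts (algebraMap R R') := by
    rw [Polynomial.lifts_iff_coeff_lifts]
    intro n
    exact hsurj _
  obtain ⟨Q', hQ', -, hQ'm⟩ := Polynomial.lifts_and_degree_eq_and_monic hl hQ
  refine ⟨Q', hQ'm, ?_⟩
  rw [IsScalarTower.algebraMap_eq R R' S, ← Polynomial.eval₂_map, hQ']
  exact hx

theorem isIntegral_of_quotient_nil {R S : Type*} [CommRing R] [CommRing S] [Algebra R S]
    (I : Ideal S) (hI : I ≤ nilradical S) (s : S)
    (h : IsIntegral R (Ideal.Quotient.mk I s)) : IsIntegral R s := by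
  obtain ⟨Q, hQ, hs⟩ := h
  have h1 : Ideal.Quotient.mk I (eval₂ (algebraMap R S) s Q) = 0 := by
    rw [Polynomial.hom_eval₂]
    exact hs
  have h2 : eval₂ (algebraMap R S) s Q ∈ nilradical S :=
    hI (Ideal.Quotient.eq_zero_iff_mem.mp h1)
  obtain ⟨K, hK⟩ := mem_nilradical.mp h2
  exact ⟨Q ^ K, hQ.pow K, by rw [eval₂_pow, hK]⟩

section

variable {A B : Type*} [CommRing A] [CommRing B] [Algebra A B]

attribute [local instance] Algebra.TensorProduct.rightAlgebra

theorem exists_notMem_isIntegral_smul [Algebra.FiniteType A B] (p : Ideal A) [hp : p.IsPrime]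
    (hmin : p ∈ minimalPrimes A)
    (hfin : (PrimeSpectrum.comap (algebraMap A B) ⁻¹' {⟨p, hp⟩}).Finite) (b : B) :
    ∃ a ∉ p, IsIntegral A (a • b) := by
  have hF : Module.Finite p.ResidueField (p.Fiber B) := by
    rw [Module.finite_iff_isArtinianRing, isArtinianRing_iff_isNoetherianRing_krullDimLE_zero]
    have : IsJacobsonRing (p.Fiber B) := isJacobsonRing_of_finiteType (A := p.ResidueField)
    have : Finite (PrimeSpectrum (p.Fiber B)) :=
      (PrimeSpectrum.preimageEquivFiber A B ⟨p, hp⟩).finite_iff.mp hfin
    exact ⟨Algebra.FiniteType.isNoetherianRing p.ResidueField _,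
      (PrimeSpectrum.discreteTopology_iff_finite_and_krullDimLE_zero.mp inferInstance).right⟩
  -- Step 1: `1 ⊗ b` is integral over the residue field, hence over `A_p`
  have h1 : IsIntegral p.ResidueField ((1 : p.ResidueField) ⊗ₜ[A] b : p.Fiber B) :=
    Algebra.IsIntegral.isIntegral _
  have h2a : IsIntegral (Localization.AtPrime p) ((1 : p.ResidueField) ⊗ₜ[A] b : p.Fiber B) :=
    isIntegral_of_surjective_algebraMap (R' := p.ResidueField) IsLocalRing.residue_surjective h1
  -- Step 2: clear denominators
  obtain ⟨m, hm⟩ := IsIntegral.exists_multiple_integral_of_isLocalization p.primeCompl _ h2a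
  have hm' : IsIntegral A ((1 : p.ResidueField) ⊗ₜ[A] ((m : A) • b) : p.Fiber B) := by
    have : (m • ((1 : p.ResidueField) ⊗ₜ[A] b : p.Fiber B)) =
        ((1 : p.ResidueField) ⊗ₜ[A] ((m : A) • b) : p.Fiber B) := by
      rw [Submonoid.smul_def, TensorProduct.tmul_smul]
    rwa [this] at hm
  -- Step 3: transport to `B_p / (pB)B_p`
  let Bp := Localization (Algebra.algebraMapSubmonoid B p.primeCompl)
  let J : Ideal Bp := (p.map (algebraMap A B)).map (algebraMap B Bp)
  let e : p.Fiber B ≃ₐ[B] Bp ⧸ J := Ideal.Fiber.algEquivAux₁ p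
  have h3 : IsIntegral A (Ideal.Quotient.mk J (algebraMap B Bp ((m : A) • b))) := by
    have := hm'.map (e.restrictScalars A)
    have he : (e.restrictScalars A) ((1 : p.ResidueField) ⊗ₜ[A] ((m : A) • b) : p.Fiber B) =
        Ideal.Quotient.mk J (algebraMap B Bp ((m : A) • b)) := by
      change e (algebraMap B (p.Fiber B) ((m : A) • b)) = _
      rw [e.commutes]
      rfl
    rwa [he] at this
  -- Step 4: `J` is nil
  have hnilA : p.map (algebraMap A (Localization.AtPrime p)) = nilradical (Localization.AtPrime p) := by
    have := IsLocalization.AtPrime.radical_map_of_mem_minimalPrimes (Localization.AtPrime p) p ⊥ hmin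
    rw [Ideal.map_bot] at this
    exact this.symm
  have hJ : J ≤ nilradical Bp := by
    change (p.map (algebraMap A B)).map (algebraMap B Bp) ≤ nilradical Bp
    rw [Ideal.map_map, Ideal.map_le_iff_le_comap]
    intro a ha
    rw [Ideal.mem_comap, mem_nilradical, ← IsScalarTower.algebraMap_eq A B Bp,
      IsScalarTower.algebraMap_apply A (Localization.AtPrime p) Bp]
    refine IsNilpotent.map ?_ _
    rw [← mem_nilradical, ← hnilA]
    exact Ideal.mem_map_of_mem _ ha
  have h4 : IsIntegral A (algebraMap B Bp ((m : A) • b)) := isIntegral_of_quotient_nil J hJ _ h3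
  -- Step 5: back to `B`
  obtain ⟨m', hm'p, h5⟩ := IsLocalization.exists_isIntegral_smul_of_isIntegral_map
    (Sₘ := Bp) p.primeCompl h4
  refine ⟨m' * m, p.primeCompl.mul_mem hm'p m.2, ?_⟩
  rwa [mul_smul]

end

theorem exists_finite_localization {A B : Type u} [CommRing A] [CommRing B] [Algebra A B]
    [Algebra.FiniteType A B] (p : Ideal A) [hp : p.IsPrime]
    (hmin : p ∈ minimalPrimes A)
    (hfin : (PrimeSpectrum.comap (algebraMap A B) ⁻¹' {⟨p, hp⟩}).Finite) :
    ∃ g : A, g ∉ p ∧ ∀ (A' B' : Type u) [CommRing A'] [CommRing B'] [Algebra A A'] [Algebra B B']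
      [IsLocalization.Away g A'] [IsLocalization.Away (algebraMap A B g) B'] (ψ : A' →+* B'),
      ψ.comp (algebraMap A A') = (algebraMap B B').comp (algebraMap A B) → ψ.Finite := by
  classical
  obtain ⟨s, hs⟩ := (Algebra.FiniteType.out : (⊤ : Subalgebra A B).FG)
  choose a ha hint using fun b => exists_notMem_isIntegral_smul p hmin hfin b
  refine ⟨∏ b ∈ s, a b, ?_, ?_⟩
  · intro h
    obtain ⟨b, -, hb⟩ := Ideal.IsPrime.prod_mem_iff.mp h
    exact ha b hb
  · intro A' B' _ _ _ _ _ _ ψ hψ
    letI : Algebra A' B' := ψ.toAlgebra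
    letI : Algebra A B' := ((algebraMap B B').comp (algebraMap A B)).toAlgebra
    haveI : IsScalarTower A B B' := .of_algebraMap_eq' rfl
    haveI : IsScalarTower A A' B' := .of_algebraMap_eq' hψ.symm
    have hgu : IsUnit (algebraMap A A' (∏ b ∈ s, a b)) :=
      IsLocalization.Away.algebraMap_isUnit (∏ b ∈ s, a b)
    obtain ⟨w, hw⟩ := hgu.exists_left_inv
    have hgen : ∀ b ∈ s, IsIntegral A' (algebraMap B B' b) := by
      intro b hb
      have hu : IsUnit (algebraMap A A' (a b)) :=
        isUnit_of_dvd_unit (map_dvd _ (Finset.dvd_prod_of_mem a hb)) hgu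
      have h1 : IsIntegral A' (algebraMap B B' (a b • b)) :=
        ((hint b).algebraMap (B := B')).tower_top
      obtain ⟨v, hv⟩ := hu.exists_left_inv
      have h2 : algebraMap B B' b = algebraMap A' B' v * algebraMap B B' (a b • b) := by
        rw [Algebra.smul_def, map_mul, ← IsScalarTower.algebraMap_apply A B B',
          IsScalarTower.algebraMap_apply A A' B', ← mul_assoc, ← map_mul, hv, map_one, one_mul]
      rw [h2]
      exact isIntegral_algebraMap.mul h1
    have himg : ∀ b : B, IsIntegral A' (algebraMap B B' b) := by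
      intro b
      have hb : b ∈ Algebra.adjoin A (s : Set B) := by rw [hs]; trivial
      induction hb using Algebra.adjoin_induction with
      | mem x hx => exact hgen x hx
      | algebraMap r =>
        rw [← IsScalarTower.algebraMap_apply A B B', IsScalarTower.algebraMap_apply A A' B']
        exact isIntegral_algebraMap
      | add x y _ _ hx hy => rw [map_add]; exact hx.add hy
      | mul x y _ _ hx hy => rw [map_mul]; exact hx.mul hy
    haveI : Algebra.IsIntegral A' B' := by
      refine ⟨fun z => ?_⟩
      obtain ⟨n, c, hc⟩ := IsLocalization.Away.surj (algebraMap A B (∏ b ∈ s, a b)) z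
      have hz : z = algebraMap A' B' (w ^ n) * algebraMap B B' c := by
        rw [← hc, ← IsScalarTower.algebraMap_apply A B B', IsScalarTower.algebraMap_apply A A' B',
          ← map_pow, mul_comm z, ← mul_assoc, ← map_mul, ← mul_pow, hw, one_pow, map_one, one_mul]
      rw [hz]
      exact isIntegral_algebraMap.mul (himg c)
    haveI : Algebra.FinitePresentation B B' :=
      IsLocalization.Away.finitePresentation (algebraMap A B (∏ b ∈ s, a b))
    haveI : Algebra.FiniteType B B' := inferInstance
    haveI : Algebra.FiniteType A B' := Algebra.FiniteType.trans (S := B) inferInstance inferInstance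
    haveI : Algebra.FiniteType A' B' := Algebra.FiniteType.of_restrictScalars_finiteType A A' B'
    exact Algebra.IsIntegral.finite

end Groth.Agent.H38.GenFiniteRing
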