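import Mathlib
import Groth.Agent.H47.MaximalPoints
import Groth.Agent.H11.ClosureSpecializes

/-!
# Disjoint affine neighbourhoods of finitely many maximal points (helper38)

* `notMem_closure_of_isCompact`: in a quasi-separated scheme a maximal point outside a compact open
  `T` is outside the closure of `T`.
* `exists_disjoint_affine_nhds`: finitely many maximal points outside a compact open `W₀` have
  pairwise disjoint affine open neighbourhoods, all disjoint from `W₀`.
-/

set_option autoImplicit false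
universe u

namespace Groth.Agent.H38.GenericAffine

open AlgebraicGeometry CategoryTheory TopologicalSpace

variable {X : Scheme.{u}}

theorem notMem_closure_of_isCompact [QuasiSeparatedSpace X] (T : X.Opens)
    (hT : IsCompact (T : Set X)) (η : X) (hη : closure ({η} : Set X) ∈ irreducibleComponents (X : Type u))
    (hηT : η ∉ T) : η ∉ closure (T : Set X) := by
  intro hmem
  haveI : CompactSpace ↥T.toScheme := isCompact_iff_compactSpace.mp hT
  haveI : QuasiCompact T.ι := inferInstance
  have hrange : Set.range T.ι.base = (T : Set X) := by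
    simpa using congrArg (fun U : X.Opens => (U : Set X)) T.opensRange_ι
  obtain ⟨e, he⟩ := H11.exists_specializes_of_mem_closure_range T.ι η (by rw [hrange]; exact hmem)
  have : T.ι.base e = η := H47.eq_of_specializes_of_mem_irreducibleComponents hη he
  exact hηT (this ▸ e.2)

theorem exists_disjoint_affine_nhds [QuasiSeparatedSpace X] (W₀ : X.Opens)
    (hW₀ : IsCompact (W₀ : Set X)) (s : Finset X)
    (hs : ∀ p ∈ s, closure ({p} : Set X) ∈ irreducibleComponents (X : Type u))
    (hsW : ∀ p ∈ s, p ∉ W₀) :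
    ∃ U : X → X.Opens, (∀ p ∈ s, IsAffineOpen (U p) ∧ p ∈ U p ∧ Disjoint (U p) W₀) ∧
      ∀ p ∈ s, ∀ q ∈ s, p ≠ q → Disjoint (U p) (U q) := by
  classical
  -- step a/b: affine nhds `W p` of `p` avoiding the other points
  have hW : ∀ p : X, ∃ W : X.Opens, p ∈ s → (IsAffineOpen W ∧ p ∈ W ∧ ∀ q ∈ s, q ≠ p → q ∉ W) := by
    intro p
    by_cases hp : p ∈ s
    · let C : Set X := ⋃ q ∈ s.erase p, closure {q}
      have hC : IsClosed C := Set.Finite.isClosed_biUnion (s.erase p).finite_toSet
        fun q _ => isClosed_closure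
      have hpC : p ∉ C := by
        intro h
        simp only [C, Set.mem_iUnion] at h
        obtain ⟨q, hq, hpq⟩ := h
        have hq' := Finset.mem_erase.mp hq
        have : q ⤳ p := specializes_iff_mem_closure.mpr hpq
        exact hq'.1 (H47.eq_of_specializes_of_mem_irreducibleComponents (hs p hp) this)
      obtain ⟨W, hWaff, hpW, hWC⟩ := exists_isAffineOpen_mem_and_subset (x := p)
        (U := (⟨Cᶜ, hC.isOpen_compl⟩ : X.Opens)) hpC
      refine ⟨W, fun _ => ⟨hWaff, hpW, fun q hq hqp hqW => ?_⟩⟩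
      have : q ∈ C := by
        simp only [C, Set.mem_iUnion]
        exact ⟨q, Finset.mem_erase.mpr ⟨hqp, hq⟩, subset_closure rfl⟩
      exact hWC hqW this
    · exact ⟨⊥, fun h => absurd h hp⟩
  choose W hW using hW
  -- step c: the compact open `T p`
  let T : X → X.Opens := fun p => W p ⊓ (W₀ ⊔ ⨆ q ∈ s.erase p, W q)
  have hTc : ∀ p ∈ s, IsCompact (T p : Set X) := by
    intro p hp
    have h1 : IsCompact ((W₀ ⊔ ⨆ q ∈ s.erase p, W q : X.Opens) : Set X) := by
      rw [Opens.coe_sup]
      refine hW₀.union ?_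
      simp only [Opens.coe_iSup]
      exact (s.erase p).isCompact_biUnion fun q hq =>
        (hW q (Finset.mem_erase.mp hq).2).1.isCompact
    rw [Opens.coe_inf]
    exact QuasiSeparatedSpace.inter_isCompact _ _ (W p).2 (hW p hp).1.isCompact
      (Opens.isOpen _) h1
  have hpT : ∀ p ∈ s, p ∉ T p := by
    intro p hp h
    have h2 : p ∈ (W₀ ⊔ ⨆ q ∈ s.erase p, W q : X.Opens) := h.2
    rw [← SetLike.mem_coe, Opens.coe_sup] at h2
    rcases h2 with h2 | h2
    · exact hsW p hp h2
    · simp only [Opens.coe_iSup, Set.mem_iUnion] at h2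
      obtain ⟨q, hq, hpq⟩ := h2
      have hq' := Finset.mem_erase.mp hq
      exact (hW q hq'.2).2.2 p hp (Ne.symm hq'.1) hpq
  -- step d: affine nhds inside `W p` and off `closure (T p)`
  have hU : ∀ p : X, ∃ U : X.Opens, p ∈ s →
      (IsAffineOpen U ∧ p ∈ U ∧ U ≤ W p ∧ Disjoint (U : Set X) (T p : Set X)) := by
    intro p
    by_cases hp : p ∈ s
    · have hpc : p ∉ closure (T p : Set X) :=
        notMem_closure_of_isCompact (T p) (hTc p hp) p (hs p hp) (hpT p hp)
      obtain ⟨U, hUaff, hpU, hUsub⟩ := exists_isAffineOpen_mem_and_subset (x := p)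
        (U := W p ⊓ (⟨(closure (T p : Set X))ᶜ, isClosed_closure.isOpen_compl⟩ : X.Opens))
        ⟨(hW p hp).2.1, hpc⟩
      refine ⟨U, fun _ => ⟨hUaff, hpU, fun x hx => (hUsub hx).1, ?_⟩⟩
      rw [Set.disjoint_left]
      intro x hxU hxT
      exact (hUsub hxU).2 (subset_closure hxT)
    · exact ⟨⊥, fun h => absurd h hp⟩
  choose U hU using hU
  refine ⟨U, fun p hp => ⟨(hU p hp).1, (hU p hp).2.1, ?_⟩, fun p hp q hq hpq => ?_⟩
  · rw [← Opens.coe_disjoint, Set.disjoint_left]
    intro x hxU hxW₀
    have hxT : x ∈ T p := ⟨(hU p hp).2.2.1 hxU, by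
      rw [Opens.coe_sup]; exact Or.inl hxW₀⟩
    exact Set.disjoint_left.mp (hU p hp).2.2.2 hxU hxT
  · rw [← Opens.coe_disjoint, Set.disjoint_left]
    intro x hxU hxUq
    have hxT : x ∈ T p := ⟨(hU p hp).2.2.1 hxU, by
      rw [Opens.coe_sup]
      refine Or.inr ?_
      simp only [Opens.coe_iSup, Set.mem_iUnion]
      exact ⟨q, Finset.mem_erase.mpr ⟨Ne.symm hpq, hq⟩, (hU q hq).2.2.1 hxUq⟩⟩
    exact Set.disjoint_left.mp (hU p hp).2.2.2 hxU hxT

end Groth.Agent.H38.GenericAffine
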