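import Mathlib
import Groth.Agent.H38.GenFiniteRing
import Groth.Agent.H38.GenericAffine

/-!
# Generically finite morphisms (helper38)

* `exists_affine_isFinite`: `f` locally of finite type and quasi-compact, `η` a maximal point of `Y`
  with finite fibre contained in an affine open `U ≤ f⁻¹ V₀`, `V₀ ∋ η` affine. Then `f` is finite
  over an affine open neighbourhood `V ≤ V₀` of `η`.
* `exists_affine_isFinite_of_finite_fiber`: the quasi-separated case, no `U` needed.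
* `finite_preimage_of_isFinite`, `isFinite_morphismRestrict_iSup`,
  `exists_dense_open_isFinite`.
-/

set_option autoImplicit false
universe u

namespace Groth.Agent.H38.GenFinite

open AlgebraicGeometry CategoryTheory TopologicalSpace

/-- A maximal point of `Y` in an affine open gives a minimal prime. -/
theorem primeIdealOf_mem_minimalPrimes {Y : Scheme.{u}} (η : Y)
    (hη : closure ({η} : Set Y) ∈ irreducibleComponents (Y : Type u)) {V₀ : Y.Opens}
    (hV₀ : IsAffineOpen V₀) (hηV : η ∈ V₀) :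
    (hV₀.primeIdealOf ⟨η, hηV⟩).asIdeal ∈ minimalPrimes Γ(Y, V₀) := by
  change Minimal (fun q : Ideal Γ(Y, V₀) => q.IsPrime ∧ ⊥ ≤ q) _
  refine And.intro ⟨(hV₀.primeIdealOf ⟨η, hηV⟩).isPrime, bot_le⟩ (fun q hq hqp => ?_)
  let y' : PrimeSpectrum Γ(Y, V₀) := ⟨q, hq.1⟩
  have hle : y' ≤ hV₀.primeIdealOf ⟨η, hηV⟩ := hqp
  have hspec : y' ⤳ hV₀.primeIdealOf ⟨η, hηV⟩ := (PrimeSpectrum.le_iff_specializes _ _).mp hle
  have h2 : hV₀.fromSpec y' ⤳ hV₀.fromSpec (hV₀.primeIdealOf ⟨η, hηV⟩) :=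
    hspec.map hV₀.fromSpec.continuous
  rw [hV₀.fromSpec_primeIdealOf] at h2
  have h3 : hV₀.fromSpec y' = η := H47.eq_of_specializes_of_mem_irreducibleComponents hη h2
  have h4 : y' = hV₀.primeIdealOf ⟨η, hηV⟩ :=
    hV₀.fromSpec.isOpenEmbedding.injective
      (h3.trans (hV₀.fromSpec_primeIdealOf ⟨η, hηV⟩).symm)
  exact (congrArg PrimeSpectrum.asIdeal h4).ge

/-- Finite fibre over `η` gives finitely many primes over the prime of `η`. -/
theorem finite_comap_preimage {X Y : Scheme.{u}} (f : X ⟶ Y) (η : Y)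
    (hfin : (f.base ⁻¹' {η}).Finite) {V₀ : Y.Opens} (hV₀ : IsAffineOpen V₀) (hηV : η ∈ V₀)
    {U : X.Opens} (hU : IsAffineOpen U) (e : U ≤ f ⁻¹ᵁ V₀) :
    (PrimeSpectrum.comap (f.appLE V₀ U e).hom ⁻¹' {hV₀.primeIdealOf ⟨η, hηV⟩}).Finite := by
  have hinj : Function.Injective hU.fromSpec.base := hU.fromSpec.isOpenEmbedding.injective
  refine (Set.Finite.preimage hinj.injOn hfin).subset ?_
  intro q hq
  have hq' : Spec.map (f.appLE V₀ U e) q = hV₀.primeIdealOf ⟨η, hηV⟩ := hq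
  show f (hU.fromSpec q) = η
  rw [← Scheme.Hom.comp_apply, ← hV₀.SpecMap_appLE_fromSpec f hU e, Scheme.Hom.comp_apply, hq',
    hV₀.fromSpec_primeIdealOf]

set_option backward.isDefEq.respectTransparency false in
/-- The case where `f⁻¹ V₀` is affine. -/
theorem exists_basicOpen_isFinite {X Y : Scheme.{u}} (f : X ⟶ Y) [LocallyOfFiniteType f]
    (η : Y) (hη : closure ({η} : Set Y) ∈ irreducibleComponents (Y : Type u))
    (hfin : (f.base ⁻¹' {η}).Finite)
    {V₀ : Y.Opens} (hV₀ : IsAffineOpen V₀) (hηV : η ∈ V₀) (hU : IsAffineOpen (f ⁻¹ᵁ V₀)) :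
    ∃ g : Γ(Y, V₀), η ∈ Y.basicOpen g ∧ IsFinite (f ∣_ Y.basicOpen g) := by
  letI : Algebra Γ(Y, V₀) Γ(X, f ⁻¹ᵁ V₀) := (f.appLE V₀ (f ⁻¹ᵁ V₀) le_rfl).hom.toAlgebra
  haveI : Algebra.FiniteType Γ(Y, V₀) Γ(X, f ⁻¹ᵁ V₀) :=
    HasRingHomProperty.appLE @LocallyOfFiniteType f inferInstance ⟨V₀, hV₀⟩ ⟨_, hU⟩ le_rfl
  haveI : (hV₀.primeIdealOf ⟨η, hηV⟩).asIdeal.IsPrime := (hV₀.primeIdealOf ⟨η, hηV⟩).isPrime
  obtain ⟨g, hg, H⟩ := GenFiniteRing.exists_finite_localization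
    (A := Γ(Y, V₀)) (B := Γ(X, f ⁻¹ᵁ V₀)) (hV₀.primeIdealOf ⟨η, hηV⟩).asIdeal
    (primeIdealOf_mem_minimalPrimes η hη hV₀ hηV) (finite_comap_preimage f η hfin hV₀ hηV hU le_rfl)
  refine ⟨g, ?_, ?_⟩
  · have h1 : hV₀.primeIdealOf ⟨η, hηV⟩ ∈ hV₀.fromSpec ⁻¹ᵁ Y.basicOpen g := by
      rw [hV₀.fromSpec_preimage_basicOpen]
      exact hg
    have h2 : hV₀.fromSpec (hV₀.primeIdealOf ⟨η, hηV⟩) ∈ Y.basicOpen g := h1
    rwa [hV₀.fromSpec_primeIdealOf] at h2
  · have hV : IsAffineOpen (Y.basicOpen g) := hV₀.basicOpen g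
    have hpre : f ⁻¹ᵁ Y.basicOpen g =
        X.basicOpen ((f.appLE V₀ (f ⁻¹ᵁ V₀) le_rfl).hom g) := by
      rw [Scheme.preimage_basicOpen, Scheme.Hom.app_eq_appLE]
    have hXaff : IsAffineOpen (f ⁻¹ᵁ Y.basicOpen g) := by
      rw [hpre]; exact hU.basicOpen _
    haveI : IsAffine (Y.basicOpen g).toScheme := hV
    refine (HasAffineProperty.iff_of_isAffine (P := @IsFinite)).mpr ⟨hXaff, ?_⟩
    rw [morphismRestrict_appTop, CommRingCat.hom_comp,
      RingHom.finite_respectsIso.cancel_right_isIso]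
    change RingHom.Finite (Scheme.Hom.app f ((Y.basicOpen g).ι ''ᵁ ⊤)).hom
    rw [Scheme.Opens.ι_image_top]
    letI : Algebra Γ(X, f ⁻¹ᵁ V₀) Γ(X, f ⁻¹ᵁ Y.basicOpen g) :=
      (X.presheaf.map (homOfLE (f.preimage_mono (Y.basicOpen_le g))).op).hom.toAlgebra
    haveI : IsLocalization.Away (algebraMap Γ(Y, V₀) Γ(X, f ⁻¹ᵁ V₀) g)
        Γ(X, f ⁻¹ᵁ Y.basicOpen g) :=
      hU.isLocalization_of_eq_basicOpen ((f.appLE V₀ (f ⁻¹ᵁ V₀) le_rfl).hom g)
        (homOfLE (f.preimage_mono (Y.basicOpen_le g))) hpre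
    haveI : IsLocalization.Away g Γ(Y, Y.basicOpen g) := hV₀.isLocalization_basicOpen g
    refine H Γ(Y, Y.basicOpen g) Γ(X, f ⁻¹ᵁ Y.basicOpen g) (f.app (Y.basicOpen g)).hom ?_
    have hcomm : Y.presheaf.map (homOfLE (Y.basicOpen_le g)).op ≫ f.app (Y.basicOpen g) =
        f.appLE V₀ (f ⁻¹ᵁ V₀) le_rfl ≫
          X.presheaf.map (homOfLE (f.preimage_mono (Y.basicOpen_le g))).op := by
      rw [Scheme.Hom.app_eq_appLE, Scheme.Hom.map_appLE, Scheme.Hom.appLE_map]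
    exact congrArg CommRingCat.Hom.hom hcomm

/-- Main local statement: `f` is finite over an affine neighbourhood of the maximal point `η`,
given an affine open `U ≤ f⁻¹ V₀` containing the finite fibre. -/
theorem exists_affine_isFinite {X Y : Scheme.{u}} (f : X ⟶ Y) [LocallyOfFiniteType f]
    [QuasiCompact f] (η : Y)
    (hη : closure ({η} : Set Y) ∈ irreducibleComponents (Y : Type u))
    (hfin : (f.base ⁻¹' {η}).Finite)
    {V₀ : Y.Opens} (hV₀ : IsAffineOpen V₀) (hηV : η ∈ V₀)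
    {U : X.Opens} (hU : IsAffineOpen U) (hUV : U ≤ f ⁻¹ᵁ V₀)
    (hfib : f.base ⁻¹' {η} ⊆ (U : Set X)) :
    ∃ V : Y.Opens, IsAffineOpen V ∧ η ∈ V ∧ V ≤ V₀ ∧ IsFinite (f ∣_ V) := by
  let X₀ : X.Opens := f ⁻¹ᵁ V₀
  let Z₀ : Closeds X₀.toScheme :=
    ⟨((X₀.ι ⁻¹ᵁ U : X₀.toScheme.Opens) : Set X₀.toScheme)ᶜ, (X₀.ι ⁻¹ᵁ U).isOpen.isClosed_compl⟩
  let 𝓘 := Scheme.IdealSheafData.vanishingIdeal Z₀
  let k : 𝓘.subscheme ⟶ V₀.toScheme := 𝓘.subschemeι ≫ (f ∣_ V₀)
  have hrange : Set.range 𝓘.subschemeι = (Z₀ : Set X₀.toScheme) := by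
    rw [Scheme.IdealSheafData.range_subschemeι]
    exact Scheme.IdealSheafData.coe_support_vanishingIdeal Z₀
  have hres : ∀ w : X₀.toScheme, V₀.ι ((f ∣_ V₀) w) = f (X₀.ι w) := fun w => by
    rw [← Scheme.Hom.comp_apply, ← Scheme.Hom.comp_apply, morphismRestrict_ι]
  have hk : ∀ z, k z = (f ∣_ V₀) (𝓘.subschemeι z) := fun z => Scheme.Hom.comp_apply _ _ _
  let η' : V₀.toScheme := ⟨η, hηV⟩
  have hcl : η' ∉ closure (Set.range k) := by
    intro hmem
    obtain ⟨z, hz⟩ := H11.exists_specializes_of_mem_closure_range k η' hmem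
    have h1 : V₀.ι (k z) ⤳ V₀.ι η' := hz.map V₀.ι.continuous
    have h2 : V₀.ι (k z) = η := H47.eq_of_specializes_of_mem_irreducibleComponents hη h1
    have h3 : f (X₀.ι (𝓘.subschemeι z)) = η := by
      rw [← hres, ← hk]; exact h2
    have h4 : 𝓘.subschemeι z ∈ (Z₀ : Set X₀.toScheme) := hrange ▸ Set.mem_range_self z
    have h5 : X₀.ι (𝓘.subschemeι z) ∉ U := h4
    exact h5 (hfib h3)
  let W : V₀.toScheme.Opens := ⟨(closure (Set.range k))ᶜ, isClosed_closure.isOpen_compl⟩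
  have hηW' : η ∈ V₀.ι ''ᵁ W := by
    have : V₀.ι η' ∈ V₀.ι.base '' (W : Set V₀.toScheme) := Set.mem_image_of_mem _ hcl
    exact this
  obtain ⟨g₁, hg₁W, hηg₁⟩ := hV₀.exists_basicOpen_le (V := V₀.ι ''ᵁ W) ⟨η, hηW'⟩ hηV
  have hV₁ : IsAffineOpen (Y.basicOpen g₁) := hV₀.basicOpen g₁
  have hpre : f ⁻¹ᵁ Y.basicOpen g₁ ≤ U := by
    intro x hx
    by_contra hxU
    have hfx : f x ∈ Y.basicOpen g₁ := hx
    obtain ⟨v, hvW, hv⟩ := hg₁W hfx
    have hxX₀ : x ∈ X₀ := Y.basicOpen_le g₁ hfx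
    let w : X₀.toScheme := ⟨x, hxX₀⟩
    have hwZ : w ∈ (Z₀ : Set X₀.toScheme) := hxU
    rw [← hrange] at hwZ
    obtain ⟨z, hz⟩ := hwZ
    have h1 : V₀.ι (k z) = V₀.ι v := by
      rw [hk, hz, hres]
      exact hv.symm
    have h2 : k z = v := V₀.ι.isOpenEmbedding.injective h1
    exact hvW (subset_closure ⟨z, h2⟩)
  have hb : X.basicOpen ((f.appLE V₀ U hUV).hom g₁) = f ⁻¹ᵁ Y.basicOpen g₁ := by
    have h1 : X.basicOpen ((f.appLE V₀ U hUV).hom g₁) = U ⊓ X.basicOpen ((f.app V₀).hom g₁) :=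
      Scheme.basicOpen_res X ((f.app V₀).hom g₁) (homOfLE hUV).op
    rw [h1, ← Scheme.preimage_basicOpen]
    exact inf_eq_right.mpr hpre
  have hXaff : IsAffineOpen (f ⁻¹ᵁ Y.basicOpen g₁) := hb ▸ hU.basicOpen _
  obtain ⟨g, hηg, hg⟩ := exists_basicOpen_isFinite f η hη hfin hV₁ hηg₁ hXaff
  exact ⟨Y.basicOpen g, hV₁.basicOpen g, hηg, (Y.basicOpen_le g).trans (Y.basicOpen_le g₁), hg⟩

/-- Points of a finite fibre over a maximal point are maximal points. -/
theorem mem_irreducibleComponents_of_finite_fiber {X Y : Scheme.{u}} (f : X ⟶ Y)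
    [LocallyOfFiniteType f] (η : Y)
    (hη : closure ({η} : Set Y) ∈ irreducibleComponents (Y : Type u))
    (hfin : (f.base ⁻¹' {η}).Finite) (x : X) (hx : f.base x = η) :
    closure ({x} : Set X) ∈ irreducibleComponents (X : Type u) := by
  haveI : Finite (f.fiber η) := (f.fiberHomeo η).toEquiv.finite_iff.mpr hfin
  haveI : DiscreteTopology (f.base ⁻¹' {η}) := (f.fiberHomeo η).discreteTopology
  obtain ⟨ξ, hξ, hspec⟩ := H47.exists_maximal_point_specializes x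
  have hfξ : f.base ξ = η := by
    have := hspec.map f.continuous
    rw [hx] at this
    exact H47.eq_of_specializes_of_mem_irreducibleComponents hη this
  have h1 : (⟨ξ, hfξ⟩ : f.base ⁻¹' {η}) ⤳ ⟨x, hx⟩ := (subtype_specializes_iff _ _).mpr hspec
  have h2 : ξ = x := congrArg Subtype.val h1.eq
  exact h2 ▸ hξ

/-- Maximal points of `X` lying in an open are maximal points of the open subscheme. -/
theorem mem_irreducibleComponents_opens {X : Scheme.{u}} (X₀ : X.Opens) (p : X₀.toScheme)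
    (hp : closure ({X₀.ι.base p} : Set X) ∈ irreducibleComponents (X : Type u)) :
    closure ({p} : Set X₀.toScheme) ∈ irreducibleComponents (X₀.toScheme : Type u) := by
  obtain ⟨ξ, hξ, hspec⟩ := H47.exists_maximal_point_specializes (T := X₀.toScheme) p
  have h1 : X₀.ι.base ξ ⤳ X₀.ι.base p := hspec.map X₀.ι.continuous
  have h2 := H47.eq_of_specializes_of_mem_irreducibleComponents hp h1
  have h3 : ξ = p := X₀.ι.isOpenEmbedding.injective h2
  exact h3 ▸ hξ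

/-- Quasi-separated case: finite fibre over a maximal point ⇒ finite over an affine nhd. -/
theorem exists_affine_isFinite_of_finite_fiber {X Y : Scheme.{u}} (f : X ⟶ Y)
    [LocallyOfFiniteType f] [QuasiCompact f] [QuasiSeparated f] (η : Y)
    (hη : closure ({η} : Set Y) ∈ irreducibleComponents (Y : Type u))
    (hfin : (f.base ⁻¹' {η}).Finite) :
    ∃ V : Y.Opens, IsAffineOpen V ∧ η ∈ V ∧ IsFinite (f ∣_ V) := by
  classical
  obtain ⟨V₀, hV₀, hηV, -⟩ :=
    exists_isAffineOpen_mem_and_subset (x := η) (U := (⊤ : Y.Opens)) trivial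
  let X₀ : X.Opens := f ⁻¹ᵁ V₀
  haveI : IsAffine V₀.toScheme := hV₀
  haveI : QuasiSeparatedSpace X₀.toScheme := quasiSeparatedSpace_of_quasiSeparated (f ∣_ V₀)
  have hinj : Function.Injective X₀.ι.base := X₀.ι.isOpenEmbedding.injective
  have hfin' : (X₀.ι.base ⁻¹' (f.base ⁻¹' {η})).Finite := hfin.preimage hinj.injOn
  let s : Finset X₀.toScheme := hfin'.toFinset
  have hs : ∀ p ∈ s, closure ({p} : Set X₀.toScheme) ∈
      irreducibleComponents (X₀.toScheme : Type u) := by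
    intro p hp
    have hp' : f.base (X₀.ι.base p) = η := hfin'.mem_toFinset.mp hp
    exact mem_irreducibleComponents_opens X₀ p
      (mem_irreducibleComponents_of_finite_fiber f η hη hfin _ hp')
  obtain ⟨U', hU'1, hU'2⟩ := GenericAffine.exists_disjoint_affine_nhds (X := X₀.toScheme) ⊥
    (by simp) s hs (fun p _ => by simp)
  have hU''aff : IsAffineOpen (⨆ p ∈ (s : Set X₀.toScheme), U' p) :=
    IsAffineOpen.biSup_of_disjoint s.finite_toSet (fun p hp => (hU'1 p hp).1)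
      (fun p hp q hq hpq => hU'2 p hp q hq hpq)
  have hUaff : IsAffineOpen (X₀.ι ''ᵁ (⨆ p ∈ (s : Set X₀.toScheme), U' p)) :=
    hU''aff.image_of_isOpenImmersion X₀.ι
  have hUV : X₀.ι ''ᵁ (⨆ p ∈ (s : Set X₀.toScheme), U' p) ≤ f ⁻¹ᵁ V₀ := by
    rintro _ ⟨w, -, rfl⟩
    exact w.2
  have hfib : f.base ⁻¹' {η} ⊆
      ((X₀.ι ''ᵁ (⨆ p ∈ (s : Set X₀.toScheme), U' p) : X.Opens) : Set X) := by
    intro x hx
    have hx' : f.base x = η := hx
    have hxX₀ : x ∈ X₀ := by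
      show f.base x ∈ V₀
      rw [hx']; exact hηV
    have hw : (⟨x, hxX₀⟩ : X₀.toScheme) ∈ s := hfin'.mem_toFinset.mpr hx
    refine ⟨⟨x, hxX₀⟩, ?_, rfl⟩
    simp only [SetLike.mem_coe, Opens.mem_iSup]
    exact ⟨⟨x, hxX₀⟩, Finset.mem_coe.mpr hw, (hU'1 _ hw).2.1⟩
  obtain ⟨V, hV, hηV', -, hfinV⟩ :=
    exists_affine_isFinite f η hη hfin hV₀ hηV hUaff hUV hfib
  exact ⟨V, hV, hηV', hfinV⟩

/-- A morphism finite over a neighbourhood of `η` has finite fibre over `η`. -/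
theorem finite_preimage_of_isFinite {X Y : Scheme.{u}} (f : X ⟶ Y) (η : Y) (V : Y.Opens)
    (hηV : η ∈ V) [IsFinite (f ∣_ V)] : (f.base ⁻¹' {η}).Finite := by
  have h := Scheme.Hom.finite_preimage_singleton (f ∣_ V) ⟨η, hηV⟩
  refine (h.image (f ⁻¹ᵁ V).ι.base).subset ?_
  intro x hx
  have hx' : f.base x = η := hx
  have hxV : x ∈ f ⁻¹ᵁ V := by
    show f.base x ∈ V
    rw [hx']; exact hηV
  refine ⟨⟨x, hxV⟩, ?_, rfl⟩
  show (f ∣_ V) ⟨x, hxV⟩ = ⟨η, hηV⟩
  apply Subtype.ext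
  show V.ι ((f ∣_ V) ⟨x, hxV⟩) = η
  rw [← Scheme.Hom.comp_apply, morphismRestrict_ι, Scheme.Hom.comp_apply]
  exact hx'

/-- Finiteness over each member of a family of opens gives finiteness over the union. -/
theorem isFinite_morphismRestrict_iSup {X Y : Scheme.{u}} (f : X ⟶ Y) {ι : Type*}
    (V : ι → Y.Opens) (h : ∀ i, IsFinite (f ∣_ V i)) : IsFinite (f ∣_ ⨆ i, V i) := by
  refine IsZariskiLocalAtTarget.of_iSup_eq_top (P := @IsFinite)
    (fun i => (⨆ i, V i).ι ⁻¹ᵁ V i) ?_ fun i => ?_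
  · refine eq_top_iff.mpr fun x _ => ?_
    have hx : x.1 ∈ ⨆ i, V i := x.2
    obtain ⟨i, hi⟩ := Opens.mem_iSup.mp hx
    exact Opens.mem_iSup.mpr ⟨i, hi⟩
  · have e : (⨆ i, V i).ι ''ᵁ ((⨆ i, V i).ι ⁻¹ᵁ V i) = V i := by
      rw [Scheme.Hom.image_preimage_eq_opensRange_inf, Scheme.Opens.opensRange_ι]
      exact inf_eq_right.mpr (le_iSup V i)
    exact (MorphismProperty.arrow_mk_iso_iff @IsFinite
      (morphismRestrictRestrict f _ _ ≪≫ morphismRestrictEq f e)).mpr (h i)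

/-- Pairwise disjoint open neighbourhoods of the maximal points of a space with finitely many
irreducible components. -/
theorem exists_disjoint_open_nhds {T : Type*} [TopologicalSpace T] [T0Space T]
    (hT : (irreducibleComponents T).Finite) :
    ∃ O : T → Set T, (∀ p, closure {p} ∈ irreducibleComponents T → IsOpen (O p) ∧ p ∈ O p) ∧
      ∀ p q, closure {p} ∈ irreducibleComponents T → closure {q} ∈ irreducibleComponents T →
        p ≠ q → Disjoint (O p) (O q) := by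
  refine ⟨fun p => (⋃ Z ∈ irreducibleComponents T \ {closure {p}}, Z)ᶜ,
    fun p hp => ⟨?_, ?_⟩, fun p q hp hq hpq => ?_⟩
  · refine isOpen_compl_iff.mpr ?_
    exact Set.Finite.isClosed_biUnion (hT.subset fun Z hZ => hZ.1)
      fun Z hZ => isClosed_of_mem_irreducibleComponents Z hZ.1
  · rw [Set.mem_compl_iff]
    intro hmem
    obtain ⟨Z, hZ, hpZ⟩ := Set.mem_iUnion₂.mp hmem
    have hZcl : IsClosed Z := isClosed_of_mem_irreducibleComponents Z hZ.1
    have h1 : closure {p} ⊆ Z := closure_minimal (Set.singleton_subset_iff.mpr hpZ) hZcl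
    have h2 : Z ⊆ closure {p} := hp.le_of_ge hZ.1.prop h1
    exact hZ.2 (Set.Subset.antisymm h2 h1)
  · rw [Set.disjoint_left]
    intro x hxp hxq
    rw [Set.mem_compl_iff] at hxp hxq
    obtain ⟨Z, hZ, hxZ⟩ := exists_mem_irreducibleComponents_subset_of_isIrreducible
      ({x} : Set T) isIrreducible_singleton
    have hZp : Z = closure {p} := by
      by_contra hne
      exact hxp (Set.mem_iUnion₂.mpr ⟨Z, ⟨hZ, hne⟩, hxZ rfl⟩)
    have hZq : Z = closure {q} := by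
      by_contra hne
      exact hxq (Set.mem_iUnion₂.mpr ⟨Z, ⟨hZ, hne⟩, hxZ rfl⟩)
    exact hpq (inseparable_iff_closure_eq.mpr (hZp.symm.trans hZq)).eq

/-- `f` locally of finite type, quasi-compact, `X` with finitely many irreducible components and
generic points of `X` exactly the points over generic points of `Y`: `f` is finite over a dense
open. -/
theorem exists_dense_open_isFinite {X Y : Scheme.{u}} (f : X ⟶ Y) [LocallyOfFiniteType f]
    [QuasiCompact f] (hX : (irreducibleComponents (X : Type u)).Finite)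
    (hgen : ∀ x : X, closure {x} ∈ irreducibleComponents (X : Type u) ↔
      closure {f.base x} ∈ irreducibleComponents (Y : Type u)) :
    ∃ V : Y.Opens, Dense (V : Set Y) ∧ IsFinite (f ∣_ V) := by
  classical
  obtain ⟨O, hO1, hO2⟩ := exists_disjoint_open_nhds (T := X) hX
  have hX0 : ((fun x : X => closure ({x} : Set X)) ⁻¹' irreducibleComponents (X : Type u)).Finite :=
    hX.preimage (fun a _ b _ h => (inseparable_iff_closure_eq.mpr h).eq)
  have hV₀ : ∀ η : Y, ∃ V : Y.Opens, IsAffineOpen V ∧ η ∈ V := fun η => by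
    obtain ⟨V, hV, hηV, -⟩ :=
      exists_isAffineOpen_mem_and_subset (x := η) (U := (⊤ : Y.Opens)) trivial
    exact ⟨V, hV, hηV⟩
  choose V₀ hV₀aff hV₀mem using hV₀
  have hUa : ∀ ξ : X, ∃ U : X.Opens, closure {ξ} ∈ irreducibleComponents (X : Type u) →
      (IsAffineOpen U ∧ ξ ∈ U ∧ (U : Set X) ⊆ O ξ ∧ U ≤ f ⁻¹ᵁ V₀ (f.base ξ)) := by
    intro ξ
    by_cases hξ : closure {ξ} ∈ irreducibleComponents (X : Type u)
    · obtain ⟨U, hU, hξU, hUsub⟩ := exists_isAffineOpen_mem_and_subset (x := ξ)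
        (U := (⟨O ξ, (hO1 ξ hξ).1⟩ : X.Opens) ⊓ f ⁻¹ᵁ V₀ (f.base ξ))
        ⟨(hO1 ξ hξ).2, hV₀mem (f.base ξ)⟩
      exact ⟨U, fun _ => ⟨hU, hξU, fun x hx => (hUsub hx).1, fun x hx => (hUsub hx).2⟩⟩
    · exact ⟨⊥, fun h => absurd h hξ⟩
  choose Ua hUa using hUa
  have key : ∀ η : Y, closure {η} ∈ irreducibleComponents (Y : Type u) →
      ∃ V : Y.Opens, η ∈ V ∧ IsFinite (f ∣_ V) := by
    intro η hη
    have hsub : f.base ⁻¹' {η} ⊆
        (fun x : X => closure ({x} : Set X)) ⁻¹' irreducibleComponents (X : Type u) := by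
      intro x hx
      have hx' : f.base x = η := hx
      exact (hgen x).mpr (hx' ▸ hη)
    have hfin : (f.base ⁻¹' {η}).Finite := hX0.subset hsub
    have hUaff : IsAffineOpen (⨆ ξ ∈ f.base ⁻¹' {η}, Ua ξ) :=
      IsAffineOpen.biSup_of_disjoint hfin (fun ξ hξ => (hUa ξ (hsub hξ)).1)
        (fun ξ hξ ξ' hξ' hne => by
          have := hO2 ξ ξ' (hsub hξ) (hsub hξ') hne
          show Disjoint (Ua ξ) (Ua ξ')
          rw [← Opens.coe_disjoint]
          exact this.mono (hUa ξ (hsub hξ)).2.2.1 (hUa ξ' (hsub hξ')).2.2.1)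
    have hUV : (⨆ ξ ∈ f.base ⁻¹' {η}, Ua ξ) ≤ f ⁻¹ᵁ V₀ η := by
      refine iSup₂_le fun ξ hξ => ?_
      have hξ' : f.base ξ = η := hξ
      have := (hUa ξ (hsub hξ)).2.2.2
      rwa [hξ'] at this
    have hfib : f.base ⁻¹' {η} ⊆ ((⨆ ξ ∈ f.base ⁻¹' {η}, Ua ξ : X.Opens) : Set X) := by
      intro x hx
      simp only [SetLike.mem_coe, Opens.mem_iSup]
      exact ⟨x, hx, (hUa x (hsub hx)).2.1⟩
    obtain ⟨V, -, hηV, -, hV⟩ :=
      exists_affine_isFinite f η hη hfin (hV₀aff η) (hV₀mem η) hUaff hUV hfib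
    exact ⟨V, hηV, hV⟩
  have key' : ∀ η : Y, ∃ V : Y.Opens, closure {η} ∈ irreducibleComponents (Y : Type u) →
      (η ∈ V ∧ IsFinite (f ∣_ V)) := by
    intro η
    by_cases hη : closure {η} ∈ irreducibleComponents (Y : Type u)
    · obtain ⟨V, h1, h2⟩ := key η hη
      exact ⟨V, fun _ => ⟨h1, h2⟩⟩
    · exact ⟨⊥, fun h => absurd h hη⟩
  choose Vf hVf using key'
  refine ⟨⨆ i : {η : Y // closure {η} ∈ irreducibleComponents (Y : Type u)}, Vf i.1, ?_,
    isFinite_morphismRestrict_iSup f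
      (fun i : {η : Y // closure {η} ∈ irreducibleComponents (Y : Type u)} => Vf i.1)
      fun i => (hVf i.1 i.2).2⟩
  intro y
  obtain ⟨η, hη, hspec⟩ := H47.exists_maximal_point_specializes y
  refine hspec.mem_closed isClosed_closure (subset_closure ?_)
  simp only [SetLike.mem_coe, Opens.mem_iSup]
  exact ⟨⟨η, hη⟩, (hVf η hη).1⟩

end Groth.Agent.H38.GenFinite
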