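import Groth.Agent.H38.GenericFibre

/-!
# Geometric irreducibility through a fibration with geometrically irreducible generic fibre
-/

set_option autoImplicit false
universe u
open CategoryTheory CategoryTheory.Limits AlgebraicGeometry TensorProduct

namespace Groth.Agent.H38.GenericFibre

variable {k : Type u} [Field k]

/-- If `C` is irreducible and geometrically irreducible over `k`, then so is the spectrum of the
residue field of its generic point. -/
theorem geomIrr_fromSpecResidueField_generic {C : Scheme.{u}} (fC : C ⟶ Spec (CommRingCat.of k))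
    [IrreducibleSpace C] [GeometricallyIrreducible fC] :
    GeometricallyIrreducible (C.fromSpecResidueField (genericPoint C) ≫ fC) := by
  refine ⟨geometrically_iff_of_commRing_of_isClosedUnderIsomorphisms.mpr fun K _ _ => ?_⟩
  letI := (resHom fC (genericPoint C)).toAlgebra
  have hC : IrreducibleSpace ↥(pullback fC (Spec.map (CommRingCat.ofHom (algebraMap k K)))) :=
    (geometrically_iff_of_commRing_of_isClosedUnderIsomorphisms).mp
      (GeometricallyIrreducible.geometrically_irreducibleSpace (f := fC)) K
  have h1 := (irreducibleSpace_pullback_iff_generic fC K).mp hC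
  rw [← specMap_resHom fC (genericPoint C)]
  exact (pullbackSpecIso k (C.residueField (genericPoint C)) K).hom.homeomorph.irreducibleSpace_iff.mpr h1

theorem geomIrr_of_generic_fibre {X C : Scheme.{u}} (fX : X ⟶ Spec (CommRingCat.of k))
    (fC : C ⟶ Spec (CommRingCat.of k)) (f : X ⟶ C) (hf : f ≫ fC = fX)
    [IrreducibleSpace X] [IrreducibleSpace C] [GeometricallyIrreducible fC]
    [GeometricallyIrreducible (f.fiberToSpecResidueField (genericPoint C))] :
    GeometricallyIrreducible fX := by
  set η := genericPoint C with hη
  -- the generic fibre is geometrically irreducible over `k`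
  haveI hL := geomIrr_fromSpecResidueField_generic fC
  haveI hg : GeometricallyIrreducible
      (f.fiberToSpecResidueField η ≫ (C.fromSpecResidueField η ≫ fC)) :=
    GeometricallyIrreducible.comp _ _
  have hcomp : f.fiberToSpecResidueField η ≫ (C.fromSpecResidueField η ≫ fC) =
      f.fiberι η ≫ fX := by
    rw [← Category.assoc, ← f.fiber_fac η, Category.assoc, hf]
  rw [hcomp] at hg
  -- the generic point of `X` lies in the generic fibre
  haveI : IrreducibleSpace ↥(f.fiber η) :=
    GeometricallyIrreducible.irreducibleSpace_of_subsingleton (f := f.fiberToSpecResidueField η)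
  obtain ⟨t₀⟩ : Nonempty ↥(f.fiber η) := inferInstance
  have hx₀ : f (f.fiberι η t₀) = η := by
    have : f.fiberι η t₀ ∈ Set.range (f.fiberι η) := ⟨t₀, rfl⟩
    rw [f.range_fiberι η] at this
    exact this
  have hξ : f (genericPoint X) = η := by
    have h1 : genericPoint X ⤳ f.fiberι η t₀ := (genericPoint_spec X).specializes trivial
    have h2 : f (genericPoint X) ⤳ η := hx₀ ▸ h1.map f.continuous
    have h3 : η ⤳ f (genericPoint X) := (genericPoint_spec C).specializes trivial
    exact (h2.antisymm h3).eq
  refine ⟨geometrically_iff_of_commRing_of_isClosedUnderIsomorphisms.mpr fun K _ _ => ?_⟩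
  set q := Spec.map (CommRingCat.ofHom (algebraMap k K)) with hq
  set p := pullback.fst fX q with hp
  have hFK : IrreducibleSpace ↥(pullback (f.fiberι η ≫ fX) q) :=
    (geometrically_iff_of_commRing_of_isClosedUnderIsomorphisms).mp
      (GeometricallyIrreducible.geometrically_irreducibleSpace (f := f.fiberι η ≫ fX)) K
  haveI : IrreducibleSpace ↥(pullback (f.fiberι η) p) :=
    (pullbackRightPullbackFstIso fX q (f.fiberι η)).hom.homeomorph.irreducibleSpace_iff.mpr hFK
  -- the image `S` of the base-changed generic fibre
  have hS : IsIrreducible (Set.range (pullback.snd (f.fiberι η) p)) := by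
    rw [← Set.image_univ]
    exact (IrreducibleSpace.isIrreducible_univ _).image _
      (pullback.snd (f.fiberι η) p).continuous.continuousOn
  have hSeq : Set.range (pullback.snd (f.fiberι η) p) = p ⁻¹' (f ⁻¹' {η}) := by
    rw [Scheme.Pullback.range_snd, f.range_fiberι η]
  have hdense : Dense (Set.range (pullback.snd (f.fiberι η) p)) := by
    rw [hSeq]
    intro w
    rw [mem_closure_iff]
    intro W hW hwW
    have hpW : IsOpen (p '' W) := p.isOpenMap W hW
    have hne : (p '' W).Nonempty := ⟨p w, w, hwW, rfl⟩
    have hmem : genericPoint X ∈ p '' W :=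
      ((genericPoint_spec X).mem_open_set_iff hpW).mpr (by simpa using hne)
    obtain ⟨w', hw'W, hw'⟩ := hmem
    refine ⟨w', hw'W, ?_⟩
    show f (p w') = η
    rw [hw', hξ]
  have huniv : IsIrreducible (Set.univ : Set ↥(pullback fX q)) := by
    rw [← hdense.closure_eq]
    exact hS.closure
  exact (irreducibleSpace_def _).mpr huniv

end Groth.Agent.H38.GenericFibre
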