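import Mathlib

/-!
# Irreducibility of spectra: localization lemmas
-/

set_option autoImplicit false
universe u
open TensorProduct

namespace Groth.Agent.H38.IrrSpreadA

theorem irreducibleSpace_of_ringEquiv {R S : Type*} [CommRing R] [CommRing S] (e : R ≃+* S)
    (h : IrreducibleSpace (PrimeSpectrum R)) : IrreducibleSpace (PrimeSpectrum S) :=
  (PrimeSpectrum.homeomorphOfRingEquiv e).irreducibleSpace_iff.mp h

/-- Localizing a ring with irreducible spectrum at a non-nilpotent element. -/
theorem irreducibleSpace_away {R : Type*} [CommRing R] (s : R) (S : Type*) [CommRing S]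
    [Algebra R S] [IsLocalization.Away s S]
    (h : IrreducibleSpace (PrimeSpectrum R)) (hs : ¬ IsNilpotent s) :
    IrreducibleSpace (PrimeSpectrum S) := by
  rw [PrimeSpectrum.irreducibleSpace_iff_isPrime_nilradical] at h ⊢
  have key : ∀ a : R, IsNilpotent (algebraMap R S a) → IsNilpotent a := by
    intro a ⟨k, hk⟩
    rw [← map_pow, IsLocalization.map_eq_zero_iff (Submonoid.powers s)] at hk
    obtain ⟨⟨_, m, rfl⟩, hm⟩ := hk
    have h1 : s ^ m * a ^ k ∈ nilradical R := by
      simp only at hm; rw [hm]; exact Ideal.zero_mem _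
    rcases h.mem_or_mem h1 with h2 | h2
    · exact absurd (h.mem_of_pow_mem m h2) hs
    · exact h.mem_of_pow_mem k h2
  refine ⟨?_, ?_⟩
  · intro htop
    have h1 : (1 : S) ∈ nilradical S := htop ▸ Submodule.mem_top
    have h2 : IsNilpotent (algebraMap R S 1) := by rw [map_one]; exact h1
    have h3 := key 1 h2
    exact h.ne_top ((Ideal.eq_top_iff_one _).mpr h3)
  · intro x y hxy
    obtain ⟨a, ⟨_, i, rfl⟩, rfl⟩ := IsLocalization.exists_mk'_eq (Submonoid.powers s) x
    obtain ⟨b, ⟨_, j, rfl⟩, rfl⟩ := IsLocalization.exists_mk'_eq (Submonoid.powers s) y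
    have hu : ∀ (c : R) (t : Submonoid.powers s),
        IsNilpotent (IsLocalization.mk' S c t) ↔ IsNilpotent (algebraMap R S c) := by
      intro c t
      have hunit : IsUnit (algebraMap R S (t : R)) := IsLocalization.map_units S t
      have e1 : IsLocalization.mk' S c t * algebraMap R S (t : R) = algebraMap R S c :=
        IsLocalization.mk'_spec S c t
      constructor
      · intro hn
        rw [← e1]
        exact (Commute.all _ _).isNilpotent_mul_right hn
      · intro hn
        rw [← e1] at hn
        obtain ⟨k, hk⟩ := hn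
        refine ⟨k, ?_⟩
        rw [mul_pow] at hk
        exact (hunit.pow k).mul_left_eq_zero.mp hk
    have hab : IsNilpotent (algebraMap R S (a * b)) := by
      have h1 : IsNilpotent (IsLocalization.mk' S (a * b)
          ((⟨s ^ i, i, rfl⟩ : Submonoid.powers s) * ⟨s ^ j, j, rfl⟩)) := by
        rw [IsLocalization.mk'_mul]
        exact hxy
      exact (hu _ _).mp h1
    have h2 := key _ hab
    rcases h.mem_or_mem (show a * b ∈ nilradical R from h2) with h3 | h3
    · left
      show IsNilpotent _
      rw [hu]
      exact (show IsNilpotent a from h3).map _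
    · right
      show IsNilpotent _
      rw [hu]
      exact (show IsNilpotent b from h3).map _

/-- If `s` is a nonzerodivisor and `R_s` has irreducible spectrum, so does `R`. -/
theorem irreducibleSpace_of_away {R : Type*} [CommRing R] (s : R) (S : Type*) [CommRing S]
    [Algebra R S] [IsLocalization.Away s S] (hs : s ∈ nonZeroDivisors R)
    (h : IrreducibleSpace (PrimeSpectrum S)) : IrreducibleSpace (PrimeSpectrum R) := by
  rw [PrimeSpectrum.irreducibleSpace_iff_isPrime_nilradical] at h ⊢
  have key : ∀ a : R, IsNilpotent (algebraMap R S a) → IsNilpotent a := by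
    intro a ⟨k, hk⟩
    rw [← map_pow, IsLocalization.map_eq_zero_iff (Submonoid.powers s)] at hk
    obtain ⟨⟨_, m, rfl⟩, hm⟩ := hk
    refine ⟨k, ?_⟩
    have hsm : s ^ m ∈ nonZeroDivisors R := pow_mem hs m
    exact (mul_left_mem_nonZeroDivisors_eq_zero_iff hsm).mp (by simpa [mul_comm] using hm)
  refine ⟨?_, ?_⟩
  · intro htop
    have h1 : (1 : R) ∈ nilradical R := htop ▸ Submodule.mem_top
    have h2 : IsNilpotent (algebraMap R S 1) := (show IsNilpotent (1 : R) from h1).map _
    rw [map_one] at h2
    exact h.ne_top ((Ideal.eq_top_iff_one _).mpr h2)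
  · intro x y hxy
    have h1 : algebraMap R S x * algebraMap R S y ∈ nilradical S := by
      rw [← map_mul]
      exact (show IsNilpotent (x * y) from hxy).map _
    rcases h.mem_or_mem h1 with h2 | h2
    · exact Or.inl (key x h2)
    · exact Or.inr (key y h2)

end Groth.Agent.H38.IrrSpreadA
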