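import Mathlib
import Groth.Agent.H44.IrrMODEL
import Groth.Agent.H54.IrrT1
import Groth.Agent.H57.IrrDOM
import Groth.Agent.H17.IrrBN
import Groth.Agent.H26.IrrBCADJ
import Groth.Agent.H14.IrrIRRF
import Groth.Agent.H38.IrrSpreadA
import Groth.Agent.H38.NZDSpread

/-!
# Spreading out irreducibility of geometric fibres: perfect fraction field case
-/

set_option autoImplicit false
universe u
open TensorProduct

namespace Groth.Agent.H38.IrrSpreadB

open Groth.Agent.H44.IrrMODEL Groth.Agent.H38.IrrSpreadA Groth.Agent.H54.IrrT1 Groth.Agent.H57.IrrDOM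
  Groth.Agent.H17.IrrBN Groth.Agent.H26.IrrBCADJ Groth.Agent.H14.IrrIRRF

/-- For monic `F` irreducible over the fraction field, `AdjoinRoot F` is a domain. -/
theorem isDomain_adjoinRoot {R : Type u} [CommRing R] [IsDomain R] (F : Polynomial R)
    (hF : F.Monic)
    (hirr : Irreducible (F.map (algebraMap R (FractionRing R)))) : IsDomain (AdjoinRoot F) := by
  haveI : Fact (Irreducible (F.map (algebraMap R (FractionRing R)))) := ⟨hirr⟩
  let ι : AdjoinRoot F →+* AdjoinRoot (F.map (algebraMap R (FractionRing R))) :=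
    AdjoinRoot.lift ((AdjoinRoot.of _).comp (algebraMap R (FractionRing R))) (AdjoinRoot.root _)
      (by
        rw [← Polynomial.eval₂_map, AdjoinRoot.eval₂_root])
  have hι : Function.Injective ι := by
    rw [injective_iff_map_eq_zero]
    intro y hy
    obtain ⟨p, rfl⟩ := AdjoinRoot.mk_surjective y
    have h1 : ι (AdjoinRoot.mk F p) = AdjoinRoot.mk _ (p.map (algebraMap R (FractionRing R))) := by
      show AdjoinRoot.lift _ _ _ (AdjoinRoot.mk F p) = _
      rw [AdjoinRoot.lift_mk, ← Polynomial.eval₂_map]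
      rw [← AdjoinRoot.aeval_eq]
      rfl
    rw [h1, AdjoinRoot.mk_eq_zero,
      Polynomial.map_dvd_map _ (IsFractionRing.injective R (FractionRing R)) hF] at hy
    exact AdjoinRoot.mk_eq_zero.mpr hy
  exact hι.isDomain ι

/-- flat base change preserves nonzerodivisors. -/
theorem one_tmul_mem_nonZeroDivisors_of_flat {A B Ω : Type u} [CommRing A] [CommRing B]
    [Algebra A B] [CommRing Ω] [Algebra A Ω] [Module.Flat A Ω] (h : B)
    (hh : h ∈ nonZeroDivisors B) : (1 : Ω) ⊗ₜ[A] h ∈ nonZeroDivisors (Ω ⊗[A] B) := by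
  let μ : B →ₗ[A] B := LinearMap.mulLeft A h
  have hμ : Function.Injective μ := by
    intro x y hxy
    have h1 : h * x = h * y := hxy
    have h2 : h * (x - y) = 0 := by rw [mul_sub, h1, sub_self]
    have h3 := (mul_left_mem_nonZeroDivisors_eq_zero_iff hh).mp (by rwa [mul_comm] at h2)
    exact sub_eq_zero.mp h3
  have hinj := Module.Flat.lTensor_preserves_injective_linearMap (M := Ω) μ hμ
  have hmul : ∀ z : Ω ⊗[A] B, μ.lTensor Ω z = (1 : Ω) ⊗ₜ[A] h * z := by
    intro z
    induction z using TensorProduct.induction_on with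
    | zero => simp
    | tmul c b =>
      rw [LinearMap.lTensor_tmul, Algebra.TensorProduct.tmul_mul_tmul, one_mul]
      rfl
    | add x y hx hy => rw [map_add, hx, hy, mul_add]
  rw [mem_nonZeroDivisors_iff_right]
  intro z hz
  apply hinj
  rw [map_zero, hmul, mul_comm]
  exact hz

/-- **Perfect fraction field case.** -/
theorem spread_irr_perfect {A B : Type u} [CommRing A] [IsDomain A]
    [PerfectField (FractionRing A)] [CommRing B] [Algebra A B] [Algebra.FiniteType A B]
    {Ω : Type u} [Field Ω] [IsAlgClosed Ω] [Algebra A Ω]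
    (hinj : Function.Injective (algebraMap A Ω))
    (h₀ : IrreducibleSpace (PrimeSpectrum (Ω ⊗[A] B))) :
    ∃ a : A, a ≠ 0 ∧ ∀ (K : Type u) [Field K] [Algebra A K], algebraMap A K a ≠ 0 →
      IrreducibleSpace (PrimeSpectrum (K ⊗[A] B)) := by
  classical
  let Fr := FractionRing A
  letI algF : Algebra Fr Ω := (IsFractionRing.lift hinj).toAlgebra
  haveI : IsScalarTower A Fr Ω := IsScalarTower.of_algebraMap_eq
    (fun x => (IsFractionRing.lift_algebraMap hinj x).symm)
  have hFr : IrreducibleSpace (PrimeSpectrum (Fr ⊗[A] B)) :=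
    irreducibleSpace_of_fieldExt Fr Ω h₀
  obtain ⟨B', _, _, _, _, hinjB', a₀, ha₀, hhomeo⟩ := exists_domain_model (A := A) (B := B) hFr
  have hΩa₀ : algebraMap A Ω a₀ ≠ 0 := fun h => ha₀ (hinj (h.trans (map_zero _).symm))
  obtain ⟨eΩ⟩ := hhomeo Ω hΩa₀
  have hΩB' : IrreducibleSpace (PrimeSpectrum (Ω ⊗[A] B')) := eΩ.irreducibleSpace_iff.mpr h₀
  obtain ⟨r, F, g, h, hF, hsep, hirrF, hg, hh, ⟨e⟩⟩ :=
    exists_hypersurface_model (A := A) (B := B') hinjB'
  haveI : IsDomain (AdjoinRoot F) := isDomain_adjoinRoot F hF hirrF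
  -- nonzerodivisor spreading for `h`
  have hnzdFr : (1 : Fr) ⊗ₜ[A] h ∈ nonZeroDivisors (Fr ⊗[A] B') :=
    one_tmul_mem_nonZeroDivisors_of_flat h (mem_nonZeroDivisors_of_ne_zero hh)
  obtain ⟨a₄, ha₄, hnzd⟩ := NZDSpread.spread_nzd_domain (A := A) (B := B') h
    (Field.toIsField Fr) (IsFractionRing.injective A Fr) hnzdFr
  have hΩa₄ : algebraMap A Ω a₄ ≠ 0 := fun h => ha₄ (hinj (h.trans (map_zero _).symm))
  -- the general transfer: irreducibility of `K ⊗ Away g` vs `K ⊗ B'`
  have transfer₁ : ∀ (K : Type u) [Field K] [Algebra A K],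
      IrreducibleSpace (PrimeSpectrum (K ⊗[A] Localization.Away g)) ↔
        IrreducibleSpace (PrimeSpectrum (Localization.Away ((1 : K) ⊗ₜ[A] h))) := by
    intro K _ _
    let e1 : K ⊗[A] Localization.Away g ≃ₐ[A] K ⊗[A] Localization.Away h :=
      Algebra.TensorProduct.congr (AlgEquiv.refl : K ≃ₐ[A] K) e
    let e2 := IsLocalization.Away.tensorProductEquivTMulRight A K h (Localization.Away h)
    exact ⟨fun H => irreducibleSpace_of_ringEquiv
        (e1.toRingEquiv.trans e2.toRingEquiv) H,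
      fun H => irreducibleSpace_of_ringEquiv
        (e1.toRingEquiv.trans e2.toRingEquiv).symm H⟩
  -- `F_Ω` is irreducible
  have hΩloc : IrreducibleSpace (PrimeSpectrum (Localization.Away ((1 : Ω) ⊗ₜ[A] h))) := by
    refine irreducibleSpace_away ((1 : Ω) ⊗ₜ[A] h) _ hΩB' ?_
    intro hnil
    have hmem := hnzd Ω (Field.toIsField Ω) hΩa₄
    obtain ⟨k, hk⟩ := hnil
    have h1 : ((1 : Ω) ⊗ₜ[A] h) ^ k ∈ nonZeroDivisors (Ω ⊗[A] B') := pow_mem hmem k
    rw [hk] at h1
    haveI : Nontrivial (Ω ⊗[A] B') := by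
      by_contra hcon
      rw [not_nontrivial_iff_subsingleton] at hcon
      exact (inferInstance : Nonempty (PrimeSpectrum (Ω ⊗[A] B'))).elim
        (fun p => p.isPrime.ne_top (Subsingleton.elim _ _))
    exact zero_notMem_nonZeroDivisors h1
  have hFΩ := irreducible_map_of_irreducibleSpace_tensor F hF hsep g
    (mem_nonZeroDivisors_of_ne_zero hg) hinj ((transfer₁ Ω).mpr hΩloc)
  obtain ⟨a₂, ha₂, hBN⟩ := bertini_noether F hF hinj hFΩ
  -- `g` divides a nonzero polynomial
  haveI : Module.Finite (MvPolynomial (Fin r) A) (AdjoinRoot F) := hF.finite_adjoinRoot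
  obtain ⟨n, hn0, g', hg'⟩ := (Algebra.IsIntegral.isIntegral (R := MvPolynomial (Fin r) A)
    g).isAlgebraic.exists_nonzero_dvd (mem_nonZeroDivisors_of_ne_zero hg)
  obtain ⟨m, hm⟩ := MvPolynomial.ne_zero_iff.mp hn0
  set a₃ := n.coeff m with ha₃
  refine ⟨a₀ * a₂ * a₃ * a₄, mul_ne_zero (mul_ne_zero (mul_ne_zero ha₀ ha₂) hm) ha₄, ?_⟩
  intro K _ _ haK
  simp only [map_mul] at haK
  have hK₄ : algebraMap A K a₄ ≠ 0 := right_ne_zero_of_mul haK
  have hK₃ : algebraMap A K a₃ ≠ 0 := right_ne_zero_of_mul (left_ne_zero_of_mul haK)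
  have hK₂ : algebraMap A K a₂ ≠ 0 :=
    right_ne_zero_of_mul (left_ne_zero_of_mul (left_ne_zero_of_mul haK))
  have hK₀ : algebraMap A K a₀ ≠ 0 :=
    left_ne_zero_of_mul (left_ne_zero_of_mul (left_ne_zero_of_mul haK))
  have hnK : MvPolynomial.map (algebraMap A K) n ≠ 0 := by
    intro h0
    have := congrArg (MvPolynomial.coeff m) h0
    rw [MvPolynomial.coeff_map, MvPolynomial.coeff_zero] at this
    exact hK₃ this
  have h1 : IrreducibleSpace (PrimeSpectrum (K ⊗[A] Localization.Away g)) :=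
    irreducibleSpace_tensor_away_adjoinRoot F hF g g' n
      (by rw [← hg']; rfl) K hnK (hBN K hK₂)
  have h2 := (transfer₁ K).mp h1
  have h3 : IrreducibleSpace (PrimeSpectrum (K ⊗[A] B')) :=
    irreducibleSpace_of_away ((1 : K) ⊗ₜ[A] h) _ (hnzd K (Field.toIsField K) hK₄) h2
  obtain ⟨eK⟩ := hhomeo K hK₀
  exact eK.irreducibleSpace_iff.mp h3

end Groth.Agent.H38.IrrSpreadB
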