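import Mathlib
import Groth.Agent.H38.IrrSpreadB
import Groth.Agent.H87.IrrPERF
import Groth.Agent.H54.IrrEXT

/-!
# Spreading out irreducibility of geometric fibres: general case
-/

set_option autoImplicit false
universe u
open TensorProduct

namespace Groth.Agent.H38.IrrSpreadC

open Groth.Agent.H38.IrrSpreadA Groth.Agent.H38.IrrSpreadB Groth.Agent.H87.IrrPERF
  Groth.Agent.H54.IrrEXT Groth.Agent.H54.IrrT1

theorem irr_cancel_iff (A A₁ B K : Type u) [CommRing A] [CommRing A₁] [CommRing B]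
    [CommRing K] [Algebra A A₁] [Algebra A B] [Algebra A K] [Algebra A₁ K] [IsScalarTower A A₁ K] :
    IrreducibleSpace (PrimeSpectrum (K ⊗[A₁] (A₁ ⊗[A] B))) ↔
      IrreducibleSpace (PrimeSpectrum (K ⊗[A] B)) := by
  let e := Algebra.TensorProduct.cancelBaseChange A A₁ A₁ K B
  exact ⟨fun h => irreducibleSpace_of_ringEquiv e.toRingEquiv h,
    fun h => irreducibleSpace_of_ringEquiv e.toRingEquiv.symm h⟩

/-- **Domain case.** -/
theorem spread_irr_domain {A B : Type u} [CommRing A] [IsDomain A] [CommRing B] [Algebra A B]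
    [Algebra.FiniteType A B] {Ω : Type u} [Field Ω] [IsAlgClosed Ω] [Algebra A Ω]
    (hinj : Function.Injective (algebraMap A Ω))
    (h₀ : IrreducibleSpace (PrimeSpectrum (Ω ⊗[A] B))) :
    ∃ a : A, a ≠ 0 ∧ ∀ (K : Type u) [Field K] [Algebra A K], algebraMap A K a ≠ 0 →
      IrreducibleSpace (PrimeSpectrum (K ⊗[A] B)) := by
  classical
  obtain ⟨A', _, _, _, hinjA', hperf, hpow⟩ := exists_perfect_extension A
  haveI := hperf
  have hq : 0 < ringExpChar A := lt_of_lt_of_le Nat.one_pos (le_max_right _ _)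
  haveI : Algebra.IsIntegral A A' := by
    refine ⟨fun z => ?_⟩
    obtain ⟨n, a, ha⟩ := hpow z
    refine ⟨Polynomial.X ^ (ringExpChar A ^ n) - Polynomial.C a,
      Polynomial.monic_X_pow_sub_C a (pow_pos hq n).ne', ?_⟩
    simp [ha]
  -- extend `A → Ω` to `A'`
  obtain ⟨φ', hφ'⟩ := exists_extension_of_isIntegral (A := A) (A' := A') hinjA' (algebraMap A Ω)
  letI algΩ : Algebra A' Ω := φ'.toAlgebra
  haveI : IsScalarTower A A' Ω := IsScalarTower.of_algebraMap_eq
    (fun x => (RingHom.congr_fun hφ' x).symm)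
  have hinj' : Function.Injective (algebraMap A' Ω) := by
    rw [injective_iff_map_eq_zero]
    intro z hz
    obtain ⟨n, a, ha⟩ := hpow z
    have h1 : algebraMap A Ω a = 0 := by
      rw [IsScalarTower.algebraMap_apply A A' Ω, ha, map_pow, hz, zero_pow (pow_pos hq n).ne']
    have h2 : a = 0 := hinj (h1.trans (map_zero _).symm)
    rw [h2, map_zero] at ha
    exact (pow_eq_zero_iff (pow_pos hq n).ne').mp ha.symm
  have h₀' : IrreducibleSpace (PrimeSpectrum (Ω ⊗[A'] (A' ⊗[A] B))) :=
    (irr_cancel_iff A A' B Ω).mpr h₀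
  obtain ⟨a', ha', hspread⟩ := spread_irr_perfect (A := A') (B := A' ⊗[A] B) hinj' h₀'
  obtain ⟨n, a, ha⟩ := hpow a'
  have ha0 : a ≠ 0 := by
    rintro rfl
    rw [map_zero] at ha
    exact ha' ((pow_eq_zero_iff (pow_pos hq n).ne').mp ha.symm)
  refine ⟨a, ha0, ?_⟩
  intro K _ _ haK
  let Kb := AlgebraicClosure K
  obtain ⟨ψ', hψ'⟩ := exists_extension_of_isIntegral (A := A) (A' := A') hinjA' (algebraMap A Kb)
  letI algK : Algebra A' Kb := ψ'.toAlgebra
  haveI : IsScalarTower A A' Kb := IsScalarTower.of_algebraMap_eq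
    (fun x => (RingHom.congr_fun hψ' x).symm)
  have h1 : algebraMap A' Kb a' ≠ 0 := by
    intro h0
    have h2 : algebraMap A Kb a = 0 := by
      rw [IsScalarTower.algebraMap_apply A A' Kb, ha, map_pow, h0, zero_pow (pow_pos hq n).ne']
    rw [IsScalarTower.algebraMap_apply A K Kb] at h2
    exact haK ((algebraMap K Kb).injective (h2.trans (map_zero _).symm))
  have h2 := (irr_cancel_iff A A' B Kb).mp (hspread Kb h1)
  exact irreducibleSpace_of_fieldExt K Kb h2

/-- Spreading out irreducibility of geometric fibres: if the base change of the finite type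
algebra `B` to an algebraically closed field `Ω` lying over the "generic point" of `A` has
irreducible spectrum, then so do the base changes to all fields in which a suitable `a` (nonzero
in `Ω`) is nonzero. -/
theorem spread_irr {A B : Type u} [CommRing A] [CommRing B] [Algebra A B]
    [Algebra.FiniteType A B] {Ω : Type u} [Field Ω] [IsAlgClosed Ω] [Algebra A Ω]
    (hker : ∀ P : Ideal A, P.IsPrime → RingHom.ker (algebraMap A Ω) ≤ P)
    (h₀ : IrreducibleSpace (PrimeSpectrum (Ω ⊗[A] B))) :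
    ∃ a : A, algebraMap A Ω a ≠ 0 ∧ ∀ (K : Type u) [Field K] [Algebra A K],
      algebraMap A K a ≠ 0 → IrreducibleSpace (PrimeSpectrum (K ⊗[A] B)) := by
  set I : Ideal A := RingHom.ker (algebraMap A Ω) with hI
  haveI : I.IsPrime := RingHom.ker_isPrime _
  let A' := A ⧸ I
  have key : ∀ (L : Type u) [Field L] [Algebra A L], ∀ a ∈ I, algebraMap A L a = 0 := by
    intro L _ _ a ha
    exact hker (RingHom.ker (algebraMap A L)) (RingHom.ker_isPrime _) ha
  letI alg₀ : Algebra A' Ω :=
    (Ideal.Quotient.lift I (algebraMap A Ω) (key Ω)).toAlgebra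
  haveI : IsScalarTower A A' Ω := IsScalarTower.of_algebraMap_eq (fun x => by
    simp [RingHom.algebraMap_toAlgebra, A'])
  have hinj : Function.Injective (algebraMap A' Ω) := by
    show Function.Injective (Ideal.Quotient.lift I (algebraMap A Ω) (key Ω))
    exact RingHom.lift_injective_of_ker_le_ideal I (key Ω) le_rfl
  have h₀' : IrreducibleSpace (PrimeSpectrum (Ω ⊗[A'] (A' ⊗[A] B))) :=
    (irr_cancel_iff A A' B Ω).mpr h₀
  obtain ⟨a', ha', hspread⟩ := spread_irr_domain (A := A') (B := A' ⊗[A] B) hinj h₀'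
  obtain ⟨a, rfl⟩ := Ideal.Quotient.mk_surjective a'
  refine ⟨a, ?_, ?_⟩
  · intro h
    apply ha'
    rw [Ideal.Quotient.eq_zero_iff_mem]
    exact h
  · intro K _ _ haK
    letI alg : Algebra A' K := (Ideal.Quotient.lift I (algebraMap A K) (key K)).toAlgebra
    haveI : IsScalarTower A A' K := IsScalarTower.of_algebraMap_eq (fun x => by
      simp [RingHom.algebraMap_toAlgebra, A'])
    have h1 : algebraMap A' K (Ideal.Quotient.mk I a) ≠ 0 := by
      show Ideal.Quotient.lift I (algebraMap A K) (key K) (Ideal.Quotient.mk I a) ≠ 0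
      rw [Ideal.Quotient.lift_mk]
      exact haK
    exact (irr_cancel_iff A A' B K).mp (hspread K h1)

open CategoryTheory CategoryTheory.Limits in
theorem irr_iff_of_isPushout {A B K P : CommRingCat.{u}} {φ : A ⟶ B} {ψ : A ⟶ K}
    {inl : B ⟶ P} {inr : K ⟶ P} (h : IsPushout φ ψ inl inr) :
    letI : Algebra A B := φ.hom.toAlgebra
    letI : Algebra A K := ψ.hom.toAlgebra
    IrreducibleSpace (PrimeSpectrum P) ↔ IrreducibleSpace (PrimeSpectrum (K ⊗[A] B)) := by
  letI : Algebra A B := φ.hom.toAlgebra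
  letI : Algebra A K := ψ.hom.toAlgebra
  have h' : IsPushout (CommRingCat.ofHom (algebraMap A K)) (CommRingCat.ofHom (algebraMap A B))
      inr inl := h.flip
  let e := h'.isoIsPushout _ _ (CommRingCat.isPushout_tensorProduct A K B)
  let e' : P ≃+* K ⊗[A] B := e.commRingCatIsoToRingEquiv
  exact ⟨fun H => irreducibleSpace_of_ringEquiv e' H,
    fun H => irreducibleSpace_of_ringEquiv e'.symm H⟩

open CategoryTheory CategoryTheory.Limits in
/-- Spreading out irreducibility of geometric fibres, phrased with pushout squares. -/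
theorem spread_irr_pushout {A B : CommRingCat.{u}} (φ : A ⟶ B) (hφ : φ.hom.FiniteType)
    {Ω : Type u} [Field Ω] [IsAlgClosed Ω] {P₀ : CommRingCat.{u}}
    {ψ₀ : A ⟶ CommRingCat.of Ω} {inl₀ : B ⟶ P₀} {inr₀ : CommRingCat.of Ω ⟶ P₀}
    (h₀ : IsPushout φ ψ₀ inl₀ inr₀)
    (hker : ∀ P : Ideal A, P.IsPrime → RingHom.ker ψ₀.hom ≤ P)
    (hirr : IrreducibleSpace (PrimeSpectrum P₀)) :
    ∃ a : A, ψ₀.hom a ≠ 0 ∧ ∀ (K : Type u) [Field K] (P : CommRingCat.{u})
      (ψ : A ⟶ CommRingCat.of K) (inl : B ⟶ P) (inr : CommRingCat.of K ⟶ P),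
      IsPushout φ ψ inl inr → ψ.hom a ≠ 0 → IrreducibleSpace (PrimeSpectrum P) := by
  letI : Algebra A B := φ.hom.toAlgebra
  haveI : Algebra.FiniteType A B := hφ
  letI alg₀ : Algebra A Ω := ψ₀.hom.toAlgebra
  have h1 : IrreducibleSpace (PrimeSpectrum (Ω ⊗[A] B)) := (irr_iff_of_isPushout h₀).mp hirr
  obtain ⟨a, ha, hspread⟩ := spread_irr (A := A) (B := B) (Ω := Ω) hker h1
  refine ⟨a, ha, ?_⟩
  intro K _ P ψ inl inr hPO haK
  letI alg : Algebra A K := ψ.hom.toAlgebra
  exact (irr_iff_of_isPushout hPO).mpr (hspread K haK)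

end Groth.Agent.H38.IrrSpreadC
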