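import Mathlib
import Groth.Agent.H38.IrrSpreadC
import Groth.Agent.H38.GeomRedSpread
import Groth.Agent.H7.GenericClosure
import Groth.Agent.H38.GeomRedCons

/-!
# Geometric irreducibility of the generic fibre spreads out
-/

set_option autoImplicit false
universe u
open AlgebraicGeometry CategoryTheory Limits TopologicalSpace

namespace Groth.Agent.H38.GeomIrrSpread

variable {X Y : Scheme.{u}}

/-- A union of irreducible open sets which pairwise meet is irreducible. -/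
theorem isIrreducible_iUnion {T : Type*} [TopologicalSpace T] {ι : Type*} [Nonempty ι]
    (U : ι → Set T) (hirr : ∀ i, IsIrreducible (U i)) (hopen : ∀ i, IsOpen (U i))
    (hpair : ∀ i j, (U i ∩ U j).Nonempty) : IsIrreducible (⋃ i, U i) := by
  refine ⟨?_, ?_⟩
  · obtain ⟨i⟩ := ‹Nonempty ι›
    obtain ⟨x, hx⟩ := (hirr i).nonempty
    exact ⟨x, Set.mem_iUnion.mpr ⟨i, hx⟩⟩
  · intro u v hu hv ⟨x, hxs, hxu⟩ ⟨y, hys, hyv⟩
    obtain ⟨i, hxi⟩ := Set.mem_iUnion.mp hxs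
    obtain ⟨j, hyj⟩ := Set.mem_iUnion.mp hys
    obtain ⟨z, hzi, hzuj⟩ := (hirr i).isPreirreducible u (U j) hu (hopen j) ⟨x, hxi, hxu⟩ (hpair i j)
    obtain ⟨w, hwj, hwu, hwv⟩ := (hirr j).isPreirreducible u v hu hv ⟨z, hzuj.2, hzuj.1⟩
      ⟨y, hyj, hyv⟩
    exact ⟨w, Set.mem_iUnion.mpr ⟨j, hwj⟩, hwu, hwv⟩

/-- irreducibility of an affine open in terms of its ring of sections. -/
theorem isIrreducible_iff_of_isAffineOpen {Z : Scheme.{u}} {U : Z.Opens} (hU : IsAffineOpen U) :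
    IsIrreducible (U : Set Z) ↔ IrreducibleSpace (PrimeSpectrum Γ(Z, U)) := by
  have e : ↥U ≃ₜ PrimeSpectrum Γ(Z, U) := hU.isoSpec.hom.homeomorph
  rw [← e.irreducibleSpace_iff]
  exact isIrreducible_iff_irreducibleSpace

theorem per_affine_irr (f : X ⟶ Y) [IrreducibleSpace ↑Y] [LocallyOfFiniteType f]
    (h : GeometricallyIrreducible (f.fiberToSpecResidueField (genericPoint ↑Y)))
    {W : Y.Opens} (hW : IsAffineOpen W) (hηW : genericPoint ↑Y ∈ W)
    {X₁ : X.Opens} (hX₁ : IsAffineOpen X₁) (hXW : X₁ ≤ f ⁻¹ᵁ W)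
    (hne : ∃ x ∈ X₁, f x = genericPoint ↑Y) :
    ∃ a : Γ(Y, W), genericPoint ↑Y ∈ Y.basicOpen a ∧
      ∀ (K : Type u) [Field K] (q : Spec (CommRingCat.of K) ⟶ Y), (∀ t, q t ∈ Y.basicOpen a) →
        ∀ (Z : Scheme.{u}) (fst : Z ⟶ X) (snd : Z ⟶ Spec (CommRingCat.of K)),
          IsPullback fst snd f q → IsIrreducible ((fst ⁻¹ᵁ X₁ : Z.Opens) : Set Z) := by
  classical
  set η := genericPoint ↑Y with hη
  let Ω := AlgebraicClosure (Y.residueField η)
  let ι : Y.residueField η ⟶ CommRingCat.of Ω :=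
    CommRingCat.ofHom (algebraMap (Y.residueField η) Ω)
  let qΩ : Spec (CommRingCat.of Ω) ⟶ Y := Spec.map ι ≫ Y.fromSpecResidueField η
  have hZirr : IrreducibleSpace
      ↥(pullback (f.fiberToSpecResidueField η) (Spec.map ι)) :=
    h.geometrically_irreducibleSpace (Spec.map ι) _ _ (IsPullback.of_hasPullback _ _)
  have HPBΩ : IsPullback (pullback.fst (f.fiberToSpecResidueField η) (Spec.map ι) ≫ f.fiberι η)
      (pullback.snd (f.fiberToSpecResidueField η) (Spec.map ι)) f qΩ :=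
    (IsPullback.of_hasPullback (f.fiberToSpecResidueField η) (Spec.map ι)).paste_horiz
      (IsPullback.of_hasPullback f (Y.fromSpecResidueField η))
  have hqΩpt : ∀ t : Spec (CommRingCat.of Ω), qΩ t = η := by
    intro t
    show (Spec.map ι ≫ Y.fromSpecResidueField η) t = η
    rw [Scheme.Hom.comp_apply, Scheme.fromSpecResidueField_apply]
  have hqΩ : (⊤ : (Spec (CommRingCat.of Ω)).Opens) ≤ qΩ ⁻¹ᵁ W := by
    intro t _
    show qΩ t ∈ W
    rw [hqΩpt]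
    exact hηW
  obtain ⟨haffΩ, POΩ⟩ := H7.isPushout_sections_of_isPullback_Spec HPBΩ hW hX₁ hXW hqΩ
  let t₀ : Spec (CommRingCat.of Ω) := IsLocalRing.closedPoint Ω
  have hker : ∀ P : Ideal Γ(Y, W), P.IsPrime → RingHom.ker (qΩ.appLE W ⊤ hqΩ ≫
      (Scheme.ΓSpecIso (CommRingCat.of Ω)).hom).hom ≤ P := by
    intro P hP a ha
    by_contra haP
    have h1 : (⟨P, hP⟩ : PrimeSpectrum Γ(Y, W)) ∈ PrimeSpectrum.basicOpen a := haP
    rw [← hW.fromSpec_preimage_basicOpen] at h1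
    have h2 : hW.fromSpec (⟨P, hP⟩ : PrimeSpectrum Γ(Y, W)) ∈ Y.basicOpen a := h1
    have h3 : η ∈ Y.basicOpen a :=
      ((genericPoint_spec ↑Y).mem_open_set_iff (Y.basicOpen a).2).mpr ⟨_, Set.mem_univ _, h2⟩
    have h4 : qΩ t₀ ∈ Y.basicOpen a := by rw [hqΩpt]; exact h3
    exact (GeomRedSpread.psi_ne_zero_iff' qΩ hqΩ a t₀).mpr h4 ha
  have hfin : (f.appLE W X₁ hXW).hom.FiniteType :=
    HasRingHomProperty.appLE (P := @LocallyOfFiniteType) f inferInstance ⟨W, hW⟩ ⟨X₁, hX₁⟩ hXW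
  -- the affine piece of the geometric generic fibre is irreducible
  have hUirr : IsIrreducible (((pullback.fst (f.fiberToSpecResidueField η) (Spec.map ι) ≫
      f.fiberι η) ⁻¹ᵁ X₁ ⊓ (pullback.snd (f.fiberToSpecResidueField η) (Spec.map ι)) ⁻¹ᵁ ⊤ :
      (pullback (f.fiberToSpecResidueField η) (Spec.map ι)).Opens) :
      Set ↥(pullback (f.fiberToSpecResidueField η) (Spec.map ι))) := by
    refine ⟨?_, (IrreducibleSpace.isIrreducible_univ _).isPreirreducible.open_subset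
      (Opens.isOpen _) (Set.subset_univ _)⟩
    obtain ⟨x, hx, hfx⟩ := hne
    obtain ⟨z, hz, -⟩ := Scheme.exists_preimage_of_isPullback HPBΩ x t₀
      (by rw [hqΩpt]; exact hfx)
    exact ⟨z, by rw [← hz] at hx; exact hx, trivial⟩
  have hPirr := (isIrreducible_iff_of_isAffineOpen haffΩ).mp hUirr
  obtain ⟨a, ha, hspread⟩ := IrrSpreadC.spread_irr_pushout (f.appLE W X₁ hXW) hfin
    POΩ hker hPirr
  refine ⟨a, ?_, ?_⟩
  · have := (GeomRedSpread.psi_ne_zero_iff' qΩ hqΩ a t₀).mp ha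
    rwa [hqΩpt] at this
  · intro K _ q hq Z fst snd HPB
    have hqW : (⊤ : (Spec (CommRingCat.of K)).Opens) ≤ q ⁻¹ᵁ W := by
      intro t _
      exact Y.basicOpen_le a (hq t)
    obtain ⟨haff, PO⟩ := H7.isPushout_sections_of_isPullback_Spec HPB hW hX₁ hXW hqW
    have h1 := hspread K _ _ _ _ PO
      ((GeomRedSpread.psi_ne_zero_iff' q hqW a (IsLocalRing.closedPoint K)).mpr (hq _))
    have h2 := (isIrreducible_iff_of_isAffineOpen haff).mpr h1
    have h3 : (fst ⁻¹ᵁ X₁ ⊓ snd ⁻¹ᵁ ⊤ : Z.Opens) = fst ⁻¹ᵁ X₁ := by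
      ext z
      simp
    rwa [h3] at h2

/-- Core statement: base changes of `f` to fields whose point lies in a suitable nonempty open
are irreducible. -/
theorem core (f : X ⟶ Y) [IrreducibleSpace ↑Y] [LocallyOfFiniteType f] [QuasiCompact f]
    (h : GeometricallyIrreducible (f.fiberToSpecResidueField (genericPoint ↑Y))) :
    ∃ V : Y.Opens, (V : Set ↑Y).Nonempty ∧
      ∀ (K : Type u) [Field K] (q : Spec (CommRingCat.of K) ⟶ Y), (∀ t, q t ∈ V) →
        ∀ (Z : Scheme.{u}) (fst : Z ⟶ X) (snd : Z ⟶ Spec (CommRingCat.of K)),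
          IsPullback fst snd f q → IrreducibleSpace Z := by
  classical
  set η := genericPoint ↑Y with hη
  obtain ⟨W, hW', hηW, -⟩ := Opens.isBasis_iff_nbhd.mp Y.isBasis_affineOpens (Opens.mem_top η)
  have hW : IsAffineOpen W := hW'
  have hcomp : IsCompact (f ⁻¹ᵁ W : Set X) :=
    QuasiCompact.isCompact_preimage (f := f) _ W.2 hW.isCompact
  obtain ⟨s, hsfin, hs⟩ :=
    (isCompact_and_isOpen_iff_finite_and_eq_biUnion_affineOpens).mp ⟨hcomp, (f ⁻¹ᵁ W).2⟩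
  have hle : ∀ i ∈ s, (i : X.Opens) ≤ f ⁻¹ᵁ W := by
    intro i hi x hx
    have : x ∈ (f ⁻¹ᵁ W : Set X) := by
      rw [hs]
      exact Set.mem_biUnion hi hx
    exact this
  haveI : Finite s := hsfin
  haveI hFirr : IrreducibleSpace ↥(f.fiber η) :=
    GeometricallyIrreducible.irreducibleSpace_of_subsingleton (f.fiberToSpecResidueField η)
  obtain ⟨V₀, ⟨v₀, hv₀⟩, hV₀⟩ := H7.exists_opens_preimage_subset_closure_genericFibre f
  have hηV₀ : η ∈ V₀ := ((genericPoint_spec ↑Y).mem_open_set_iff V₀.2).mpr ⟨v₀, trivial, hv₀⟩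
  let S₁ : s → Prop := fun i => ∃ x ∈ (i.1 : X.Opens), f x = η
  -- single pieces
  have hsingle : ∀ i : s, ∃ O : Y.Opens, η ∈ O ∧
      ∀ (K : Type u) [Field K] (q : Spec (CommRingCat.of K) ⟶ Y), (∀ t, q t ∈ O) →
        ∀ (Z : Scheme.{u}) (fst : Z ⟶ X) (snd : Z ⟶ Spec (CommRingCat.of K)),
          IsPullback fst snd f q →
          (S₁ i → IsIrreducible ((fst ⁻¹ᵁ (i.1 : X.Opens) : Z.Opens) : Set Z)) ∧
          (¬ S₁ i → ∀ z : Z, fst z ∉ (i.1 : X.Opens)) := by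
    intro i
    by_cases hi : S₁ i
    · obtain ⟨a, ha, hspread⟩ := per_affine_irr f h hW hηW i.1.2 (hle i.1 i.2) hi
      exact ⟨Y.basicOpen a, ha, fun K _ q hq Z fst snd HPB =>
        ⟨fun _ => hspread K q hq Z fst snd HPB, fun hn => absurd hi hn⟩⟩
    · refine ⟨V₀, hηV₀, fun K _ q hq Z fst snd HPB => ⟨fun hi' => absurd hi' hi, fun _ z hz => ?_⟩⟩
      have h1 : f (fst z) ∈ V₀ := by
        have h2 := congrArg (fun φ : Z ⟶ Y => φ z) HPB.w
        simp only [Scheme.Hom.comp_apply] at h2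
        rw [h2]
        exact hq _
      have h3 : fst z ∈ closure (f ⁻¹' {genericPoint ↑Y}) := hV₀ h1
      rw [mem_closure_iff] at h3
      obtain ⟨x, hx, hfx⟩ := h3 _ (i.1 : X.Opens).2 hz
      exact hi ⟨x, hx, hfx⟩
  -- pairs
  have hpair : ∀ ij : s × s, ∃ O : Y.Opens, η ∈ O ∧
      ∀ (K : Type u) [Field K] (q : Spec (CommRingCat.of K) ⟶ Y), (∀ t, q t ∈ O) →
        ∀ (Z : Scheme.{u}) (fst : Z ⟶ X) (snd : Z ⟶ Spec (CommRingCat.of K)),
          IsPullback fst snd f q → S₁ ij.1 → S₁ ij.2 →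
          ∃ z : Z, fst z ∈ (ij.1.1 : X.Opens) ∧ fst z ∈ (ij.2.1 : X.Opens) := by
    rintro ⟨i, j⟩
    by_cases hij : S₁ i ∧ S₁ j
    · obtain ⟨⟨xi, hxi, hfxi⟩, ⟨xj, hxj, hfxj⟩⟩ := hij
      -- the generic fibre is irreducible: the two pieces meet
      let wi : ↥(f.fiber η) := (f.fiberHomeo η).symm ⟨xi, hfxi⟩
      let wj : ↥(f.fiber η) := (f.fiberHomeo η).symm ⟨xj, hfxj⟩
      have hwi : (f.fiberι η) wi = xi := f.fiberι_fiberHomeo_symm _ _
      have hwj : (f.fiberι η) wj = xj := f.fiberι_fiberHomeo_symm _ _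
      obtain ⟨w, hwI, hwJ⟩ := nonempty_preirreducible_inter
        (((i.1 : X.Opens).2).preimage (f.fiberι η).continuous)
        (((j.1 : X.Opens).2).preimage (f.fiberι η).continuous)
        ⟨wi, show (f.fiberι η) wi ∈ (i.1 : X.Opens) by rw [hwi]; exact hxi⟩
        ⟨wj, show (f.fiberι η) wj ∈ (j.1 : X.Opens) by rw [hwj]; exact hxj⟩
      set x := (f.fiberι η) w with hx
      have hfx : f x = η := GeomRedCons.fiberι_mem f η w
      have hxI : x ∈ (i.1 : X.Opens) := hwI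
      have hxJ : x ∈ (j.1 : X.Opens) := hwJ
      obtain ⟨k, hk', hxk, hkij⟩ := Opens.isBasis_iff_nbhd.mp X.isBasis_affineOpens
        (show x ∈ (i.1 : X.Opens) ⊓ (j.1 : X.Opens) from ⟨hxI, hxJ⟩)
      have hk : IsAffineOpen k := hk'
      have hkW : k ≤ f ⁻¹ᵁ W := hkij.trans (inf_le_left.trans (hle i.1 i.2))
      obtain ⟨a, ha, hspread⟩ := per_affine_irr f h hW hηW hk hkW ⟨x, hxk, hfx⟩
      refine ⟨Y.basicOpen a, ha, fun K _ q hq Z fst snd HPB _ _ => ?_⟩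
      obtain ⟨z, hz⟩ := (hspread K q hq Z fst snd HPB).nonempty
      exact ⟨z, (hkij hz).1, (hkij hz).2⟩
    · exact ⟨⊤, trivial, fun K _ q hq Z fst snd HPB h1 h2 => absurd ⟨h1, h2⟩ hij⟩
  choose O hOη hO using hsingle
  choose O' hO'η hO' using hpair
  refine ⟨W ⊓ (⟨⋂ i : s, (O i : Set Y), isOpen_iInter_of_finite (fun i => (O i).2)⟩ ⊓
    ⟨⋂ ij : s × s, (O' ij : Set Y), isOpen_iInter_of_finite (fun ij => (O' ij).2)⟩),
    ⟨η, hηW, Set.mem_iInter.mpr hOη, Set.mem_iInter.mpr hO'η⟩, ?_⟩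
  intro K _ q hq Z fst snd HPB
  have hqW : ∀ t, q t ∈ W := fun t => (hq t).1
  have hqO : ∀ (i : s) t, q t ∈ O i := fun i t => Set.mem_iInter.mp (hq t).2.1 i
  have hqO' : ∀ (ij : s × s) t, q t ∈ O' ij := fun ij t => Set.mem_iInter.mp (hq t).2.2 ij
  -- `S₁` is nonempty
  have hS₁ : ∃ i : s, S₁ i := by
    obtain ⟨w⟩ := (inferInstance : Nonempty ↥(f.fiber η))
    have hfx : f ((f.fiberι η) w) = η := GeomRedCons.fiberι_mem f η w
    have hx : (f.fiberι η) w ∈ (f ⁻¹ᵁ W : Set X) := by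
      show f ((f.fiberι η) w) ∈ W
      rw [hfx]; exact hηW
    rw [hs] at hx
    obtain ⟨i, hi, hxi⟩ := Set.mem_iUnion₂.mp hx
    exact ⟨⟨i, hi⟩, _, hxi, hfx⟩
  haveI : Nonempty {i : s // S₁ i} := let ⟨i, hi⟩ := hS₁; ⟨⟨i, hi⟩⟩
  have hcover : (Set.univ : Set Z) =
      ⋃ i : {i : s // S₁ i}, ((fst ⁻¹ᵁ (i.1.1 : X.Opens) : Z.Opens) : Set Z) := by
    symm
    rw [Set.eq_univ_iff_forall]
    intro z
    have hz : fst z ∈ (f ⁻¹ᵁ W : Set X) := by
      show f (fst z) ∈ W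
      have h1 := congrArg (fun φ : Z ⟶ Y => φ z) HPB.w
      simp only [Scheme.Hom.comp_apply] at h1
      rw [h1]
      exact hqW _
    rw [hs] at hz
    obtain ⟨i, hi, hzi⟩ := Set.mem_iUnion₂.mp hz
    by_cases hiS : S₁ ⟨i, hi⟩
    · exact Set.mem_iUnion.mpr ⟨⟨⟨i, hi⟩, hiS⟩, hzi⟩
    · exact absurd hzi ((hO ⟨i, hi⟩ K q (hqO ⟨i, hi⟩) Z fst snd HPB).2 hiS z)
  have hirr : IsIrreducible (Set.univ : Set Z) := by
    rw [hcover]
    refine isIrreducible_iUnion _ (fun i => (hO i.1 K q (hqO i.1) Z fst snd HPB).1 i.2)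
      (fun i => (fst ⁻¹ᵁ (i.1.1 : X.Opens)).2) (fun i j => ?_)
    obtain ⟨z, hz1, hz2⟩ := hO' (i.1, j.1) K q (hqO' (i.1, j.1)) Z fst snd HPB i.2 j.2
    exact ⟨z, hz1, hz2⟩
  exact (irreducibleSpace_def Z).mpr hirr

/-- `S0419`: geometric irreducibility of the generic fibre spreads out to an open. -/
theorem main (f : X ⟶ Y) [IrreducibleSpace ↑Y] [LocallyOfFiniteType f] [QuasiCompact f]
    (h : GeometricallyIrreducible (f.fiberToSpecResidueField (genericPoint ↑Y))) :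
    ∃ V : Y.Opens, (V : Set ↑Y).Nonempty ∧ GeometricallyIrreducible (f ∣_ V) := by
  obtain ⟨V, hV, hcore⟩ := core f h
  refine ⟨V, hV, ⟨?_⟩⟩
  intro K _ y Z fst snd hpb
  have HPB : IsPullback (fst ≫ (f ⁻¹ᵁ V).ι) snd f (y ≫ V.ι) :=
    hpb.paste_horiz (isPullback_morphismRestrict f V).flip
  refine hcore K (y ≫ V.ι) (fun t => ?_) Z _ snd HPB
  rw [Scheme.Hom.comp_apply]
  exact (y t).2

/-- fibrewise version. -/
theorem fibres (f : X ⟶ Y) [IrreducibleSpace ↑Y] [LocallyOfFiniteType f] [QuasiCompact f]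
    (h : GeometricallyIrreducible (f.fiberToSpecResidueField (genericPoint ↑Y))) :
    ∃ V : Y.Opens, (V : Set ↑Y).Nonempty ∧
      ∀ y ∈ V, GeometricallyIrreducible (f.fiberToSpecResidueField y) := by
  obtain ⟨V, hV, hcore⟩ := core f h
  refine ⟨V, hV, fun y hy => ⟨?_⟩⟩
  intro K _ y' Z fst snd hpb
  have HPB : IsPullback (fst ≫ f.fiberι y) snd f (y' ≫ Y.fromSpecResidueField y) :=
    hpb.paste_horiz (IsPullback.of_hasPullback f (Y.fromSpecResidueField y))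
  refine hcore K (y' ≫ Y.fromSpecResidueField y) (fun t => ?_) Z _ snd HPB
  rw [Scheme.Hom.comp_apply, Scheme.fromSpecResidueField_apply]
  exact hy

end Groth.Agent.H38.GeomIrrSpread
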