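import Mathlib
import Groth.Agent.H38.IrrSpreadC
import Groth.Agent.H51.IrrN0
import Groth.Agent.H44.IrrN1
import Groth.Agent.H44.IrrN2
import Groth.Agent.H2.IrrN3

/-!
# Spreading out NON-irreducibility of geometric fibres
-/

set_option autoImplicit false
universe u
open TensorProduct

namespace Groth.Agent.H38.IrrNeg

open Groth.Agent.H38.IrrSpreadA Groth.Agent.H38.IrrSpreadC

theorem cancelBaseChange_one_tmul {A A₁ B Ω : Type u} [CommRing A] [CommRing A₁] [CommRing B]
    [CommRing Ω] [Algebra A A₁] [Algebra A B] [Algebra A Ω] [Algebra A₁ Ω] [IsScalarTower A A₁ Ω]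
    (z : A₁ ⊗[A] B) :
    Algebra.TensorProduct.cancelBaseChange A A₁ A₁ Ω B ((1 : Ω) ⊗ₜ[A₁] z) =
      Algebra.TensorProduct.map (IsScalarTower.toAlgHom A A₁ Ω) (AlgHom.id A B) z := by
  induction z using TensorProduct.induction_on with
  | zero => simp
  | tmul s b =>
    rw [Algebra.TensorProduct.cancelBaseChange_tmul, Algebra.TensorProduct.map_tmul]
    simp [Algebra.smul_def]
  | add x y hx hy => rw [TensorProduct.tmul_add, map_add, hx, hy, map_add]

/-- nontrivial, non-irreducible geometric generic fibre: domain case. -/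
theorem spread_not_irr_domain {A B : Type u} [CommRing A] [IsDomain A] [CommRing B] [Algebra A B]
    [Algebra.FiniteType A B] {Ω : Type u} [Field Ω] [IsAlgClosed Ω] [Algebra A Ω]
    (hinj : Function.Injective (algebraMap A Ω)) [Nontrivial (Ω ⊗[A] B)]
    (h₀ : ¬ IrreducibleSpace (PrimeSpectrum (Ω ⊗[A] B))) :
    ∃ a : A, a ≠ 0 ∧ ∀ (K : Type u) [Field K] [IsAlgClosed K] [Algebra A K],
      algebraMap A K a ≠ 0 →
      Nontrivial (K ⊗[A] B) ∧ ¬ IrreducibleSpace (PrimeSpectrum (K ⊗[A] B)) := by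
  classical
  rw [PrimeSpectrum.irreducibleSpace_iff_isPrime_nilradical, Ideal.isPrime_iff] at h₀
  push Not at h₀
  have hne : nilradical (Ω ⊗[A] B) ≠ ⊤ := by
    intro htop
    have h1 : (1 : Ω ⊗[A] B) ∈ nilradical (Ω ⊗[A] B) := htop ▸ Submodule.mem_top
    obtain ⟨k, hk⟩ := h1
    rw [one_pow] at hk
    exact one_ne_zero hk
  obtain ⟨u, v, huv, hu, hv⟩ := h₀ hne
  obtain ⟨A₁, u₁, v₁, hfg, hu₁, hv₁, hnil⟩ :=
    Groth.Agent.H2.IrrN3.exists_fg_subalgebra_descent u v huv
  haveI : Algebra.FiniteType A A₁ := (Subalgebra.fg_iff_finiteType A₁).mp hfg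
  have hinjA₁ : Function.Injective (algebraMap A A₁) := by
    intro x y hxy
    apply hinj
    have := congrArg (algebraMap A₁ Ω) hxy
    rwa [← IsScalarTower.algebraMap_apply, ← IsScalarTower.algebraMap_apply] at this
  have hinjΩ : Function.Injective (algebraMap A₁ Ω) := Subtype.val_injective
  have htoAlg : (IsScalarTower.toAlgHom A A₁ Ω) = A₁.val := by
    ext x; rfl
  have hu' : ¬ IsNilpotent ((1 : Ω) ⊗ₜ[A₁] u₁) := by
    intro hn
    apply hu
    have := hn.map (Algebra.TensorProduct.cancelBaseChange A A₁ A₁ Ω B)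
    rw [cancelBaseChange_one_tmul, htoAlg, hu₁] at this
    exact this
  have hv' : ¬ IsNilpotent ((1 : Ω) ⊗ₜ[A₁] v₁) := by
    intro hn
    apply hv
    have := hn.map (Algebra.TensorProduct.cancelBaseChange A A₁ A₁ Ω B)
    rw [cancelBaseChange_one_tmul, htoAlg, hv₁] at this
    exact this
  obtain ⟨a', ha', hsu⟩ := Groth.Agent.H44.IrrN2.not_isNilpotent_spread (A := A₁)
    (B := A₁ ⊗[A] B) u₁ hinjΩ hu'
  obtain ⟨a'', ha'', hsv⟩ := Groth.Agent.H44.IrrN2.not_isNilpotent_spread (A := A₁)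
    (B := A₁ ⊗[A] B) v₁ hinjΩ hv'
  obtain ⟨a, ha, hext⟩ := Groth.Agent.H44.IrrN1.exists_extension_ne_zero (A := A) (A₁ := A₁)
    hinjA₁ (a' * a'') (mul_ne_zero ha' ha'')
  refine ⟨a, ha, ?_⟩
  intro K _ _ _ haK
  obtain ⟨ψ₁, hψ₁, hψ₁a⟩ := hext K (algebraMap A K) haK
  letI algK : Algebra A₁ K := ψ₁.toAlgebra
  haveI : IsScalarTower A A₁ K := IsScalarTower.of_algebraMap_eq
    (fun x => (RingHom.congr_fun hψ₁ x).symm)
  have hmul : algebraMap A₁ K a' * algebraMap A₁ K a'' ≠ 0 := by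
    rw [← map_mul]; exact hψ₁a
  have hKu := hsu K (left_ne_zero_of_mul hmul)
  have hKv := hsv K (right_ne_zero_of_mul hmul)
  have hKuv : IsNilpotent (((1 : K) ⊗ₜ[A₁] u₁) * ((1 : K) ⊗ₜ[A₁] v₁)) := by
    rw [Algebra.TensorProduct.tmul_mul_tmul, one_mul]
    exact hnil.map (Algebra.TensorProduct.includeRight : (A₁ ⊗[A] B) →ₐ[A₁] K ⊗[A₁] (A₁ ⊗[A] B))
  have hnot : ¬ IrreducibleSpace (PrimeSpectrum (K ⊗[A₁] (A₁ ⊗[A] B))) := by
    rw [PrimeSpectrum.irreducibleSpace_iff_isPrime_nilradical]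
    intro hP
    rcases hP.mem_or_mem (show _ ∈ nilradical _ from hKuv) with h | h
    · exact hKu h
    · exact hKv h
  have hnt : Nontrivial (K ⊗[A₁] (A₁ ⊗[A] B)) := by
    by_contra hcon
    rw [not_nontrivial_iff_subsingleton] at hcon
    exact hKu ⟨1, Subsingleton.elim _ _⟩
  refine ⟨?_, fun h => hnot ((irr_cancel_iff A A₁ B K).mpr h)⟩
  haveI := hnt
  exact (Algebra.TensorProduct.cancelBaseChange A A₁ A₁ K B).injective.nontrivial


/-- spread_not_irr: general base ring. -/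
theorem spread_not_irr {A B : Type u} [CommRing A] [CommRing B] [Algebra A B]
    [Algebra.FiniteType A B] {Ω : Type u} [Field Ω] [IsAlgClosed Ω] [Algebra A Ω]
    (hker : ∀ P : Ideal A, P.IsPrime → RingHom.ker (algebraMap A Ω) ≤ P)
    [Nontrivial (Ω ⊗[A] B)] (h₀ : ¬ IrreducibleSpace (PrimeSpectrum (Ω ⊗[A] B))) :
    ∃ a : A, algebraMap A Ω a ≠ 0 ∧ ∀ (K : Type u) [Field K] [IsAlgClosed K] [Algebra A K],
      algebraMap A K a ≠ 0 → Nontrivial (K ⊗[A] B) ∧ ¬ IrreducibleSpace (PrimeSpectrum (K ⊗[A] B)) := by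
  set I : Ideal A := RingHom.ker (algebraMap A Ω) with hI
  haveI : I.IsPrime := RingHom.ker_isPrime _
  let A' := A ⧸ I
  have key : ∀ (L : Type u) [Field L] [Algebra A L], ∀ a ∈ I, algebraMap A L a = 0 := by
    intro L _ _ a ha
    exact hker (RingHom.ker (algebraMap A L)) (RingHom.ker_isPrime _) ha
  letI alg₀ : Algebra A' Ω :=
    (Ideal.Quotient.lift I (algebraMap A Ω) (key Ω)).toAlgebra
  haveI : IsScalarTower A A' Ω := IsScalarTower.of_algebraMap_eq (fun x => by
    simp [RingHom.algebraMap_toAlgebra, A'])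
  have hinj : Function.Injective (algebraMap A' Ω) := by
    show Function.Injective (Ideal.Quotient.lift I (algebraMap A Ω) (key Ω))
    exact RingHom.lift_injective_of_ker_le_ideal I (key Ω) le_rfl
  let eΩ := Algebra.TensorProduct.cancelBaseChange A A' A' Ω B
  haveI : Nontrivial (Ω ⊗[A'] (A' ⊗[A] B)) := eΩ.symm.injective.nontrivial
  have h₀' : ¬ IrreducibleSpace (PrimeSpectrum (Ω ⊗[A'] (A' ⊗[A] B))) :=
    fun h => h₀ ((irr_cancel_iff A A' B Ω).mp h)
  obtain ⟨a', ha', hspread⟩ := spread_not_irr_domain (A := A') (B := A' ⊗[A] B) hinj h₀'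
  obtain ⟨a, rfl⟩ := Ideal.Quotient.mk_surjective a'
  refine ⟨a, ?_, ?_⟩
  · intro h
    apply ha'
    rw [Ideal.Quotient.eq_zero_iff_mem]
    exact h
  · intro K _ _ _ haK
    letI alg : Algebra A' K := (Ideal.Quotient.lift I (algebraMap A K) (key K)).toAlgebra
    haveI : IsScalarTower A A' K := IsScalarTower.of_algebraMap_eq (fun x => by
      simp [RingHom.algebraMap_toAlgebra, A'])
    have h1 : algebraMap A' K (Ideal.Quotient.mk I a) ≠ 0 := by
      show Ideal.Quotient.lift I (algebraMap A K) (key K) (Ideal.Quotient.mk I a) ≠ 0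
      rw [Ideal.Quotient.lift_mk]
      exact haK
    let eK := Algebra.TensorProduct.cancelBaseChange A A' A' K B
    obtain ⟨h2, h3⟩ := hspread K h1
    haveI := h2
    exact ⟨eK.injective.nontrivial, fun h => h3 ((irr_cancel_iff A A' B K).mpr h)⟩

/-- spread_nontrivial: general base ring. -/
theorem spread_nontrivial {A B : Type u} [CommRing A] [CommRing B] [Algebra A B]
    [Algebra.FiniteType A B] {Ω : Type u} [Field Ω] [IsAlgClosed Ω] [Algebra A Ω]
    (hker : ∀ P : Ideal A, P.IsPrime → RingHom.ker (algebraMap A Ω) ≤ P)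
    [Nontrivial (Ω ⊗[A] B)] :
    ∃ a : A, algebraMap A Ω a ≠ 0 ∧ ∀ (K : Type u) [Field K]  [Algebra A K],
      algebraMap A K a ≠ 0 → Nontrivial (K ⊗[A] B) := by
  set I : Ideal A := RingHom.ker (algebraMap A Ω) with hI
  haveI : I.IsPrime := RingHom.ker_isPrime _
  let A' := A ⧸ I
  have key : ∀ (L : Type u) [Field L] [Algebra A L], ∀ a ∈ I, algebraMap A L a = 0 := by
    intro L _ _ a ha
    exact hker (RingHom.ker (algebraMap A L)) (RingHom.ker_isPrime _) ha
  letI alg₀ : Algebra A' Ω :=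
    (Ideal.Quotient.lift I (algebraMap A Ω) (key Ω)).toAlgebra
  haveI : IsScalarTower A A' Ω := IsScalarTower.of_algebraMap_eq (fun x => by
    simp [RingHom.algebraMap_toAlgebra, A'])
  have hinj : Function.Injective (algebraMap A' Ω) := by
    show Function.Injective (Ideal.Quotient.lift I (algebraMap A Ω) (key Ω))
    exact RingHom.lift_injective_of_ker_le_ideal I (key Ω) le_rfl
  let eΩ := Algebra.TensorProduct.cancelBaseChange A A' A' Ω B
  haveI : Nontrivial (Ω ⊗[A'] (A' ⊗[A] B)) := eΩ.symm.injective.nontrivial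
  have h₀' : ¬ IsNilpotent ((1 : Ω) ⊗ₜ[A'] (1 : A' ⊗[A] B)) := by
    intro hn
    have hn' : IsNilpotent (1 : Ω ⊗[A'] (A' ⊗[A] B)) := hn
    exact (not_isNilpotent_one (R := Ω ⊗[A'] (A' ⊗[A] B))) hn'
  obtain ⟨a', ha', hspread⟩ := Groth.Agent.H44.IrrN2.not_isNilpotent_spread (A := A') (B := A' ⊗[A] B) 1 hinj h₀'
  obtain ⟨a, rfl⟩ := Ideal.Quotient.mk_surjective a'
  refine ⟨a, ?_, ?_⟩
  · intro h
    apply ha'
    rw [Ideal.Quotient.eq_zero_iff_mem]
    exact h
  · intro K _  _ haK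
    letI alg : Algebra A' K := (Ideal.Quotient.lift I (algebraMap A K) (key K)).toAlgebra
    haveI : IsScalarTower A A' K := IsScalarTower.of_algebraMap_eq (fun x => by
      simp [RingHom.algebraMap_toAlgebra, A'])
    have h1 : algebraMap A' K (Ideal.Quotient.mk I a) ≠ 0 := by
      show Ideal.Quotient.lift I (algebraMap A K) (key K) (Ideal.Quotient.mk I a) ≠ 0
      rw [Ideal.Quotient.lift_mk]
      exact haK
    let eK := Algebra.TensorProduct.cancelBaseChange A A' A' K B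
    have h2 := hspread K h1
    haveI : Nontrivial (K ⊗[A'] (A' ⊗[A] B)) := by
      by_contra hcon
      rw [not_nontrivial_iff_subsingleton] at hcon
      exact h2 ⟨1, Subsingleton.elim _ _⟩
    exact eK.injective.nontrivial

/-- spread_subsingleton: general base ring. -/
theorem spread_subsingleton {A B : Type u} [CommRing A] [CommRing B] [Algebra A B]
    [Algebra.FiniteType A B] {Ω : Type u} [Field Ω] [IsAlgClosed Ω] [Algebra A Ω]
    (hker : ∀ P : Ideal A, P.IsPrime → RingHom.ker (algebraMap A Ω) ≤ P)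
    (h₀ : Subsingleton (Ω ⊗[A] B)) :
    ∃ a : A, algebraMap A Ω a ≠ 0 ∧ ∀ (K : Type u) [Field K]  [Algebra A K],
      algebraMap A K a ≠ 0 → Subsingleton (K ⊗[A] B) := by
  set I : Ideal A := RingHom.ker (algebraMap A Ω) with hI
  haveI : I.IsPrime := RingHom.ker_isPrime _
  let A' := A ⧸ I
  have key : ∀ (L : Type u) [Field L] [Algebra A L], ∀ a ∈ I, algebraMap A L a = 0 := by
    intro L _ _ a ha
    exact hker (RingHom.ker (algebraMap A L)) (RingHom.ker_isPrime _) ha
  letI alg₀ : Algebra A' Ω :=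
    (Ideal.Quotient.lift I (algebraMap A Ω) (key Ω)).toAlgebra
  haveI : IsScalarTower A A' Ω := IsScalarTower.of_algebraMap_eq (fun x => by
    simp [RingHom.algebraMap_toAlgebra, A'])
  have hinj : Function.Injective (algebraMap A' Ω) := by
    show Function.Injective (Ideal.Quotient.lift I (algebraMap A Ω) (key Ω))
    exact RingHom.lift_injective_of_ker_le_ideal I (key Ω) le_rfl
  let eΩ := Algebra.TensorProduct.cancelBaseChange A A' A' Ω B
  have h₀' : Subsingleton (Ω ⊗[A'] (A' ⊗[A] B)) := eΩ.injective.subsingleton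
  obtain ⟨a', ha', hspread⟩ := Groth.Agent.H51.IrrN0.subsingleton_spread (A := A') (B := A' ⊗[A] B) hinj h₀'
  obtain ⟨a, rfl⟩ := Ideal.Quotient.mk_surjective a'
  refine ⟨a, ?_, ?_⟩
  · intro h
    apply ha'
    rw [Ideal.Quotient.eq_zero_iff_mem]
    exact h
  · intro K _  _ haK
    letI alg : Algebra A' K := (Ideal.Quotient.lift I (algebraMap A K) (key K)).toAlgebra
    haveI : IsScalarTower A A' K := IsScalarTower.of_algebraMap_eq (fun x => by
      simp [RingHom.algebraMap_toAlgebra, A'])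
    have h1 : algebraMap A' K (Ideal.Quotient.mk I a) ≠ 0 := by
      show Ideal.Quotient.lift I (algebraMap A K) (key K) (Ideal.Quotient.mk I a) ≠ 0
      rw [Ideal.Quotient.lift_mk]
      exact haK
    let eK := Algebra.TensorProduct.cancelBaseChange A A' A' K B
    haveI := hspread K h1
    exact eK.symm.injective.subsingleton

open CategoryTheory CategoryTheory.Limits in
/-- the pushout is the tensor product. -/
noncomputable def pushoutEquiv {A B K P : CommRingCat.{u}} {φ : A ⟶ B} {ψ : A ⟶ K}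
    {inl : B ⟶ P} {inr : K ⟶ P} (h : IsPushout φ ψ inl inr) :
    letI : Algebra A B := φ.hom.toAlgebra
    letI : Algebra A K := ψ.hom.toAlgebra
    P ≃+* K ⊗[A] B := by
  letI : Algebra A B := φ.hom.toAlgebra
  letI : Algebra A K := ψ.hom.toAlgebra
  have h' : IsPushout (CommRingCat.ofHom (algebraMap A K)) (CommRingCat.ofHom (algebraMap A B))
      inr inl := h.flip
  exact (h'.isoIsPushout _ _ (CommRingCat.isPushout_tensorProduct A K B)).commRingCatIsoToRingEquiv

open CategoryTheory CategoryTheory.Limits in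
/-- Spreading out non-irreducibility of geometric fibres, phrased with pushout squares. -/
theorem spread_not_irr_pushout {A B : CommRingCat.{u}} (φ : A ⟶ B) (hφ : φ.hom.FiniteType)
    {Ω : Type u} [Field Ω] [IsAlgClosed Ω] {P₀ : CommRingCat.{u}}
    {ψ₀ : A ⟶ CommRingCat.of Ω} {inl₀ : B ⟶ P₀} {inr₀ : CommRingCat.of Ω ⟶ P₀}
    (h₀ : IsPushout φ ψ₀ inl₀ inr₀)
    (hker : ∀ P : Ideal A, P.IsPrime → RingHom.ker ψ₀.hom ≤ P)
    (hnt : Nontrivial P₀) (hirr : ¬ IrreducibleSpace (PrimeSpectrum P₀)) :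
    ∃ a : A, ψ₀.hom a ≠ 0 ∧ ∀ (K : Type u) [Field K] [IsAlgClosed K] (P : CommRingCat.{u})
      (ψ : A ⟶ CommRingCat.of K) (inl : B ⟶ P) (inr : CommRingCat.of K ⟶ P),
      IsPushout φ ψ inl inr → ψ.hom a ≠ 0 →
        Nontrivial P ∧ ¬ IrreducibleSpace (PrimeSpectrum P) := by
  letI : Algebra A B := φ.hom.toAlgebra
  haveI : Algebra.FiniteType A B := hφ
  letI alg₀ : Algebra A Ω := ψ₀.hom.toAlgebra
  haveI := hnt
  haveI : Nontrivial (Ω ⊗[A] B) := (pushoutEquiv h₀).injective.nontrivial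
  have h1 : ¬ IrreducibleSpace (PrimeSpectrum (Ω ⊗[A] B)) :=
    fun h => hirr ((irr_iff_of_isPushout h₀).mpr h)
  obtain ⟨a, ha, hspread⟩ := spread_not_irr (A := A) (B := B) (Ω := Ω) hker h1
  refine ⟨a, ha, ?_⟩
  intro K _ _ P ψ inl inr hPO haK
  letI alg : Algebra A K := ψ.hom.toAlgebra
  obtain ⟨h2, h3⟩ := hspread K haK
  haveI := h2
  exact ⟨(pushoutEquiv hPO).symm.injective.nontrivial,
    fun h => h3 ((irr_iff_of_isPushout hPO).mp h)⟩

open CategoryTheory CategoryTheory.Limits in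
/-- Spreading out nonemptiness of geometric fibres, phrased with pushout squares. -/
theorem spread_nontrivial_pushout {A B : CommRingCat.{u}} (φ : A ⟶ B) (hφ : φ.hom.FiniteType)
    {Ω : Type u} [Field Ω] [IsAlgClosed Ω] {P₀ : CommRingCat.{u}}
    {ψ₀ : A ⟶ CommRingCat.of Ω} {inl₀ : B ⟶ P₀} {inr₀ : CommRingCat.of Ω ⟶ P₀}
    (h₀ : IsPushout φ ψ₀ inl₀ inr₀)
    (hker : ∀ P : Ideal A, P.IsPrime → RingHom.ker ψ₀.hom ≤ P)
    (hnt : Nontrivial P₀) :
    ∃ a : A, ψ₀.hom a ≠ 0 ∧ ∀ (K : Type u) [Field K] (P : CommRingCat.{u})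
      (ψ : A ⟶ CommRingCat.of K) (inl : B ⟶ P) (inr : CommRingCat.of K ⟶ P),
      IsPushout φ ψ inl inr → ψ.hom a ≠ 0 → Nontrivial P := by
  letI : Algebra A B := φ.hom.toAlgebra
  haveI : Algebra.FiniteType A B := hφ
  letI alg₀ : Algebra A Ω := ψ₀.hom.toAlgebra
  haveI := hnt
  haveI : Nontrivial (Ω ⊗[A] B) := (pushoutEquiv h₀).injective.nontrivial
  obtain ⟨a, ha, hspread⟩ := spread_nontrivial (A := A) (B := B) (Ω := Ω) hker
  refine ⟨a, ha, ?_⟩
  intro K _ P ψ inl inr hPO haK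
  letI alg : Algebra A K := ψ.hom.toAlgebra
  haveI := hspread K haK
  exact (pushoutEquiv hPO).symm.injective.nontrivial

end Groth.Agent.H38.IrrNeg
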