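import Mathlib
import Groth.Agent.H38.IrrNeg
import Groth.Agent.H38.GeomIrrSpread
import Groth.Agent.H38.GeomIrrDescent
import Groth.Agent.H37.GeomSepClosed

/-!
# Non-irreducibility of the geometric generic fibre spreads out
-/

set_option autoImplicit false
universe u
open AlgebraicGeometry CategoryTheory Limits TopologicalSpace

namespace Groth.Agent.H38.GeomIrrNeg

variable {X Y : Scheme.{u}}

section setup

variable (Y) [IrreducibleSpace ↑Y]

/-- an algebraic closure of the residue field of the generic point. -/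
noncomputable abbrev Ωf : Type u := AlgebraicClosure (Y.residueField (genericPoint ↑Y))

noncomputable abbrev ιΩ : Y.residueField (genericPoint ↑Y) ⟶ CommRingCat.of (Ωf Y) :=
  CommRingCat.ofHom (algebraMap (Y.residueField (genericPoint ↑Y)) (Ωf Y))

/-- the geometric generic point. -/
noncomputable abbrev qΩ : Spec (CommRingCat.of (Ωf Y)) ⟶ Y :=
  Spec.map (ιΩ Y) ≫ Y.fromSpecResidueField (genericPoint ↑Y)

variable {Y} (f : X ⟶ Y)

/-- the geometric generic fibre. -/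
noncomputable abbrev ZΩ : Scheme.{u} :=
  pullback (f.fiberToSpecResidueField (genericPoint ↑Y)) (Spec.map (ιΩ Y))

noncomputable abbrev fstΩ : ZΩ f ⟶ X :=
  pullback.fst (f.fiberToSpecResidueField (genericPoint ↑Y)) (Spec.map (ιΩ Y)) ≫
    f.fiberι (genericPoint ↑Y)

noncomputable abbrev sndΩ : ZΩ f ⟶ Spec (CommRingCat.of (Ωf Y)) :=
  pullback.snd (f.fiberToSpecResidueField (genericPoint ↑Y)) (Spec.map (ιΩ Y))

theorem isPullback_ZΩ : IsPullback (fstΩ f) (sndΩ f) f (qΩ Y) :=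
  (IsPullback.of_hasPullback (f.fiberToSpecResidueField (genericPoint ↑Y))
    (Spec.map (ιΩ Y))).paste_horiz
    (IsPullback.of_hasPullback f (Y.fromSpecResidueField (genericPoint ↑Y)))

theorem qΩ_apply (t : Spec (CommRingCat.of (Ωf Y))) : qΩ Y t = genericPoint ↑Y := by
  show (Spec.map (ιΩ Y) ≫ Y.fromSpecResidueField (genericPoint ↑Y)) t = genericPoint ↑Y
  rw [Scheme.Hom.comp_apply, Scheme.fromSpecResidueField_apply]

/-- every point of the generic fibre lifts to the geometric generic fibre. -/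
theorem exists_ZΩ_of_generic (x : X) (hx : f x = genericPoint ↑Y) : ∃ z : ZΩ f, fstΩ f z = x := by
  let t₀ : Spec (CommRingCat.of (Ωf Y)) := IsLocalRing.closedPoint (Ωf Y)
  obtain ⟨z, hz, -⟩ := Scheme.exists_preimage_of_isPullback (isPullback_ZΩ f) x t₀
    (by rw [qΩ_apply]; exact hx)
  exact ⟨z, hz⟩

theorem f_fstΩ (z : ZΩ f) : f (fstΩ f z) = genericPoint ↑Y := by
  show (fstΩ f ≫ f) z = _
  rw [(isPullback_ZΩ f).w, Scheme.Hom.comp_apply, qΩ_apply]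

/-- **General per-affine transfer.** -/
theorem per_affine_general [LocallyOfFiniteType f]
    {C : ∀ (K : Type u) [Field K], Prop} {Φ Ψ : CommRingCat.{u} → Prop}
    (halg : ∀ {A B : CommRingCat.{u}} (φ : A ⟶ B), φ.hom.FiniteType →
      ∀ {P₀ : CommRingCat.{u}} {ψ₀ : A ⟶ CommRingCat.of (Ωf Y)} {inl₀ : B ⟶ P₀}
        {inr₀ : CommRingCat.of (Ωf Y) ⟶ P₀}, IsPushout φ ψ₀ inl₀ inr₀ →
        (∀ P : Ideal A, P.IsPrime → RingHom.ker ψ₀.hom ≤ P) → Φ P₀ →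
        ∃ a : A, ψ₀.hom a ≠ 0 ∧ ∀ (K : Type u) [Field K], C K → ∀ (P : CommRingCat.{u})
          (ψ : A ⟶ CommRingCat.of K) (inl : B ⟶ P) (inr : CommRingCat.of K ⟶ P),
          IsPushout φ ψ inl inr → ψ.hom a ≠ 0 → Ψ P)
    {W : Y.Opens} (hW : IsAffineOpen W) (hηW : genericPoint ↑Y ∈ W)
    {X₁ : X.Opens} (hX₁ : IsAffineOpen X₁) (hXW : X₁ ≤ f ⁻¹ᵁ W)
    (hΦ : Φ Γ(ZΩ f, fstΩ f ⁻¹ᵁ X₁ ⊓ sndΩ f ⁻¹ᵁ ⊤)) :
    ∃ a : Γ(Y, W), genericPoint ↑Y ∈ Y.basicOpen a ∧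
      ∀ (K : Type u) [Field K], C K → ∀ (q : Spec (CommRingCat.of K) ⟶ Y),
        (∀ t, q t ∈ Y.basicOpen a) →
        ∀ (Z : Scheme.{u}) (fst : Z ⟶ X) (snd : Z ⟶ Spec (CommRingCat.of K)),
          IsPullback fst snd f q →
          IsAffineOpen (fst ⁻¹ᵁ X₁ ⊓ snd ⁻¹ᵁ ⊤) ∧ Ψ Γ(Z, fst ⁻¹ᵁ X₁ ⊓ snd ⁻¹ᵁ ⊤) := by
  classical
  set η := genericPoint ↑Y with hη
  have hqΩ : (⊤ : (Spec (CommRingCat.of (Ωf Y))).Opens) ≤ qΩ Y ⁻¹ᵁ W := by
    intro t _
    show qΩ Y t ∈ W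
    rw [qΩ_apply]
    exact hηW
  obtain ⟨haffΩ, POΩ⟩ := H7.isPushout_sections_of_isPullback_Spec (isPullback_ZΩ f) hW hX₁ hXW hqΩ
  let t₀ : Spec (CommRingCat.of (Ωf Y)) := IsLocalRing.closedPoint (Ωf Y)
  have hker : ∀ P : Ideal Γ(Y, W), P.IsPrime → RingHom.ker ((qΩ Y).appLE W ⊤ hqΩ ≫
      (Scheme.ΓSpecIso (CommRingCat.of (Ωf Y))).hom).hom ≤ P := by
    intro P hP a ha
    by_contra haP
    have h1 : (⟨P, hP⟩ : PrimeSpectrum Γ(Y, W)) ∈ PrimeSpectrum.basicOpen a := haP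
    rw [← hW.fromSpec_preimage_basicOpen] at h1
    have h2 : hW.fromSpec (⟨P, hP⟩ : PrimeSpectrum Γ(Y, W)) ∈ Y.basicOpen a := h1
    have h3 : η ∈ Y.basicOpen a :=
      ((genericPoint_spec ↑Y).mem_open_set_iff (Y.basicOpen a).2).mpr ⟨_, Set.mem_univ _, h2⟩
    have h4 : qΩ Y t₀ ∈ Y.basicOpen a := by rw [qΩ_apply]; exact h3
    exact (GeomRedSpread.psi_ne_zero_iff' (qΩ Y) hqΩ a t₀).mpr h4 ha
  have hfin : (f.appLE W X₁ hXW).hom.FiniteType :=
    HasRingHomProperty.appLE (P := @LocallyOfFiniteType) f inferInstance ⟨W, hW⟩ ⟨X₁, hX₁⟩ hXW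
  obtain ⟨a, ha, hspread⟩ := halg (f.appLE W X₁ hXW) hfin POΩ hker hΦ
  refine ⟨a, ?_, ?_⟩
  · have := (GeomRedSpread.psi_ne_zero_iff' (qΩ Y) hqΩ a t₀).mp ha
    rwa [qΩ_apply] at this
  · intro K _ hCK q hq Z fst snd HPB
    have hqW : (⊤ : (Spec (CommRingCat.of K)).Opens) ≤ q ⁻¹ᵁ W := by
      intro t _
      exact Y.basicOpen_le a (hq t)
    obtain ⟨haff, PO⟩ := H7.isPushout_sections_of_isPullback_Spec HPB hW hX₁ hXW hqW
    exact ⟨haff, hspread K hCK _ _ _ _ PO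
      ((GeomRedSpread.psi_ne_zero_iff' q hqW a (IsLocalRing.closedPoint K)).mpr (hq _))⟩

theorem isAffineOpen_ZΩ [LocallyOfFiniteType f] {W : Y.Opens} (hW : IsAffineOpen W)
    (hηW : genericPoint ↑Y ∈ W) {X₁ : X.Opens} (hX₁ : IsAffineOpen X₁) (hXW : X₁ ≤ f ⁻¹ᵁ W) :
    IsAffineOpen (fstΩ f ⁻¹ᵁ X₁ ⊓ sndΩ f ⁻¹ᵁ ⊤) := by
  have hqΩ : (⊤ : (Spec (CommRingCat.of (Ωf Y))).Opens) ≤ qΩ Y ⁻¹ᵁ W := by
    intro t _
    show qΩ Y t ∈ W
    rw [qΩ_apply]
    exact hηW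
  exact (H7.isPushout_sections_of_isPullback_Spec (isPullback_ZΩ f) hW hX₁ hXW hqΩ).1

end setup

/-- an affine open is nonempty iff its ring of sections is nontrivial. -/
theorem nonempty_iff_nontrivial_of_isAffineOpen {Z : Scheme.{u}} {U : Z.Opens}
    (hU : IsAffineOpen U) : (U : Set Z).Nonempty ↔ Nontrivial Γ(Z, U) := by
  have e : ↥U ≃ₜ PrimeSpectrum Γ(Z, U) := hU.isoSpec.hom.homeomorph
  rw [← PrimeSpectrum.nonempty_iff_nontrivial, ← e.nonempty_congr]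
  exact Set.nonempty_coe_sort.symm

/-- the geometric fibre over `y` for an algebraic closure of the residue field, as a pullback of
`f`. -/
theorem exists_geometric_fibre (f : X ⟶ Y) (y : Y)
    (hy : GeometricallyIrreducible (f.fiberToSpecResidueField y)) :
    ∃ (K : Type u) (_ : Field K) (_ : IsAlgClosed K) (q : Spec (CommRingCat.of K) ⟶ Y)
      (Z : Scheme.{u}) (fst : Z ⟶ X) (snd : Z ⟶ Spec (CommRingCat.of K)),
      (∀ t, q t = y) ∧ IsPullback fst snd f q ∧ IrreducibleSpace ↥Z := by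
  let K := AlgebraicClosure (Y.residueField y)
  let ι : Y.residueField y ⟶ CommRingCat.of K :=
    CommRingCat.ofHom (algebraMap (Y.residueField y) K)
  refine ⟨K, inferInstance, inferInstance, Spec.map ι ≫ Y.fromSpecResidueField y,
    pullback (f.fiberToSpecResidueField y) (Spec.map ι),
    pullback.fst (f.fiberToSpecResidueField y) (Spec.map ι) ≫ f.fiberι y,
    pullback.snd (f.fiberToSpecResidueField y) (Spec.map ι), ?_, ?_, ?_⟩
  · intro t
    rw [Scheme.Hom.comp_apply, Scheme.fromSpecResidueField_apply]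
  · exact (IsPullback.of_hasPullback (f.fiberToSpecResidueField y) (Spec.map ι)).paste_horiz
      (IsPullback.of_hasPullback f (Y.fromSpecResidueField y))
  · exact hy.geometrically_irreducibleSpace (Spec.map ι) _ _ (IsPullback.of_hasPullback _ _)

/-- **Negative direction of EGA IV 9.7.7 for irreducibility.** -/
theorem not_fibres (f : X ⟶ Y) [IrreducibleSpace ↑Y] [LocallyOfFiniteType f] [QuasiCompact f]
    (h : ¬ GeometricallyIrreducible (f.fiberToSpecResidueField (genericPoint ↑Y))) :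
    ∃ V : Y.Opens, (V : Set ↑Y).Nonempty ∧
      ∀ y ∈ V, ¬ GeometricallyIrreducible (f.fiberToSpecResidueField y) := by
  classical
  set η := genericPoint ↑Y with hη
  obtain ⟨W, hW', hηW, -⟩ := Opens.isBasis_iff_nbhd.mp Y.isBasis_affineOpens (Opens.mem_top η)
  have hW : IsAffineOpen W := hW'
  have hcomp : IsCompact (f ⁻¹ᵁ W : Set X) :=
    QuasiCompact.isCompact_preimage (f := f) _ W.2 hW.isCompact
  obtain ⟨s, hsfin, hs⟩ :=
    (isCompact_and_isOpen_iff_finite_and_eq_biUnion_affineOpens).mp ⟨hcomp, (f ⁻¹ᵁ W).2⟩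
  have hle : ∀ i ∈ s, (i : X.Opens) ≤ f ⁻¹ᵁ W := by
    intro i hi x hx
    have : x ∈ (f ⁻¹ᵁ W : Set X) := by
      rw [hs]
      exact Set.mem_biUnion hi hx
    exact this
  obtain ⟨V₀, ⟨v₀, hv₀⟩, hV₀⟩ := H7.exists_opens_preimage_subset_closure_genericFibre f
  have hηV₀ : η ∈ V₀ := ((genericPoint_spec ↑Y).mem_open_set_iff V₀.2).mpr ⟨v₀, trivial, hv₀⟩
  -- the geometric generic fibre is not irreducible
  have hZΩ : ¬ IrreducibleSpace ↥(ZΩ f) := by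
    intro hirr
    apply h
    haveI := hirr
    have h1 : GeometricallyIrreducible (sndΩ f) := H37.geomIrr_of_isSepClosed (sndΩ f)
    haveI : Subsingleton ↥(Spec (Y.residueField η)) :=
      inferInstanceAs (Subsingleton (PrimeSpectrum (Y.residueField η)))
    haveI : Nonempty ↥(Spec (CommRingCat.of (Ωf Y))) :=
      inferInstanceAs (Nonempty (PrimeSpectrum (Ωf Y)))
    haveI : Surjective (Spec.map (ιΩ Y)) :=
      ⟨fun t => ⟨Classical.arbitrary _, Subsingleton.elim _ _⟩⟩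
    exact GeomIrrDescent.geometricallyIrreducible_of_isPullback_of_surjective
      (IsPullback.of_hasPullback (f.fiberToSpecResidueField η) (Spec.map (ιΩ Y))) h1
  -- the pieces
  let U : s → (ZΩ f).Opens := fun i => fstΩ f ⁻¹ᵁ (i.1 : X.Opens) ⊓ sndΩ f ⁻¹ᵁ ⊤
  have hUaff : ∀ i : s, IsAffineOpen (U i) := fun i =>
    isAffineOpen_ZΩ f hW hηW i.1.2 (hle i.1 i.2)
  have hUmem : ∀ (i : s) (z : ZΩ f), z ∈ U i ↔ fstΩ f z ∈ (i.1 : X.Opens) := fun i z =>
    ⟨fun h => h.1, fun h => ⟨h, trivial⟩⟩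
  have hcoverΩ : ∀ z : ZΩ f, ∃ i : s, z ∈ U i := by
    intro z
    have hz : fstΩ f z ∈ (f ⁻¹ᵁ W : Set X) := by
      show f (fstΩ f z) ∈ W
      rw [f_fstΩ]; exact hηW
    rw [hs] at hz
    obtain ⟨i, hi, hzi⟩ := Set.mem_iUnion₂.mp hz
    exact ⟨⟨i, hi⟩, (hUmem _ _).mpr hzi⟩
  -- helper: a point of `X` over `V₀` in an open `O` gives a point of the generic fibre in `O`
  have hgen : ∀ (O : X.Opens) (x : X), x ∈ O → f x ∈ V₀ → ∃ z : ZΩ f, fstΩ f z ∈ O := by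
    intro O x hxO hfx
    have h3 : x ∈ closure (f ⁻¹' {genericPoint ↑Y}) := hV₀ hfx
    rw [mem_closure_iff] at h3
    obtain ⟨x', hx', hfx'⟩ := h3 _ O.2 hxO
    obtain ⟨z, hz⟩ := exists_ZΩ_of_generic f x' hfx'
    exact ⟨z, hz ▸ hx'⟩
  -- helper: image of `fst` under `f`
  have hfy : ∀ {K : Type u} [Field K] {q : Spec (CommRingCat.of K) ⟶ Y} {Z : Scheme.{u}}
      {fst : Z ⟶ X} {snd : Z ⟶ Spec (CommRingCat.of K)}, IsPullback fst snd f q → ∀ (y : Y),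
      (∀ t, q t = y) → ∀ z : Z, f (fst z) = y := by
    intro K _ q Z fst snd HPB y hq z
    show (fst ≫ f) z = y
    rw [HPB.w, Scheme.Hom.comp_apply, hq]
  by_cases hempty : ∀ i : s, ¬ (U i : Set (ZΩ f)).Nonempty
  · -- case (1): the geometric generic fibre is empty
    refine ⟨V₀, ⟨v₀, hv₀⟩, fun y hy hgi => ?_⟩
    obtain ⟨K, _, _, q, Z, fst, snd, hq, HPB, hZirr⟩ := exists_geometric_fibre f y hgi
    obtain ⟨z⟩ := (inferInstance : Nonempty ↥Z)
    obtain ⟨z', -⟩ := hgen ⊤ (fst z) trivial (by rw [hfy HPB y hq z]; exact hy)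
    obtain ⟨i, hi⟩ := hcoverΩ z'
    exact hempty i ⟨z', hi⟩
  push Not at hempty
  by_cases hbad : ∃ i : s, (U i : Set (ZΩ f)).Nonempty ∧ ¬ IsIrreducible (U i : Set (ZΩ f))
  · -- case (2): a nonempty non-irreducible affine piece
    obtain ⟨i, hine, hinot⟩ := hbad
    have hΦ : Nontrivial Γ(ZΩ f, fstΩ f ⁻¹ᵁ (i.1 : X.Opens) ⊓ sndΩ f ⁻¹ᵁ ⊤) ∧
        ¬ IrreducibleSpace (PrimeSpectrum Γ(ZΩ f, fstΩ f ⁻¹ᵁ (i.1 : X.Opens) ⊓ sndΩ f ⁻¹ᵁ ⊤)) :=
      ⟨(nonempty_iff_nontrivial_of_isAffineOpen (hUaff i)).mp hine,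
        fun hh => hinot ((GeomIrrSpread.isIrreducible_iff_of_isAffineOpen (hUaff i)).mpr hh)⟩
    obtain ⟨a, ha, hspread⟩ := per_affine_general f
      (C := fun K _ => IsAlgClosed K)
      (Φ := fun P => Nontrivial P ∧ ¬ IrreducibleSpace (PrimeSpectrum P))
      (Ψ := fun P => Nontrivial P ∧ ¬ IrreducibleSpace (PrimeSpectrum P))
      (fun φ hφ P₀ ψ₀ inl₀ inr₀ h₀ hker hP => by
        obtain ⟨a, ha, hsp⟩ := IrrNeg.spread_not_irr_pushout φ hφ h₀ hker hP.1 hP.2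
        exact ⟨a, ha, fun K _ hK P ψ inl inr hPO hne =>
          haveI : IsAlgClosed K := hK
          hsp K P ψ inl inr hPO hne⟩)
      hW hηW i.1.2 (hle i.1 i.2) hΦ
    refine ⟨Y.basicOpen a, ⟨η, ha⟩, fun y hy hgi => ?_⟩
    obtain ⟨K, _, hKac, q, Z, fst, snd, hq, HPB, hZirr⟩ := exists_geometric_fibre f y hgi
    obtain ⟨haff, hnt, hnirr⟩ := hspread K hKac q (fun t => by rw [hq]; exact hy) Z fst snd HPB
    apply hnirr
    rw [← GeomIrrSpread.isIrreducible_iff_of_isAffineOpen haff]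
    exact ⟨(nonempty_iff_nontrivial_of_isAffineOpen haff).mpr hnt,
      (IrreducibleSpace.isIrreducible_univ _).isPreirreducible.open_subset
        (Opens.isOpen _) (Set.subset_univ _)⟩
  · -- case (3): two disjoint nonempty pieces
    push Not at hbad
    have hdisj : ∃ i j : s, (U i : Set (ZΩ f)).Nonempty ∧ (U j : Set (ZΩ f)).Nonempty ∧
        ¬ ((U i : Set (ZΩ f)) ∩ (U j : Set (ZΩ f))).Nonempty := by
      by_contra hcon
      push Not at hcon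
      apply hZΩ
      obtain ⟨i₀, hi₀⟩ := hempty
      haveI : Nonempty {i : s // (U i : Set (ZΩ f)).Nonempty} := ⟨⟨i₀, hi₀⟩⟩
      have hcov : (Set.univ : Set (ZΩ f)) =
          ⋃ i : {i : s // (U i : Set (ZΩ f)).Nonempty}, (U i.1 : Set (ZΩ f)) := by
        symm
        rw [Set.eq_univ_iff_forall]
        intro z
        obtain ⟨i, hi⟩ := hcoverΩ z
        exact Set.mem_iUnion.mpr ⟨⟨i, ⟨z, hi⟩⟩, hi⟩
      have hirr : IsIrreducible (Set.univ : Set (ZΩ f)) := by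
        rw [hcov]
        exact GeomIrrSpread.isIrreducible_iUnion _ (fun i => hbad i.1 i.2) (fun i => (U i.1).2)
          (fun i j => hcon i.1 j.1 i.2 j.2)
      exact (irreducibleSpace_def _).mpr hirr
    obtain ⟨i, j, hine, hjne, hij⟩ := hdisj
    have mk : ∀ k : s, (U k : Set (ZΩ f)).Nonempty → ∃ a : Γ(Y, W), η ∈ Y.basicOpen a ∧
        ∀ (K : Type u) [Field K] (q : Spec (CommRingCat.of K) ⟶ Y), (∀ t, q t ∈ Y.basicOpen a) →
        ∀ (Z : Scheme.{u}) (fst : Z ⟶ X) (snd : Z ⟶ Spec (CommRingCat.of K)),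
          IsPullback fst snd f q → ∃ z : Z, fst z ∈ (k.1 : X.Opens) := by
      intro k hk
      obtain ⟨a, ha, hspread⟩ := per_affine_general f
        (C := fun K _ => True) (Φ := fun P => Nontrivial P) (Ψ := fun P => Nontrivial P)
        (fun φ hφ P₀ ψ₀ inl₀ inr₀ h₀ hker hP => by
          obtain ⟨a, ha, hsp⟩ := IrrNeg.spread_nontrivial_pushout φ hφ h₀ hker hP
          exact ⟨a, ha, fun K _ _ P ψ inl inr hPO hne => hsp K P ψ inl inr hPO hne⟩)
        hW hηW k.1.2 (hle k.1 k.2)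
        ((nonempty_iff_nontrivial_of_isAffineOpen (hUaff k)).mp hk)
      refine ⟨a, ha, fun K _ q hq Z fst snd HPB => ?_⟩
      obtain ⟨haff, hnt⟩ := hspread K trivial q hq Z fst snd HPB
      obtain ⟨z, hz⟩ := (nonempty_iff_nontrivial_of_isAffineOpen haff).mpr hnt
      exact ⟨z, hz.1⟩
    obtain ⟨ai, hai, hspi⟩ := mk i hine
    obtain ⟨aj, haj, hspj⟩ := mk j hjne
    refine ⟨V₀ ⊓ (Y.basicOpen ai ⊓ Y.basicOpen aj), ⟨η, hηV₀, hai, haj⟩, fun y hy hgi => ?_⟩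
    obtain ⟨K, _, hKac, q, Z, fst, snd, hq, HPB, hZirr⟩ := exists_geometric_fibre f y hgi
    obtain ⟨zi, hzi⟩ := hspi K q (fun t => by rw [hq]; exact hy.2.1) Z fst snd HPB
    obtain ⟨zj, hzj⟩ := hspj K q (fun t => by rw [hq]; exact hy.2.2) Z fst snd HPB
    obtain ⟨z, hz1, hz2⟩ := nonempty_preirreducible_inter
      (((i.1 : X.Opens).2).preimage fst.continuous) (((j.1 : X.Opens).2).preimage fst.continuous)
      ⟨zi, hzi⟩ ⟨zj, hzj⟩
    obtain ⟨z', hz'⟩ := hgen ((i.1 : X.Opens) ⊓ (j.1 : X.Opens)) (fst z) ⟨hz1, hz2⟩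
      (by rw [hfy HPB y hq z]; exact hy.1)
    exact hij ⟨z', (hUmem i z').mpr hz'.1, (hUmem j z').mpr hz'.2⟩

end Groth.Agent.H38.GeomIrrNeg
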