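import Mathlib
import Groth.Agent.H38.GeomIrrNeg
import Groth.Agent.H77.ConnCS2
import Groth.Agent.H26.ConnCTOP
import Groth.Agent.H60.ConnCLIFT
import Groth.Agent.H9.ConnCGEN

/-!
# Geometric connectedness of the generic fibre spreads out
-/

set_option autoImplicit false
universe u
open AlgebraicGeometry CategoryTheory Limits TopologicalSpace

namespace Groth.Agent.H38.GeomConnSpread

open Groth.Agent.H38.GeomIrrNeg

variable {X Y : Scheme.{u}}

/-- nonemptiness of a piece of the generic fibre spreads out. -/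
theorem exists_point_spread {E : Scheme.{u}} (g : E ⟶ Y) [IrreducibleSpace ↑Y]
    [LocallyOfFiniteType g] {W : Y.Opens} (hW : IsAffineOpen W) (hηW : genericPoint ↑Y ∈ W)
    {E₀ : E.Opens} (hE₀ : IsAffineOpen E₀) (hE₀W : E₀ ≤ g ⁻¹ᵁ W)
    (hne : ∃ e ∈ E₀, g e = genericPoint ↑Y) :
    ∃ a : Γ(Y, W), genericPoint ↑Y ∈ Y.basicOpen a ∧
      ∀ (K : Type u) [Field K] (q : Spec (CommRingCat.of K) ⟶ Y), (∀ t, q t ∈ Y.basicOpen a) →
      ∀ (Z : Scheme.{u}) (fst : Z ⟶ E) (snd : Z ⟶ Spec (CommRingCat.of K)),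
        IsPullback fst snd g q → ∃ z : Z, fst z ∈ E₀ := by
  have hk : ((fstΩ g ⁻¹ᵁ E₀ ⊓ sndΩ g ⁻¹ᵁ ⊤ : (ZΩ g).Opens) : Set (ZΩ g)).Nonempty := by
    obtain ⟨e, he, hge⟩ := hne
    obtain ⟨z, hz⟩ := exists_ZΩ_of_generic g e hge
    exact ⟨z, by rw [← hz] at he; exact he, trivial⟩
  obtain ⟨a, ha, hspread⟩ := per_affine_general g
    (C := fun K _ => True) (Φ := fun P => Nontrivial P) (Ψ := fun P => Nontrivial P)
    (fun φ hφ P₀ ψ₀ inl₀ inr₀ h₀ hker hP => by
      obtain ⟨a, ha, hsp⟩ := IrrNeg.spread_nontrivial_pushout φ hφ h₀ hker hP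
      exact ⟨a, ha, fun K _ _ P ψ inl inr hPO hne => hsp K P ψ inl inr hPO hne⟩)
    hW hηW hE₀ hE₀W
    ((nonempty_iff_nontrivial_of_isAffineOpen (isAffineOpen_ZΩ g hW hηW hE₀ hE₀W)).mp hk)
  refine ⟨a, ha, fun K _ q hq Z fst snd HPB => ?_⟩
  obtain ⟨haff, hnt⟩ := hspread K trivial q hq Z fst snd HPB
  obtain ⟨z, hz⟩ := (nonempty_iff_nontrivial_of_isAffineOpen haff).mpr hnt
  exact ⟨z, hz.1⟩

/-- the piece `fst ⁻¹ (range t)` of a base change is irreducible when the base change of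
`t ≫ f` is. -/
theorem isIrreducible_preimage_range {T : Scheme.{u}} (t : T ⟶ X) (f : X ⟶ Y) {K : Type u}
    [Field K] (q : Spec (CommRingCat.of K) ⟶ Y) {Z : Scheme.{u}} (fst : Z ⟶ X)
    (snd : Z ⟶ Spec (CommRingCat.of K)) (HPB : IsPullback fst snd f q)
    (hcore : ∀ (Z' : Scheme.{u}) (fst' : Z' ⟶ T) (snd' : Z' ⟶ Spec (CommRingCat.of K)),
      IsPullback fst' snd' (t ≫ f) q → IrreducibleSpace ↥Z') :
    IsIrreducible (fst ⁻¹' (Set.range t) : Set Z) := by
  have sq : IsPullback (pullback.fst t fst) (pullback.snd t fst ≫ snd) (t ≫ f) q :=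
    (IsPullback.of_hasPullback t fst).paste_vert HPB
  haveI : IrreducibleSpace ↥(pullback t fst) := hcore _ _ _ sq
  have hrange : (fst ⁻¹' (Set.range t) : Set Z) = Set.range (pullback.snd t fst) := by
    ext z
    constructor
    · rintro ⟨τ, hτ⟩
      obtain ⟨w, -, hw⟩ := Scheme.Pullback.exists_preimage_pullback (f := t) (g := fst) τ z hτ
      exact ⟨w, hw⟩
    · rintro ⟨w, rfl⟩
      refine ⟨pullback.fst t fst w, ?_⟩
      rw [← Scheme.Hom.comp_apply, pullback.condition, Scheme.Hom.comp_apply]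
  rw [hrange, ← Set.image_univ]
  exact (IrreducibleSpace.isIrreducible_univ _).image _
    (pullback.snd t fst).continuous.continuousOn

/-- **(S4)** connectedness spreads out, given a finite cover of the fibres by relatively closed
pieces with geometrically irreducible generic fibres. -/
theorem core_of_cover (f : X ⟶ Y) [IrreducibleSpace ↑Y] [LocallyOfFiniteType f] [QuasiCompact f]
    (h : GeometricallyConnected (f.fiberToSpecResidueField (genericPoint ↑Y)))
    {s N : Type} [Finite s] [Finite N] (ι : N → s) (O : s → X.Opens) (T : N → Scheme.{u})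
    (t : ∀ n, T n ⟶ X) (F : N → Set X)
    (hOcov : (⋃ i, (O i : Set X)) = Set.univ) (hF : ∀ n, IsClosed (F n))
    (hrange : ∀ n, Set.range (t n) = F n ∩ (O (ι n) : Set X))
    (hcov : ∀ i, (O i : Set X) ⊆ ⋃ n ∈ {n | ι n = i}, Set.range (t n))
    (ht : ∀ n, LocallyOfFiniteType (t n ≫ f) ∧ QuasiCompact (t n ≫ f) ∧
      GeometricallyIrreducible ((t n ≫ f).fiberToSpecResidueField (genericPoint ↑Y))) :
    ∃ V : Y.Opens, genericPoint ↑Y ∈ V ∧
      ∀ (K : Type u) [Field K] (q : Spec (CommRingCat.of K) ⟶ Y), (∀ t, q t ∈ V) →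
        ∀ (Z : Scheme.{u}) (fst : Z ⟶ X) (snd : Z ⟶ Spec (CommRingCat.of K)),
          IsPullback fst snd f q → ConnectedSpace ↥Z := by
  classical
  set η := genericPoint ↑Y with hη
  obtain ⟨W, hW', hηW, -⟩ := Opens.isBasis_iff_nbhd.mp Y.isBasis_affineOpens (Opens.mem_top η)
  have hW : IsAffineOpen W := hW'
  have hmem : ∀ V : Y.Opens, (V : Set Y).Nonempty → η ∈ V := fun V ⟨v, hv⟩ =>
    ((genericPoint_spec ↑Y).mem_open_set_iff V.2).mpr ⟨v, trivial, hv⟩
  -- irreducibility of the pieces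
  have hpiece : ∀ n, ∃ Vn : Y.Opens, η ∈ Vn ∧
      ∀ (K : Type u) [Field K] (q : Spec (CommRingCat.of K) ⟶ Y), (∀ t, q t ∈ Vn) →
        ∀ (Z : Scheme.{u}) (fst : Z ⟶ X) (snd : Z ⟶ Spec (CommRingCat.of K)),
          IsPullback fst snd f q → IsIrreducible (fst ⁻¹' (Set.range (t n)) : Set Z) := by
    intro n
    haveI := (ht n).1
    haveI := (ht n).2.1
    obtain ⟨Vn, ⟨v, hv⟩, hcore⟩ := @GeomIrrSpread.core _ _ (t n ≫ f) ‹_› (ht n).1 (ht n).2.1
      (ht n).2.2
    refine ⟨Vn, hmem Vn ⟨v, hv⟩, ?_⟩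
    intro K _ q hq Z fst snd HPB
    exact isIrreducible_preimage_range (t n) f q fst snd HPB
      (fun Z' fst' snd' h' => hcore K q hq Z' fst' snd' h')
  choose Vp hVpη hVp using hpiece
  -- the geometric generic fibre
  haveI hconn : ConnectedSpace ↥(ZΩ f) :=
    h.geometrically_connectedSpace (Spec.map (ιΩ Y)) _ _ (IsPullback.of_hasPullback _ _)
  have hCΩirr : ∀ n, IsIrreducible (fstΩ f ⁻¹' (Set.range (t n)) : Set (ZΩ f)) := fun n =>
    hVp n (Ωf Y) (qΩ Y) (fun t => by rw [qΩ_apply]; exact hVpη n) (ZΩ f) (fstΩ f) (sndΩ f)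
      (isPullback_ZΩ f)
  have hgraphΩ : ∀ n m : N, Relation.ReflTransGen (fun a b =>
      ((fstΩ f ⁻¹' (Set.range (t a)) : Set (ZΩ f)) ∩
        (fstΩ f ⁻¹' (Set.range (t b)) : Set (ZΩ f))).Nonempty) n m := by
    intro n m
    refine H26.ConnCTOP.reflTransGen_of_preconnectedSpace ι
      (fun i => (fstΩ f ⁻¹' (O i : Set X) : Set (ZΩ f)))
      (fun i => (O i).2.preimage (fstΩ f).continuous)
      (fun n => (fstΩ f ⁻¹' (Set.range (t n)) : Set (ZΩ f)))
      (fun n => (fstΩ f ⁻¹' (F n) : Set (ZΩ f)))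
      (fun n => (hF n).preimage (fstΩ f).continuous)
      (fun n => by rw [hrange n]; rfl)
      (fun n => (hCΩirr n).nonempty) ?_ ?_ n m
    · intro i z hz
      have := hcov i hz
      simp only [Set.mem_iUnion, Set.mem_ofPred_eq] at this ⊢
      obtain ⟨n, hn, hzn⟩ := this
      exact ⟨n, hn, hzn⟩
    · rw [Set.eq_univ_iff_forall]
      intro z
      have : fstΩ f z ∈ (⋃ i, (O i : Set X)) := hOcov ▸ Set.mem_univ _
      obtain ⟨i, hi⟩ := Set.mem_iUnion.mp this
      exact Set.mem_iUnion.mpr ⟨i, hi⟩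
  -- edges spread out
  have hedge : ∀ nm : N × N, ∃ Ve : Y.Opens, η ∈ Ve ∧
      (((fstΩ f ⁻¹' (Set.range (t nm.1)) : Set (ZΩ f)) ∩
        (fstΩ f ⁻¹' (Set.range (t nm.2)) : Set (ZΩ f))).Nonempty →
      ∀ (K : Type u) [Field K] (q : Spec (CommRingCat.of K) ⟶ Y), (∀ t, q t ∈ Ve) →
        ∀ (Z : Scheme.{u}) (fst : Z ⟶ X) (snd : Z ⟶ Spec (CommRingCat.of K)),
          IsPullback fst snd f q →
          ((fst ⁻¹' (Set.range (t nm.1)) : Set Z) ∩
            (fst ⁻¹' (Set.range (t nm.2)) : Set Z)).Nonempty) := by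
    rintro ⟨n, m⟩
    by_cases hnm : ((fstΩ f ⁻¹' (Set.range (t n)) : Set (ZΩ f)) ∩
        (fstΩ f ⁻¹' (Set.range (t m)) : Set (ZΩ f))).Nonempty
    swap
    · exact ⟨⊤, trivial, fun h => absurd h hnm⟩
    obtain ⟨z₀, ⟨τn, hτn⟩, ⟨τm, hτm⟩⟩ := hnm
    -- the scheme of common points
    let gE : pullback (t n) (t m) ⟶ Y := pullback.fst (t n) (t m) ≫ t n ≫ f
    haveI := (ht n).1
    haveI := (ht m).1
    haveI : LocallyOfFiniteType (t m) := locallyOfFiniteType_of_comp (t m) f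
    haveI : LocallyOfFiniteType gE := by
      show LocallyOfFiniteType (pullback.fst (t n) (t m) ≫ t n ≫ f)
      infer_instance
    obtain ⟨e₀, he₀n, he₀m⟩ := Scheme.Pullback.exists_preimage_pullback (f := t n) (g := t m)
      τn τm (hτn.trans hτm.symm)
    have hgE : gE e₀ = η := by
      show (pullback.fst (t n) (t m) ≫ t n ≫ f) e₀ = η
      rw [Scheme.Hom.comp_apply, Scheme.Hom.comp_apply, he₀n, hτn]
      exact f_fstΩ f z₀
    obtain ⟨E₀, hE₀', he₀E₀, hE₀W⟩ := Opens.isBasis_iff_nbhd.mp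
      (pullback (t n) (t m)).isBasis_affineOpens
      (show e₀ ∈ gE ⁻¹ᵁ W from by show gE e₀ ∈ W; rw [hgE]; exact hηW)
    have hE₀ : IsAffineOpen E₀ := hE₀'
    obtain ⟨a, ha, hspread⟩ := exists_point_spread gE hW hηW hE₀ hE₀W ⟨e₀, he₀E₀, hgE⟩
    refine ⟨Y.basicOpen a, ha, fun _ K _ q hq Z fst snd HPB => ?_⟩
    have sq : IsPullback (pullback.fst (pullback.fst (t n) (t m) ≫ t n) fst)
        (pullback.snd (pullback.fst (t n) (t m) ≫ t n) fst ≫ snd)
        ((pullback.fst (t n) (t m) ≫ t n) ≫ f) q :=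
      (IsPullback.of_hasPullback (pullback.fst (t n) (t m) ≫ t n) fst).paste_vert HPB
    have sq' : IsPullback (pullback.fst (pullback.fst (t n) (t m) ≫ t n) fst)
        (pullback.snd (pullback.fst (t n) (t m) ≫ t n) fst ≫ snd) gE q := by
      have : gE = (pullback.fst (t n) (t m) ≫ t n) ≫ f := by
        show pullback.fst (t n) (t m) ≫ t n ≫ f = _
        rw [Category.assoc]
      rw [this]; exact sq
    obtain ⟨w, -⟩ := hspread K q hq _ _ _ sq'
    set e := pullback.fst (pullback.fst (t n) (t m) ≫ t n) fst w with he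
    set z := pullback.snd (pullback.fst (t n) (t m) ≫ t n) fst w with hz
    have h1 : fst z = (t n) (pullback.fst (t n) (t m) e) := by
      rw [hz, he, ← Scheme.Hom.comp_apply, ← pullback.condition, Scheme.Hom.comp_apply,
        Scheme.Hom.comp_apply]
    have h2 : (t n) (pullback.fst (t n) (t m) e) = (t m) (pullback.snd (t n) (t m) e) := by
      rw [← Scheme.Hom.comp_apply, pullback.condition, Scheme.Hom.comp_apply]
    exact ⟨z, ⟨_, h1.symm⟩, ⟨_, (h1.trans h2).symm⟩⟩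
  choose Ve hVeη hVe using hedge
  refine ⟨(⟨⋂ n : N, (Vp n : Set Y), isOpen_iInter_of_finite (fun n => (Vp n).2)⟩ : Y.Opens) ⊓
    ⟨⋂ nm : N × N, (Ve nm : Set Y), isOpen_iInter_of_finite (fun nm => (Ve nm).2)⟩,
    ⟨Set.mem_iInter.mpr hVpη, Set.mem_iInter.mpr hVeη⟩, ?_⟩
  intro K _ q hq Z fst snd HPB
  have hqp : ∀ n t', q t' ∈ Vp n := fun n t' => Set.mem_iInter.mp (hq t').1 n
  have hqe : ∀ nm t', q t' ∈ Ve nm := fun nm t' => Set.mem_iInter.mp (hq t').2 nm
  have hCirr : ∀ n, IsIrreducible (fst ⁻¹' (Set.range (t n)) : Set Z) := fun n =>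
    hVp n K q (hqp n) Z fst snd HPB
  have hgraph : ∀ n m : N, Relation.ReflTransGen (fun a b =>
      ((fst ⁻¹' (Set.range (t a)) : Set Z) ∩ (fst ⁻¹' (Set.range (t b)) : Set Z)).Nonempty)
      n m := by
    intro n m
    refine Relation.ReflTransGen.mono ?_ n m (hgraphΩ n m)
    intro a b hab
    exact hVe (a, b) hab K q (hqe (a, b)) Z fst snd HPB
  have hpre : _root_.IsPreconnected (⋃ n, (fst ⁻¹' (Set.range (t n)) : Set Z)) :=
    IsPreconnected.iUnion_of_reflTransGen (fun n => (hCirr n).isConnected.isPreconnected) hgraph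
  have hcover : (⋃ n, (fst ⁻¹' (Set.range (t n)) : Set Z)) = Set.univ := by
    rw [Set.eq_univ_iff_forall]
    intro z
    have : fst z ∈ (⋃ i, (O i : Set X)) := hOcov ▸ Set.mem_univ _
    obtain ⟨i, hi⟩ := Set.mem_iUnion.mp this
    have := hcov i hi
    simp only [Set.mem_iUnion, Set.mem_ofPred_eq] at this
    obtain ⟨n, -, hzn⟩ := this
    exact Set.mem_iUnion.mpr ⟨n, hzn⟩
  rw [hcover] at hpre
  -- nonemptiness
  obtain ⟨z₀⟩ := (inferInstance : Nonempty ↥(ZΩ f))
  have : fstΩ f z₀ ∈ (⋃ i, (O i : Set X)) := hOcov ▸ Set.mem_univ _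
  obtain ⟨i, hi⟩ := Set.mem_iUnion.mp this
  have := hcov i hi
  simp only [Set.mem_iUnion, Set.mem_ofPred_eq] at this
  obtain ⟨n₀, -, -⟩ := this
  obtain ⟨z, -⟩ := (hCirr n₀).nonempty
  exact { toPreconnectedSpace := ⟨hpre⟩, toNonempty := ⟨z⟩ }

/-- geometric connectedness of a fibre is inherited by base changes. -/
theorem fiber_geometricallyConnected_of_isPullback {P X Y Z : Scheme.{u}} {fst : P ⟶ X}
    {snd : P ⟶ Y} {f : X ⟶ Z} {g : Y ⟶ Z} (h : IsPullback fst snd f g) (y : Y)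
    (h1 : GeometricallyConnected (f.fiberToSpecResidueField (g y))) :
    GeometricallyConnected (snd.fiberToSpecResidueField y) :=
  MorphismProperty.of_isPullback (P := @GeometricallyConnected)
    (isPullback_fiberToSpecResidueField_of_isPullback h y) h1

/-- **Core statement for connectedness.** -/
theorem core (f : X ⟶ Y) [IrreducibleSpace ↑Y] [LocallyOfFiniteType f] [QuasiCompact f]
    (h : GeometricallyConnected (f.fiberToSpecResidueField (genericPoint ↑Y))) :
    ∃ V : Y.Opens, (V : Set ↑Y).Nonempty ∧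
      ∀ (K : Type u) [Field K] (q : Spec (CommRingCat.of K) ⟶ Y), (∀ t, q t ∈ V) →
        ∀ (Z : Scheme.{u}) (fst : Z ⟶ X) (snd : Z ⟶ Spec (CommRingCat.of K)),
          IsPullback fst snd f q → ConnectedSpace ↥Z := by
  classical
  obtain ⟨W, hW, A₁, hdom, φ, hηW, hφ, hker, hrest⟩ := H77.ConnCS2.exists_component_cover f
  haveI := hdom
  set g : Spec A₁ ⟶ Y := Spec.map φ ≫ hW.fromSpec with hg
  obtain ⟨s, N, hs, hN, ι, O, T, t, F, hOcov, hF, hrange, hcov, ht⟩ := hrest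
  haveI : IrreducibleSpace ↥(Spec A₁) := inferInstanceAs (IrreducibleSpace (PrimeSpectrum A₁))
  have hgη : g (genericPoint ↥(Spec A₁)) = genericPoint ↑Y := H9.ConnCGEN.map_genericPoint_eq hW φ hker
  have h₁ : GeometricallyConnected
      ((pullback.snd f g).fiberToSpecResidueField (genericPoint ↥(Spec A₁))) := by
    refine fiber_geometricallyConnected_of_isPullback (IsPullback.of_hasPullback f g) _ ?_
    rw [hgη]
    exact h
  obtain ⟨V₁, hη₁V₁, hcore₁⟩ := core_of_cover (pullback.snd f g) h₁ ι O T t F hOcov hF hrange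
    hcov ht
  obtain ⟨V, hηV, hlift⟩ := H60.ConnCLIFT.exists_lift_geometric_point hW hηW φ hφ hker V₁
    ⟨_, hη₁V₁⟩
  refine ⟨V, ⟨_, hηV⟩, ?_⟩
  intro K _ q hq Z fst snd HPB
  let Kb := AlgebraicClosure K
  let j : Spec (CommRingCat.of Kb) ⟶ Spec (CommRingCat.of K) :=
    Spec.map (CommRingCat.ofHom (algebraMap K Kb))
  obtain ⟨q₁, hq₁V₁, hq₁⟩ := hlift Kb (j ≫ q) (fun t' => by
    rw [Scheme.Hom.comp_apply]; exact hq _)
  haveI hZb : ConnectedSpace ↥(pullback (pullback.snd f g) q₁) :=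
    hcore₁ Kb q₁ hq₁V₁ _ _ _ (IsPullback.of_hasPullback (pullback.snd f g) q₁)
  have big : IsPullback (pullback.fst (pullback.snd f g) q₁ ≫ pullback.fst f g)
      (pullback.snd (pullback.snd f g) q₁) f (j ≫ q) := by
    have := (IsPullback.of_hasPullback (pullback.snd f g) q₁).paste_horiz
      (IsPullback.of_hasPullback f g)
    rw [← hq₁]
    exact this
  let ℓ : pullback (pullback.snd f g) q₁ ⟶ Z :=
    HPB.lift (pullback.fst (pullback.snd f g) q₁ ≫ pullback.fst f g)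
      (pullback.snd (pullback.snd f g) q₁ ≫ j) (by rw [Category.assoc]; exact big.w)
  have hℓ1 : ℓ ≫ fst = pullback.fst (pullback.snd f g) q₁ ≫ pullback.fst f g :=
    HPB.lift_fst _ _ _
  have hℓ2 : ℓ ≫ snd = pullback.snd (pullback.snd f g) q₁ ≫ j := HPB.lift_snd _ _ _
  have left : IsPullback ℓ (pullback.snd (pullback.snd f g) q₁) snd j := by
    refine IsPullback.of_right ?_ hℓ2 HPB
    rw [hℓ1]
    exact big
  haveI : Subsingleton ↥(Spec (CommRingCat.of K)) :=
    inferInstanceAs (Subsingleton (PrimeSpectrum K))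
  haveI : Nonempty ↥(Spec (CommRingCat.of Kb)) := inferInstanceAs (Nonempty (PrimeSpectrum Kb))
  haveI : Surjective j := ⟨fun t => ⟨Classical.arbitrary _, Subsingleton.elim _ _⟩⟩
  haveI : Surjective ℓ := MorphismProperty.of_isPullback (P := @Surjective) left.flip inferInstance
  have hconn : _root_.IsConnected (Set.univ : Set ↥Z) := by
    have h1 : _root_.IsConnected (ℓ '' (Set.univ : Set ↥(pullback (pullback.snd f g) q₁))) :=
      isConnected_univ.image ℓ ℓ.continuous.continuousOn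
    rwa [Set.image_univ, Set.range_eq_univ.mpr ℓ.surjective] at h1
  exact connectedSpace_iff_univ.mpr hconn

/-- `S0420`: geometric connectedness of the generic fibre spreads out to an open. -/
theorem main (f : X ⟶ Y) [IrreducibleSpace ↑Y] [LocallyOfFiniteType f] [QuasiCompact f]
    (h : GeometricallyConnected (f.fiberToSpecResidueField (genericPoint ↑Y))) :
    ∃ V : Y.Opens, (V : Set ↑Y).Nonempty ∧ GeometricallyConnected (f ∣_ V) := by
  obtain ⟨V, hV, hcore⟩ := core f h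
  refine ⟨V, hV, ⟨?_⟩⟩
  intro K _ y Z fst snd hpb
  have HPB : IsPullback (fst ≫ (f ⁻¹ᵁ V).ι) snd f (y ≫ V.ι) :=
    hpb.paste_horiz (isPullback_morphismRestrict f V).flip
  refine hcore K (y ≫ V.ι) (fun t => ?_) Z _ snd HPB
  rw [Scheme.Hom.comp_apply]
  exact (y t).2

/-- fibrewise version. -/
theorem fibres (f : X ⟶ Y) [IrreducibleSpace ↑Y] [LocallyOfFiniteType f] [QuasiCompact f]
    (h : GeometricallyConnected (f.fiberToSpecResidueField (genericPoint ↑Y))) :
    ∃ V : Y.Opens, (V : Set ↑Y).Nonempty ∧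
      ∀ y ∈ V, GeometricallyConnected (f.fiberToSpecResidueField y) := by
  obtain ⟨V, hV, hcore⟩ := core f h
  refine ⟨V, hV, fun y hy => ⟨?_⟩⟩
  intro K _ y' Z fst snd hpb
  have HPB : IsPullback (fst ≫ f.fiberι y) snd f (y' ≫ Y.fromSpecResidueField y) :=
    hpb.paste_horiz (IsPullback.of_hasPullback f (Y.fromSpecResidueField y))
  refine hcore K (y' ≫ Y.fromSpecResidueField y) (fun t => ?_) Z _ snd HPB
  rw [Scheme.Hom.comp_apply, Scheme.fromSpecResidueField_apply]
  exact hy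

end Groth.Agent.H38.GeomConnSpread
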