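import Mathlib
import Groth.Agent.H38.GeomConnSpread
import Groth.Agent.H38.GeomConnDescent

/-!
# Non-connectedness of the geometric generic fibre spreads out
-/

set_option autoImplicit false
universe u
open AlgebraicGeometry CategoryTheory Limits TopologicalSpace

namespace Groth.Agent.H38.GeomConnNeg

open Groth.Agent.H38.GeomIrrNeg Groth.Agent.H38.GeomConnSpread

variable {X Y : Scheme.{u}}

/-- A locally closed subset missing the generic fibre misses the preimage of a neighbourhood of the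
generic point. -/
theorem exists_opens_forall_notMem_of_locallyClosed {T : Scheme.{u}} (g : T ⟶ Y)
    [IrreducibleSpace ↑Y] [LocallyOfFiniteType g] [QuasiCompact g] (F : Set T) (hF : IsClosed F)
    (G : Set T) (hG : IsOpen G) (hη : ∀ x ∈ F ∩ G, g x ≠ genericPoint ↑Y) :
    ∃ V : Y.Opens, genericPoint ↑Y ∈ V ∧ ∀ x ∈ F ∩ G, g x ∉ V := by
  let I := Scheme.IdealSheafData.vanishingIdeal (⟨F, hF⟩ : Closeds T)
  have hrange : Set.range I.subschemeι = F := by
    rw [Scheme.IdealSheafData.range_subschemeι, Scheme.IdealSheafData.coe_support_vanishingIdeal]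
    rfl
  obtain ⟨V, hVne, hV⟩ := H7.exists_opens_preimage_subset_closure_genericFibre (I.subschemeι ≫ g)
  obtain ⟨v, hv⟩ := hVne
  refine ⟨V, (genericPoint_specializes v).mem_open V.2 hv, fun x hx hgx => ?_⟩
  obtain ⟨e, rfl⟩ : x ∈ Set.range I.subschemeι := by rw [hrange]; exact hx.1
  have he : e ∈ closure ((I.subschemeι ≫ g) ⁻¹' {genericPoint ↑Y}) :=
    hV (show e ∈ (I.subschemeι ≫ g) ⁻¹' (V : Set Y) from hgx)
  rw [mem_closure_iff] at he
  obtain ⟨e', he'G, he'η⟩ := he (I.subschemeι ⁻¹' G) (hG.preimage I.subschemeι.continuous) hx.2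
  refine hη (I.subschemeι e') ⟨?_, he'G⟩ ?_
  · rw [← hrange]; exact ⟨e', rfl⟩
  · have : (I.subschemeι ≫ g) e' = genericPoint ↑Y := he'η
    rwa [Scheme.Hom.comp_apply] at this

/-- **(S4, negative)** non-connectedness spreads out, given a finite cover of the fibres by
relatively closed pieces with geometrically irreducible generic fibres. -/
theorem not_core_of_cover (f : X ⟶ Y) [IrreducibleSpace ↑Y] [LocallyOfFiniteType f]
    [QuasiCompact f]
    (h : ¬ GeometricallyConnected (f.fiberToSpecResidueField (genericPoint ↑Y)))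
    {s N : Type} [Finite s] [Finite N] (ι : N → s) (O : s → X.Opens) (T : N → Scheme.{u})
    (t : ∀ n, T n ⟶ X) (F : N → Set X)
    (hOcov : (⋃ i, (O i : Set X)) = Set.univ) (hF : ∀ n, IsClosed (F n))
    (hrange : ∀ n, Set.range (t n) = F n ∩ (O (ι n) : Set X))
    (hcov : ∀ i, (O i : Set X) ⊆ ⋃ n ∈ {n | ι n = i}, Set.range (t n))
    (ht : ∀ n, LocallyOfFiniteType (t n ≫ f) ∧ QuasiCompact (t n ≫ f) ∧
      GeometricallyIrreducible ((t n ≫ f).fiberToSpecResidueField (genericPoint ↑Y))) :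
    ∃ V : Y.Opens, genericPoint ↑Y ∈ V ∧
      ∀ (K : Type u) [Field K] (q : Spec (CommRingCat.of K) ⟶ Y), (∀ t, q t ∈ V) →
        ∀ (Z : Scheme.{u}) (fst : Z ⟶ X) (snd : Z ⟶ Spec (CommRingCat.of K)),
          IsPullback fst snd f q → ¬ ConnectedSpace ↥Z := by
  classical
  set η := genericPoint ↑Y with hη
  have hmem : ∀ V : Y.Opens, (V : Set Y).Nonempty → η ∈ V := fun V ⟨v, hv⟩ =>
    ((genericPoint_spec ↑Y).mem_open_set_iff V.2).mpr ⟨v, trivial, hv⟩
  -- every point lies in a piece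
  have hpt : ∀ x : X, ∃ n, x ∈ Set.range (t n) := by
    intro x
    have : x ∈ (⋃ i, (O i : Set X)) := hOcov ▸ Set.mem_univ _
    obtain ⟨i, hi⟩ := Set.mem_iUnion.mp this
    have := hcov i hi
    simp only [Set.mem_iUnion, Set.mem_ofPred_eq] at this
    obtain ⟨n, -, hzn⟩ := this
    exact ⟨n, hzn⟩
  -- irreducibility of the pieces
  have hpiece : ∀ n, ∃ Vn : Y.Opens, η ∈ Vn ∧
      ∀ (K : Type u) [Field K] (q : Spec (CommRingCat.of K) ⟶ Y), (∀ t, q t ∈ Vn) →
        ∀ (Z : Scheme.{u}) (fst : Z ⟶ X) (snd : Z ⟶ Spec (CommRingCat.of K)),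
          IsPullback fst snd f q → IsIrreducible (fst ⁻¹' (Set.range (t n)) : Set Z) := by
    intro n
    haveI := (ht n).1
    haveI := (ht n).2.1
    obtain ⟨Vn, ⟨v, hv⟩, hcore⟩ := @GeomIrrSpread.core _ _ (t n ≫ f) ‹_› (ht n).1 (ht n).2.1
      (ht n).2.2
    refine ⟨Vn, hmem Vn ⟨v, hv⟩, ?_⟩
    intro K _ q hq Z fst snd HPB
    exact isIrreducible_preimage_range (t n) f q fst snd HPB
      (fun Z' fst' snd' h' => hcore K q hq Z' fst' snd' h')
  choose Vp hVpη hVp using hpiece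
  by_cases hN : IsEmpty N
  · refine ⟨⊤, trivial, fun K _ q _ Z fst snd _ hZ => ?_⟩
    obtain ⟨z⟩ := (inferInstance : Nonempty ↥Z)
    obtain ⟨n, -⟩ := hpt (fst z)
    exact hN.false n
  rw [not_isEmpty_iff] at hN
  obtain ⟨n₀⟩ := hN
  -- the geometric generic fibre is not connected
  have hZΩ : ¬ ConnectedSpace ↥(ZΩ f) := by
    intro hconn
    apply h
    haveI := hconn
    have h1 : GeometricallyConnected (sndΩ f) := H37.geomConn_of_isSepClosed (sndΩ f)
    haveI : Subsingleton ↥(Spec (Y.residueField η)) :=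
      inferInstanceAs (Subsingleton (PrimeSpectrum (Y.residueField η)))
    haveI : Nonempty ↥(Spec (CommRingCat.of (Ωf Y))) :=
      inferInstanceAs (Nonempty (PrimeSpectrum (Ωf Y)))
    haveI : Surjective (Spec.map (ιΩ Y)) :=
      ⟨fun t => ⟨Classical.arbitrary _, Subsingleton.elim _ _⟩⟩
    exact GeomConnDescent.geometricallyConnected_of_isPullback_of_surjective
      (IsPullback.of_hasPullback (f.fiberToSpecResidueField η) (Spec.map (ιΩ Y))) h1
  have hCΩirr : ∀ n, IsIrreducible (fstΩ f ⁻¹' (Set.range (t n)) : Set (ZΩ f)) := fun n =>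
    hVp n (Ωf Y) (qΩ Y) (fun t => by rw [qΩ_apply]; exact hVpη n) (ZΩ f) (fstΩ f) (sndΩ f)
      (isPullback_ZΩ f)
  -- the intersection graph of the geometric generic fibre is not connected
  have hgraphΩ : ∃ n m : N, ¬ Relation.ReflTransGen (fun a b =>
      ((fstΩ f ⁻¹' (Set.range (t a)) : Set (ZΩ f)) ∩
        (fstΩ f ⁻¹' (Set.range (t b)) : Set (ZΩ f))).Nonempty) n m := by
    by_contra hcon
    push Not at hcon
    apply hZΩ
    have hpre : _root_.IsPreconnected (⋃ n, (fstΩ f ⁻¹' (Set.range (t n)) : Set (ZΩ f))) :=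
      IsPreconnected.iUnion_of_reflTransGen
        (fun n => (hCΩirr n).isConnected.isPreconnected) hcon
    have hcover : (⋃ n, (fstΩ f ⁻¹' (Set.range (t n)) : Set (ZΩ f))) = Set.univ := by
      rw [Set.eq_univ_iff_forall]
      intro z
      obtain ⟨n, hn⟩ := hpt (fstΩ f z)
      exact Set.mem_iUnion.mpr ⟨n, hn⟩
    rw [hcover] at hpre
    obtain ⟨z, -⟩ := (hCΩirr n₀).nonempty
    exact { toPreconnectedSpace := ⟨hpre⟩, toNonempty := ⟨z⟩ }
  obtain ⟨n₁, m₁, hnm₁⟩ := hgraphΩ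
  -- non-edges spread out
  have hedge : ∀ nm : N × N, ∃ Ve : Y.Opens, η ∈ Ve ∧
      (¬ ((fstΩ f ⁻¹' (Set.range (t nm.1)) : Set (ZΩ f)) ∩
        (fstΩ f ⁻¹' (Set.range (t nm.2)) : Set (ZΩ f))).Nonempty →
      ∀ (K : Type u) [Field K] (q : Spec (CommRingCat.of K) ⟶ Y), (∀ t, q t ∈ Ve) →
        ∀ (Z : Scheme.{u}) (fst : Z ⟶ X) (snd : Z ⟶ Spec (CommRingCat.of K)),
          IsPullback fst snd f q →
          ¬ ((fst ⁻¹' (Set.range (t nm.1)) : Set Z) ∩
            (fst ⁻¹' (Set.range (t nm.2)) : Set Z)).Nonempty) := by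
    rintro ⟨n, m⟩
    by_cases hnm : ((fstΩ f ⁻¹' (Set.range (t n)) : Set (ZΩ f)) ∩
        (fstΩ f ⁻¹' (Set.range (t m)) : Set (ZΩ f))).Nonempty
    · exact ⟨⊤, trivial, fun h => absurd hnm h⟩
    haveI := (ht n).1
    haveI := (ht n).2.1
    obtain ⟨V, hηV, hV⟩ := exists_opens_forall_notMem_of_locallyClosed (t n ≫ f)
      ((t n) ⁻¹' (F m)) ((hF m).preimage (t n).continuous)
      ((t n) ⁻¹' (O (ι m) : Set X)) ((O (ι m)).2.preimage (t n).continuous) (by
        rintro τ ⟨hτF, hτO⟩ hτη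
        rw [Scheme.Hom.comp_apply] at hτη
        obtain ⟨z, hz⟩ := exists_ZΩ_of_generic f ((t n) τ) hτη
        refine hnm ⟨z, ?_, ?_⟩
        · show fstΩ f z ∈ Set.range (t n)
          rw [hz]; exact ⟨τ, rfl⟩
        · show fstΩ f z ∈ Set.range (t m)
          rw [hz, hrange m]; exact ⟨hτF, hτO⟩)
    refine ⟨V, hηV, fun _ K _ q hq Z fst snd HPB => ?_⟩
    rintro ⟨z, ⟨τ, hτ⟩, hzm⟩
    have hzm' : fst z ∈ Set.range (t m) := hzm
    rw [hrange m, ← hτ] at hzm'
    refine hV τ hzm' ?_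
    rw [Scheme.Hom.comp_apply, hτ]
    have : (fst ≫ f) z = (snd ≫ q) z := by rw [HPB.w]
    rw [Scheme.Hom.comp_apply, Scheme.Hom.comp_apply] at this
    rw [this]
    exact hq _
  choose Ve hVeη hVe using hedge
  refine ⟨(⟨⋂ n : N, (Vp n : Set Y), isOpen_iInter_of_finite (fun n => (Vp n).2)⟩ : Y.Opens) ⊓
    ⟨⋂ nm : N × N, (Ve nm : Set Y), isOpen_iInter_of_finite (fun nm => (Ve nm).2)⟩,
    ⟨Set.mem_iInter.mpr hVpη, Set.mem_iInter.mpr hVeη⟩, ?_⟩
  intro K _ q hq Z fst snd HPB hZ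
  have hqp : ∀ n t', q t' ∈ Vp n := fun n t' => Set.mem_iInter.mp (hq t').1 n
  have hqe : ∀ nm t', q t' ∈ Ve nm := fun nm t' => Set.mem_iInter.mp (hq t').2 nm
  have hCirr : ∀ n, IsIrreducible (fst ⁻¹' (Set.range (t n)) : Set Z) := fun n =>
    hVp n K q (hqp n) Z fst snd HPB
  have hgraph : Relation.ReflTransGen (fun a b =>
      ((fst ⁻¹' (Set.range (t a)) : Set Z) ∩ (fst ⁻¹' (Set.range (t b)) : Set Z)).Nonempty)
      n₁ m₁ := by
    refine H26.ConnCTOP.reflTransGen_of_preconnectedSpace ι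
      (fun i => (fst ⁻¹' (O i : Set X) : Set Z))
      (fun i => (O i).2.preimage fst.continuous)
      (fun n => (fst ⁻¹' (Set.range (t n)) : Set Z))
      (fun n => (fst ⁻¹' (F n) : Set Z))
      (fun n => (hF n).preimage fst.continuous)
      (fun n => by rw [hrange n]; rfl)
      (fun n => (hCirr n).nonempty) ?_ ?_ n₁ m₁
    · intro i z hz
      have := hcov i hz
      simp only [Set.mem_iUnion, Set.mem_ofPred_eq] at this ⊢
      obtain ⟨n, hn, hzn⟩ := this
      exact ⟨n, hn, hzn⟩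
    · rw [Set.eq_univ_iff_forall]
      intro z
      have : fst z ∈ (⋃ i, (O i : Set X)) := hOcov ▸ Set.mem_univ _
      obtain ⟨i, hi⟩ := Set.mem_iUnion.mp this
      exact Set.mem_iUnion.mpr ⟨i, hi⟩
  apply hnm₁
  refine Relation.ReflTransGen.mono ?_ n₁ m₁ hgraph
  intro a b hab
  by_contra hΩ
  exact hVe (a, b) hΩ K q (hqe (a, b)) Z fst snd HPB hab

/-- **Core statement for non-connectedness.** -/
theorem not_core (f : X ⟶ Y) [IrreducibleSpace ↑Y] [LocallyOfFiniteType f] [QuasiCompact f]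
    (h : ¬ GeometricallyConnected (f.fiberToSpecResidueField (genericPoint ↑Y))) :
    ∃ V : Y.Opens, (V : Set ↑Y).Nonempty ∧
      ∀ (K : Type u) [Field K] [IsAlgClosed K] (q : Spec (CommRingCat.of K) ⟶ Y),
        (∀ t, q t ∈ V) →
        ∀ (Z : Scheme.{u}) (fst : Z ⟶ X) (snd : Z ⟶ Spec (CommRingCat.of K)),
          IsPullback fst snd f q → ¬ ConnectedSpace ↥Z := by
  classical
  obtain ⟨W, hW, A₁, hdom, φ, hηW, hφ, hker, hrest⟩ := H77.ConnCS2.exists_component_cover f
  haveI := hdom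
  set g : Spec A₁ ⟶ Y := Spec.map φ ≫ hW.fromSpec with hg
  obtain ⟨s, N, hs, hN, ι, O, T, t, F, hOcov, hF, hrange, hcov, ht⟩ := hrest
  haveI : IrreducibleSpace ↥(Spec A₁) := inferInstanceAs (IrreducibleSpace (PrimeSpectrum A₁))
  have hgη : g (genericPoint ↥(Spec A₁)) = genericPoint ↑Y :=
    H9.ConnCGEN.map_genericPoint_eq hW φ hker
  have h₁ : ¬ GeometricallyConnected
      ((pullback.snd f g).fiberToSpecResidueField (genericPoint ↥(Spec A₁))) := by
    rw [GeomConnDescent.fiber_geometricallyConnected_iff (IsPullback.of_hasPullback f g), hgη]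
    exact h
  obtain ⟨V₁, hη₁V₁, hcore₁⟩ := not_core_of_cover (pullback.snd f g) h₁ ι O T t F hOcov hF hrange
    hcov ht
  obtain ⟨V, hηV, hlift⟩ := H60.ConnCLIFT.exists_lift_geometric_point hW hηW φ hφ hker V₁
    ⟨_, hη₁V₁⟩
  refine ⟨V, ⟨_, hηV⟩, ?_⟩
  intro K _ _ q hq Z fst snd HPB
  obtain ⟨q₁, hq₁V₁, hq₁⟩ := hlift K q hq
  have hw : fst ≫ f = (snd ≫ q₁) ≫ g := by
    rw [HPB.w, Category.assoc]
    congr 1
    exact hq₁.symm
  let fst' : Z ⟶ pullback f g := pullback.lift fst (snd ≫ q₁) hw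
  have h1 : fst' ≫ pullback.fst f g = fst := pullback.lift_fst _ _ _
  have h2 : fst' ≫ pullback.snd f g = snd ≫ q₁ := pullback.lift_snd _ _ _
  have sq : IsPullback fst' snd (pullback.snd f g) q₁ := by
    refine IsPullback.of_right ?_ h2 (IsPullback.of_hasPullback f g)
    rw [h1]
    have : q₁ ≫ g = q := hq₁
    rw [this]
    exact HPB
  exact hcore₁ K q₁ hq₁V₁ Z fst' snd sq

/-- the geometric fibre over `y` for an algebraic closure of the residue field, as a pullback of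
`f`. -/
theorem exists_geometric_fibre_conn (f : X ⟶ Y) (y : Y)
    (hy : GeometricallyConnected (f.fiberToSpecResidueField y)) :
    ∃ (K : Type u) (_ : Field K) (_ : IsAlgClosed K) (q : Spec (CommRingCat.of K) ⟶ Y)
      (Z : Scheme.{u}) (fst : Z ⟶ X) (snd : Z ⟶ Spec (CommRingCat.of K)),
      (∀ t, q t = y) ∧ IsPullback fst snd f q ∧ ConnectedSpace ↥Z := by
  let K := AlgebraicClosure (Y.residueField y)
  let ι : Y.residueField y ⟶ CommRingCat.of K :=
    CommRingCat.ofHom (algebraMap (Y.residueField y) K)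
  refine ⟨K, inferInstance, inferInstance, Spec.map ι ≫ Y.fromSpecResidueField y,
    pullback (f.fiberToSpecResidueField y) (Spec.map ι),
    pullback.fst (f.fiberToSpecResidueField y) (Spec.map ι) ≫ f.fiberι y,
    pullback.snd (f.fiberToSpecResidueField y) (Spec.map ι), ?_, ?_, ?_⟩
  · intro t
    rw [Scheme.Hom.comp_apply, Scheme.fromSpecResidueField_apply]
  · exact (IsPullback.of_hasPullback (f.fiberToSpecResidueField y) (Spec.map ι)).paste_horiz
      (IsPullback.of_hasPullback f (Y.fromSpecResidueField y))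
  · exact hy.geometrically_connectedSpace (Spec.map ι) _ _ (IsPullback.of_hasPullback _ _)

/-- **Negative direction of EGA IV 9.7.7 for connectedness.** -/
theorem not_fibres (f : X ⟶ Y) [IrreducibleSpace ↑Y] [LocallyOfFiniteType f] [QuasiCompact f]
    (h : ¬ GeometricallyConnected (f.fiberToSpecResidueField (genericPoint ↑Y))) :
    ∃ V : Y.Opens, (V : Set ↑Y).Nonempty ∧
      ∀ y ∈ V, ¬ GeometricallyConnected (f.fiberToSpecResidueField y) := by
  obtain ⟨V, hV, hcore⟩ := not_core f h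
  refine ⟨V, hV, fun y hy hgc => ?_⟩
  obtain ⟨K, _, _, q, Z, fst, snd, hq, HPB, hZ⟩ := exists_geometric_fibre_conn f y hgc
  exact hcore K q (fun t => by rw [hq]; exact hy) Z fst snd HPB hZ

end Groth.Agent.H38.GeomConnNeg
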