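import Mathlib
import Groth.Agent.H38.GeomConnNeg
import Groth.Agent.H38.GeomRedCons

/-!
# The locus of geometrically connected fibres is locally constructible
-/

set_option autoImplicit false
universe u
open AlgebraicGeometry CategoryTheory Limits TopologicalSpace Topology

namespace Groth.Agent.H38.GeomConnCons

/-- the relation: the structure morphism (second slot) is geometrically connected. -/
def P : ∀ ⦃X Y T : Scheme.{u}⦄, (X ⟶ Y) → (Y ⟶ T) → Prop :=
  fun _ _ _ _ g => GeometricallyConnected g

theorem isConsMor_P : ConsProp.IsConsMor P.{u} := by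
  refine ⟨?_, ?_⟩
  · intro X X' Y Y' T T' f g f' g' eX eY h _ _ _ _ _ _ _ _ sqY sqX
    constructor
    · intro hg
      exact MorphismProperty.of_isPullback (P := @GeometricallyConnected) sqY hg
    · intro hg'
      haveI : Surjective h := ⟨fun t => ⟨Classical.arbitrary _, Subsingleton.elim _ _⟩⟩
      exact GeomConnDescent.geometricallyConnected_of_isPullback_of_surjective sqY hg'
  · intro X Y S f g _ _ _ _ _ _
    by_cases hη : GeometricallyConnected (g.fiberToSpecResidueField (genericPoint S))
    · obtain ⟨V, ⟨v, hv⟩, hVs⟩ := GeomConnSpread.fibres g hη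
      exact Or.inl ⟨v, interior_maximal (fun y hy => hVs y hy) V.2 hv⟩
    · obtain ⟨V, ⟨v, hv⟩, hVs⟩ := GeomConnNeg.not_fibres g hη
      exact Or.inr ⟨v, interior_maximal (fun y hy => hVs y hy) V.2 hv⟩

/-- **EGA IV 9.7.7 (i)**: the locus of geometrically connected fibres of a quasi-compact
quasi-separated morphism locally of finite presentation is locally constructible. -/
theorem isLocallyConstructible_of_qcqs {X S : Scheme.{u}} (g : X ⟶ S)
    [LocallyOfFinitePresentation g] [QuasiCompact g] [QuasiSeparated g] :
    IsLocallyConstructible {s : ↑S | GeometricallyConnected (g.fiberToSpecResidueField s)} := by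
  haveI : LocallyOfFinitePresentation (𝟙 X ≫ g) := by rw [Category.id_comp]; infer_instance
  haveI : QuasiCompact (𝟙 X ≫ g) := by rw [Category.id_comp]; infer_instance
  haveI : QuasiSeparated (𝟙 X ≫ g) := by rw [Category.id_comp]; infer_instance
  exact Groth.Agent.H24.isLocallyConstructible_locusMor isConsMor_P (𝟙 X) g

end Groth.Agent.H38.GeomConnCons
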