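import Mathlib
import Groth.Agent.H38.GeomConnNeg
import Groth.Agent.H33.ConnCountCTOP3
import Groth.Agent.H89.ConnCountCEXT
import Groth.Agent.H22.ConnCountCFACT
import Groth.Agent.H22.ConnCountCIRR
import Groth.Agent.H22.ConnCountCOPEN

/-!
# The number of geometric connected components of the fibres is constant near the generic point
-/

set_option autoImplicit false
universe u
open AlgebraicGeometry CategoryTheory Limits TopologicalSpace

namespace Groth.Agent.H38.GeomConnCount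

open Groth.Agent.H38.GeomIrrNeg Groth.Agent.H38.GeomConnSpread Groth.Agent.H38.GeomConnNeg

variable {X Y : Scheme.{u}}

/-- common points of two pieces spread out. -/
theorem edge_spread (f : X ⟶ Y) [IrreducibleSpace ↑Y] [LocallyOfFiniteType f]
    {T₁ T₂ : Scheme.{u}} (t₁ : T₁ ⟶ X) (t₂ : T₂ ⟶ X) (h₁ : LocallyOfFiniteType (t₁ ≫ f))
    (h₂ : LocallyOfFiniteType (t₂ ≫ f)) :
    ∃ Ve : Y.Opens, genericPoint ↑Y ∈ Ve ∧
      (((fstΩ f ⁻¹' (Set.range t₁) : Set (ZΩ f)) ∩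
        (fstΩ f ⁻¹' (Set.range t₂) : Set (ZΩ f))).Nonempty →
      ∀ (K : Type u) [Field K] (q : Spec (CommRingCat.of K) ⟶ Y), (∀ t, q t ∈ Ve) →
        ∀ (Z : Scheme.{u}) (fst : Z ⟶ X) (snd : Z ⟶ Spec (CommRingCat.of K)),
          IsPullback fst snd f q →
          ((fst ⁻¹' (Set.range t₁) : Set Z) ∩ (fst ⁻¹' (Set.range t₂) : Set Z)).Nonempty) := by
  classical
  set η := genericPoint ↑Y with hη
  obtain ⟨W, hW', hηW, -⟩ := Opens.isBasis_iff_nbhd.mp Y.isBasis_affineOpens (Opens.mem_top η)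
  have hW : IsAffineOpen W := hW'
  by_cases hnm : ((fstΩ f ⁻¹' (Set.range t₁) : Set (ZΩ f)) ∩
      (fstΩ f ⁻¹' (Set.range t₂) : Set (ZΩ f))).Nonempty
  swap
  · exact ⟨⊤, trivial, fun h => absurd h hnm⟩
  obtain ⟨z₀, ⟨τn, hτn⟩, ⟨τm, hτm⟩⟩ := hnm
  let gE : pullback t₁ t₂ ⟶ Y := pullback.fst t₁ t₂ ≫ t₁ ≫ f
  haveI := h₁
  haveI := h₂
  haveI : LocallyOfFiniteType t₂ := locallyOfFiniteType_of_comp t₂ f
  haveI : LocallyOfFiniteType gE := by
    show LocallyOfFiniteType (pullback.fst t₁ t₂ ≫ t₁ ≫ f)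
    infer_instance
  obtain ⟨e₀, he₀n, he₀m⟩ := Scheme.Pullback.exists_preimage_pullback (f := t₁) (g := t₂)
    τn τm (hτn.trans hτm.symm)
  have hgE : gE e₀ = η := by
    show (pullback.fst t₁ t₂ ≫ t₁ ≫ f) e₀ = η
    rw [Scheme.Hom.comp_apply, Scheme.Hom.comp_apply, he₀n, hτn]
    exact f_fstΩ f z₀
  obtain ⟨E₀, hE₀', he₀E₀, hE₀W⟩ := Opens.isBasis_iff_nbhd.mp
    (pullback t₁ t₂).isBasis_affineOpens
    (show e₀ ∈ gE ⁻¹ᵁ W from by show gE e₀ ∈ W; rw [hgE]; exact hηW)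
  have hE₀ : IsAffineOpen E₀ := hE₀'
  obtain ⟨a, ha, hspread⟩ := exists_point_spread gE hW hηW hE₀ hE₀W ⟨e₀, he₀E₀, hgE⟩
  refine ⟨Y.basicOpen a, ha, fun _ K _ q hq Z fst snd HPB => ?_⟩
  have sq : IsPullback (pullback.fst (pullback.fst t₁ t₂ ≫ t₁) fst)
      (pullback.snd (pullback.fst t₁ t₂ ≫ t₁) fst ≫ snd)
      ((pullback.fst t₁ t₂ ≫ t₁) ≫ f) q :=
    (IsPullback.of_hasPullback (pullback.fst t₁ t₂ ≫ t₁) fst).paste_vert HPB
  have sq' : IsPullback (pullback.fst (pullback.fst t₁ t₂ ≫ t₁) fst)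
      (pullback.snd (pullback.fst t₁ t₂ ≫ t₁) fst ≫ snd) gE q := by
    have : gE = (pullback.fst t₁ t₂ ≫ t₁) ≫ f := by
      show pullback.fst t₁ t₂ ≫ t₁ ≫ f = _
      rw [Category.assoc]
    rw [this]; exact sq
  obtain ⟨w, -⟩ := hspread K q hq _ _ _ sq'
  set e := pullback.fst (pullback.fst t₁ t₂ ≫ t₁) fst w with he
  set z := pullback.snd (pullback.fst t₁ t₂ ≫ t₁) fst w with hz
  have h1 : fst z = t₁ (pullback.fst t₁ t₂ e) := by
    rw [hz, he, ← Scheme.Hom.comp_apply, ← pullback.condition, Scheme.Hom.comp_apply,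
      Scheme.Hom.comp_apply]
  have h2 : t₁ (pullback.fst t₁ t₂ e) = t₂ (pullback.snd t₁ t₂ e) := by
    rw [← Scheme.Hom.comp_apply, pullback.condition, Scheme.Hom.comp_apply]
  exact ⟨z, ⟨_, h1.symm⟩, ⟨_, (h1.trans h2).symm⟩⟩

/-- disjointness of two pieces spreads out. -/
theorem nonedge_spread (f : X ⟶ Y) [IrreducibleSpace ↑Y] {T₁ : Scheme.{u}} (t₁ : T₁ ⟶ X)
    (h₁ : LocallyOfFiniteType (t₁ ≫ f)) (h₁' : QuasiCompact (t₁ ≫ f)) (R F : Set X)
    (hF : IsClosed F) (O : X.Opens) (hR : R = F ∩ (O : Set X)) :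
    ∃ Ve : Y.Opens, genericPoint ↑Y ∈ Ve ∧
      (¬ ((fstΩ f ⁻¹' (Set.range t₁) : Set (ZΩ f)) ∩ (fstΩ f ⁻¹' R : Set (ZΩ f))).Nonempty →
      ∀ (K : Type u) [Field K] (q : Spec (CommRingCat.of K) ⟶ Y), (∀ t, q t ∈ Ve) →
        ∀ (Z : Scheme.{u}) (fst : Z ⟶ X) (snd : Z ⟶ Spec (CommRingCat.of K)),
          IsPullback fst snd f q →
          ¬ ((fst ⁻¹' (Set.range t₁) : Set Z) ∩ (fst ⁻¹' R : Set Z)).Nonempty) := by
  classical
  by_cases hnm : ((fstΩ f ⁻¹' (Set.range t₁) : Set (ZΩ f)) ∩ (fstΩ f ⁻¹' R : Set (ZΩ f))).Nonempty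
  · exact ⟨⊤, trivial, fun h => absurd hnm h⟩
  haveI := h₁
  haveI := h₁'
  obtain ⟨V, hηV, hV⟩ := exists_opens_forall_notMem_of_locallyClosed (t₁ ≫ f)
    (t₁ ⁻¹' F) (hF.preimage t₁.continuous)
    (t₁ ⁻¹' (O : Set X)) (O.2.preimage t₁.continuous) (by
      rintro τ ⟨hτF, hτO⟩ hτη
      rw [Scheme.Hom.comp_apply] at hτη
      obtain ⟨z, hz⟩ := exists_ZΩ_of_generic f (t₁ τ) hτη
      refine hnm ⟨z, ?_, ?_⟩
      · show fstΩ f z ∈ Set.range t₁
        rw [hz]; exact ⟨τ, rfl⟩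
      · show fstΩ f z ∈ R
        rw [hz, hR]; exact ⟨hτF, hτO⟩)
  refine ⟨V, hηV, fun _ K _ q hq Z fst snd HPB => ?_⟩
  rintro ⟨z, ⟨τ, hτ⟩, hzm⟩
  have hzm' : fst z ∈ R := hzm
  rw [hR, ← hτ] at hzm'
  refine hV τ hzm' ?_
  rw [Scheme.Hom.comp_apply, hτ]
  have : (fst ≫ f) z = (snd ≫ q) z := by rw [HPB.w]
  rw [Scheme.Hom.comp_apply, Scheme.Hom.comp_apply] at this
  rw [this]
  exact hq _

/-- **(S4, count)** the number of connected components of the geometric fibres is constant near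
the generic point, given a finite cover by relatively closed pieces with geometrically irreducible
generic fibres. -/
theorem count_of_cover (f : X ⟶ Y) [IrreducibleSpace ↑Y] [LocallyOfFiniteType f]
    [QuasiCompact f]
    {s N : Type} [Finite s] [Finite N] (ι : N → s) (O : s → X.Opens) (T : N → Scheme.{u})
    (t : ∀ n, T n ⟶ X) (F : N → Set X)
    (hOcov : (⋃ i, (O i : Set X)) = Set.univ) (hF : ∀ n, IsClosed (F n))
    (hrange : ∀ n, Set.range (t n) = F n ∩ (O (ι n) : Set X))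
    (hcov : ∀ i, (O i : Set X) ⊆ ⋃ n ∈ {n | ι n = i}, Set.range (t n))
    (ht : ∀ n, LocallyOfFiniteType (t n ≫ f) ∧ QuasiCompact (t n ≫ f) ∧
      GeometricallyIrreducible ((t n ≫ f).fiberToSpecResidueField (genericPoint ↑Y))) :
    ∃ V : Y.Opens, genericPoint ↑Y ∈ V ∧
      ∀ (K : Type u) [Field K] (q : Spec (CommRingCat.of K) ⟶ Y), (∀ t, q t ∈ V) →
        ∀ (Z : Scheme.{u}) (fst : Z ⟶ X) (snd : Z ⟶ Spec (CommRingCat.of K)),
          IsPullback fst snd f q →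
          ENat.card (_root_.ConnectedComponents ↥Z) =
            ENat.card (_root_.ConnectedComponents ↥(ZΩ f)) := by
  classical
  set η := genericPoint ↑Y with hη
  have hmem : ∀ V : Y.Opens, (V : Set Y).Nonempty → η ∈ V := fun V ⟨v, hv⟩ =>
    ((genericPoint_spec ↑Y).mem_open_set_iff V.2).mpr ⟨v, trivial, hv⟩
  -- irreducibility of the pieces
  have hpiece : ∀ n, ∃ Vn : Y.Opens, η ∈ Vn ∧
      ∀ (K : Type u) [Field K] (q : Spec (CommRingCat.of K) ⟶ Y), (∀ t, q t ∈ Vn) →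
        ∀ (Z : Scheme.{u}) (fst : Z ⟶ X) (snd : Z ⟶ Spec (CommRingCat.of K)),
          IsPullback fst snd f q → IsIrreducible (fst ⁻¹' (Set.range (t n)) : Set Z) := by
    intro n
    haveI := (ht n).1
    haveI := (ht n).2.1
    obtain ⟨Vn, ⟨v, hv⟩, hcore⟩ := @GeomIrrSpread.core _ _ (t n ≫ f) ‹_› (ht n).1 (ht n).2.1
      (ht n).2.2
    refine ⟨Vn, hmem Vn ⟨v, hv⟩, ?_⟩
    intro K _ q hq Z fst snd HPB
    exact isIrreducible_preimage_range (t n) f q fst snd HPB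
      (fun Z' fst' snd' h' => hcore K q hq Z' fst' snd' h')
  choose Vp hVpη hVp using hpiece
  have hedge : ∀ nm : N × N, ∃ Ve : Y.Opens, η ∈ Ve ∧
      (((fstΩ f ⁻¹' (Set.range (t nm.1)) : Set (ZΩ f)) ∩
        (fstΩ f ⁻¹' (Set.range (t nm.2)) : Set (ZΩ f))).Nonempty →
      ∀ (K : Type u) [Field K] (q : Spec (CommRingCat.of K) ⟶ Y), (∀ t, q t ∈ Ve) →
        ∀ (Z : Scheme.{u}) (fst : Z ⟶ X) (snd : Z ⟶ Spec (CommRingCat.of K)),
          IsPullback fst snd f q →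
          ((fst ⁻¹' (Set.range (t nm.1)) : Set Z) ∩
            (fst ⁻¹' (Set.range (t nm.2)) : Set Z)).Nonempty) := fun nm =>
    edge_spread f (t nm.1) (t nm.2) (ht nm.1).1 (ht nm.2).1
  have hnonedge : ∀ nm : N × N, ∃ Ve : Y.Opens, η ∈ Ve ∧
      (¬ ((fstΩ f ⁻¹' (Set.range (t nm.1)) : Set (ZΩ f)) ∩
        (fstΩ f ⁻¹' (Set.range (t nm.2)) : Set (ZΩ f))).Nonempty →
      ∀ (K : Type u) [Field K] (q : Spec (CommRingCat.of K) ⟶ Y), (∀ t, q t ∈ Ve) →
        ∀ (Z : Scheme.{u}) (fst : Z ⟶ X) (snd : Z ⟶ Spec (CommRingCat.of K)),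
          IsPullback fst snd f q →
          ¬ ((fst ⁻¹' (Set.range (t nm.1)) : Set Z) ∩
            (fst ⁻¹' (Set.range (t nm.2)) : Set Z)).Nonempty) := fun nm =>
    nonedge_spread f (t nm.1) (ht nm.1).1 (ht nm.1).2.1 (Set.range (t nm.2)) (F nm.2) (hF nm.2)
      (O (ι nm.2)) (hrange nm.2)
  choose Ve hVeη hVe using hedge
  choose Vn hVnη hVn using hnonedge
  -- the count in terms of the intersection graph
  have key : ∀ (K : Type u) [Field K] (q : Spec (CommRingCat.of K) ⟶ Y),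
      (∀ n t', q t' ∈ Vp n) →
      ∀ (Z : Scheme.{u}) (fst : Z ⟶ X) (snd : Z ⟶ Spec (CommRingCat.of K)),
        IsPullback fst snd f q →
        ENat.card (_root_.ConnectedComponents ↥Z) = ENat.card (Quot (fun a b : N =>
          ((fst ⁻¹' (Set.range (t a)) : Set Z) ∩ (fst ⁻¹' (Set.range (t b)) : Set Z)).Nonempty)) := by
    intro K _ q hqp Z fst snd HPB
    refine H33.ConnCountCTOP3.card_connectedComponents_eq_card_quot ι
      (fun i => (fst ⁻¹' (O i : Set X) : Set Z))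
      (fun i => (O i).2.preimage fst.continuous)
      (fun n => (fst ⁻¹' (Set.range (t n)) : Set Z))
      (fun n => (fst ⁻¹' (F n) : Set Z))
      (fun n => (hF n).preimage fst.continuous)
      (fun n => by rw [hrange n]; rfl)
      (fun n => (hVp n K q (hqp n) Z fst snd HPB).isConnected) ?_ ?_
    · intro i z hz
      have := hcov i hz
      simp only [Set.mem_iUnion, Set.mem_ofPred_eq] at this ⊢
      obtain ⟨n, hn, hzn⟩ := this
      exact ⟨n, hn, hzn⟩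
    · rw [Set.eq_univ_iff_forall]
      intro z
      have : fst z ∈ (⋃ i, (O i : Set X)) := hOcov ▸ Set.mem_univ _
      obtain ⟨i, hi⟩ := Set.mem_iUnion.mp this
      exact Set.mem_iUnion.mpr ⟨i, hi⟩
  refine ⟨((⟨⋂ n : N, (Vp n : Set Y), isOpen_iInter_of_finite (fun n => (Vp n).2)⟩ : Y.Opens) ⊓
    ⟨⋂ nm : N × N, (Ve nm : Set Y), isOpen_iInter_of_finite (fun nm => (Ve nm).2)⟩) ⊓
    ⟨⋂ nm : N × N, (Vn nm : Set Y), isOpen_iInter_of_finite (fun nm => (Vn nm).2)⟩,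
    ⟨⟨Set.mem_iInter.mpr hVpη, Set.mem_iInter.mpr hVeη⟩, Set.mem_iInter.mpr hVnη⟩, ?_⟩
  intro K _ q hq Z fst snd HPB
  have hqp : ∀ n t', q t' ∈ Vp n := fun n t' => Set.mem_iInter.mp (hq t').1.1 n
  have hqe : ∀ nm t', q t' ∈ Ve nm := fun nm t' => Set.mem_iInter.mp (hq t').1.2 nm
  have hqn : ∀ nm t', q t' ∈ Vn nm := fun nm t' => Set.mem_iInter.mp (hq t').2 nm
  rw [key K q hqp Z fst snd HPB, key (Ωf Y) (qΩ Y) (fun n t' => by rw [qΩ_apply]; exact hVpη n)
    (ZΩ f) (fstΩ f) (sndΩ f) (isPullback_ZΩ f)]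
  have hrel : (fun a b : N =>
      ((fst ⁻¹' (Set.range (t a)) : Set Z) ∩ (fst ⁻¹' (Set.range (t b)) : Set Z)).Nonempty) =
      (fun a b : N => ((fstΩ f ⁻¹' (Set.range (t a)) : Set (ZΩ f)) ∩
        (fstΩ f ⁻¹' (Set.range (t b)) : Set (ZΩ f))).Nonempty) := by
    funext a b
    apply propext
    constructor
    · intro hab
      by_contra hΩ
      exact hVn (a, b) hΩ K q (hqn (a, b)) Z fst snd HPB hab
    · intro hΩ
      exact hVe (a, b) hΩ K q (hqe (a, b)) Z fst snd HPB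
  rw [hrel]

/-- a pullback of `f` along `q₁ ≫ g` is a pullback of the base change of `f` along `q₁`. -/
theorem isPullback_lift {Y₁ S Z : Scheme.{u}} (f : X ⟶ Y) (g : Y₁ ⟶ Y) (q₁ : S ⟶ Y₁) (q : S ⟶ Y)
    (hq₁ : q₁ ≫ g = q) (fst : Z ⟶ X) (snd : Z ⟶ S) (HPB : IsPullback fst snd f q) :
    ∃ fst' : Z ⟶ pullback f g, IsPullback fst' snd (pullback.snd f g) q₁ := by
  have hw : fst ≫ f = (snd ≫ q₁) ≫ g := by
    rw [HPB.w, Category.assoc, hq₁]
  refine ⟨pullback.lift fst (snd ≫ q₁) hw, ?_⟩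
  have h1 : pullback.lift fst (snd ≫ q₁) hw ≫ pullback.fst f g = fst := pullback.lift_fst _ _ _
  have h2 : pullback.lift fst (snd ≫ q₁) hw ≫ pullback.snd f g = snd ≫ q₁ :=
    pullback.lift_snd _ _ _
  refine IsPullback.of_right ?_ h2 (IsPullback.of_hasPullback f g)
  rw [h1, hq₁]
  exact HPB

/-- **Core statement for the count.** -/
theorem count_core (f : X ⟶ Y) [IrreducibleSpace ↑Y] [LocallyOfFiniteType f] [QuasiCompact f] :
    ∃ V : Y.Opens, (V : Set ↑Y).Nonempty ∧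
      ∀ (K : Type u) [Field K] [IsAlgClosed K] (q : Spec (CommRingCat.of K) ⟶ Y),
        (∀ t, q t ∈ V) →
        ∀ (Z : Scheme.{u}) (fst : Z ⟶ X) (snd : Z ⟶ Spec (CommRingCat.of K)),
          IsPullback fst snd f q →
          ENat.card (_root_.ConnectedComponents ↥Z) =
            ENat.card (_root_.ConnectedComponents ↥(ZΩ f)) := by
  classical
  obtain ⟨W, hW, A₁, hdom, φ, hηW, hφ, hker, hrest⟩ := H77.ConnCS2.exists_component_cover f
  haveI := hdom
  set g : Spec A₁ ⟶ Y := Spec.map φ ≫ hW.fromSpec with hg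
  obtain ⟨s, N, hs, hN, ι, O, T, t, F, hOcov, hF, hrange, hcov, ht⟩ := hrest
  haveI : IrreducibleSpace ↥(Spec A₁) := inferInstanceAs (IrreducibleSpace (PrimeSpectrum A₁))
  obtain ⟨V₁, hη₁V₁, hcore₁⟩ := count_of_cover (pullback.snd f g) ι O T t F hOcov hF hrange
    hcov ht
  obtain ⟨V, hηV, hlift⟩ := H60.ConnCLIFT.exists_lift_geometric_point hW hηW φ hφ hker V₁
    ⟨_, hη₁V₁⟩
  have key : ∀ (K : Type u) [Field K] [IsAlgClosed K] (q : Spec (CommRingCat.of K) ⟶ Y),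
      (∀ t, q t ∈ V) →
      ∀ (Z : Scheme.{u}) (fst : Z ⟶ X) (snd : Z ⟶ Spec (CommRingCat.of K)),
        IsPullback fst snd f q →
        ENat.card (_root_.ConnectedComponents ↥Z) =
          ENat.card (_root_.ConnectedComponents ↥(ZΩ (pullback.snd f g))) := by
    intro K _ _ q hq Z fst snd HPB
    obtain ⟨q₁, hq₁V₁, hq₁⟩ := hlift K q hq
    obtain ⟨fst', sq⟩ := isPullback_lift f g q₁ q hq₁ fst snd HPB
    exact hcore₁ K q₁ hq₁V₁ Z fst' snd sq
  refine ⟨V, ⟨_, hηV⟩, ?_⟩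
  intro K _ _ q hq Z fst snd HPB
  rw [key K q hq Z fst snd HPB, key (Ωf Y) (qΩ Y) (fun t' => by rw [qΩ_apply]; exact hηV)
    (ZΩ f) (fstΩ f) (sndΩ f) (isPullback_ZΩ f)]

/-- the count `nGeomConnComp f y₁` computed on an algebraically closed geometric fibre. -/
theorem nGeomConnComp_eq_card (f : X ⟶ Y) (y₁ : Y) :
    ∃ (K : Type u) (_ : Field K) (_ : IsAlgClosed K) (q : Spec (CommRingCat.of K) ⟶ Y)
      (Z : Scheme.{u}) (fst : Z ⟶ X) (snd : Z ⟶ Spec (CommRingCat.of K)),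
      (∀ t, q t = y₁) ∧ IsPullback fst snd f q ∧
        ENat.card (_root_.ConnectedComponents ↥Z) = MoreMor.nGeomConnComp f y₁ := by
  let L := SeparableClosure (Y.residueField y₁)
  let K := AlgebraicClosure L
  let ιL : Y.residueField y₁ ⟶ CommRingCat.of L :=
    CommRingCat.ofHom (algebraMap (Y.residueField y₁) L)
  let j : Spec (CommRingCat.of K) ⟶ Spec (CommRingCat.of L) :=
    Spec.map (CommRingCat.ofHom (algebraMap L K))
  let p : pullback (f.fiberToSpecResidueField y₁) (Spec.map ιL) ⟶ Spec (CommRingCat.of L) :=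
    pullback.snd (f.fiberToSpecResidueField y₁) (Spec.map ιL)
  have sqA : IsPullback (pullback.fst p j) (pullback.snd p j) p j := IsPullback.of_hasPullback p j
  have sqB : IsPullback (pullback.fst (f.fiberToSpecResidueField y₁) (Spec.map ιL)) p
      (f.fiberToSpecResidueField y₁) (Spec.map ιL) := IsPullback.of_hasPullback _ _
  have sqC : IsPullback (f.fiberι y₁) (f.fiberToSpecResidueField y₁) f
      (Y.fromSpecResidueField y₁) := IsPullback.of_hasPullback f (Y.fromSpecResidueField y₁)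
  refine ⟨K, inferInstance, inferInstance, (j ≫ Spec.map ιL) ≫ Y.fromSpecResidueField y₁,
    pullback p j, (pullback.fst p j ≫ pullback.fst (f.fiberToSpecResidueField y₁) (Spec.map ιL)) ≫
      f.fiberι y₁, pullback.snd p j, ?_, (sqA.paste_horiz sqB).paste_horiz sqC, ?_⟩
  · intro t
    rw [Scheme.Hom.comp_apply, Scheme.fromSpecResidueField_apply]
  · exact H89.ConnCountCEXT.card_connectedComponents_of_isPullback_of_isSepClosed j p _ _ sqA

/-- **EGA IV 9.7.8 for connected components** (`S1337`). -/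
theorem main (f : X ⟶ Y) [LocallyOfFiniteType f] [QuasiCompact f] (y : Y) :
    ∃ V : Set ↑Y, V ⊆ closure {y} ∧ y ∈ V ∧
      IsOpen (Subtype.val ⁻¹' V : Set ↑(closure ({y} : Set ↑Y))) ∧
      ∀ y' ∈ V, MoreMor.nGeomConnComp f y' = MoreMor.nGeomConnComp f y := by
  classical
  let I := Scheme.IdealSheafData.vanishingIdeal
    (⟨closure {y}, isClosed_closure⟩ : Closeds Y)
  let i : I.subscheme ⟶ Y := I.subschemeι
  have hrange : Set.range i = closure {y} := by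
    rw [Scheme.IdealSheafData.range_subschemeι, Scheme.IdealSheafData.coe_support_vanishingIdeal]
    rfl
  obtain ⟨hirr, hgen⟩ := H22.ConnCountCIRR.exists_irreducibleSpace_of_range_eq_closure i y hrange
  haveI := hirr
  obtain ⟨V', ⟨v', hv'⟩, hcore⟩ := count_core (pullback.snd f i)
  have hηV' : genericPoint ↥I.subscheme ∈ V' :=
    ((genericPoint_spec ↥I.subscheme).mem_open_set_iff V'.2).mpr ⟨v', trivial, hv'⟩
  have hinj : Function.Injective i := i.isClosedEmbedding.injective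
  have key : ∀ y₁ ∈ i '' (V' : Set ↥I.subscheme), MoreMor.nGeomConnComp f y₁ =
      ENat.card (_root_.ConnectedComponents ↥(ZΩ (pullback.snd f i))) := by
    rintro _ ⟨v, hv, rfl⟩
    obtain ⟨K, _, _, q, Z, fst, snd, hq, HPB, hcard⟩ := nGeomConnComp_eq_card f (i v)
    obtain ⟨q', hq'⟩ := H22.ConnCountCFACT.exists_factor_of_isClosedImmersion i q
      (fun t => by rw [hq]; exact ⟨v, rfl⟩)
    obtain ⟨fst', sq⟩ := isPullback_lift f i q' q hq' fst snd HPB
    rw [← hcard]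
    refine hcore K q' (fun t => ?_) Z fst' snd sq
    have h1 : i (q' t) = i v := by rw [← Scheme.Hom.comp_apply, hq', hq]
    rw [hinj h1]
    exact hv
  refine ⟨i '' (V' : Set ↥I.subscheme), ?_, ⟨_, hηV', hgen⟩,
    H22.ConnCountCOPEN.isOpen_preimage_val_image i y hrange V', ?_⟩
  · rintro _ ⟨v, -, rfl⟩
    rw [← hrange]
    exact ⟨v, rfl⟩
  · intro y₁ hy₁
    rw [key y₁ hy₁, key y ⟨_, hηV', hgen⟩]

end Groth.Agent.H38.GeomConnCount
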