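import Mathlib
import Groth.Agent.H38.GeomConnCount
import Groth.Agent.H83.ConnCountCFS
import Groth.Agent.H83.ConnCountCGF
import Groth.Agent.H38.GeomRedCons

/-!
# Level sets of the number of geometric connected components are locally constructible
-/

set_option autoImplicit false
universe u
open AlgebraicGeometry CategoryTheory Limits TopologicalSpace Topology

namespace Groth.Agent.H38.GeomConnCountCons

open Groth.Agent.H38.GeomIrrNeg Groth.Agent.H38.GeomConnCount

/-- the relation: all algebraically closed geometric fibres of the structure morphism (second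
slot) have `n` connected components. -/
def P (n : ℕ∞) : ∀ ⦃X Y T : Scheme.{u}⦄, (X ⟶ Y) → (Y ⟶ T) → Prop :=
  fun _ Y T _ g => ∀ (K : Type u) [Field K] [IsAlgClosed K] (q : Spec (CommRingCat.of K) ⟶ T)
    (Z : Scheme.{u}) (fst : Z ⟶ Y) (snd : Z ⟶ Spec (CommRingCat.of K)), IsPullback fst snd g q →
    ENat.card (_root_.ConnectedComponents ↥Z) = n

theorem isConsMor_P (n : ℕ∞) : ConsProp.IsConsMor (P.{u} n) := by
  refine ⟨?_, ?_⟩
  · intro X X' Y Y' T T' f g f' g' eX eY h _ _ _ _ _ _ _ _ sqY sqX
    exact H83.ConnCountCFS.count_fieldStable
      (@H89.ConnCountCEXT.card_connectedComponents_of_isPullback_of_isSepClosed)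
      g g' eY h sqY n
  · intro X Y S f g _ _ _ _ _ _
    obtain ⟨V, ⟨v, hv⟩, hcore⟩ := count_core g
    by_cases hc : ENat.card (_root_.ConnectedComponents ↥(ZΩ g)) = n
    · refine Or.inl ⟨v, interior_maximal (fun s hs => ?_) V.2 hv⟩
      show P n (MoreMor.fiberMap f g s) (g.fiberToSpecResidueField s)
      intro K _ _ q Z fst snd HPB
      have big : IsPullback (fst ≫ g.fiberι s) snd g (q ≫ S.fromSpecResidueField s) :=
        HPB.paste_horiz (IsPullback.of_hasPullback g (S.fromSpecResidueField s))
      rw [hcore K (q ≫ S.fromSpecResidueField s) (fun t => by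
        rw [Scheme.Hom.comp_apply, Scheme.fromSpecResidueField_apply]; exact hs) Z _ snd big, hc]
    · refine Or.inr ⟨v, interior_maximal (fun s hs hP => ?_) V.2 hv⟩
      have hP' : P n (MoreMor.fiberMap f g s) (g.fiberToSpecResidueField s) := hP
      let K := AlgebraicClosure (S.residueField s)
      let q : Spec (CommRingCat.of K) ⟶ Spec (S.residueField s) :=
        Spec.map (CommRingCat.ofHom (algebraMap (S.residueField s) K))
      have HPB := IsPullback.of_hasPullback (g.fiberToSpecResidueField s) q
      have h1 := hP' K q _ _ _ HPB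
      have big : IsPullback (pullback.fst (g.fiberToSpecResidueField s) q ≫ g.fiberι s)
          (pullback.snd (g.fiberToSpecResidueField s) q) g (q ≫ S.fromSpecResidueField s) :=
        HPB.paste_horiz (IsPullback.of_hasPullback g (S.fromSpecResidueField s))
      have h2 := hcore K (q ≫ S.fromSpecResidueField s) (fun t => by
        rw [Scheme.Hom.comp_apply, Scheme.fromSpecResidueField_apply]; exact hs) _ _ _ big
      exact hc (h2.symm.trans h1)

/-- **EGA IV 9.7.9**: the level sets of the number of geometric connected components of the fibres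
of a quasi-compact quasi-separated morphism locally of finite presentation are locally
constructible. -/
theorem isLocallyConstructible_of_qcqs {X S : Scheme.{u}} (g : X ⟶ S)
    [LocallyOfFinitePresentation g] [QuasiCompact g] [QuasiSeparated g] (n : ℕ∞) :
    IsLocallyConstructible {s : ↑S | MoreMor.nGeomConnComp g s = n} := by
  haveI : LocallyOfFinitePresentation (𝟙 X ≫ g) := by rw [Category.id_comp]; infer_instance
  haveI : QuasiCompact (𝟙 X ≫ g) := by rw [Category.id_comp]; infer_instance
  haveI : QuasiSeparated (𝟙 X ≫ g) := by rw [Category.id_comp]; infer_instance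
  have h := Groth.Agent.H24.isLocallyConstructible_locusMor (isConsMor_P n) (𝟙 X) g
  convert h using 1
  ext s
  exact (H83.ConnCountCGF.count_iff_nGeomConnComp
    (@H89.ConnCountCEXT.card_connectedComponents_of_isPullback_of_isSepClosed)
    g s n).symm

end Groth.Agent.H38.GeomConnCountCons
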