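import Mathlib
import Groth.Agent.H38.GeomConnCount
import Groth.Agent.H68.IrrCountITOP
import Groth.Agent.H68.IrrCountPRUNE
import Groth.Agent.H54.IrrCountIEXT

/-!
# The number of geometric irreducible components of the fibres is constant near the generic point
-/

set_option autoImplicit false
universe u
open AlgebraicGeometry CategoryTheory Limits TopologicalSpace

namespace Groth.Agent.H38.GeomIrrCount

open Groth.Agent.H38.GeomIrrNeg Groth.Agent.H38.GeomConnSpread Groth.Agent.H38.GeomConnNeg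
  Groth.Agent.H38.GeomConnCount

variable {X Y : Scheme.{u}}

/-- whether a piece meets an open set is the same on the geometric generic fibre and on the
geometric fibres near the generic point. -/
theorem hit_spread (f : X ⟶ Y) [IrreducibleSpace ↑Y] {T₁ : Scheme.{u}} (t₁ : T₁ ⟶ X)
    (h₁ : LocallyOfFiniteType (t₁ ≫ f)) (h₁' : QuasiCompact (t₁ ≫ f)) (G : X.Opens) :
    ∃ Ve : Y.Opens, genericPoint ↑Y ∈ Ve ∧
      ∀ (K : Type u) [Field K] (q : Spec (CommRingCat.of K) ⟶ Y), (∀ t, q t ∈ Ve) →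
        ∀ (Z : Scheme.{u}) (fst : Z ⟶ X) (snd : Z ⟶ Spec (CommRingCat.of K)),
          IsPullback fst snd f q →
          ((∃ z : Z, fst z ∈ Set.range t₁ ∩ (G : Set X)) ↔
            (∃ z : ZΩ f, fstΩ f z ∈ Set.range t₁ ∩ (G : Set X))) := by
  classical
  set η := genericPoint ↑Y with hη
  by_cases hΩ : ∃ z : ZΩ f, fstΩ f z ∈ Set.range t₁ ∩ (G : Set X)
  · obtain ⟨z₀, ⟨τ₀, hτ₀⟩, hG⟩ := hΩ
    obtain ⟨W, hW', hηW, -⟩ := Opens.isBasis_iff_nbhd.mp Y.isBasis_affineOpens (Opens.mem_top η)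
    have hW : IsAffineOpen W := hW'
    haveI := h₁
    have hgτ : (t₁ ≫ f) τ₀ = η := by
      rw [Scheme.Hom.comp_apply, hτ₀]
      exact f_fstΩ f z₀
    obtain ⟨E₀, hE₀', hτ₀E₀, hE₀le⟩ := Opens.isBasis_iff_nbhd.mp T₁.isBasis_affineOpens
      (show τ₀ ∈ (t₁ ⁻¹ᵁ G) ⊓ ((t₁ ≫ f) ⁻¹ᵁ W) from
        ⟨by show t₁ τ₀ ∈ G; rw [hτ₀]; exact hG, by show (t₁ ≫ f) τ₀ ∈ W; rw [hgτ]; exact hηW⟩)
    have hE₀ : IsAffineOpen E₀ := hE₀'
    obtain ⟨a, ha, hspread⟩ := exists_point_spread (t₁ ≫ f) hW hηW hE₀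
      (fun x hx => (hE₀le hx).2) ⟨τ₀, hτ₀E₀, hgτ⟩
    refine ⟨Y.basicOpen a, ha, fun K _ q hq Z fst snd HPB => ?_⟩
    have sq : IsPullback (pullback.fst t₁ fst) (pullback.snd t₁ fst ≫ snd) (t₁ ≫ f) q :=
      (IsPullback.of_hasPullback t₁ fst).paste_vert HPB
    obtain ⟨w, hw⟩ := hspread K q hq _ _ _ sq
    have h1 : fst (pullback.snd t₁ fst w) = t₁ (pullback.fst t₁ fst w) := by
      rw [← Scheme.Hom.comp_apply, ← pullback.condition, Scheme.Hom.comp_apply]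
    refine ⟨fun _ => ⟨z₀, ⟨τ₀, hτ₀⟩, hG⟩, fun _ => ⟨pullback.snd t₁ fst w, ⟨_, h1.symm⟩, ?_⟩⟩
    rw [h1]
    exact (hE₀le hw).1
  · obtain ⟨Ve, hηVe, hVe⟩ := nonedge_spread f t₁ h₁ h₁' (G : Set X) Set.univ isClosed_univ G
      (by simp)
    refine ⟨Ve, hηVe, fun K _ q hq Z fst snd HPB => ?_⟩
    have h2 := hVe (fun ⟨z, hz1, hz2⟩ => hΩ ⟨z, hz1, hz2⟩) K q hq Z fst snd HPB
    exact ⟨fun ⟨z, hz1, hz2⟩ => absurd ⟨z, hz1, hz2⟩ h2, fun h => absurd h hΩ⟩

/-- **(S4, irreducible count)** the number of irreducible components of the geometric fibres is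
constant near the generic point, given a finite cover by relatively closed pieces with
geometrically irreducible generic fibres. -/
theorem irr_count_of_cover (f : X ⟶ Y) [IrreducibleSpace ↑Y] [LocallyOfFiniteType f]
    [QuasiCompact f]
    {s N : Type} [Finite s] [Finite N] (ι : N → s) (O : s → X.Opens) (T : N → Scheme.{u})
    (t : ∀ n, T n ⟶ X) (F : N → Set X)
    (hOcov : (⋃ i, (O i : Set X)) = Set.univ) (hF : ∀ n, IsClosed (F n))
    (hrange : ∀ n, Set.range (t n) = F n ∩ (O (ι n) : Set X))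
    (hcov : ∀ i, (O i : Set X) ⊆ ⋃ n ∈ {n | ι n = i}, Set.range (t n))
    (ht : ∀ n, LocallyOfFiniteType (t n ≫ f) ∧ QuasiCompact (t n ≫ f) ∧
      GeometricallyIrreducible ((t n ≫ f).fiberToSpecResidueField (genericPoint ↑Y))) :
    ∃ V : Y.Opens, genericPoint ↑Y ∈ V ∧
      ∀ (K : Type u) [Field K] (q : Spec (CommRingCat.of K) ⟶ Y), (∀ t, q t ∈ V) →
        ∀ (Z : Scheme.{u}) (fst : Z ⟶ X) (snd : Z ⟶ Spec (CommRingCat.of K)),
          IsPullback fst snd f q →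
          (irreducibleComponents ↥Z).encard = (irreducibleComponents ↥(ZΩ f)).encard := by
  classical
  set η := genericPoint ↑Y with hη
  have hmem : ∀ V : Y.Opens, (V : Set Y).Nonempty → η ∈ V := fun V ⟨v, hv⟩ =>
    ((genericPoint_spec ↑Y).mem_open_set_iff V.2).mpr ⟨v, trivial, hv⟩
  -- irreducibility of the pieces
  have hpiece : ∀ n, ∃ Vn : Y.Opens, η ∈ Vn ∧
      ∀ (K : Type u) [Field K] (q : Spec (CommRingCat.of K) ⟶ Y), (∀ t, q t ∈ Vn) →
        ∀ (Z : Scheme.{u}) (fst : Z ⟶ X) (snd : Z ⟶ Spec (CommRingCat.of K)),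
          IsPullback fst snd f q → IsIrreducible (fst ⁻¹' (Set.range (t n)) : Set Z) := by
    intro n
    haveI := (ht n).1
    haveI := (ht n).2.1
    obtain ⟨Vn, ⟨v, hv⟩, hcore⟩ := @GeomIrrSpread.core _ _ (t n ≫ f) ‹_› (ht n).1 (ht n).2.1
      (ht n).2.2
    refine ⟨Vn, hmem Vn ⟨v, hv⟩, ?_⟩
    intro K _ q hq Z fst snd HPB
    exact isIrreducible_preimage_range (t n) f q fst snd HPB
      (fun Z' fst' snd' h' => hcore K q hq Z' fst' snd' h')
  choose Vp hVpη hVp using hpiece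
  -- prune the family on the geometric generic fibre
  obtain ⟨N', hdom, hirred⟩ := H68.IrrCountPRUNE.exists_irredundant_subfamily ι
    (fun n => (fstΩ f ⁻¹' (Set.range (t n)) : Set (ZΩ f)))
  -- the relevant opens
  let Fc : N → X.Opens := fun n => ⟨(F n)ᶜ, (hF n).isOpen_compl⟩
  let G : s → X.Opens := fun i => ⟨(O i : Set X) \ ⋃ n ∈ {n | n ∈ N' ∧ ι n = i}, F n,
    (O i).2.sdiff (Set.Finite.isClosed_biUnion (Set.toFinite _) (fun n _ => hF n))⟩
  have hid1 : LocallyOfFiniteType (𝟙 X ≫ f) := by rw [Category.id_comp]; infer_instance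
  have hid2 : QuasiCompact (𝟙 X ≫ f) := by rw [Category.id_comp]; infer_instance
  have h1 := fun nm : N × N => hit_spread f (t nm.1) (ht nm.1).1 (ht nm.1).2.1 (O (ι nm.2))
  have h2 := fun nm : N × N => hit_spread f (t nm.1) (ht nm.1).1 (ht nm.1).2.1
    (O (ι nm.2) ⊓ Fc nm.2)
  have h3 := fun nm : N × N => hit_spread f (t nm.1) (ht nm.1).1 (ht nm.1).2.1 (Fc nm.2)
  have h4 := fun i : s => hit_spread f (𝟙 X) hid1 hid2 (G i)
  choose V1 hV1η hV1 using h1
  choose V2 hV2η hV2 using h2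
  choose V3 hV3η hV3 using h3
  choose V4 hV4η hV4 using h4
  -- facts on the geometric generic fibre
  have hGΩ : ∀ i, ¬ ∃ z : ZΩ f, fstΩ f z ∈ Set.range (𝟙 X) ∩ (G i : Set X) := by
    rintro i ⟨z, -, hzO, hzF⟩
    have := hcov i hzO
    simp only [Set.mem_iUnion, Set.mem_ofPred_eq] at this
    obtain ⟨n, hn, hzn⟩ := this
    obtain ⟨n', hn'N, hn'ι, hsub⟩ := hdom n
    have hz' : fstΩ f z ∈ Set.range (t n') := hsub hzn
    rw [hrange n'] at hz'
    exact hzF (Set.mem_biUnion (show n' ∈ {n | n ∈ N' ∧ ι n = i} from ⟨hn'N, hn'ι.trans hn⟩) hz'.1)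
  have hRΩ : ∀ n ∈ N', ∀ k ∈ N', ι n = ι k → n ≠ k →
      ∃ z : ZΩ f, fstΩ f z ∈ Set.range (t n) ∩ (Fc k : Set X) := by
    intro n hn k hk hι hne
    have hnot : ¬ ((fstΩ f ⁻¹' (Set.range (t n)) : Set (ZΩ f)) ⊆
        (fstΩ f ⁻¹' (Set.range (t k)) : Set (ZΩ f))) := fun hsub => hne (hirred n hn k hk hι hsub)
    rw [Set.not_subset] at hnot
    obtain ⟨z, hzn, hzk⟩ := hnot
    refine ⟨z, hzn, fun hzF => hzk ?_⟩
    show fstΩ f z ∈ Set.range (t k)
    rw [hrange k]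
    refine ⟨hzF, ?_⟩
    have hzn' : fstΩ f z ∈ Set.range (t n) := hzn
    rw [hrange n] at hzn'
    rw [← hι]
    exact hzn'.2
  -- the count in terms of the pieces
  have key : ∀ (K : Type u) [Field K] (q : Spec (CommRingCat.of K) ⟶ Y),
      (∀ n t', q t' ∈ Vp n) →
      ∀ (Z : Scheme.{u}) (fst : Z ⟶ X) (snd : Z ⟶ Spec (CommRingCat.of K)),
        IsPullback fst snd f q →
        (∀ i, ¬ ∃ z : Z, fst z ∈ Set.range (𝟙 X) ∩ (G i : Set X)) →
        (∀ n ∈ N', ∀ k ∈ N', ι n = ι k → n ≠ k →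
          ∃ z : Z, fst z ∈ Set.range (t n) ∩ (Fc k : Set X)) →
        (irreducibleComponents ↥Z).encard = ENat.card (Quot (fun a b : N' =>
          (∃ z : Z, fst z ∈ Set.range (t b.1) ∩ (O (ι a.1) : Set X)) ∧
          ¬ ∃ z : Z, fst z ∈ Set.range (t b.1) ∩ ((O (ι a.1) ⊓ Fc a.1 : X.Opens) : Set X))) := by
    intro K _ q hqp Z fst snd HPB hG hR
    have hcard := H68.IrrCountITOP.encard_irreducibleComponents_eq_card_quot (N := N')
      (fun a => ι a.1)
      (fun i => (fst ⁻¹' (O i : Set X) : Set Z)) (fun i => (O i).2.preimage fst.continuous)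
      (fun a => (fst ⁻¹' (Set.range (t a.1)) : Set Z)) (fun a => (fst ⁻¹' (F a.1) : Set Z))
      (fun a => (hF a.1).preimage fst.continuous) (fun a => by rw [hrange a.1]; rfl)
      (fun a => hVp a.1 K q (hqp a.1) Z fst snd HPB) ?_ ?_ ?_
    · rw [hcard]
      have hrel : (fun a b : N' =>
          ((fst ⁻¹' (Set.range (t b.1)) : Set Z) ∩ (fst ⁻¹' (O (ι a.1) : Set X) : Set Z)).Nonempty ∧
          ((fst ⁻¹' (Set.range (t b.1)) : Set Z) ∩ (fst ⁻¹' (O (ι a.1) : Set X) : Set Z)) ⊆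
            (fst ⁻¹' (Set.range (t a.1)) : Set Z)) =
          (fun a b : N' =>
          (∃ z : Z, fst z ∈ Set.range (t b.1) ∩ (O (ι a.1) : Set X)) ∧
          ¬ ∃ z : Z, fst z ∈ Set.range (t b.1) ∩ ((O (ι a.1) ⊓ Fc a.1 : X.Opens) : Set X)) := by
        funext a b
        apply propext
        refine and_congr Iff.rfl ?_
        constructor
        · rintro hsub ⟨z, hzb, hzO, hzF⟩
          have : fst z ∈ Set.range (t a.1) := hsub ⟨hzb, hzO⟩
          rw [hrange a.1] at this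
          exact hzF this.1
        · intro hno z hz
          show fst z ∈ Set.range (t a.1)
          rw [hrange a.1]
          refine ⟨?_, hz.2⟩
          by_contra hzF
          exact hno ⟨z, hz.1, hz.2, hzF⟩
      rw [hrel]
    · intro i z hz
      have hzO : fst z ∈ (O i : Set X) := hz
      have hnot : fst z ∉ (G i : Set X) := fun h => hG i ⟨z, ⟨fst z, rfl⟩, h⟩
      have : fst z ∈ ⋃ n ∈ {n | n ∈ N' ∧ ι n = i}, F n := by
        by_contra hcon
        exact hnot ⟨hzO, hcon⟩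
      simp only [Set.mem_iUnion, Set.mem_ofPred_eq] at this
      obtain ⟨n, ⟨hnN, hnι⟩, hzF⟩ := this
      simp only [Set.mem_iUnion, Set.mem_ofPred_eq]
      refine ⟨⟨n, hnN⟩, hnι, ?_⟩
      show fst z ∈ Set.range (t n)
      rw [hrange n, hnι]
      exact ⟨hzF, hzO⟩
    · rw [Set.eq_univ_iff_forall]
      intro z
      have : fst z ∈ (⋃ i, (O i : Set X)) := hOcov ▸ Set.mem_univ _
      obtain ⟨i, hi⟩ := Set.mem_iUnion.mp this
      exact Set.mem_iUnion.mpr ⟨i, hi⟩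
    · intro a k hι hsub
      by_contra hne
      obtain ⟨z, hza, hzF⟩ := hR a.1 a.2 k.1 k.2 hι (fun h => hne (Subtype.ext h))
      have : fst z ∈ Set.range (t k.1) := hsub hza
      rw [hrange k.1] at this
      exact hzF this.1
  refine ⟨((((⟨⋂ n : N, (Vp n : Set Y), isOpen_iInter_of_finite (fun n => (Vp n).2)⟩ : Y.Opens) ⊓
    ⟨⋂ nm : N × N, (V1 nm : Set Y), isOpen_iInter_of_finite (fun nm => (V1 nm).2)⟩) ⊓
    ⟨⋂ nm : N × N, (V2 nm : Set Y), isOpen_iInter_of_finite (fun nm => (V2 nm).2)⟩) ⊓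
    ⟨⋂ nm : N × N, (V3 nm : Set Y), isOpen_iInter_of_finite (fun nm => (V3 nm).2)⟩) ⊓
    ⟨⋂ i : s, (V4 i : Set Y), isOpen_iInter_of_finite (fun i => (V4 i).2)⟩,
    ⟨⟨⟨⟨Set.mem_iInter.mpr hVpη, Set.mem_iInter.mpr hV1η⟩, Set.mem_iInter.mpr hV2η⟩,
      Set.mem_iInter.mpr hV3η⟩, Set.mem_iInter.mpr hV4η⟩, ?_⟩
  intro K _ q hq Z fst snd HPB
  have hqp : ∀ n t', q t' ∈ Vp n := fun n t' => Set.mem_iInter.mp (hq t').1.1.1.1 n
  have hq1 : ∀ nm t', q t' ∈ V1 nm := fun nm t' => Set.mem_iInter.mp (hq t').1.1.1.2 nm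
  have hq2 : ∀ nm t', q t' ∈ V2 nm := fun nm t' => Set.mem_iInter.mp (hq t').1.1.2 nm
  have hq3 : ∀ nm t', q t' ∈ V3 nm := fun nm t' => Set.mem_iInter.mp (hq t').1.2 nm
  have hq4 : ∀ i t', q t' ∈ V4 i := fun i t' => Set.mem_iInter.mp (hq t').2 i
  have hGK : ∀ i, ¬ ∃ z : Z, fst z ∈ Set.range (𝟙 X) ∩ (G i : Set X) := fun i h =>
    hGΩ i ((hV4 i K q (hq4 i) Z fst snd HPB).mp h)
  have hRK : ∀ n ∈ N', ∀ k ∈ N', ι n = ι k → n ≠ k →
      ∃ z : Z, fst z ∈ Set.range (t n) ∩ (Fc k : Set X) := fun n hn k hk hι hne =>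
    (hV3 (n, k) K q (hq3 (n, k)) Z fst snd HPB).mpr (hRΩ n hn k hk hι hne)
  rw [key K q hqp Z fst snd HPB hGK hRK,
    key (Ωf Y) (qΩ Y) (fun n t' => by rw [qΩ_apply]; exact hVpη n) (ZΩ f) (fstΩ f) (sndΩ f)
      (isPullback_ZΩ f) hGΩ hRΩ]
  have hrel : (fun a b : N' =>
      (∃ z : Z, fst z ∈ Set.range (t b.1) ∩ (O (ι a.1) : Set X)) ∧
      ¬ ∃ z : Z, fst z ∈ Set.range (t b.1) ∩ ((O (ι a.1) ⊓ Fc a.1 : X.Opens) : Set X)) =
      (fun a b : N' =>
      (∃ z : ZΩ f, fstΩ f z ∈ Set.range (t b.1) ∩ (O (ι a.1) : Set X)) ∧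
      ¬ ∃ z : ZΩ f, fstΩ f z ∈ Set.range (t b.1) ∩ ((O (ι a.1) ⊓ Fc a.1 : X.Opens) : Set X)) := by
    funext a b
    apply propext
    exact and_congr (hV1 (b.1, a.1) K q (hq1 (b.1, a.1)) Z fst snd HPB)
      (not_congr (hV2 (b.1, a.1) K q (hq2 (b.1, a.1)) Z fst snd HPB))
  rw [hrel]

/-- **Core statement for the irreducible count.** -/
theorem irr_count_core (f : X ⟶ Y) [IrreducibleSpace ↑Y] [LocallyOfFiniteType f]
    [QuasiCompact f] :
    ∃ V : Y.Opens, (V : Set ↑Y).Nonempty ∧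
      ∀ (K : Type u) [Field K] [IsAlgClosed K] (q : Spec (CommRingCat.of K) ⟶ Y),
        (∀ t, q t ∈ V) →
        ∀ (Z : Scheme.{u}) (fst : Z ⟶ X) (snd : Z ⟶ Spec (CommRingCat.of K)),
          IsPullback fst snd f q →
          (irreducibleComponents ↥Z).encard = (irreducibleComponents ↥(ZΩ f)).encard := by
  classical
  obtain ⟨W, hW, A₁, hdom, φ, hηW, hφ, hker, hrest⟩ := H77.ConnCS2.exists_component_cover f
  haveI := hdom
  set g : Spec A₁ ⟶ Y := Spec.map φ ≫ hW.fromSpec with hg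
  obtain ⟨s, N, hs, hN, ι, O, T, t, F, hOcov, hF, hrange, hcov, ht⟩ := hrest
  haveI : IrreducibleSpace ↥(Spec A₁) := inferInstanceAs (IrreducibleSpace (PrimeSpectrum A₁))
  obtain ⟨V₁, hη₁V₁, hcore₁⟩ := irr_count_of_cover (pullback.snd f g) ι O T t F hOcov hF hrange
    hcov ht
  obtain ⟨V, hηV, hlift⟩ := H60.ConnCLIFT.exists_lift_geometric_point hW hηW φ hφ hker V₁
    ⟨_, hη₁V₁⟩
  have key : ∀ (K : Type u) [Field K] [IsAlgClosed K] (q : Spec (CommRingCat.of K) ⟶ Y),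
      (∀ t, q t ∈ V) →
      ∀ (Z : Scheme.{u}) (fst : Z ⟶ X) (snd : Z ⟶ Spec (CommRingCat.of K)),
        IsPullback fst snd f q →
        (irreducibleComponents ↥Z).encard =
          (irreducibleComponents ↥(ZΩ (pullback.snd f g))).encard := by
    intro K _ _ q hq Z fst snd HPB
    obtain ⟨q₁, hq₁V₁, hq₁⟩ := hlift K q hq
    obtain ⟨fst', sq⟩ := isPullback_lift f g q₁ q hq₁ fst snd HPB
    exact hcore₁ K q₁ hq₁V₁ Z fst' snd sq
  refine ⟨V, ⟨_, hηV⟩, ?_⟩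
  intro K _ _ q hq Z fst snd HPB
  rw [key K q hq Z fst snd HPB, key (Ωf Y) (qΩ Y) (fun t' => by rw [qΩ_apply]; exact hηV)
    (ZΩ f) (fstΩ f) (sndΩ f) (isPullback_ZΩ f)]

/-- the count `nGeomIrredComp f y₁` computed on an algebraically closed geometric fibre. -/
theorem nGeomIrredComp_eq_encard (f : X ⟶ Y) (y₁ : Y) :
    ∃ (K : Type u) (_ : Field K) (_ : IsAlgClosed K) (q : Spec (CommRingCat.of K) ⟶ Y)
      (Z : Scheme.{u}) (fst : Z ⟶ X) (snd : Z ⟶ Spec (CommRingCat.of K)),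
      (∀ t, q t = y₁) ∧ IsPullback fst snd f q ∧
        (irreducibleComponents ↥Z).encard = MoreMor.nGeomIrredComp f y₁ := by
  let L := SeparableClosure (Y.residueField y₁)
  let K := AlgebraicClosure L
  let ιL : Y.residueField y₁ ⟶ CommRingCat.of L :=
    CommRingCat.ofHom (algebraMap (Y.residueField y₁) L)
  let j : Spec (CommRingCat.of K) ⟶ Spec (CommRingCat.of L) :=
    Spec.map (CommRingCat.ofHom (algebraMap L K))
  let p : pullback (f.fiberToSpecResidueField y₁) (Spec.map ιL) ⟶ Spec (CommRingCat.of L) :=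
    pullback.snd (f.fiberToSpecResidueField y₁) (Spec.map ιL)
  have sqA : IsPullback (pullback.fst p j) (pullback.snd p j) p j := IsPullback.of_hasPullback p j
  have sqB : IsPullback (pullback.fst (f.fiberToSpecResidueField y₁) (Spec.map ιL)) p
      (f.fiberToSpecResidueField y₁) (Spec.map ιL) := IsPullback.of_hasPullback _ _
  have sqC : IsPullback (f.fiberι y₁) (f.fiberToSpecResidueField y₁) f
      (Y.fromSpecResidueField y₁) := IsPullback.of_hasPullback f (Y.fromSpecResidueField y₁)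
  refine ⟨K, inferInstance, inferInstance, (j ≫ Spec.map ιL) ≫ Y.fromSpecResidueField y₁,
    pullback p j, (pullback.fst p j ≫ pullback.fst (f.fiberToSpecResidueField y₁) (Spec.map ιL)) ≫
      f.fiberι y₁, pullback.snd p j, ?_, (sqA.paste_horiz sqB).paste_horiz sqC, ?_⟩
  · intro t
    rw [Scheme.Hom.comp_apply, Scheme.fromSpecResidueField_apply]
  · exact H54.IrrCountIEXT.encard_irreducibleComponents_of_isPullback_of_isSepClosed j p _ _ sqA

/-- **EGA IV 9.7.8 for irreducible components** (`S1336`). -/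
theorem main (f : X ⟶ Y) [LocallyOfFiniteType f] [QuasiCompact f] (y : Y) :
    ∃ V : Set ↑Y, V ⊆ closure {y} ∧ y ∈ V ∧
      IsOpen (Subtype.val ⁻¹' V : Set ↑(closure ({y} : Set ↑Y))) ∧
      ∀ y' ∈ V, MoreMor.nGeomIrredComp f y' = MoreMor.nGeomIrredComp f y := by
  classical
  let I := Scheme.IdealSheafData.vanishingIdeal
    (⟨closure {y}, isClosed_closure⟩ : Closeds Y)
  let i : I.subscheme ⟶ Y := I.subschemeι
  have hrange : Set.range i = closure {y} := by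
    rw [Scheme.IdealSheafData.range_subschemeι, Scheme.IdealSheafData.coe_support_vanishingIdeal]
    rfl
  obtain ⟨hirr, hgen⟩ := H22.ConnCountCIRR.exists_irreducibleSpace_of_range_eq_closure i y hrange
  haveI := hirr
  obtain ⟨V', ⟨v', hv'⟩, hcore⟩ := irr_count_core (pullback.snd f i)
  have hηV' : genericPoint ↥I.subscheme ∈ V' :=
    ((genericPoint_spec ↥I.subscheme).mem_open_set_iff V'.2).mpr ⟨v', trivial, hv'⟩
  have hinj : Function.Injective i := i.isClosedEmbedding.injective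
  have key : ∀ y₁ ∈ i '' (V' : Set ↥I.subscheme), MoreMor.nGeomIrredComp f y₁ =
      (irreducibleComponents ↥(ZΩ (pullback.snd f i))).encard := by
    rintro _ ⟨v, hv, rfl⟩
    obtain ⟨K, _, _, q, Z, fst, snd, hq, HPB, hcard⟩ := nGeomIrredComp_eq_encard f (i v)
    obtain ⟨q', hq'⟩ := H22.ConnCountCFACT.exists_factor_of_isClosedImmersion i q
      (fun t => by rw [hq]; exact ⟨v, rfl⟩)
    obtain ⟨fst', sq⟩ := isPullback_lift f i q' q hq' fst snd HPB
    rw [← hcard]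
    refine hcore K q' (fun t => ?_) Z fst' snd sq
    have h1 : i (q' t) = i v := by rw [← Scheme.Hom.comp_apply, hq', hq]
    rw [hinj h1]
    exact hv
  refine ⟨i '' (V' : Set ↥I.subscheme), ?_, ⟨_, hηV', hgen⟩,
    H22.ConnCountCOPEN.isOpen_preimage_val_image i y hrange V', ?_⟩
  · rintro _ ⟨v, -, rfl⟩
    rw [← hrange]
    exact ⟨v, rfl⟩
  · intro y₁ hy₁
    rw [key y₁ hy₁, key y ⟨_, hηV', hgen⟩]

end Groth.Agent.H38.GeomIrrCount
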