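import Mathlib

set_option autoImplicit false
universe u

namespace Groth.Agent.H38

open TopologicalSpace Set

variable {X : Type u} [TopologicalSpace X]

/-- A nonempty closed subset of a Noetherian space is the union of an irreducible closed subset `Z`
and a closed subset `Y'` not containing `Z`. -/
theorem exists_irreducible_union [NoetherianSpace X] {Y : Set X} (hY : IsClosed Y)
    (hne : Y.Nonempty) :
    ∃ Z Y' : Set X, IsClosed Z ∧ IsIrreducible Z ∧ IsClosed Y' ∧ Y = Z ∪ Y' ∧ ¬ Z ⊆ Y' := by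
  classical
  obtain ⟨S, hSf, hSc, hSi, hSU⟩ := NoetherianSpace.exists_finite_set_isClosed_irreducible hY
  lift S to Finset (Set X) using hSf
  have hSne : S.Nonempty := by
    obtain ⟨x, hx⟩ := hne
    rw [hSU] at hx
    obtain ⟨T, hT, -⟩ := hx
    exact ⟨T, hT⟩
  obtain ⟨Z, hZS, hZmax⟩ := S.exists_maximal hSne
  refine ⟨Z, ⋃₀ ↑(S.erase Z), hSc Z hZS, hSi Z hZS, ?_, ?_, ?_⟩
  · rw [Set.sUnion_eq_biUnion]
    exact (S.erase Z).finite_toSet.isClosed_biUnion fun T hT =>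
      hSc T (Finset.mem_of_mem_erase hT)
  · rw [hSU]
    ext x
    constructor
    · rintro ⟨T, hT, hxT⟩
      by_cases hTZ : T = Z
      · left; rw [← hTZ]; exact hxT
      · right; exact ⟨T, Finset.mem_erase.mpr ⟨hTZ, hT⟩, hxT⟩
    · rintro (hx | ⟨T, hT, hxT⟩)
      · exact ⟨Z, hZS, hx⟩
      · exact ⟨T, Finset.mem_of_mem_erase hT, hxT⟩
  · intro hsub
    obtain ⟨T, hT, hZT⟩ := isIrreducible_iff_sUnion_isClosed.mp (hSi Z hZS) (S.erase Z)
      (fun T hT => hSc T (Finset.mem_of_mem_erase hT)) hsub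
    have hTS : T ∈ S := Finset.mem_of_mem_erase hT
    have hTZ : T ≤ Z := hZmax hTS hZT
    exact (Finset.mem_erase.mp hT).1 (le_antisymm hTZ hZT)

/-- An irreducible closed set has a nonempty relatively open part contained in or disjoint from a
given locally closed set. -/
theorem exists_open_adapted {Z P : Set X} (hZ : IsIrreducible Z) (hP : IsLocallyClosed P) :
    ∃ O : Set X, IsOpen O ∧ (Z ∩ O).Nonempty ∧ (Z ∩ O ⊆ P ∨ Disjoint (Z ∩ O) P) := by
  obtain ⟨O₁, C, hO₁, hC, rfl⟩ := hP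
  by_cases h1 : Z ⊆ C
  · by_cases h2 : (Z ∩ O₁).Nonempty
    · exact ⟨O₁, hO₁, h2, Or.inl fun x hx => ⟨hx.2, h1 hx.1⟩⟩
    · refine ⟨univ, isOpen_univ, by simpa using hZ.nonempty, Or.inr ?_⟩
      rw [Set.disjoint_left]
      rintro x ⟨hxZ, -⟩ ⟨hxO, -⟩
      exact h2 ⟨x, hxZ, hxO⟩
  · obtain ⟨x, hxZ, hxC⟩ := Set.not_subset.mp h1
    refine ⟨Cᶜ, hC.isOpen_compl, ⟨x, hxZ, hxC⟩, Or.inr ?_⟩
    rw [Set.disjoint_left]
    rintro y ⟨-, hyC⟩ ⟨-, hyC'⟩
    exact hyC hyC'

theorem exists_good_strat [NoetherianSpace X] (Y : Closeds X) :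
    ∀ Ps : Finset (Set X), (∀ P ∈ Ps, IsLocallyClosed P) →
    ∃ Ss : Finset (Set X), (∀ S ∈ Ss, IsLocallyClosed S ∧ S ⊆ (Y : Set X)) ∧
      ⋃₀ (Ss : Set (Set X)) = (Y : Set X) ∧
      (∀ S ∈ Ss, ∀ S' ∈ Ss, S ≠ S' → Disjoint S S') ∧
      (∀ S ∈ Ss, ∀ S' ∈ Ss, (S ∩ closure S').Nonempty → S ⊆ closure S') ∧
      (∀ S ∈ Ss, ∀ P ∈ Ps, (S ∩ P).Nonempty → S ⊆ P) := by
  classical
  induction Y using WellFoundedLT.induction with
  | ind Y ih =>
  intro Ps hPs
  rcases (Y : Set X).eq_empty_or_nonempty with hY | hY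
  · refine ⟨∅, by simp, by simp [hY], by simp, by simp, by simp⟩
  obtain ⟨Z, Y', hZc, hZi, hY'c, hYeq, hZY'⟩ := exists_irreducible_union Y.isClosed hY
  have hZY : Z ⊆ (Y : Set X) := hYeq ▸ subset_union_left
  -- opens adapted to the parts
  have hO : ∀ P : Ps, ∃ O : Set X, IsOpen O ∧ (Z ∩ O).Nonempty ∧
      (Z ∩ O ⊆ (P : Set X) ∨ Disjoint (Z ∩ O) (P : Set X)) :=
    fun P => exists_open_adapted hZi (hPs P.1 P.2)
  choose O hOo hOne hOP using hO
  let Us : Finset (Set X) := insert Y'ᶜ (Finset.univ.image O)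
  have hUso : ∀ u ∈ Us, IsOpen u := by
    intro u hu
    rcases Finset.mem_insert.mp hu with rfl | hu
    · exact hY'c.isOpen_compl
    · obtain ⟨P, -, rfl⟩ := Finset.mem_image.mp hu
      exact hOo P
  have hUsne : ∀ u ∈ Us, (Z ∩ u).Nonempty := by
    intro u hu
    rcases Finset.mem_insert.mp hu with rfl | hu
    · exact Set.not_subset.mp hZY'
    · obtain ⟨P, -, rfl⟩ := Finset.mem_image.mp hu
      exact hOne P
  set Oall : Set X := ⋂₀ (Us : Set (Set X)) with hOall_def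
  have hUne : (Z ∩ Oall).Nonempty := isIrreducible_iff_sInter.mp hZi Us hUso hUsne
  have hOallo : IsOpen Oall := Us.finite_toSet.isOpen_sInter hUso
  have hOallY' : Oall ⊆ Y'ᶜ := Set.sInter_subset_of_mem (Finset.mem_insert_self _ _)
  have hOallP : ∀ P : Ps, Oall ⊆ O P := fun P =>
    Set.sInter_subset_of_mem (Finset.mem_insert_of_mem
      (Finset.mem_image_of_mem O (Finset.mem_univ P)))
  set U : Set X := Z ∩ Oall with hU_def
  have hclU : closure U = Z :=
    (closure_minimal inter_subset_left hZc).antisymm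
      (subset_closure_inter_of_isPreirreducible_of_isOpen hZi.2 hOallo hUne)
  let Y₁ : Closeds X := ⟨(Y : Set X) ∩ Oallᶜ, Y.isClosed.inter hOallo.isClosed_compl⟩
  have hY₁le : (Y₁ : Set X) ⊆ (Y : Set X) := inter_subset_left
  have hY₁lt : Y₁ < Y := by
    refine lt_of_le_of_ne hY₁le ?_
    intro heq
    obtain ⟨x, hxZ, hxO⟩ := hUne
    have hxY₁ : x ∈ (Y₁ : Set X) := by rw [heq]; exact hZY hxZ
    exact hxY₁.2 hxO
  have hYU : (Y : Set X) = (Y₁ : Set X) ∪ U := by
    ext x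
    constructor
    · intro hx
      by_cases hxO : x ∈ Oall
      · right
        refine ⟨?_, hxO⟩
        have : x ∈ Z ∪ Y' := hYeq ▸ hx
        rcases this with h | h
        · exact h
        · exact absurd h (hOallY' hxO)
      · left; exact ⟨hx, hxO⟩
    · rintro (hx | hx)
      · exact hx.1
      · exact hZY hx.1
  have hUY₁ : Disjoint U (Y₁ : Set X) := by
    rw [Set.disjoint_left]
    rintro x ⟨-, hxO⟩ ⟨-, hxO'⟩
    exact hxO' hxO
  obtain ⟨Ss₁, h1, h2, h3, h4, h5⟩ := ih Y₁ hY₁lt (insert Z Ps) (by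
    intro P hP
    rcases Finset.mem_insert.mp hP with rfl | hP
    · exact hZc.isLocallyClosed
    · exact hPs P hP)
  have hS₁U : ∀ S ∈ Ss₁, Disjoint S U := fun S hS =>
    (hUY₁.mono_right (h1 S hS).2).symm
  have hclS₁ : ∀ S ∈ Ss₁, closure S ⊆ (Y₁ : Set X) := fun S hS =>
    closure_minimal (h1 S hS).2 Y₁.isClosed
  refine ⟨insert U Ss₁, ?_, ?_, ?_, ?_, ?_⟩
  · intro S hS
    rcases Finset.mem_insert.mp hS with rfl | hS
    · exact ⟨hZc.isLocallyClosed.inter hOallo.isLocallyClosed, inter_subset_left.trans hZY⟩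
    · exact ⟨(h1 S hS).1, (h1 S hS).2.trans hY₁le⟩
  · rw [Finset.coe_insert, Set.sUnion_insert, h2, hYU, Set.union_comm]
  · intro S hS S' hS' hne
    rcases Finset.mem_insert.mp hS with rfl | hS <;> rcases Finset.mem_insert.mp hS' with rfl | hS'
    · exact absurd rfl hne
    · exact (hS₁U S' hS').symm
    · exact hS₁U S hS
    · exact h3 S hS S' hS' hne
  · intro S hS S' hS' hne
    rcases Finset.mem_insert.mp hS with rfl | hS <;> rcases Finset.mem_insert.mp hS' with rfl | hS'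
    · exact subset_closure
    · exfalso
      obtain ⟨x, hxU, hxS'⟩ := hne
      exact Set.disjoint_left.mp hUY₁ hxU (hclS₁ S' hS' hxS')
    · rw [hclU] at hne ⊢
      exact h5 S hS Z (Finset.mem_insert_self _ _) hne
    · exact h4 S hS S' hS' hne
  · intro S hS P hP hne
    rcases Finset.mem_insert.mp hS with rfl | hS
    · have hsub : U ⊆ Z ∩ O ⟨P, hP⟩ := fun x hx => ⟨hx.1, hOallP ⟨P, hP⟩ hx.2⟩
      rcases hOP ⟨P, hP⟩ with h | h
      · exact hsub.trans h
      · exfalso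
        obtain ⟨x, hxU, hxP⟩ := hne
        exact Set.disjoint_left.mp h (hsub hxU) hxP
    · exact h5 S hS P (Finset.mem_insert_of_mem hP) hne

end Groth.Agent.H38
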