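import Mathlib
import Groth.Agent.H69.DirColim
import Groth.Agent.H15.NilPair.Base
import Groth.Agent.H15.NilPair.Sys
import Groth.Agent.H15.IntPair.Sys
set_option autoImplicit false
universe u
open CategoryTheory MvPolynomial Limits
open Groth.Agent.H69 Groth.Agent.H15.IntPair
open Groth.Agent.H15.NilPair (PS IT Cq mkq mkq_surjective mkq_eq_zero mkq_eq_zero_iff fp tr tr_mkq
  tr_refl tr_trans toE toE_mkq toE_tr gen_top X_mem_PS PS_mono dirNat)
open scoped Classical

namespace Groth.Agent.H38.IntPair_SB

section gen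
variable {A V : Type u} [CommRing A]

theorem C_mem_PS (S : Finset V) (a : A) : (C a : MvPolynomial V A) ∈ PS A S :=
  (PS A S).algebraMap_mem a

theorem mkq_X_eq_algebraMap {S : Finset V} {T : Finset (MvPolynomial V A)} {v : V} (hv : v ∈ S)
    (a : A) (h : (X v - C a : MvPolynomial V A) ∈ T) :
    mkq S T ⟨X v, X_mem_PS hv⟩ = algebraMap A (Cq S T) a := by
  have e : (⟨C a, C_mem_PS S a⟩ : PS A S) = algebraMap A (PS A S) a := rfl
  rw [← AlgHom.commutes (mkq S T) a, ← e]
  exact Groth.Agent.H15.NilPair.mkq_eq _ _ h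

theorem mkq_X_mem_bot {S : Finset V} {T : Finset (MvPolynomial V A)} {v : V} (hv : v ∈ S)
    (a : A) (h : (X v - C a : MvPolynomial V A) ∈ T) :
    mkq S T ⟨X v, X_mem_PS hv⟩ ∈ (⊥ : Subalgebra A (Cq S T)) := by
  rw [mkq_X_eq_algebraMap hv a h]
  exact Subalgebra.algebraMap_mem _ a

theorem mkq_X_integral {S : Finset V} {T : Finset (MvPolynomial V A)} {v : V} (hv : v ∈ S)
    (a : A) (h : (X v - C a : MvPolynomial V A) ∈ T) :
    (algebraMap A (Cq S T)).IsIntegralElem (mkq S T ⟨X v, X_mem_PS hv⟩) := by
  rw [mkq_X_eq_algebraMap hv a h]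
  exact RingHom.isIntegralElem_map _

theorem coe_aeval {S : Finset V} {v : V} (hv : v ∈ S) (p : Polynomial A) :
    ((Polynomial.aeval (⟨X v, X_mem_PS hv⟩ : PS A S) p : PS A S) : MvPolynomial V A) =
      Polynomial.aeval (X v : MvPolynomial V A) p := by
  have := Polynomial.aeval_algHom_apply (PS A S).val (⟨X v, X_mem_PS hv⟩ : PS A S) p
  simpa using this.symm

theorem aeval_mem_PS {S : Finset V} {v : V} (hv : v ∈ S) (p : Polynomial A) :
    Polynomial.aeval (X v : MvPolynomial V A) p ∈ PS A S := by
  rw [← coe_aeval hv p]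
  exact Subtype.property _

theorem integral_of_rel {S : Finset V} {T : Finset (MvPolynomial V A)} {v : V} (hv : v ∈ S)
    (p : Polynomial A) (hp : p.Monic)
    (h : Polynomial.aeval (X v : MvPolynomial V A) p ∈ T) :
    (algebraMap A (Cq S T)).IsIntegralElem (mkq S T ⟨X v, X_mem_PS hv⟩) := by
  refine ⟨p, hp, ?_⟩
  rw [← Polynomial.aeval_def, Polynomial.aeval_algHom_apply]
  apply mkq_eq_zero
  rw [coe_aeval hv p]
  exact h

theorem nil_mkq_of_pow_mem {S : Finset V} {T : Finset (MvPolynomial V A)} (g : MvPolynomial V A)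
    (hg : g ∈ PS A S) (n : ℕ) (h : g ^ (n + 1) ∈ T) : IsNilpotent (mkq S T ⟨g, hg⟩) := by
  refine ⟨n + 1, ?_⟩
  rw [← map_pow]
  apply mkq_eq_zero
  rw [SubmonoidClass.coe_pow]
  exact h

theorem nil_mkq_of_eq {S : Finset V} {T : Finset (MvPolynomial V A)} (g : MvPolynomial V A)
    (hg : g ∈ PS A S) (x : PS A S) (hx : (x : MvPolynomial V A) = g)
    (h : IsNilpotent (mkq S T ⟨g, hg⟩)) : IsNilpotent (mkq S T x) := by
  have hx' : x = (⟨g, hg⟩ : PS A S) := Subtype.ext hx
  rw [hx']
  exact h

theorem alg_mem_bot {R : Type u} [CommRing R] [Algebra A R] (a : A) :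
    algebraMap A R a ∈ (⊥ : Subalgebra A R) := Subalgebra.algebraMap_mem _ a

end gen

variable {A B C : Type u} [CommRing A] [CommRing B] [CommRing C] [Algebra A B] [Algebra A C]
  [Algebra B C] [IsScalarTower A B C]

theorem evB_X (b : B) : evB A B C (X (Sum.inl b)) = b := by
  simp [evB]

theorem evC_X (b : B) : evC A B C (X (Sum.inl b)) = algebraMap B C b := by
  simp [evC]

theorem evB_C (a : A) : evB A B C (MvPolynomial.C a) = algebraMap A B a := by
  simp [evB]

theorem evC_C (a : A) : evC A B C (MvPolynomial.C a) = algebraMap A C a := by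
  simp [evC]

theorem evB_aeval (b : B) (p : Polynomial A) :
    evB A B C (Polynomial.aeval (X (Sum.inl b) : MvPolynomial (B ⊕ C) A) p) =
      Polynomial.aeval b p := by
  rw [← Polynomial.aeval_algHom_apply, evB_X]

/-- The raw index with `Z = {b}`, `S = ∅`. -/
noncomputable def mk (b : B) (TB TC : Finset (MvPolynomial (B ⊕ C) A)) : Raw A B C :=
  ⟨{b}, ∅, TB, TC⟩

theorem inl_mem (b : B) (TB TC : Finset (MvPolynomial (B ⊕ C) A)) :
    (Sum.inl b : B ⊕ C) ∈ (mk b TB TC).WB :=
  Raw.inl_mem_WB (Finset.mem_singleton_self b)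

theorem inl_memC (b : B) (TB TC : Finset (MvPolynomial (B ⊕ C) A)) :
    (Sum.inl b : B ⊕ C) ∈ (mk b TB TC).WC :=
  Raw.inl_mem_WC (Finset.mem_singleton_self b)

theorem WC_eq (b : B) (TB TC : Finset (MvPolynomial (B ⊕ C) A)) :
    (mk b TB TC).WC = (mk b TB TC).WB := rfl

/-- Validity of the one-variable index from clause data. -/
theorem valid_mk (b : B) (TB TC : Finset (MvPolynomial (B ⊕ C) A))
    (h1 : ∀ t ∈ TB, t ∈ PS A (mk b TB TC).WB ∧ evB A B C t = 0)
    (h2 : ∀ t ∈ TC, t ∈ PS A (mk b TB TC).WB ∧ evC A B C t = 0)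
    (h3 : (algebraMap A (mk b TB TC).CB).IsIntegralElem
      (mkq (mk b TB TC).WB TB ⟨X (Sum.inl b), X_mem_PS (inl_mem b TB TC)⟩))
    (h5 : Function.Surjective (algebraMap A B) →
      mkq (mk b TB TC).WB TB ⟨X (Sum.inl b), X_mem_PS (inl_mem b TB TC)⟩ ∈
        (⊥ : Subalgebra A (mk b TB TC).CB))
    (h7 : Function.Surjective (algebraMap A C) →
      mkq (mk b TB TC).WC (mk b TB TC).TCC ⟨X (Sum.inl b), X_mem_PS (inl_memC b TB TC)⟩ ∈
        (⊥ : Subalgebra A (mk b TB TC).CC))
    (h8 : Function.Surjective (algebraMap B C) → IsNilpotent (RingHom.ker (algebraMap B C)) →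
      ∀ x : PS A (mk b TB TC).WB, (x : MvPolynomial (B ⊕ C) A) ∈ TC →
        IsNilpotent (mkq (mk b TB TC).WB TB x)) :
    Valid (mk b TB TC) := by
  refine ⟨h1, h2, ?_, ?_, ?_, ?_, ?_, h8⟩
  · intro b' hb'
    obtain rfl : b' = b := Finset.mem_singleton.mp hb'
    exact h3
  · intro c hc
    exact absurd hc (Finset.notMem_empty c)
  · intro hs b' hb'
    obtain rfl : b' = b := Finset.mem_singleton.mp hb'
    exact h5 hs
  · intro _
    rfl
  · intro hs b' hb'
    obtain rfl : b' = b := Finset.mem_singleton.mp hb'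
    exact h7 hs

theorem toB_mk (b : B) (TB TC : Finset (MvPolynomial (B ⊕ C) A)) (hv : Valid (mk b TB TC)) :
    toB (⟨mk b TB TC, hv⟩ : J A B C)
      (mkq (mk b TB TC).WB TB ⟨X (Sum.inl b), X_mem_PS (inl_mem b TB TC)⟩) = b := by
  exact (toE_mkq (evB A B C) _ _ _).trans (evB_X b)

theorem surj_B [Algebra.IsIntegral A B] : ∀ b : B, ∃ (j : J A B C) (x : FB j), toB j x = b := by
  intro b
  set Xb : MvPolynomial (B ⊕ C) A := X (Sum.inl b) with hXb
  by_cases hAB : Function.Surjective (algebraMap A B)
  · obtain ⟨a, ha⟩ := hAB b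
    have hv : Valid (mk (A := A) (C := C) b {Xb - MvPolynomial.C a} ∅) := by
      have hmem : Xb - MvPolynomial.C a ∈ ({Xb - MvPolynomial.C a} : Finset (MvPolynomial (B ⊕ C) A)) :=
        Finset.mem_singleton_self _
      have hq := mkq_X_eq_algebraMap (inl_mem (A := A) (C := C) b {Xb - MvPolynomial.C a} ∅) a hmem
      apply valid_mk
      · intro t ht
        obtain rfl := Finset.mem_singleton.mp ht
        refine ⟨Subalgebra.sub_mem _ (X_mem_PS (inl_mem b _ _)) (C_mem_PS _ a), ?_⟩
        rw [map_sub, evB_X, evB_C, ha, sub_self]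
      · intro t ht
        exact absurd ht (Finset.notMem_empty t)
      · exact mkq_X_integral (inl_mem b _ _) a hmem
      · intro _
        exact mkq_X_mem_bot (inl_mem b _ _) a hmem
      · intro _
        have hmem' : Xb - MvPolynomial.C a ∈ (mk (A := A) (C := C) b {Xb - MvPolynomial.C a} ∅).TCC :=
          Raw.TB_sub_TCC hmem
        rw [mkq_X_eq_algebraMap (inl_memC (A := A) (C := C) b {Xb - MvPolynomial.C a} ∅) a hmem']
        exact Subalgebra.algebraMap_mem _ a
      · intro _ _ x hx
        exact absurd hx (Finset.notMem_empty _)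
    exact ⟨⟨_, hv⟩, _, toB_mk b _ _ hv⟩
  · obtain ⟨p, hp, hpb⟩ := Algebra.IsIntegral.isIntegral (R := A) b
    rw [← Polynomial.aeval_def] at hpb
    set r : MvPolynomial (B ⊕ C) A := Polynomial.aeval Xb p with hr
    by_cases hAC : Function.Surjective (algebraMap A C)
    · obtain ⟨a', ha'⟩ := hAC (algebraMap B C b)
      set r' : MvPolynomial (B ⊕ C) A := Xb - MvPolynomial.C a' with hr'
      by_cases mode : Function.Surjective (algebraMap B C) ∧
          IsNilpotent (RingHom.ker (algebraMap B C))
      · obtain ⟨N, hN⟩ := mode.2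
        have he : (b - algebraMap A B a') ^ (N + 1) = 0 := by
          have hmem : b - algebraMap A B a' ∈ RingHom.ker (algebraMap B C) := by
            rw [RingHom.mem_ker, map_sub, ← IsScalarTower.algebraMap_apply, ha', sub_self]
          have := Ideal.pow_mem_pow hmem N
          rw [hN] at this
          rw [pow_succ, (Ideal.mem_bot.mp this), zero_mul]
        have hv : Valid (mk (A := A) (C := C) b {r, r' ^ (N + 1)} {r'}) := by
          have hmr : r ∈ ({r, r' ^ (N + 1)} : Finset (MvPolynomial (B ⊕ C) A)) :=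
            Finset.mem_insert_self _ _
          have hmr' : r' ^ (N + 1) ∈ ({r, r' ^ (N + 1)} : Finset (MvPolynomial (B ⊕ C) A)) :=
            Finset.mem_insert_of_mem (Finset.mem_singleton_self _)
          have hr'PS : r' ∈ PS A (mk (A := A) (C := C) b {r, r' ^ (N + 1)} {r'}).WB :=
            Subalgebra.sub_mem _ (X_mem_PS (inl_mem b _ _)) (C_mem_PS _ a')
          apply valid_mk
          · intro t ht
            rcases Finset.mem_insert.mp ht with rfl | ht
            · exact ⟨aeval_mem_PS (inl_mem b _ _) p, by rw [hr, evB_aeval, hpb]⟩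
            · obtain rfl := Finset.mem_singleton.mp ht
              refine ⟨Subalgebra.pow_mem _ hr'PS _, ?_⟩
              rw [map_pow, hr', map_sub, evB_X, evB_C, he]
          · intro t ht
            obtain rfl := Finset.mem_singleton.mp ht
            refine ⟨hr'PS, ?_⟩
            rw [hr', map_sub, evC_X, evC_C, ha', sub_self]
          · exact integral_of_rel (inl_mem b _ _) p hp hmr
          · intro h
            exact absurd h hAB
          · intro _
            have hmem' : Xb - MvPolynomial.C a' ∈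
                (mk (A := A) (C := C) b {r, r' ^ (N + 1)} {r'}).TCC :=
              Raw.TC_sub_TCC (Finset.mem_singleton_self _)
            rw [mkq_X_eq_algebraMap (inl_memC (A := A) (C := C) b _ _) a' hmem']
            exact Subalgebra.algebraMap_mem _ a'
          · intro _ _ x hx
            have hx' : (x : MvPolynomial (B ⊕ C) A) = r' := Finset.mem_singleton.mp hx
            exact nil_mkq_of_eq r' hr'PS x hx' (nil_mkq_of_pow_mem r' hr'PS N hmr')
        exact ⟨⟨_, hv⟩, _, toB_mk b _ _ hv⟩
      · have hv : Valid (mk (A := A) (C := C) b {r} {r'}) := by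
          have hmr : r ∈ ({r} : Finset (MvPolynomial (B ⊕ C) A)) :=
            Finset.mem_singleton_self _
          have hr'PS : r' ∈ PS A (mk (A := A) (C := C) b {r} {r'}).WB :=
            Subalgebra.sub_mem _ (X_mem_PS (inl_mem b _ _)) (C_mem_PS _ a')
          apply valid_mk
          · intro t ht
            obtain rfl := Finset.mem_singleton.mp ht
            exact ⟨aeval_mem_PS (inl_mem b _ _) p, by rw [hr, evB_aeval, hpb]⟩
          · intro t ht
            obtain rfl := Finset.mem_singleton.mp ht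
            refine ⟨hr'PS, ?_⟩
            rw [hr', map_sub, evC_X, evC_C, ha', sub_self]
          · exact integral_of_rel (inl_mem b _ _) p hp hmr
          · intro h
            exact absurd h hAB
          · intro _
            have hmem' : Xb - MvPolynomial.C a' ∈ (mk (A := A) (C := C) b {r} {r'}).TCC :=
              Raw.TC_sub_TCC (Finset.mem_singleton_self _)
            rw [mkq_X_eq_algebraMap (inl_memC (A := A) (C := C) b _ _) a' hmem']
            exact Subalgebra.algebraMap_mem _ a'
          · intro h1 h2 x hx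
            exact absurd ⟨h1, h2⟩ mode
        exact ⟨⟨_, hv⟩, _, toB_mk b _ _ hv⟩
    · have hv : Valid (mk (A := A) (C := C) b {r} ∅) := by
        have hmr : r ∈ ({r} : Finset (MvPolynomial (B ⊕ C) A)) :=
          Finset.mem_singleton_self _
        apply valid_mk
        · intro t ht
          obtain rfl := Finset.mem_singleton.mp ht
          exact ⟨aeval_mem_PS (inl_mem b _ _) p, by rw [hr, evB_aeval, hpb]⟩
        · intro t ht
          exact absurd ht (Finset.notMem_empty t)
        · exact integral_of_rel (inl_mem b _ _) p hp hmr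
        · intro h
          exact absurd h hAB
        · intro h
          exact absurd h hAC
        · intro _ _ x hx
          exact absurd hx (Finset.notMem_empty _)
      exact ⟨⟨_, hv⟩, _, toB_mk b _ _ hv⟩

end Groth.Agent.H38.IntPair_SB
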