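import Mathlib
import Groth.Prelude.Def_DDual2
import Groth.Agent.H12.DualDepth
set_option autoImplicit false
universe u
open CategoryTheory Limits MonoidalCategory
attribute [local instance] HasDerivedCategory.standard

namespace Groth.Agent.H38.Inv2_NEQ

open Groth.Agent.H12.DualDepth

theorem no_shift (S : Set ℤ) (b : ℤ) (hb : ∀ j ∈ S, j ≤ b) (j0 : ℤ) (hj0 : j0 ∈ S) (d : ℤ)
    (hd : 0 < d) (hS : ∀ j ∈ S, j + d ∈ S) : False := by
  have key : ∀ m : ℕ, j0 + (m : ℤ) * d ∈ S := by
    intro m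
    induction m with
    | zero => simpa using hj0
    | succ m ih =>
      have := hS _ ih
      have e : j0 + ((m + 1 : ℕ) : ℤ) * d = j0 + (m : ℤ) * d + d := by push_cast; ring
      rw [e]; exact this
  have h1 := hb _ (key (b - j0 + 1).toNat)
  have h2 : (b - j0 + 1) ≤ ((b - j0 + 1).toNat : ℤ) := Int.self_le_toNat _
  have h3 : (0 : ℤ) ≤ ((b - j0 + 1).toNat : ℤ) := Int.natCast_nonneg _
  nlinarith

/-- `H^i(K⟦n⟧) ≅ H^{n+i}(K)`. -/
noncomputable def hShift (A : Type u) [CommRing A] (K : Dual.D A) (n i j : ℤ) (h : n + i = j) :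
    (DerivedCategory.homologyFunctor (ModuleCat.{u} A) i).obj (K⟦n⟧) ≅
      (DerivedCategory.homologyFunctor (ModuleCat.{u} A) j).obj K :=
  ((DerivedCategory.homologyFunctor (ModuleCat.{u} A) 0).shiftIso n i j h).app K

theorem sub_iff (A : Type u) [CommRing A] (K : Dual.D A) (i : ℤ) :
    Subsingleton (Dual.HD A K i) ↔
      IsZero ((DerivedCategory.homologyFunctor (ModuleCat.{u} A) i).obj K) :=
  ModuleCat.isZero_iff_subsingleton.symm

theorem NEQ (A : Type u) [CommRing A] [Nontrivial A] (ω₁ ω₂ : Dual.D A)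
    (h₁ : Dual.IsDualizing A ω₁)
    (hsupp : ∀ i : ℤ, Subsingleton (Dual.HD A ω₁ i) ↔ Subsingleton (Dual.HD A ω₂ i))
    (n n' : ℤ) (e : ω₁⟦n⟧ ≅ ω₂⟦n'⟧) : n = n' := by
  set S : Set ℤ := {i | ¬ Subsingleton (Dual.HD A ω₁ i)} with hS
  -- translation invariance
  have htr : ∀ j : ℤ, j ∈ S ↔ j + (n' - n) ∈ S := by
    intro j
    have iso1 := hShift A ω₁ n (j - n) j (by omega)
    have iso2 := hShift A ω₂ n' (j - n) (j + (n' - n)) (by omega)
    have iso3 := (DerivedCategory.homologyFunctor (ModuleCat.{u} A) (j - n)).mapIso e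
    have hiso := iso1.symm ≪≫ iso3 ≪≫ iso2
    show ¬ Subsingleton (Dual.HD A ω₁ j) ↔ ¬ Subsingleton (Dual.HD A ω₁ (j + (n' - n)))
    rw [hsupp (j + (n' - n)), sub_iff, sub_iff, hiso.isZero_iff]
  -- nonempty
  have hne : ∃ j0, j0 ∈ S := by
    by_contra hcon
    push_neg at hcon
    have hall : ∀ i : ℤ, IsZero ((DerivedCategory.homologyFunctor (ModuleCat.{u} A) i).obj ω₁) := by
      intro i
      rw [← sub_iff]
      by_contra h
      exact hcon i h
    haveI : ω₁.IsLE (-1) := (DerivedCategory.isLE_iff ω₁ (-1)).2 (fun i _ => hall i)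
    haveI : ω₁.IsGE 0 := (DerivedCategory.isGE_iff ω₁ 0).2 (fun i _ => hall i)
    have hzero : IsZero ω₁ := DerivedCategory.TStructure.t.isZero ω₁ (-1) 0 (by omega)
    have h01 : (fun a : A => a • (CategoryTheory.CategoryStruct.id ω₁)) 0 =
        (fun a : A => a • (CategoryTheory.CategoryStruct.id ω₁)) 1 :=
      hzero.eq_of_src _ _
    exact zero_ne_one (h₁.toEnd_bijective.1 h01)
  -- bounded
  obtain ⟨a, b, hab⟩ := h₁.finite_injective_dimension
  have hbd : ∀ j ∈ S, a ≤ j ∧ j ≤ b := by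
    intro j hj
    by_contra hcon
    have hout : j < a ∨ b < j := by
      by_contra h
      push_neg at h
      exact hcon ⟨h.1, h.2⟩
    have hsub := hab A j hout
    have hvan : Van ω₁ j (ModuleCat.of A A) := (van_iff_subsingleton ω₁ j _).2 hsub
    exact hj ((sub_iff A ω₁ j).2 (isZero_homology_of_van ω₁ j hvan))
  obtain ⟨j0, hj0⟩ := hne
  by_contra hnn
  rcases lt_or_gt_of_ne hnn with hlt | hgt
  · -- n < n' : d = n' - n > 0
    exact no_shift S b (fun j hj => (hbd j hj).2) j0 hj0 (n' - n) (by omega)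
      (fun j hj => (htr j).1 hj)
  · -- n' < n : d = n - n' > 0, go via the inverse
    refine no_shift S b (fun j hj => (hbd j hj).2) j0 hj0 (n - n') (by omega) ?_
    intro j hj
    have := (htr (j + (n - n'))).2
    have e2 : j + (n - n') + (n' - n) = j := by ring
    rw [e2] at this
    exact this hj

end Groth.Agent.H38.Inv2_NEQ
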