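import Mathlib

set_option autoImplicit false
universe u

namespace Groth.Agent.H38

open Topology Set

section Jac
variable {X : Type u} [TopologicalSpace X] [JacobsonSpace X]

theorem nonempty_inter_closedPoints_of_isConstructible {E : Set X} (hE : IsConstructible E) :
    E.Nonempty → (E ∩ closedPoints X).Nonempty := by
  induction E, hE using BooleanSubalgebra.closure_sdiff_sup_induction with
  | isSublattice =>
    exact ⟨fun s hs t ht ↦ ⟨hs.1.union ht.1, hs.2.union ht.2⟩,
      fun s hs t ht ↦ ⟨hs.1.inter ht.1, hs.2.inter_isOpen ht.2 ht.1⟩⟩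
  | bot_mem => exact ⟨isOpen_empty, .empty⟩
  | top_mem => exact ⟨isOpen_univ, .univ⟩
  | sdiff U hU V hV =>
    intro hne
    rw [Set.sdiff_eq] at hne ⊢
    exact nonempty_inter_closedPoints hne
      (hU.1.isLocallyClosed.inter hV.1.isClosed_compl.isLocallyClosed)
  | sup s _ t _ hs' ht' =>
    rintro ⟨x, hx | hx⟩
    · obtain ⟨y, hy, hy'⟩ := hs' ⟨x, hx⟩; exact ⟨y, Or.inl hy, hy'⟩
    · obtain ⟨y, hy, hy'⟩ := ht' ⟨x, hx⟩; exact ⟨y, Or.inr hy, hy'⟩

theorem subset_of_preimage_closedPoints_subset {E E' : Set X} (hE : IsConstructible E)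
    (hE' : IsConstructible E')
    (h : (Subtype.val : closedPoints X → X) ⁻¹' E ⊆ Subtype.val ⁻¹' E') : E ⊆ E' := by
  by_contra hne
  rw [Set.not_subset] at hne
  obtain ⟨a, haE, haE'⟩ := hne
  obtain ⟨y, ⟨hyE, hyE'⟩, hy⟩ :=
    nonempty_inter_closedPoints_of_isConstructible (hE.sdiff hE') ⟨a, haE, haE'⟩
  exact hyE' (h (show (⟨y, hy⟩ : closedPoints X) ∈ Subtype.val ⁻¹' E from hyE))

theorem subset_of_preimage_closedPoints_subset_of_isOpen {U V : Set X} (hU : IsOpen U)
    (hV : IsOpen V)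
    (h : (Subtype.val : closedPoints X → X) ⁻¹' U ⊆ Subtype.val ⁻¹' V) : U ⊆ V := by
  by_contra hne
  rw [Set.not_subset] at hne
  obtain ⟨a, haU, haV⟩ := hne
  obtain ⟨y, ⟨hyU, hyV⟩, hy⟩ := nonempty_inter_closedPoints (Z := U ∩ Vᶜ) ⟨a, haU, haV⟩
    (hU.isLocallyClosed.inter hV.isClosed_compl.isLocallyClosed)
  exact hyV (h (show (⟨y, hy⟩ : closedPoints X) ∈ Subtype.val ⁻¹' U from hyU))

theorem isCompact_iff_preimage_closedPoints {U : Set X} (hU : IsOpen U) :
    IsCompact U ↔ IsCompact ((Subtype.val : closedPoints X → X) ⁻¹' U) := by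
  constructor
  · intro hc
    rw [isCompact_iff_finite_subcover]
    intro ι W hWo hcov
    choose W' hW'o hW' using fun i => isOpen_induced_iff.mp (hWo i)
    have hUsub : U ⊆ ⋃ i, W' i := by
      apply subset_of_preimage_closedPoints_subset_of_isOpen hU (isOpen_iUnion hW'o)
      rw [preimage_iUnion]
      simp_rw [hW']
      exact hcov
    obtain ⟨t, ht⟩ := hc.elim_finite_subcover W' hW'o hUsub
    refine ⟨t, ?_⟩
    have := preimage_mono (f := (Subtype.val : closedPoints X → X)) ht
    rw [preimage_iUnion₂] at this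
    simp_rw [hW'] at this
    exact this
  · intro hc
    rw [isCompact_iff_finite_subcover]
    intro ι W hWo hcov
    obtain ⟨t, ht⟩ := hc.elim_finite_subcover
      (fun i => (Subtype.val : closedPoints X → X) ⁻¹' W i)
      (fun i => (hWo i).preimage continuous_subtype_val)
      (by rw [← preimage_iUnion]; exact preimage_mono hcov)
    refine ⟨t, ?_⟩
    apply subset_of_preimage_closedPoints_subset_of_isOpen hU
      (isOpen_iUnion fun i => isOpen_iUnion fun _ => hWo i)
    rw [preimage_iUnion₂]; exact ht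

theorem isRetrocompact_iff_preimage_closedPoints {U : Set X} (hU : IsOpen U) :
    IsRetrocompact U ↔ IsRetrocompact ((Subtype.val : closedPoints X → X) ⁻¹' U) := by
  constructor
  · intro hr W₀ hW₀c hW₀o
    obtain ⟨W, hWo, rfl⟩ := isOpen_induced_iff.mp hW₀o
    have hWc : IsCompact W := (isCompact_iff_preimage_closedPoints hWo).mpr hW₀c
    rw [← preimage_inter]
    exact (isCompact_iff_preimage_closedPoints (hU.inter hWo)).mp (hr hWc hWo)
  · intro hr W hWc hWo
    rw [isCompact_iff_preimage_closedPoints (hU.inter hWo), preimage_inter]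
    exact hr ((isCompact_iff_preimage_closedPoints hWo).mp hWc)
      (hWo.preimage continuous_subtype_val)

theorem isConstructible_preimage_closedPoints {E : Set X} (hE : IsConstructible E) :
    IsConstructible ((Subtype.val : closedPoints X → X) ⁻¹' E) :=
  hE.preimage continuous_subtype_val fun _ hs hsr =>
    (isRetrocompact_iff_preimage_closedPoints hs).mp hsr

theorem exists_isConstructible_preimage_closedPoints_eq {F : Set (closedPoints X)}
    (hF : IsConstructible F) :
    ∃ E : Set X, IsConstructible E ∧ (Subtype.val : closedPoints X → X) ⁻¹' E = F := by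
  induction hF using IsConstructible.empty_union_induction with
  | open_retrocompact W₀ hWo hWr =>
    obtain ⟨W, hW, rfl⟩ := isOpen_induced_iff.mp hWo
    exact ⟨W, ((isRetrocompact_iff_preimage_closedPoints hW).mpr hWr).isConstructible hW, rfl⟩
  | union s hs t ht hs' ht' =>
    obtain ⟨E₁, h1, rfl⟩ := hs'
    obtain ⟨E₂, h2, rfl⟩ := ht'
    exact ⟨E₁ ∪ E₂, h1.union h2, preimage_union⟩
  | compl s hs hs' =>
    obtain ⟨E, h, rfl⟩ := hs'
    exact ⟨Eᶜ, h.compl, preimage_compl⟩

end Jac

/-- Quotient of a `T0` space by an equivalence relation with finite classes, with open quotient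
map, is `T0`. -/
theorem t0Space_of_quotient {R U X : Type u}
    [TopologicalSpace U] [TopologicalSpace X] [T0Space U]
    (s t : R → U) (π : U → X) (hπo : IsOpenMap π) (htf : ∀ u, (t ⁻¹' {u}).Finite)
    (hπs : Function.Surjective π) (hπq : ∀ u u' : U, π u = π u' ↔ ∃ r, t r = u ∧ s r = u') :
    T0Space X := by
  have hfib : ∀ x : X, (π ⁻¹' {x}).Finite := by
    intro x
    obtain ⟨u, rfl⟩ := hπs x
    refine ((htf u).image s).subset ?_
    intro u' hu'
    obtain ⟨r, hr1, hr2⟩ := (hπq u u').mp (Eq.symm hu')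
    exact ⟨r, hr1, hr2⟩
  have hlift : ∀ (x x' : X) (u' : U), x ⤳ x' → π u' = x' → ∃ u, π u = x ∧ u ⤳ u' := by
    intro x x' u' hxx' hu'
    have hmem : u' ∈ closure (π ⁻¹' {x}) := by
      rw [mem_closure_iff]
      intro N hN hu'N
      have : x ∈ π '' N := hxx'.mem_open (hπo N hN) ⟨u', hu'N, hu'⟩
      obtain ⟨u, huN, hu⟩ := this
      exact ⟨u, huN, hu⟩
    have hcl : closure (π ⁻¹' {x}) = ⋃ u ∈ π ⁻¹' {x}, closure {u} := by
      conv_lhs => rw [← Set.biUnion_of_singleton (π ⁻¹' {x})]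
      exact (hfib x).closure_biUnion _
    rw [hcl] at hmem
    obtain ⟨u, hu, hu'⟩ := Set.mem_iUnion₂.mp hmem
    exact ⟨u, hu, specializes_iff_mem_closure.mpr hu'⟩
  rw [t0Space_iff_inseparable]
  intro x y hxy
  rw [inseparable_iff_specializes_and] at hxy
  obtain ⟨hxy, hyx⟩ := hxy
  letI := specializationPreorder U
  have hFfin : (π ⁻¹' {x} ∪ π ⁻¹' {y}).Finite := (hfib x).union (hfib y)
  obtain ⟨u₀, hu₀⟩ := hπs x
  obtain ⟨m, hmF, hmax⟩ := hFfin.exists_maximal ⟨u₀, Or.inl hu₀⟩
  rcases hmF with hm | hm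
  · obtain ⟨u, hu, hum⟩ := hlift y x m hyx hm
    have h2 : m ⤳ u := hmax (Or.inr hu) hum
    have hum' : u = m := (inseparable_iff_specializes_and.mpr ⟨hum, h2⟩).eq
    have hm' : π m = x := hm
    rw [← hm', ← hu, hum']
  · obtain ⟨u, hu, hum⟩ := hlift x y m hxy hm
    have h2 : m ⤳ u := hmax (Or.inl hu) hum
    have hum' : u = m := (inseparable_iff_specializes_and.mpr ⟨hum, h2⟩).eq
    have hm' : π m = y := hm
    rw [← hm', ← hu, hum']

end Groth.Agent.H38
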