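import Groth.Agent.S9799
import Mathlib.AlgebraicGeometry.Noetherian

/-!
# A connected normal locally Noetherian scheme is irreducible
-/

set_option autoImplicit false
universe u
open CategoryTheory CategoryTheory.Limits AlgebraicGeometry

namespace Groth.Agent.H38.NormalConn

theorem irreducibleSpace_of_normal_connected (Y : Scheme.{u}) [IsLocallyNoetherian Y]
    [ConnectedSpace Y] (hN : Pi1.IsNormalScheme Y) : IrreducibleSpace Y := by
  have hfin : ∀ U : Y.Opens, IsCompact (U : Set Y) → (irreducibleComponents ↥U).Finite := by
    intro U hU
    have h1 : CompactSpace ↥U := isCompact_iff_compactSpace.mp hU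
    have h2 : CompactSpace ↥(U : Scheme) := h1
    have h3 : IsNoetherian (U : Scheme) := { }
    exact finite_irreducibleComponents_of_isNoetherian (X := (U : Scheme))
  obtain ⟨hopen, -⟩ := Groth.Agent.S9799.result Y hfin hN
  obtain ⟨y⟩ : Nonempty Y := inferInstance
  have hZ := irreducibleComponent_mem_irreducibleComponents y
  have hclopen : IsClopen (irreducibleComponent y) :=
    ⟨isClosed_irreducibleComponent, hopen _ hZ⟩
  have huniv : irreducibleComponent y = Set.univ :=
    hclopen.eq_univ ⟨y, mem_irreducibleComponent⟩
  have : IsIrreducible (Set.univ : Set Y) := huniv ▸ isIrreducible_irreducibleComponent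
  exact (irreducibleSpace_def Y).mpr this

end Groth.Agent.H38.NormalConn
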