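import Mathlib
import Groth.Prelude.Def_HTop

/-!
# Finite-surjective refinements of a family of morphisms (towards "fppf coverings are ph coverings")
-/

set_option autoImplicit false
universe w u

open CategoryTheory CategoryTheory.Limits AlgebraicGeometry Opposite

namespace Groth.Agent.H38.PhGood

variable {T : Scheme.{u}} (E : PreZeroHypercover.{w} T)

/-- `g : Z ⟶ T` factors through some member of `E`. -/
def Ref {Z : Scheme.{u}} (g : Z ⟶ T) : Prop :=
  ∃ (i : E.I₀) (h : Z ⟶ E.X i), h ≫ E.f i = g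

variable {E}

theorem Ref.precomp {Z Z' : Scheme.{u}} (u : Z' ⟶ Z) {g : Z ⟶ T} (h : Ref E g) : Ref E (u ≫ g) := by
  obtain ⟨i, k, hk⟩ := h
  exact ⟨i, u ≫ k, by rw [Category.assoc, hk]⟩

variable (E)

/-- `g : Y ⟶ T` admits a finite surjective `P ⟶ Y` with a finite cover of `P` by affine open
pieces each of which factors through a member of `E`. -/
def Good {Y : Scheme.{u}} (g : Y ⟶ T) : Prop :=
  ∃ (P : Scheme.{u}) (f : P ⟶ Y), IsFinite f ∧ Surjective f ∧
    ∃ (ι : Type) (_ : Finite ι) (X : ι → Scheme.{u}) (j : ∀ k, X k ⟶ P),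
      (∀ k, IsAffine (X k)) ∧ (∀ k, IsOpenImmersion (j k)) ∧
      (∀ x : P, ∃ k, x ∈ Set.range (j k)) ∧ ∀ k, Ref E (j k ≫ f ≫ g)

variable {E}

theorem good_of_ref {Y : Scheme.{u}} [IsAffine Y] {g : Y ⟶ T} (h : Ref E g) : Good E g := by
  refine ⟨Y, 𝟙 Y, inferInstance, inferInstance, Unit, inferInstance, fun _ => Y, fun _ => 𝟙 Y,
    fun _ => inferInstance, fun _ => inferInstance, fun x => ⟨(), x, rfl⟩, fun _ => ?_⟩
  simpa using h

theorem good_of_finite {P Y : Scheme.{u}} (f : P ⟶ Y) [IsFinite f] [Surjective f] {g : Y ⟶ T}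
    (h : Good E (f ≫ g)) : Good E g := by
  obtain ⟨P', f', hf', hs', ι, hι, X, j, hX, hj, hcov, href⟩ := h
  refine ⟨P', f' ≫ f, inferInstance, inferInstance, ι, hι, X, j, hX, hj, hcov, fun k => ?_⟩
  simpa [Category.assoc] using href k

/-- A finite family of finite surjective morphisms to `Y` is dominated by a single one. -/
theorem exists_common {Y : Scheme.{u}} {J : Type} [Finite J] (Q : J → Scheme.{u})
    (q : ∀ j, Q j ⟶ Y) (hfin : ∀ j, IsFinite (q j)) (hsurj : ∀ j, Surjective (q j)) :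
    ∃ (R : Scheme.{u}) (r : R ⟶ Y), IsFinite r ∧ Surjective r ∧
      ∀ j, ∃ p : R ⟶ Q j, p ≫ q j = r := by
  classical
  haveI := Fintype.ofFinite J
  have key : ∀ S : Finset J, ∃ (R : Scheme.{u}) (r : R ⟶ Y), IsFinite r ∧ Surjective r ∧
      ∀ j ∈ S, ∃ p : R ⟶ Q j, p ≫ q j = r := by
    intro S
    induction S using Finset.induction_on with
    | empty => exact ⟨Y, 𝟙 Y, inferInstance, inferInstance, fun j hj => by simp at hj⟩
    | insert j₀ S hj₀ ih =>
      obtain ⟨R, r, hr, hs, hp⟩ := ih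
      haveI := hfin j₀
      haveI := hsurj j₀
      refine ⟨pullback r (q j₀), pullback.fst r (q j₀) ≫ r, inferInstance, inferInstance, ?_⟩
      intro j hj
      rcases Finset.mem_insert.mp hj with rfl | hj
      · exact ⟨pullback.snd r (q j), pullback.condition.symm⟩
      · obtain ⟨p, hp⟩ := hp j hj
        exact ⟨pullback.fst r (q j₀) ≫ p, by rw [Category.assoc, hp]⟩
  obtain ⟨R, r, hr, hs, hp⟩ := key Finset.univ
  exact ⟨R, r, hr, hs, fun j => hp j (Finset.mem_univ j)⟩

end Groth.Agent.H38.PhGood
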