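import Mathlib
import Groth.Agent.H38.PhGood

/-!
# Gluing finite-surjective refinements along a basic open cover of an affine scheme
(assuming the extension statement `Ext`)
-/

set_option autoImplicit false
universe w u

open CategoryTheory CategoryTheory.Limits AlgebraicGeometry Opposite

namespace Groth.Agent.H38.PhGood

variable {T : Scheme.{u}} {E : PreZeroHypercover.{w} T}

/-- The extension statement: a finite surjective morphism to a basic open of an affine scheme
extends to a finite surjective morphism to the whole scheme. -/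
def Ext : Prop :=
  ∀ {Y : Scheme.{u}} [IsAffine Y] (a : Γ(Y, ⊤)) {Pa : Scheme.{u}}
    (fa : Pa ⟶ (Y.basicOpen a).toScheme) [IsFinite fa] [Surjective fa],
    ∃ (Q : Scheme.{u}) (q : Q ⟶ Y), IsFinite q ∧ Surjective q ∧
      ∃ t : pullback q (Y.basicOpen a).ι ⟶ Pa, t ≫ fa = pullback.snd q (Y.basicOpen a).ι

theorem good_of_basicOpen_cover (hExt : Ext.{u}) {Y : Scheme.{u}} [IsAffine Y] (g : Y ⟶ T)
    {J : Type} [Finite J] (a : J → Γ(Y, ⊤)) (hcov : ∀ y : Y, ∃ j, y ∈ Y.basicOpen (a j))
    (hG : ∀ j, Good E ((Y.basicOpen (a j)).ι ≫ g)) : Good E g := by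
  choose P f hfin hsurj ι hι X jj hXaff hjopen hjcov hjref using hG
  have hExt' : ∀ j, ∃ (Q : Scheme.{u}) (q : Q ⟶ Y), IsFinite q ∧ Surjective q ∧
      ∃ t : pullback q (Y.basicOpen (a j)).ι ⟶ P j,
        t ≫ f j = pullback.snd q (Y.basicOpen (a j)).ι := fun j => by
    haveI := hfin j
    haveI := hsurj j
    exact hExt (a j) (f j)
  choose Q q hqfin hqsurj t ht using hExt'
  obtain ⟨R, r, hrfin, hrsurj, hp⟩ := exists_common Q q hqfin hqsurj
  choose p hp using hp
  haveI := hrfin
  haveI : IsAffine R := isAffine_of_isAffineHom r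
  have hQaff : ∀ j, IsAffine (Q j) := fun j => by
    haveI := hqfin j
    exact isAffine_of_isAffineHom (q j)
  have hPaff : ∀ j, IsAffine (P j) := fun j => by
    haveI := hfin j
    haveI : IsAffine (Y.basicOpen (a j)).toScheme := (isAffineOpen_top Y).basicOpen (a j)
    exact isAffine_of_isAffineHom (f j)
  -- the open pieces
  let Z : ∀ j, Scheme.{u} := fun j => pullback (q j) (Y.basicOpen (a j)).ι
  have hZaff : ∀ j, IsAffine (Z j) := fun j => by
    haveI := hqfin j
    haveI : IsAffine (Y.basicOpen (a j)).toScheme := (isAffineOpen_top Y).basicOpen (a j)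
    exact inferInstanceAs (IsAffine (pullback (q j) (Y.basicOpen (a j)).ι))
  refine ⟨R, r, hrfin, hrsurj, Σ j, ι j, ?_, ?_⟩
  · haveI := hι
    infer_instance
  let X1 : ∀ (jk : Σ j, ι j), Scheme.{u} := fun jk => pullback (t jk.1) (jj jk.1 jk.2)
  let u1 : ∀ (jk : Σ j, ι j), X1 jk ⟶ Q jk.1 := fun jk =>
    pullback.fst (t jk.1) (jj jk.1 jk.2) ≫ pullback.fst (q jk.1) (Y.basicOpen (a jk.1)).ι
  have hu1 : ∀ jk, IsOpenImmersion (u1 jk) := fun jk => by
    haveI := hjopen jk.1 jk.2
    exact inferInstanceAs (IsOpenImmersion (pullback.fst (t jk.1) (jj jk.1 jk.2) ≫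
      pullback.fst (q jk.1) (Y.basicOpen (a jk.1)).ι))
  have hX1aff : ∀ jk, IsAffine (X1 jk) := fun jk => by
    haveI := hZaff jk.1
    haveI := hPaff jk.1
    haveI := hXaff jk.1 jk.2
    exact inferInstanceAs (IsAffine (pullback (t jk.1) (jj jk.1 jk.2)))
  refine ⟨fun jk => pullback (p jk.1) (u1 jk), fun jk => pullback.fst (p jk.1) (u1 jk), ?_, ?_, ?_, ?_⟩
  · intro jk
    haveI := hQaff jk.1
    haveI := hX1aff jk
    exact inferInstanceAs (IsAffine (pullback (p jk.1) (u1 jk)))
  · intro jk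
    haveI := hu1 jk
    infer_instance
  · intro x
    obtain ⟨j, hj⟩ := hcov (r x)
    -- `p j x` lies over the basic open
    have h1 : p j x ∈ Set.range (pullback.fst (q j) (Y.basicOpen (a j)).ι) := by
      rw [Scheme.Pullback.range_fst]
      refine ⟨⟨r x, hj⟩, ?_⟩
      have := congrArg (fun φ => φ.base x) (hp j)
      simpa using this.symm
    obtain ⟨z, hz⟩ := h1
    obtain ⟨k, hk⟩ := hjcov j (t j z)
    have h2 : z ∈ Set.range (pullback.fst (t j) (jj j k)) := by
      rw [Scheme.Pullback.range_fst]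
      exact hk
    obtain ⟨w', hw'⟩ := h2
    refine ⟨⟨j, k⟩, ?_⟩
    rw [Scheme.Pullback.range_fst]
    refine ⟨w', ?_⟩
    change (pullback.fst (t j) (jj j k) ≫ pullback.fst (q j) (Y.basicOpen (a j)).ι) w' = p j x
    rw [Scheme.Hom.comp_apply, hw', hz]
  · intro jk
    obtain ⟨j, k⟩ := jk
    have e : pullback.fst (p j) (u1 ⟨j, k⟩) ≫ r ≫ g =
        (pullback.snd (p j) (u1 ⟨j, k⟩) ≫ pullback.snd (t j) (jj j k)) ≫
          (jj j k ≫ f j ≫ (Y.basicOpen (a j)).ι ≫ g) := by
      have c1 : pullback.fst (p j) (u1 ⟨j, k⟩) ≫ p j = pullback.snd (p j) (u1 ⟨j, k⟩) ≫ u1 ⟨j, k⟩ :=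
        pullback.condition
      have c2 : pullback.fst (t j) (jj j k) ≫ t j = pullback.snd (t j) (jj j k) ≫ jj j k :=
        pullback.condition
      have c3 : pullback.fst (q j) (Y.basicOpen (a j)).ι ≫ q j =
          pullback.snd (q j) (Y.basicOpen (a j)).ι ≫ (Y.basicOpen (a j)).ι := pullback.condition
      calc pullback.fst (p j) (u1 ⟨j, k⟩) ≫ r ≫ g
          = (pullback.fst (p j) (u1 ⟨j, k⟩) ≫ p j) ≫ q j ≫ g := by
            rw [← hp j]; simp only [Category.assoc]
        _ = pullback.snd (p j) (u1 ⟨j, k⟩) ≫ pullback.fst (t j) (jj j k) ≫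
              (pullback.fst (q j) (Y.basicOpen (a j)).ι ≫ q j) ≫ g := by
            rw [c1]; simp only [u1, Category.assoc]
        _ = pullback.snd (p j) (u1 ⟨j, k⟩) ≫ (pullback.fst (t j) (jj j k) ≫ t j) ≫ f j ≫
              (Y.basicOpen (a j)).ι ≫ g := by
            rw [c3, ← ht j]; simp only [Category.assoc]
        _ = _ := by
            rw [c2]; simp only [Category.assoc]
    rw [e]
    exact (hjref j k).precomp _

end Groth.Agent.H38.PhGood
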