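import Mathlib
import Groth.Agent.H38.PhGlue
import Groth.Agent.H58.ExtFinite

/-!
# Extension of finite surjective morphisms from a basic open of an affine scheme
-/

set_option autoImplicit false
universe w u

open CategoryTheory CategoryTheory.Limits AlgebraicGeometry Opposite

namespace Groth.Agent.H38.PhGood

theorem ext_holds : Ext.{u} := by
  intro Y _ a Pa fa _ _
  haveI hDaff : IsAffine (Y.basicOpen a).toScheme := (isAffineOpen_top Y).basicOpen a
  haveI : IsAffine Pa := isAffine_of_isAffineHom fa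
  -- ring data
  let ρ : Γ(Y, ⊤) →+* Γ(Y, Y.basicOpen a) := algebraMap Γ(Y, ⊤) Γ(Y, Y.basicOpen a)
  let ψ : Γ(Y, Y.basicOpen a) →+* Γ(Pa, ⊤) := ((Y.basicOpen a).topIso.inv ≫ fa.appTop).hom
  have hψρ : CommRingCat.ofHom (ψ.comp ρ) = (fa ≫ (Y.basicOpen a).ι).appTop := by
    rw [Scheme.Hom.comp_appTop]
    have key : CommRingCat.ofHom ρ ≫ (Y.basicOpen a).topIso.inv = (Y.basicOpen a).ι.appTop := by
      rw [Scheme.Opens.ι_appTop, Scheme.Opens.topIso_inv]
      change Y.presheaf.map _ ≫ Y.presheaf.map _ = _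
      exact (Y.presheaf.map_comp _ _).symm
    rw [← key]
    rfl
  have h1 : IsUnit (ρ a) := IsLocalization.Away.algebraMap_isUnit a
  have h2 : ∀ x : Γ(Y, Y.basicOpen a), ∃ (n : ℕ) (b : Γ(Y, ⊤)), ρ a ^ n * x = ρ b := by
    intro x
    obtain ⟨n, b, hb⟩ := IsLocalization.Away.surj a x
    exact ⟨n, b, by rw [mul_comm]; exact hb⟩
  have hfin : ψ.Finite := by
    have e1 : ((Y.basicOpen a).topIso.inv).hom.Finite :=
      RingHom.Finite.of_surjective _
        ((ConcreteCategory.bijective_of_isIso ((Y.basicOpen a).topIso.inv)).2)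
    have e2 : fa.appTop.hom.Finite := Scheme.Hom.finite_appTop fa
    exact e2.comp e1
  have h3 : ∀ p : PrimeSpectrum Γ(Y, ⊤), a ∉ p.asIdeal →
      p ∈ Set.range (PrimeSpectrum.comap (ψ.comp ρ)) := by
    intro p hp
    have hy : Y.isoSpec.inv p ∈ Y.basicOpen a := by
      rw [← Scheme.toSpecΓ_preimage_basicOpen]
      change Y.toSpecΓ (Y.isoSpec.inv p) ∈ PrimeSpectrum.basicOpen a
      have : Y.toSpecΓ (Y.isoSpec.inv p) = p := by
        change (Y.isoSpec.inv ≫ Y.isoSpec.hom) p = p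
        rw [Iso.inv_hom_id]; rfl
      rw [this]
      exact hp
    obtain ⟨z, hz⟩ := fa.surjective ⟨Y.isoSpec.inv p, hy⟩
    refine ⟨Pa.isoSpec.hom z, ?_⟩
    have nat := Scheme.isoSpec_hom_naturality (fa ≫ (Y.basicOpen a).ι)
    have := congrArg (fun φ => φ.base z) nat
    simp only [Scheme.Hom.comp_base, TopCat.hom_comp, ContinuousMap.comp_apply] at this
    rw [← hψρ] at this
    have hz' : (Y.basicOpen a).ι (fa z) = Y.isoSpec.inv p := by rw [hz]; rfl
    change (Spec.map (CommRingCat.ofHom (ψ.comp ρ))) (Pa.isoSpec.hom z) = p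
    rw [this, hz']
    change (Y.isoSpec.inv ≫ Y.isoSpec.hom) p = p
    rw [Iso.inv_hom_id]; rfl
  obtain ⟨Q', _, χ, τ, hχfin, hχsurj, hτ⟩ :=
    Groth.Agent.H58.ExtFinite.ext_finite ρ ψ a h1 h2 h3 hfin
  -- the scheme
  let q : Spec (CommRingCat.of Q') ⟶ Y := Spec.map (CommRingCat.ofHom χ) ≫ Y.isoSpec.inv
  have hqfin : IsFinite q := by
    haveI : IsFinite (Spec.map (CommRingCat.ofHom χ)) := by
      rw [IsFinite.SpecMap_iff]
      exact hχfin
    exact inferInstanceAs (IsFinite (Spec.map (CommRingCat.ofHom χ) ≫ Y.isoSpec.inv))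
  have hqsurj : Surjective q := by
    refine ⟨?_⟩
    intro y
    obtain ⟨x, hx⟩ := hχsurj (Y.isoSpec.hom y)
    refine ⟨x, ?_⟩
    change Y.isoSpec.inv ((Spec.map (CommRingCat.ofHom χ)) x) = y
    have : (Spec.map (CommRingCat.ofHom χ)) x = Y.isoSpec.hom y := hx
    rw [this]
    change (Y.isoSpec.hom ≫ Y.isoSpec.inv) y = y
    rw [Iso.hom_inv_id]; rfl
  refine ⟨Spec (CommRingCat.of Q'), q, hqfin, hqsurj, ?_⟩
  let loc : CommRingCat.of Q' ⟶ CommRingCat.of (Localization.Away (χ a)) :=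
    CommRingCat.ofHom (algebraMap Q' (Localization.Away (χ a)))
  have hrange : Set.range (pullback.fst q (Y.basicOpen a).ι) = Set.range (Spec.map loc) := by
    rw [Scheme.Pullback.range_fst, Scheme.Opens.range_ι]
    have h2 : Set.range (Spec.map loc) = (PrimeSpectrum.basicOpen (χ a) : Set (PrimeSpectrum Q')) :=
      PrimeSpectrum.localization_away_comap_range (Localization.Away (χ a)) (χ a)
    rw [h2]
    ext x
    change Y.isoSpec.inv ((Spec.map (CommRingCat.ofHom χ)) x) ∈ Y.basicOpen a ↔ _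
    rw [← Scheme.toSpecΓ_preimage_basicOpen]
    change Y.toSpecΓ (Y.isoSpec.inv ((Spec.map (CommRingCat.ofHom χ)) x)) ∈
      PrimeSpectrum.basicOpen a ↔ _
    have : Y.toSpecΓ (Y.isoSpec.inv ((Spec.map (CommRingCat.ofHom χ)) x)) =
        (Spec.map (CommRingCat.ofHom χ)) x := by
      change (Y.isoSpec.inv ≫ Y.isoSpec.hom) _ = _
      rw [Iso.inv_hom_id]; rfl
    rw [this]
    rfl
  let e := IsOpenImmersion.isoOfRangeEq (pullback.fst q (Y.basicOpen a).ι) (Spec.map loc) hrange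
  have he : e.hom ≫ Spec.map loc = pullback.fst q (Y.basicOpen a).ι :=
    IsOpenImmersion.isoOfRangeEq_hom_fac _ _ hrange
  refine ⟨e.hom ≫ Spec.map (CommRingCat.ofHom τ) ≫ Pa.isoSpec.inv, ?_⟩
  rw [← cancel_mono (Y.basicOpen a).ι, ← pullback.condition]
  have nat := Scheme.isoSpec_inv_naturality (fa ≫ (Y.basicOpen a).ι)
  have hring : (fa ≫ (Y.basicOpen a).ι).appTop ≫ CommRingCat.ofHom τ =
      CommRingCat.ofHom χ ≫ loc := by
    rw [← hψρ]
    ext x
    exact congrArg (fun φ => φ x) hτ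
  calc (e.hom ≫ Spec.map (CommRingCat.ofHom τ) ≫ Pa.isoSpec.inv ≫ fa) ≫ (Y.basicOpen a).ι
      = e.hom ≫ Spec.map (CommRingCat.ofHom τ) ≫ (Pa.isoSpec.inv ≫ fa ≫ (Y.basicOpen a).ι) := by
        simp only [Category.assoc]
    _ = e.hom ≫ Spec.map (CommRingCat.ofHom τ) ≫
          (Spec.map (fa ≫ (Y.basicOpen a).ι).appTop ≫ Y.isoSpec.inv) := by rw [nat]
    _ = e.hom ≫ Spec.map ((fa ≫ (Y.basicOpen a).ι).appTop ≫ CommRingCat.ofHom τ) ≫
          Y.isoSpec.inv := by
        rw [Spec.map_comp]; simp only [Category.assoc]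
    _ = (e.hom ≫ Spec.map loc) ≫ Spec.map (CommRingCat.ofHom χ) ≫ Y.isoSpec.inv := by
        rw [hring, Spec.map_comp]; simp only [Category.assoc]
    _ = pullback.fst q (Y.basicOpen a).ι ≫ q := by rw [he]

end Groth.Agent.H38.PhGood
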