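import Mathlib
import Groth.Agent.H38.PhExt

/-!
# From towers of finite surjective covers to ph coverings
-/

set_option autoImplicit false
universe w u

open CategoryTheory CategoryTheory.Limits AlgebraicGeometry Opposite

namespace Groth.Agent.H38.PhGood

variable {T : Scheme.{u}} {E : PreZeroHypercover.{w} T}

theorem good_of_forall_exists_basicOpen {Y : Scheme.{u}} [IsAffine Y] (g : Y ⟶ T)
    (h : ∀ y : Y, ∃ a : Γ(Y, ⊤), y ∈ Y.basicOpen a ∧ Good E ((Y.basicOpen a).ι ≫ g)) :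
    Good E g := by
  classical
  choose a ha hG using h
  obtain ⟨t, ht⟩ := isCompact_univ.elim_finite_subcover
    (fun y : Y => ((Y.basicOpen (a y) : Y.Opens) : Set Y))
    (fun y => (Y.basicOpen (a y)).isOpen) (fun y _ => Set.mem_iUnion.mpr ⟨y, ha y⟩)
  let e := t.equivFin
  refine good_of_basicOpen_cover ext_holds g (J := Fin t.card) (fun k => a (e.symm k).1) ?_
    (fun k => hG _)
  intro y
  obtain ⟨y', hy't, hy'⟩ : ∃ y' ∈ t, y ∈ Y.basicOpen (a y') := by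
    simpa using ht (Set.mem_univ y)
  exact ⟨e ⟨y', hy't⟩, by simpa using hy'⟩

/-- The tower hypothesis (Zariski ∘ finite surjective ∘ Zariski ∘ finite surjective refinement). -/
def Tower (E : PreZeroHypercover.{w} T) : Prop :=
  ∀ s : T, ∃ (U : T.Opens) (W : Scheme.{u}) (π : W ⟶ U.toScheme), s ∈ U ∧ IsFinite π ∧
    Surjective π ∧ ∀ w : W, ∃ (W' : W.Opens) (T' : Scheme.{u}) (ρ : T' ⟶ W'.toScheme) (i : E.I₀)
      (r : T' ⟶ E.X i), w ∈ W' ∧ IsFinite ρ ∧ Surjective ρ ∧ r ≫ E.f i = ρ ≫ W'.ι ≫ π ≫ U.ι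

theorem good_of_tower (tower : Tower E) {Y : Scheme.{u}} [IsAffine Y] (g : Y ⟶ T) : Good E g := by
  apply good_of_forall_exists_basicOpen
  intro y
  obtain ⟨U, W, π, hsU, hπfin, hπsurj, hW⟩ := tower (g y)
  obtain ⟨_, ⟨_, ⟨a, rfl⟩, rfl⟩, hya, haU⟩ := (isBasis_basicOpen Y).exists_subset_of_mem_open
    (show y ∈ ((g ⁻¹ᵁ U : Y.Opens) : Set Y) from hsU) (g ⁻¹ᵁ U).isOpen
  refine ⟨a, hya, ?_⟩
  have hrange : Set.range ((Y.basicOpen a).ι ≫ g) ⊆ Set.range U.ι := by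
    rintro _ ⟨x, rfl⟩
    rw [Scheme.Opens.range_ι]
    exact haU x.2
  let γ : (Y.basicOpen a).toScheme ⟶ U.toScheme :=
    IsOpenImmersion.lift U.ι ((Y.basicOpen a).ι ≫ g) hrange
  have hγ : γ ≫ U.ι = (Y.basicOpen a).ι ≫ g := IsOpenImmersion.lift_fac _ _ _
  haveI := hπfin
  haveI := hπsurj
  haveI : IsAffine (Y.basicOpen a).toScheme := (isAffineOpen_top Y).basicOpen a
  haveI : IsAffine (pullback π γ) := isAffine_of_isAffineHom (pullback.snd π γ)
  apply good_of_finite (pullback.snd π γ)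
  apply good_of_forall_exists_basicOpen
  intro w
  obtain ⟨W', T', ρ, i, r, hwW', hρfin, hρsurj, hr⟩ := hW ((pullback.fst π γ) w)
  obtain ⟨_, ⟨_, ⟨b, rfl⟩, rfl⟩, hwb, hbW'⟩ := (isBasis_basicOpen (pullback π γ)).exists_subset_of_mem_open
    (show w ∈ (((pullback.fst π γ) ⁻¹ᵁ W' : (pullback π γ).Opens) : Set ↥(pullback π γ)) from hwW')
    ((pullback.fst π γ) ⁻¹ᵁ W').isOpen
  refine ⟨b, hwb, ?_⟩
  have hrange' : Set.range (((pullback π γ).basicOpen b).ι ≫ pullback.fst π γ) ⊆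
      Set.range W'.ι := by
    rintro _ ⟨x, rfl⟩
    rw [Scheme.Opens.range_ι]
    exact hbW' x.2
  let δ : ((pullback π γ).basicOpen b).toScheme ⟶ W'.toScheme :=
    IsOpenImmersion.lift W'.ι (((pullback π γ).basicOpen b).ι ≫ pullback.fst π γ) hrange'
  have hδ : δ ≫ W'.ι = ((pullback π γ).basicOpen b).ι ≫ pullback.fst π γ :=
    IsOpenImmersion.lift_fac _ _ _
  haveI := hρfin
  haveI := hρsurj
  haveI : IsAffine ((pullback π γ).basicOpen b).toScheme :=
    (isAffineOpen_top (pullback π γ)).basicOpen b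
  haveI : IsAffine (pullback ρ δ) := isAffine_of_isAffineHom (pullback.snd ρ δ)
  apply good_of_finite (pullback.snd ρ δ)
  apply good_of_ref
  refine ⟨i, pullback.fst ρ δ ≫ r, ?_⟩
  have c1 : pullback.fst ρ δ ≫ ρ = pullback.snd ρ δ ≫ δ := pullback.condition
  have c2 : pullback.fst π γ ≫ π = pullback.snd π γ ≫ γ := pullback.condition
  calc (pullback.fst ρ δ ≫ r) ≫ E.f i
      = (pullback.fst ρ δ ≫ ρ) ≫ W'.ι ≫ π ≫ U.ι := by
        rw [Category.assoc, hr]; simp only [Category.assoc]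
    _ = pullback.snd ρ δ ≫ (δ ≫ W'.ι) ≫ π ≫ U.ι := by
        rw [c1]; simp only [Category.assoc]
    _ = pullback.snd ρ δ ≫ ((pullback π γ).basicOpen b).ι ≫ (pullback.fst π γ ≫ π) ≫ U.ι := by
        rw [hδ]; simp only [Category.assoc]
    _ = pullback.snd ρ δ ≫ ((pullback π γ).basicOpen b).ι ≫ pullback.snd π γ ≫ (γ ≫ U.ι) := by
        rw [c2]; simp only [Category.assoc]
    _ = _ := by rw [hγ]

theorem isPhCover_of_tower (hft : ∀ i, LocallyOfFiniteType (E.f i)) (tower : Tower E) :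
    HTop.IsPhCover E := by
  refine ⟨hft, fun U₀ => ?_⟩
  haveI : IsAffine (U₀ : T.Opens).toScheme := U₀.2
  obtain ⟨P, f, hf, hs, ι, hι, X, j, hX, hj, hcov, href⟩ :=
    good_of_tower tower (U₀ : T.Opens).ι
  haveI := hf
  refine ⟨{ I₀ := ι, X := X, f := fun k => j k ≫ f },
    ⟨U₀.2, hι, hX, ⟨P, f, j, inferInstance, hs, hj, fun _ => rfl, hcov⟩⟩, ?_⟩
  intro k
  obtain ⟨i, h, hh⟩ := href k
  exact ⟨i, h, by simpa [Category.assoc] using hh⟩

end Groth.Agent.H38.PhGood
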