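import Mathlib
import Groth.Prelude

/-!
# Reduced closed subschemes with full support
-/

set_option autoImplicit false
universe u
open CategoryTheory CategoryTheory.Limits AlgebraicGeometry

namespace Groth.Agent.H38.RedSub

/-- The closed subscheme defined by the nilradical is reduced. -/
theorem isReduced_nilradical_subscheme (X : Scheme.{u}) : IsReduced X.nilradical.subscheme := by
  rw [IsReduced.iff_of_openCover _ X.nilradical.subschemeCover.openCover]
  change ∀ U : X.affineOpens, IsReduced (Spec (.of <| Γ(X, U) ⧸ X.nilradical.ideal U))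
  intro U
  rw [affine_isReduced_iff]
  refine (Ideal.isRadical_iff_quotient_reduced _).mp ?_
  rw [Scheme.nilradical, Scheme.IdealSheafData.radical_ideal]
  exact Ideal.radical_isRadical _

theorem surjective_nilradical_subschemeι (X : Scheme.{u}) :
    Function.Surjective X.nilradical.subschemeι := by
  rw [← Set.range_eq_univ, Scheme.IdealSheafData.range_subschemeι]
  rfl

/-- Two reduced closed subschemes with full support are isomorphic. -/
theorem exists_iso_of_surjective_closedImmersion {Z Y' W : Scheme.{u}} (a : Z ⟶ W) (b : Y' ⟶ W)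
    [IsClosedImmersion a] [IsClosedImmersion b] [IsReduced Z] [IsReduced Y']
    (ha : Function.Surjective a) (hb : Function.Surjective b) :
    ∃ e : Z ≅ Y', e.hom ≫ b = a := by
  haveI : Surjective a := ⟨ha⟩
  haveI : Surjective b := ⟨hb⟩
  haveI : IsIso (pullback.fst a b) := isIso_of_isClosedImmersion_of_surjective _
  haveI : IsIso (pullback.snd a b) := isIso_of_isClosedImmersion_of_surjective _
  refine ⟨(asIso (pullback.fst a b)).symm ≪≫ asIso (pullback.snd a b), ?_⟩
  simp only [Iso.trans_hom, Iso.symm_hom, asIso_inv, asIso_hom, Category.assoc]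
  rw [← pullback.condition, IsIso.inv_hom_id_assoc]

/-- A reduced closed subscheme with full support of an open subscheme `W₀` of `W` is an open
subscheme of the reduction of `W`. -/
theorem exists_openImmersion_to_nilradical_subscheme {Z W₀ W : Scheme.{u}} (θ : W₀ ⟶ W)
    [IsOpenImmersion θ] (a : Z ⟶ W₀) [IsClosedImmersion a] [IsReduced Z]
    (ha : Function.Surjective a) :
    ∃ j : Z ⟶ W.nilradical.subscheme, IsOpenImmersion j ∧
      j ≫ W.nilradical.subschemeι = a ≫ θ ∧
      Set.range j = W.nilradical.subschemeι ⁻¹' (Set.range θ) := by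
  haveI : IsReduced W.nilradical.subscheme := isReduced_nilradical_subscheme W
  haveI : Surjective W.nilradical.subschemeι := ⟨surjective_nilradical_subschemeι W⟩
  haveI : IsReduced (pullback W.nilradical.subschemeι θ) :=
    isReduced_of_isOpenImmersion (pullback.fst W.nilradical.subschemeι θ)
  have hb : Function.Surjective (pullback.snd W.nilradical.subschemeι θ) :=
    (inferInstance : Surjective (pullback.snd W.nilradical.subschemeι θ)).surj
  obtain ⟨e, he⟩ := exists_iso_of_surjective_closedImmersion a
    (pullback.snd W.nilradical.subschemeι θ) ha hb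
  refine ⟨e.hom ≫ pullback.fst W.nilradical.subschemeι θ, inferInstance, ?_, ?_⟩
  · rw [Category.assoc, pullback.condition, ← Category.assoc, he]
  · rw [← Scheme.Pullback.range_fst]
    ext y
    constructor
    · rintro ⟨z, rfl⟩
      exact ⟨e.hom z, rfl⟩
    · rintro ⟨p, rfl⟩
      refine ⟨e.inv p, ?_⟩
      rw [← Scheme.Hom.comp_apply, Iso.inv_hom_id_assoc]

/-- A scheme with finitely many irreducible components has a dense quasi-compact open subset. -/
theorem exists_compact_dense_open (X : Scheme.{u})
    (hirr : (irreducibleComponents (X : Type u)).Finite) :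
    ∃ X₀ : X.Opens, IsCompact (X₀ : Set X) ∧ Dense (X₀ : Set X) := by
  classical
  have hex : ∀ Z : Set X, Z ∈ irreducibleComponents (X : Type u) →
      ∃ W : X.Opens, IsAffineOpen W ∧ (Z ∩ (W : Set X)).Nonempty := by
    intro Z hZ
    obtain ⟨x, hx⟩ := hZ.1.nonempty
    obtain ⟨_, ⟨W, hW, rfl⟩, hxW, -⟩ :=
      X.isBasis_affineOpens.exists_subset_of_mem_open (Set.mem_univ x) isOpen_univ
    exact ⟨W, hW, x, hx, hxW⟩
  choose! W hW hWne using hex
  refine ⟨⨆ Z ∈ hirr.toFinset, W Z, ?_, ?_⟩
  · have : ((⨆ Z ∈ hirr.toFinset, W Z : X.Opens) : Set X) =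
        ⋃ Z ∈ hirr.toFinset, (W Z : Set X) := by
      simp
    rw [this]
    exact hirr.toFinset.isCompact_biUnion
      (fun Z hZ => (hW Z (hirr.mem_toFinset.mp hZ)).isCompact)
  · intro x
    have hZ := irreducibleComponent_mem_irreducibleComponents x
    have h1 : irreducibleComponent x ⊆
        closure (irreducibleComponent x ∩ (W (irreducibleComponent x) : Set X)) :=
      subset_closure_inter_of_isPreirreducible_of_isOpen hZ.1.isPreirreducible
        (W (irreducibleComponent x)).2 (hWne _ hZ)
    refine closure_mono ?_ (h1 mem_irreducibleComponent)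
    intro y hy
    have : W (irreducibleComponent x) ≤ ⨆ Z ∈ hirr.toFinset, W Z :=
      le_iSup₂_of_le (irreducibleComponent x) (hirr.mem_toFinset.mpr hZ) le_rfl
    exact this hy.2

end Groth.Agent.H38.RedSub
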