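import Mathlib
import Groth.Prelude.Def_FDesc
import Groth.Prelude.Def_EGA43
import Groth.Agent.H38.SectionComp
import Groth.Agent.H38.UnivOpenAtDim
import Groth.Agent.H60.FibreDimBC
import Groth.Agent.H7.DVRFlat
import Groth.Agent.H9.FiberStalk

/-!
# Constancy of the dimension of the section components (EGA IV 15.6.6): auxiliary results
-/

set_option autoImplicit false
universe u
open CategoryTheory AlgebraicGeometry Limits

namespace Groth.Agent.H38.SectionConst

open Groth.Agent.H54 Groth.Agent.H38.SectionComp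

/-- A generization (inside `F`) of a point of `F` lies in its connected component in `F`. -/
theorem mem_connectedComponentIn_of_specializes {α : Type*} [TopologicalSpace α] (F : Set α)
    (w x : α) (hw : w ∈ F) (hx : x ∈ F) (h : w ⤳ x) : w ∈ connectedComponentIn F x := by
  rw [connectedComponentIn_eq_image hx]
  refine ⟨⟨w, hw⟩, ?_, rfl⟩
  have hsp : (⟨w, hw⟩ : ↥F) ⤳ ⟨x, hx⟩ := by
    exact (Topology.IsInducing.subtypeVal.specializes_iff (x := (⟨w, hw⟩ : ↥F))
      (y := ⟨x, hx⟩)).mp h
  have hpre : IsPreconnected (closure ({(⟨w, hw⟩ : ↥F)} : Set ↥F)) :=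
    isPreconnected_singleton.closure
  have hxin : (⟨x, hx⟩ : ↥F) ∈ closure ({(⟨w, hw⟩ : ↥F)} : Set ↥F) :=
    specializes_iff_mem_closure.mp hsp
  have hsub := hpre.subset_connectedComponent hxin
  exact hsub (subset_closure rfl)

variable {X Y : Scheme.{u}} (f : X ⟶ Y)

/-- Points of the base change of the fibre to a field extension exist over every point of the
fibre. -/
theorem exists_bc_point (y : Y) (K : Type u) [Field K]
    [Algebra (IsLocalRing.ResidueField (Y.presheaf.stalk y)) K] (x : X) (hx : f.base x = y) :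
    ∃ b : ↥(FBase.bc (f.fiberToSpecResidueField y) K),
      (FBase.bcπ (f.fiberToSpecResidueField y) K ≫ f.fiberι y).base b = x := by
  obtain ⟨a, rfl⟩ := exists_fiber_pt f y x hx
  let pt : ↥(Spec (CommRingCat.of K)) := (⊥ : PrimeSpectrum K)
  haveI : Subsingleton ↥(Spec (Y.residueField y)) :=
    inferInstanceAs (Subsingleton (PrimeSpectrum (Y.residueField y)))
  obtain ⟨b, hb, -⟩ := Scheme.Pullback.exists_preimage_pullback
    (f := f.fiberToSpecResidueField y)
    (g := Spec.map (CommRingCat.ofHom (algebraMap (IsLocalRing.ResidueField (Y.presheaf.stalk y)) K)))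
    a pt (Subsingleton.elim _ _)
  refine ⟨b, ?_⟩
  simp only [Scheme.Hom.comp_base, TopCat.comp_app]
  exact congrArg (f.fiberι y).base hb

/-- Geometric irreducibility (in the sense of the statement) implies irreducibility. -/
theorem isIrreducible_of_geom (y : Y) (S : Set X) (hS : S ⊆ f.base ⁻¹' {y})
    (K : Type u) [Field K] [Algebra (IsLocalRing.ResidueField (Y.presheaf.stalk y)) K]
    (hirr : IsIrreducible
      ((FBase.bcπ (f.fiberToSpecResidueField y) K ≫ f.fiberι y).base ⁻¹' S)) :
    IsIrreducible S := by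
  have himg : (FBase.bcπ (f.fiberToSpecResidueField y) K ≫ f.fiberι y).base ''
      ((FBase.bcπ (f.fiberToSpecResidueField y) K ≫ f.fiberι y).base ⁻¹' S) = S := by
    apply Set.Subset.antisymm
    · rintro _ ⟨b, hb, rfl⟩; exact hb
    · intro x hx
      obtain ⟨b, hb⟩ := exists_bc_point f y K x (hS hx)
      exact ⟨b, by rw [Set.mem_preimage, hb]; exact hx, hb⟩
  rw [← himg]
  exact hirr.image _ (FBase.bcπ (f.fiberToSpecResidueField y) K ≫ f.fiberι y).continuous.continuousOn

/-- The fibre of a base change `X ×_Y Y' ⟶ Y'` over `s` is the base change of the fibre of `f` over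
the image of `s` to the residue field of `s`. -/
theorem exists_iso_fiber_bc {Y' : Scheme.{u}} (φ : Y' ⟶ Y) (s : Y')
    [Algebra (IsLocalRing.ResidueField (Y.presheaf.stalk (φ.base s))) (Y'.residueField s)]
    (halg : algebraMap (IsLocalRing.ResidueField (Y.presheaf.stalk (φ.base s)))
      (Y'.residueField s) = (φ.residueFieldMap s).hom) :
    ∃ e : FBase.bc (f.fiberToSpecResidueField (φ.base s)) (Y'.residueField s) ≅
        (pullback.snd f φ).fiber s,
      e.hom ≫ (pullback.snd f φ).fiberι s ≫ pullback.fst f φ =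
        FBase.bcπ (f.fiberToSpecResidueField (φ.base s)) (Y'.residueField s) ≫
          f.fiberι (φ.base s) := by
  have P1 : IsPullback (FBase.bcπ (f.fiberToSpecResidueField (φ.base s)) (Y'.residueField s))
      (FBase.bcStr (f.fiberToSpecResidueField (φ.base s)) (Y'.residueField s))
      (f.fiberToSpecResidueField (φ.base s))
      (Spec.map (CommRingCat.ofHom (algebraMap
        (IsLocalRing.ResidueField (Y.presheaf.stalk (φ.base s))) (Y'.residueField s)))) :=
    IsPullback.of_hasPullback _ _
  have P2 : IsPullback (f.fiberι (φ.base s)) (f.fiberToSpecResidueField (φ.base s)) f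
      (Y.fromSpecResidueField (φ.base s)) := IsPullback.of_hasPullback _ _
  have P3 := P1.paste_horiz P2
  have hcomm : Spec.map (CommRingCat.ofHom (algebraMap
        (IsLocalRing.ResidueField (Y.presheaf.stalk (φ.base s))) (Y'.residueField s))) ≫
      Y.fromSpecResidueField (φ.base s) = Y'.fromSpecResidueField s ≫ φ := by
    rw [halg]
    exact Scheme.Hom.SpecMap_residueFieldMap_fromSpecResidueField φ s
  have P3' : IsPullback
      (FBase.bcπ (f.fiberToSpecResidueField (φ.base s)) (Y'.residueField s) ≫ f.fiberι (φ.base s))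
      (FBase.bcStr (f.fiberToSpecResidueField (φ.base s)) (Y'.residueField s)) f
      (Y'.fromSpecResidueField s ≫ φ) := by
    rw [← hcomm]; exact P3
  have P4 := IsPullback.of_hasPullback f φ
  have P5 := IsPullback.of_right' P3' P4
  have P6 : IsPullback ((pullback.snd f φ).fiberι s) ((pullback.snd f φ).fiberToSpecResidueField s)
      (pullback.snd f φ) (Y'.fromSpecResidueField s) := IsPullback.of_hasPullback _ _
  refine ⟨P5.isoIsPullback _ _ P6, ?_⟩
  rw [← Category.assoc, IsPullback.isoIsPullback_hom_fst]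
  exact P4.lift_fst _ _ _

/-- Reducedness of the local ring of the fibre of the base change at a point over a point at
which the fibre of `f` is geometrically reduced. -/
theorem isReduced_stalk_fiber_of_isGeomReducedAt {Y' : Scheme.{u}} (φ : Y' ⟶ Y) (s : Y')
    (a : f.fiber (φ.base s))
    (hred : FBase.IsGeomReducedAt (f.fiberToSpecResidueField (φ.base s)) a)
    (a' : (pullback.snd f φ).fiber s)
    (ha' : (pullback.fst f φ).base (((pullback.snd f φ).fiberι s).base a') =
      (f.fiberι (φ.base s)).base a) :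
    _root_.IsReduced (((pullback.snd f φ).fiber s).presheaf.stalk a') := by
  letI : Algebra (IsLocalRing.ResidueField (Y.presheaf.stalk (φ.base s))) (Y'.residueField s) :=
    (φ.residueFieldMap s).hom.toAlgebra
  obtain ⟨e, he⟩ := exists_iso_fiber_bc f φ s rfl
  obtain ⟨b, rfl⟩ : ∃ b, e.hom.base b = a' := ⟨e.inv.base a', by
    rw [← Scheme.Hom.comp_apply, e.inv_hom_id]; rfl⟩
  have hb : (FBase.bcπ (f.fiberToSpecResidueField (φ.base s)) (Y'.residueField s)).base b = a := by
    apply (f.fiberι (φ.base s)).isEmbedding.injective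
    rw [← ha']
    have := congrArg (fun h => h.base b) he
    simp only [Scheme.Hom.comp_base, TopCat.comp_app] at this
    exact this.symm
  haveI := hred (Y'.residueField s) b hb
  have hinj : Function.Injective (e.hom.stalkMap b).hom :=
    ((ConcreteCategory.isIso_iff_bijective (e.hom.stalkMap b)).mp inferInstance).1
  exact isReduced_of_injective (e.hom.stalkMap b).hom hinj

/-- The generic point of the preimage of a geometrically irreducible closed subset of the fibre
in the base change. -/
theorem exists_generic_fiber_bc {Y' : Scheme.{u}} (φ : Y' ⟶ Y) (s : Y') (C : Set X)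
    (T : Set X) (hT : IsClosed T) (hCT : C = T ∩ f.base ⁻¹' {φ.base s})
    (hirr : ∀ (K : Type u) [Field K]
      [Algebra (IsLocalRing.ResidueField (Y.presheaf.stalk (φ.base s))) K],
      IsIrreducible ((FBase.bcπ (f.fiberToSpecResidueField (φ.base s)) K ≫
        f.fiberι (φ.base s)).base ⁻¹' C)) :
    ∃ ξ' : ↥(pullback f φ), (pullback.snd f φ).base ξ' = s ∧ (pullback.fst f φ).base ξ' ∈ C ∧
      ∀ z : ↥(pullback f φ), (pullback.snd f φ).base z = s → (pullback.fst f φ).base z ∈ C →
        ξ' ⤳ z := by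
  letI : Algebra (IsLocalRing.ResidueField (Y.presheaf.stalk (φ.base s))) (Y'.residueField s) :=
    (φ.residueFieldMap s).hom.toAlgebra
  obtain ⟨e, he⟩ := exists_iso_fiber_bc f φ s rfl
  have hI := hirr (Y'.residueField s)
  set q := FBase.bcπ (f.fiberToSpecResidueField (φ.base s)) (Y'.residueField s) ≫
    f.fiberι (φ.base s) with hq
  have hclosed : IsClosed (q.base ⁻¹' C) := by
    have : q.base ⁻¹' C = q.base ⁻¹' T := by
      ext b
      simp only [Set.mem_preimage, hCT, Set.mem_inter_iff, Set.mem_singleton_iff, and_iff_left_iff_imp]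
      intro _
      rw [hq]
      simp only [Scheme.Hom.comp_base, TopCat.comp_app]
      exact fiberι_mem f (φ.base s) _
    rw [this]
    exact hT.preimage q.continuous
  obtain ⟨β, hβ⟩ := QuasiSober.sober hI hclosed
  have hβmem : β ∈ q.base ⁻¹' C := by
    rw [← hβ.def]; exact subset_closure rfl
  have hkey : ∀ b, (pullback.fst f φ).base (((pullback.snd f φ).fiberι s).base (e.hom.base b)) =
      q.base b := by
    intro b
    have := congrArg (fun h => h.base b) he
    simpa only [Scheme.Hom.comp_base, TopCat.comp_app] using this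
  refine ⟨((pullback.snd f φ).fiberι s).base (e.hom.base β), ?_, ?_, ?_⟩
  · exact fiberι_mem (pullback.snd f φ) s _
  · rw [hkey]; exact hβmem
  · intro z hz hzC
    obtain ⟨a'', rfl⟩ := exists_fiber_pt (pullback.snd f φ) s z hz
    have hb : e.hom.base (e.inv.base a'') = a'' := by
      rw [← Scheme.Hom.comp_apply, e.inv_hom_id]; rfl
    have hbmem : e.inv.base a'' ∈ q.base ⁻¹' C := by
      rw [Set.mem_preimage, ← hkey, hb]; exact hzC
    have hsp : β ⤳ e.inv.base a'' := by
      rw [specializes_iff_mem_closure, hβ.def]; exact hbmem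
    have h2 := (hsp.map e.hom.continuous).map ((pullback.snd f φ).fiberι s).continuous
    rwa [hb] at h2

/-- Nakayama: over a discrete valuation ring `R₀`, a prime of a Noetherian local `R₀`-algebra `A`
contained in `m A` and not lying over the closed point is zero. -/
theorem eq_bot_of_le_map_maximalIdeal {R₀ A : Type*} [CommRing R₀] [IsDomain R₀]
    [IsDiscreteValuationRing R₀] [CommRing A] [IsLocalRing A] [IsNoetherianRing A]
    (ψ : R₀ →+* A) [IsLocalHom ψ] (Q : Ideal A) [Q.IsPrime]
    (hQ : Q ≤ Ideal.map ψ (IsLocalRing.maximalIdeal R₀))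
    (hne : Ideal.comap ψ Q ≠ IsLocalRing.maximalIdeal R₀) : Q = ⊥ := by
  obtain ⟨ϖ, hϖ⟩ := IsDiscreteValuationRing.exists_irreducible R₀
  have hm : IsLocalRing.maximalIdeal R₀ = Ideal.span {ϖ} := hϖ.maximalIdeal_eq
  have hmap : Ideal.map ψ (IsLocalRing.maximalIdeal R₀) = Ideal.span {ψ ϖ} := by
    rw [hm, Ideal.map_span, Set.image_singleton]
  have hϖQ : ψ ϖ ∉ Q := by
    intro h
    apply hne
    have h1 : IsLocalRing.maximalIdeal R₀ ≤ Ideal.comap ψ Q := by
      rw [hm, Ideal.span_le, Set.singleton_subset_iff]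
      exact h
    exact ((IsLocalRing.maximalIdeal.isMaximal R₀).eq_of_le
      (Ideal.comap_ne_top _ (Ideal.IsPrime.ne_top inferInstance)) h1).symm
  have hle : Ideal.map ψ (IsLocalRing.maximalIdeal R₀) ≤ Ideal.jacobson ⊥ := by
    rw [IsLocalRing.jacobson_eq_maximalIdeal (⊥ : Ideal A) bot_ne_top, Ideal.map_le_iff_le_comap]
    intro x hx
    rw [Ideal.mem_comap, IsLocalRing.mem_maximalIdeal, mem_nonunits_iff]
    intro hu
    exact (IsLocalRing.mem_maximalIdeal x).mp hx (IsLocalHom.map_nonunit x hu)
  have hsmul : Q ≤ Ideal.map ψ (IsLocalRing.maximalIdeal R₀) • Q := by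
    intro q hq
    have h1 := hQ hq
    rw [hmap, Ideal.mem_span_singleton'] at h1
    obtain ⟨a, rfl⟩ := h1
    have ha : a ∈ Q := ((Ideal.IsPrime.mem_or_mem inferInstance hq).resolve_right hϖQ)
    rw [mul_comm]
    have : ψ ϖ ∈ Ideal.map ψ (IsLocalRing.maximalIdeal R₀) := by
      rw [hmap]; exact Ideal.mem_span_singleton_self _
    exact Submodule.smul_mem_smul this ha
  exact Submodule.eq_bot_of_le_smul_of_le_jacobson_bot _ Q (IsNoetherian.noetherian Q) hsmul hle

/-- A closed subset of a fibre is the trace of a closed subset. -/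
theorem exists_isClosed_connectedComponentIn_eq (y : Y) (a : f.fiber y) :
    ∃ T : Set X, IsClosed T ∧
      connectedComponentIn (f.base ⁻¹' {y}) ((f.fiberι y).base a) = T ∩ f.base ⁻¹' {y} := by
  refine ⟨closure ((f.fiberι y).base '' connectedComponent a), isClosed_closure, ?_⟩
  rw [connectedComponentIn_fibre, ← f.range_fiberι y, ← Set.image_preimage_eq_inter_range,
    ← (f.fiberι y).isEmbedding.isInducing.closure_eq_preimage_closure_image,
    isClosed_connectedComponent.closure_eq]

set_option maxHeartbeats 1600000 in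
/-- **Key step for case (α)**: base change to a discrete valuation ring. -/
theorem exists_generization_of_dvr [LocallyOfFiniteType f]
    (R : Type u) [CommRing R] [IsDomain R] [IsDiscreteValuationRing R]
    (σ : Spec (CommRingCat.of R) ⟶ X) (φ : Spec (CommRingCat.of R) ⟶ Y) (hφ : σ ≫ f = φ)
    (s : ↥(Spec (CommRingCat.of R))) (hs : s = IsLocalRing.closedPoint R)
    (hirr : ∀ (K : Type u) [Field K]
      [Algebra (IsLocalRing.ResidueField (Y.presheaf.stalk (φ.base s))) K],
      IsIrreducible ((FBase.bcπ (f.fiberToSpecResidueField (φ.base s)) K ≫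
        f.fiberι (φ.base s)).base ⁻¹'
          connectedComponentIn (f.base ⁻¹' {φ.base s}) (σ.base s)))
    (hopen : ∀ ξ ∈ connectedComponentIn (f.base ⁻¹' {φ.base s}) (σ.base s),
      connectedComponentIn (f.base ⁻¹' {φ.base s}) (σ.base s) ⊆ closure {ξ} →
        EGA43.IsUnivOpenAt f ξ)
    (a : f.fiber (φ.base s)) (ha : (f.fiberι (φ.base s)).base a = σ.base s)
    (hred : FBase.IsGeomReducedAt (f.fiberToSpecResidueField (φ.base s)) a) :
    ∃ z : X, f.base z = φ.base (genericPoint ↥(Spec (CommRingCat.of R))) ∧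
      z ⤳ σ.base (genericPoint ↥(Spec (CommRingCat.of R))) ∧
      topologicalKrullDim ↥(connectedComponentIn (f.base ⁻¹' {φ.base s}) (σ.base s)) ≤
        FlatMor.fibreDimAt f z := by
  set C := connectedComponentIn (f.base ⁻¹' {φ.base s}) (σ.base s) with hC
  have hσs : σ.base s ∈ f.base ⁻¹' {φ.base s} := by
    rw [← hφ]; rfl
  have hCsub : C ⊆ f.base ⁻¹' {φ.base s} := connectedComponentIn_subset _ _
  obtain ⟨T, hT, hCT⟩ : ∃ T : Set X, IsClosed T ∧ C = T ∩ f.base ⁻¹' {φ.base s} := by
    obtain ⟨T, hT, h⟩ := exists_isClosed_connectedComponentIn_eq f (φ.base s) a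
    exact ⟨T, hT, by rw [hC, ← ha]; exact h⟩
  have hCirr : IsIrreducible C :=
    isIrreducible_of_geom f (φ.base s) C hCsub
      (IsLocalRing.ResidueField (Y.presheaf.stalk (φ.base s))) (hirr _)
  -- the base change
  let p := pullback.fst f φ
  let fR := pullback.snd f φ
  let gR : Spec (CommRingCat.of R) ⟶ pullback f φ := pullback.lift σ (𝟙 _) (by rw [hφ, Category.id_comp])
  have hgp : gR ≫ p = σ := pullback.lift_fst _ _ _
  have hgf : gR ≫ fR = 𝟙 _ := pullback.lift_snd _ _ _
  have hgp' : ∀ t, p.base (gR.base t) = σ.base t := fun t => by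
    have := congrArg (fun h => h.base t) hgp
    simpa only [Scheme.Hom.comp_base, TopCat.comp_app] using this
  have hgf' : ∀ t, fR.base (gR.base t) = t := fun t => by
    have := congrArg (fun h => h.base t) hgf
    simpa using this
  have hpf : ∀ z, f.base (p.base z) = φ.base (fR.base z) := fun z => by
    have := congrArg (fun h => h.base z) (pullback.condition (f := f) (g := φ))
    simpa only [Scheme.Hom.comp_base, TopCat.comp_app] using this
  haveI : LocallyOfFiniteType fR := inferInstanceAs (LocallyOfFiniteType (pullback.snd f φ))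
  haveI : IsLocallyNoetherian (pullback f φ) := LocallyOfFiniteType.isLocallyNoetherian fR
  obtain ⟨ξ', hξs, hξC, hξgen⟩ := exists_generic_fiber_bc f φ s C T hT hCT hirr
  have hx₀C : p.base (gR.base s) ∈ C := by
    rw [hgp']; exact mem_connectedComponentIn hσs
  have hξx₀ : ξ' ⤳ gR.base s := hξgen _ (hgf' s) hx₀C
  -- universal openness gives openness of the base change at ξ'
  have hCcl : C ⊆ closure {p.base ξ'} := by
    intro c hc
    obtain ⟨z, hz1, hz2⟩ := Scheme.Pullback.exists_preimage_pullback (f := f) (g := φ) c s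
      (hCsub hc)
    have h1 : ξ' ⤳ z := hξgen z hz2 (by rw [show p.base z = c from hz1]; exact hc)
    have h2 := h1.map p.continuous
    rw [show p.base z = c from hz1] at h2
    exact specializes_iff_mem_closure.mp h2
  have hUO : EGA43.IsUnivOpenAt f (p.base ξ') := hopen _ hξC hCcl
  have hOA : EGA43.IsOpenAt fR.base ξ' := hUO _ φ ξ' rfl
  have hmemC : ∀ z' : ↥(pullback f φ), fR.base z' = s → z' ⤳ ξ' → p.base z' ∈ C := by
    intro z' hz's hz'
    have h1 : p.base z' ∈ f.base ⁻¹' {φ.base s} := by
      rw [Set.mem_preimage, hpf, hz's]; rfl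
    have h2 := mem_connectedComponentIn_of_specializes _ _ _ h1 (hCsub hξC)
      (hz'.map p.continuous)
    rwa [← connectedComponentIn_eq hξC] at h2
  have hmax : ∀ z' : ↥(pullback f φ), fR.base z' = fR.base ξ' → z' ⤳ ξ' → z' = ξ' := by
    intro z' hz's hz'
    rw [hξs] at hz's
    exact (hz'.antisymm (hξgen z' hz's (hmemC z' hz's hz'))).eq
  obtain ⟨x', hx'ξ, hx'η, hdim⟩ :=
    Groth.Agent.H38.UnivOpenAtDim.exists_generization_fibreDimAt_le fR s hs ξ' hξs hmax hOA
  -- the local ring at `gR s`
  obtain ⟨a₀, ha₀⟩ := exists_fiber_pt fR s (gR.base s) (hgf' s)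
  haveI hredst : _root_.IsReduced ((fR.fiber s).presheaf.stalk a₀) :=
    isReduced_stalk_fiber_of_isGeomReducedAt f φ s a hred a₀ (by
      rw [ha₀, ha]; exact hgp' s)
  have e := Groth.Agent.H9.fiberStalkEquiv fR s a₀
  set x₁ := (fR.fiberι s).base a₀ with hx₁
  have hx₁s : fR.base x₁ = IsLocalRing.closedPoint R := by
    rw [← hs]; exact fiberι_mem fR s a₀
  haveI hredq : _root_.IsReduced ((pullback f φ).presheaf.stalk x₁ ⧸
      Ideal.map (fR.stalkMap x₁).hom
        (IsLocalRing.maximalIdeal ((Spec (CommRingCat.of R)).presheaf.stalk (fR.base x₁)))) :=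
    isReduced_of_injective e e.injective
  -- DVR structure on the stalk of the base
  letI : Algebra R ((Spec (CommRingCat.of R)).presheaf.stalk (fR.base x₁)) :=
    StructureSheaf.stalkAlgebra (R := R) (fR.base x₁)
  haveI : (fR.base x₁).asIdeal.IsPrime := (fR.base x₁).isPrime
  haveI : IsLocalization.AtPrime ((Spec (CommRingCat.of R)).presheaf.stalk (fR.base x₁))
      (fR.base x₁).asIdeal := StructureSheaf.IsLocalization.to_stalk (R := R) (fR.base x₁)
  haveI : IsDomain ((Spec (CommRingCat.of R)).presheaf.stalk (fR.base x₁)) :=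
    IsLocalization.isDomain_of_atPrime _ (fR.base x₁).asIdeal
  have hne : (fR.base x₁).asIdeal ≠ ⊥ := by
    rw [hx₁s]
    exact IsDiscreteValuationRing.not_a_field R
  haveI : IsDiscreteValuationRing ((Spec (CommRingCat.of R)).presheaf.stalk (fR.base x₁)) :=
    IsLocalization.AtPrime.isDiscreteValuationRing_of_dedekind_domain R hne _
  -- points of Spec of the local ring
  have hξx₁ : ξ' ⤳ x₁ := by rw [ha₀]; exact hξx₀
  obtain ⟨tξ, htξ⟩ : ξ' ∈ Set.range ((pullback f φ).fromSpecStalk x₁) := by
    rw [Scheme.range_fromSpecStalk]; exact hξx₁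
  obtain ⟨t', ht'⟩ : x' ∈ Set.range ((pullback f φ).fromSpecStalk x₁) := by
    rw [Scheme.range_fromSpecStalk]; exact hx'ξ.trans hξx₁
  have hηx₁ : gR.base (genericPoint ↥(Spec (CommRingCat.of R))) ⤳ x₁ := by
    rw [ha₀]
    exact (genericPoint_specializes s).map gR.continuous
  obtain ⟨tη, htη⟩ : gR.base (genericPoint ↥(Spec (CommRingCat.of R))) ∈
      Set.range ((pullback f φ).fromSpecStalk x₁) := by
    rw [Scheme.range_fromSpecStalk]; exact hηx₁
  -- (i) the prime of ξ' is m A
  have hξs' : fR.base ξ' = fR.base x₁ := by rw [hξs, hx₁s, hs]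
  have h1 : Ideal.map (fR.stalkMap x₁).hom
      (IsLocalRing.maximalIdeal ((Spec (CommRingCat.of R)).presheaf.stalk (fR.base x₁))) ≤
        tξ.asIdeal := by
    rw [Ideal.map_le_iff_le_comap]
    have := (Groth.Agent.H7.map_fromSpecStalk_eq_iff fR x₁ tξ).mp (by rw [htξ]; exact hξs')
    exact this.ge
  have h2 : tξ.asIdeal ≤ Ideal.map (fR.stalkMap x₁).hom
      (IsLocalRing.maximalIdeal ((Spec (CommRingCat.of R)).presheaf.stalk (fR.base x₁))) := by
    have hrad := (Ideal.radical_eq_iff.mpr ((Ideal.isRadical_iff_quotient_reduced _).mpr hredq))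
    rw [← hrad, Ideal.radical_eq_sInf]
    refine le_sInf ?_
    rintro J ⟨hJ, hJp⟩
    let tJ : Spec ((pullback f φ).presheaf.stalk x₁) := ⟨J, hJp⟩
    have hzx₁ : (pullback f φ).fromSpecStalk x₁ tJ ⤳ x₁ := by
      have : (pullback f φ).fromSpecStalk x₁ tJ ∈
          Set.range ((pullback f φ).fromSpecStalk x₁) := ⟨tJ, rfl⟩
      rwa [Scheme.range_fromSpecStalk] at this
    have hzs : fR.base ((pullback f φ).fromSpecStalk x₁ tJ) = fR.base x₁ := by
      rw [Groth.Agent.H7.map_fromSpecStalk_eq_iff]
      exact ((IsLocalRing.maximalIdeal.isMaximal _).eq_of_le (Ideal.comap_ne_top _ hJp.ne_top)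
        (Ideal.map_le_iff_le_comap.mp hJ)).symm
    have hzs' : fR.base ((pullback f φ).fromSpecStalk x₁ tJ) = s := by
      rw [hzs, hx₁s, hs]
    have hzC : p.base ((pullback f φ).fromSpecStalk x₁ tJ) ∈ C := by
      have h1 : p.base ((pullback f φ).fromSpecStalk x₁ tJ) ∈ f.base ⁻¹' {φ.base s} := by
        rw [Set.mem_preimage, hpf, hzs']; rfl
      have h2 := mem_connectedComponentIn_of_specializes _ _ _ h1 hσs
        (by
          have := hzx₁.map p.continuous
          have h3 : p.base x₁ = σ.base s := by rw [ha₀, hgp']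
          rwa [h3] at this)
      exact h2
    have hsp : ξ' ⤳ (pullback f φ).fromSpecStalk x₁ tJ := hξgen _ hzs' hzC
    have hsp' : tξ ⤳ tJ := by
      rw [← ((pullback f φ).fromSpecStalk x₁).isEmbedding.isInducing.specializes_iff, htξ]
      exact hsp
    exact (PrimeSpectrum.le_iff_specializes tξ tJ).mpr hsp'
  -- (ii) the prime of x' is zero
  have ht'ξ : t'.asIdeal ≤ tξ.asIdeal := by
    have hsp' : t' ⤳ tξ := by
      rw [← ((pullback f φ).fromSpecStalk x₁).isEmbedding.isInducing.specializes_iff, htξ, ht']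
      exact hx'ξ
    exact (PrimeSpectrum.le_iff_specializes t' tξ).mpr hsp'
  have hx'ne : Ideal.comap (fR.stalkMap x₁).hom t'.asIdeal ≠
      IsLocalRing.maximalIdeal ((Spec (CommRingCat.of R)).presheaf.stalk (fR.base x₁)) := by
    intro hc
    have h4 : fR.base ((pullback f φ).fromSpecStalk x₁ t') = fR.base x₁ :=
      (Groth.Agent.H7.map_fromSpecStalk_eq_iff fR x₁ t').mpr hc
    rw [ht', hx'η, hx₁s] at h4
    have h5 : (genericPoint ↥(Spec (CommRingCat.of R))).asIdeal = ⊥ := by
      have := genericPoint_eq_bot_of_affine (CommRingCat.of R)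
      rw [this]; rfl
    exact IsDiscreteValuationRing.not_a_field R (by
      rw [← h5, h4]; rfl)
  haveI : t'.asIdeal.IsPrime := t'.isPrime
  have hbot : t'.asIdeal = ⊥ :=
    eq_bot_of_le_map_maximalIdeal (fR.stalkMap x₁).hom t'.asIdeal (ht'ξ.trans h2) hx'ne
  have hx'gη : x' ⤳ gR.base (genericPoint ↥(Spec (CommRingCat.of R))) := by
    rw [← ht', ← htη, ((pullback f φ).fromSpecStalk x₁).isEmbedding.isInducing.specializes_iff]
    refine (PrimeSpectrum.le_iff_specializes t' tη).mp ?_
    change t'.asIdeal ≤ tη.asIdeal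
    rw [hbot]; exact bot_le
  -- wrap up
  refine ⟨p.base x', ?_, ?_, ?_⟩
  · rw [hpf, hx'η]
  · have := hx'gη.map p.continuous
    rwa [hgp'] at this
  · have hd1 : topologicalKrullDim ↥C = FlatMor.fibreDimAt f (p.base ξ') := by
      rw [hC, connectedComponentIn_eq hξC]
      exact dim_connectedComponentIn_eq_of_isIrreducible f (φ.base s) (p.base ξ') (hCsub hξC)
        (by rw [← connectedComponentIn_eq hξC]; exact hCirr)
    rw [hd1, ← Groth.Agent.H60.FibreDimBC.fibreDimAt_baseChange f φ ξ',
      ← Groth.Agent.H60.FibreDimBC.fibreDimAt_baseChange f φ x']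
    exact hdim

end Groth.Agent.H38.SectionConst
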