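import Mathlib
import Groth.Agent.H38.SectionConst
import Groth.Agent.H69.SubtrScheme

/-!
# Constancy of the dimension of the section components (EGA IV 15.6.6): main lemmas
-/

set_option autoImplicit false
universe u
open CategoryTheory AlgebraicGeometry Limits

namespace Groth.Agent.H38.SectionConst

open Groth.Agent.H54 Groth.Agent.H38.SectionComp

variable {X Y : Scheme.{u}} (f : X ⟶ Y) [LocallyOfFiniteType f] (g : Y ⟶ X)
  (hg : g ≫ f = 𝟙 Y)

include hg in
/-- Under geometric irreducibility, the dimension of the section component is the local fibre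
dimension at the section. -/
theorem dim_component_eq (y : Y)
    (hirr : ∀ (K : Type u) [Field K] [Algebra (IsLocalRing.ResidueField (Y.presheaf.stalk y)) K],
      IsIrreducible ((FBase.bcπ (f.fiberToSpecResidueField y) K ≫ f.fiberι y).base ⁻¹'
        connectedComponentIn (f.base ⁻¹' {y}) (g.base y))) :
    topologicalKrullDim ↥(connectedComponentIn (f.base ⁻¹' {y}) (g.base y)) =
      FlatMor.fibreDimAt f (g.base y) :=
  dim_connectedComponentIn_eq_of_isIrreducible f y (g.base y) (section_apply f g hg y)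
    (isIrreducible_of_geom f y _ (connectedComponentIn_subset _ _)
      (IsLocalRing.ResidueField (Y.presheaf.stalk y)) (hirr _))

/-- Case (β), pointwise: universal openness at the generic point of an irreducible connected
component of a fibre bounds its dimension by the dimension of nearby fibres. -/
theorem dim_le_dim_fiber_of_isUnivOpenAt (y₀ : Y) (x₀ : X) (hx₀ : f.base x₀ = y₀)
    (hirr : IsIrreducible (connectedComponentIn (f.base ⁻¹' {y₀}) x₀))
    (hopen : ∀ ξ ∈ connectedComponentIn (f.base ⁻¹' {y₀}) x₀,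
      connectedComponentIn (f.base ⁻¹' {y₀}) x₀ ⊆ closure {ξ} → EGA43.IsUnivOpenAt f ξ)
    (y' : Y) (hy' : y' ⤳ y₀) :
    topologicalKrullDim ↥(connectedComponentIn (f.base ⁻¹' {y₀}) x₀) ≤
      topologicalKrullDim ↥(f.fiber y') := by
  obtain ⟨a₀, rfl⟩ := exists_fiber_pt f y₀ x₀ hx₀
  have hCeq := connectedComponentIn_fibre f y₀ a₀
  have hirr' : IsIrreducible (connectedComponent a₀) := by
    rw [hCeq] at hirr
    exact isIrreducible_of_image_of_isEmbedding (f.fiberι y₀).isEmbedding _ hirr
  obtain ⟨ζ, hζ⟩ := QuasiSober.sober hirr' isClosed_connectedComponent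
  have hζmem : ζ ∈ connectedComponent a₀ := by rw [← hζ.def]; exact subset_closure rfl
  have hζgen : ∀ b ∈ connectedComponent a₀, ζ ⤳ b := fun b hb => by
    rw [specializes_iff_mem_closure, hζ.def]; exact hb
  set ξ := (f.fiberι y₀).base ζ with hξ
  have hξC : ξ ∈ connectedComponentIn (f.base ⁻¹' {y₀}) ((f.fiberι y₀).base a₀) := by
    rw [hCeq]; exact ⟨ζ, hζmem, rfl⟩
  have hCcl : connectedComponentIn (f.base ⁻¹' {y₀}) ((f.fiberι y₀).base a₀) ⊆ closure {ξ} := by
    rw [hCeq]
    rintro _ ⟨b, hb, rfl⟩
    exact specializes_iff_mem_closure.mp ((hζgen b hb).map (f.fiberι y₀).continuous)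
  have hfξ : f.base ξ = y₀ := fiberι_mem f y₀ ζ
  have hmax : ∀ x' : X, f.base x' = f.base ξ → ξ ∈ closure {x'} → x' = ξ := by
    intro x' hx' hcl
    rw [hfξ] at hx'
    obtain ⟨b', rfl⟩ := exists_fiber_pt f y₀ x' hx'
    have hsp : b' ⤳ ζ := by
      rw [← (f.fiberι y₀).isEmbedding.isInducing.specializes_iff]
      exact specializes_iff_mem_closure.mpr hcl
    have hb'mem : b' ∈ connectedComponent a₀ := by
      rw [connectedComponent_eq hζmem]
      exact (isPreconnected_singleton.closure).subset_connectedComponent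
        (specializes_iff_mem_closure.mp hsp) (subset_closure rfl)
    rw [(hsp.antisymm (hζgen b' hb'mem)).eq]
  have hUO := hopen ξ hξC hCcl
  have h1 := Groth.Agent.H38.UnivOpenAtDim.fibreDimAt_le_of_isUnivOpenAt f ξ hmax hUO ⊤ trivial y'
    (by rw [hfξ]; exact hy')
  have h2 : topologicalKrullDim ↥(connectedComponentIn (f.base ⁻¹' {y₀}) ((f.fiberι y₀).base a₀)) =
      FlatMor.fibreDimAt f ξ := by
    rw [connectedComponentIn_eq hξC]
    exact dim_connectedComponentIn_eq_of_isIrreducible f y₀ ξ hfξ
      (by rw [← connectedComponentIn_eq hξC]; exact hirr)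
  rw [h2]
  refine h1.trans ?_
  rw [(f.fiberHomeo y').isHomeomorph.topologicalKrullDim_eq]
  have h3 : (((⊤ : X.Opens) : Set X) ∩ f.base ⁻¹' {y'}) = f.base ⁻¹' {y'} := by simp
  rw [h3]

include hg in
/-- Case (α) along a discrete valuation ring. -/
theorem dim_le_fibreDimAt_of_dvr
    (hirr : ∀ y : Y, (∀ (K : Type u) [Field K]
      [Algebra (IsLocalRing.ResidueField (Y.presheaf.stalk y)) K],
        IsIrreducible ((FBase.bcπ (f.fiberToSpecResidueField y) K ≫ f.fiberι y).base ⁻¹'
          connectedComponentIn (f.base ⁻¹' {y}) (g.base y))))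
    (R : Type u) [CommRing R] [IsDomain R] [IsDiscreteValuationRing R]
    (h : Spec (CommRingCat.of R) ⟶ Y) (y₀ : Y) (hy₀ : h.base (IsLocalRing.closedPoint R) = y₀)
    (hopen : ∀ ξ ∈ connectedComponentIn (f.base ⁻¹' {y₀}) (g.base y₀),
      connectedComponentIn (f.base ⁻¹' {y₀}) (g.base y₀) ⊆ closure {ξ} → EGA43.IsUnivOpenAt f ξ)
    (hred : FBase.IsGeomReducedAt (f.fiberToSpecResidueField (f.base (g.base y₀)))
      (f.asFiber (g.base y₀))) :
    topologicalKrullDim ↥(connectedComponentIn (f.base ⁻¹' {y₀}) (g.base y₀)) ≤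
      FlatMor.fibreDimAt f (g.base (h.base (genericPoint ↥(Spec (CommRingCat.of R))))) := by
  subst hy₀
  set s : ↥(Spec (CommRingCat.of R)) := IsLocalRing.closedPoint R with hs
  have e2 : f.base (g.base (h.base s)) = h.base s := section_apply f g hg _
  have e1 : g.base (f.base (g.base (h.base s))) = g.base (h.base s) := congrArg g.base e2
  have hirr' : ∀ (K : Type u) [Field K]
      [Algebra (IsLocalRing.ResidueField (Y.presheaf.stalk (f.base (g.base (h.base s))))) K],
      IsIrreducible ((FBase.bcπ (f.fiberToSpecResidueField (f.base (g.base (h.base s)))) K ≫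
        f.fiberι (f.base (g.base (h.base s)))).base ⁻¹'
          connectedComponentIn (f.base ⁻¹' {f.base (g.base (h.base s))}) (g.base (h.base s))) := by
    intro K _ _
    have := hirr (f.base (g.base (h.base s))) K
    rw [e1] at this
    exact this
  have hopen' : ∀ ξ ∈ connectedComponentIn (f.base ⁻¹' {f.base (g.base (h.base s))})
        (g.base (h.base s)),
      connectedComponentIn (f.base ⁻¹' {f.base (g.base (h.base s))}) (g.base (h.base s)) ⊆
        closure {ξ} → EGA43.IsUnivOpenAt f ξ := by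
    rw [e2]
    exact hopen
  obtain ⟨z, -, hz2, hz3⟩ := exists_generization_of_dvr f R (h ≫ g) ((h ≫ g) ≫ f) rfl s hs
    hirr' hopen' (f.asFiber (g.base (h.base s))) (f.fiberι_asFiber _) hred
  have hz3' : topologicalKrullDim ↥(connectedComponentIn (f.base ⁻¹' {f.base (g.base (h.base s))})
      (g.base (h.base s))) ≤ FlatMor.fibreDimAt f z := hz3
  rw [e2] at hz3'
  exact hz3'.trans (fibreDimAt_le_of_specializes f hz2)

/-- In a locally Noetherian scheme, a closed set containing all generizations of a point is a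
neighbourhood of that point. -/
theorem mem_nhds_of_isClosed_of_forall_specializes [IsLocallyNoetherian Y] (E : Set Y)
    (hE : IsClosed E) (y₀ : Y) (h : ∀ y₁ : Y, y₁ ⤳ y₀ → y₁ ∈ E) : E ∈ nhds y₀ := by
  by_contra hcon
  have h1 : y₀ ∈ closure Eᶜ := by
    rw [closure_compl, Set.mem_compl_iff, mem_interior_iff_mem_nhds]
    exact hcon
  let U : Y.Opens := ⟨Eᶜ, hE.isOpen_compl⟩
  have h2 : y₀ ∈ closure (U.ι.base '' Set.univ) := by
    rw [Set.image_univ, Scheme.Opens.range_ι]
    exact h1
  obtain ⟨z, -, hz⟩ := Groth.Agent.H69.Subtr.exists_specializes_of_mem_closure_image U.ι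
    isClosed_univ h2
  have h3 : U.ι.base z ∈ (U : Set Y) := z.2
  exact h3 (h _ hz)

end Groth.Agent.H38.SectionConst
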