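import Mathlib
import Groth.Agent.H38.SectionConst2
import Groth.Agent.H38.FibreDimLC
import Groth.Agent.H73.DVRSpec
import Groth.Agent.H60.ConstrNhd

/-!
# Constancy of the dimension of the section components (EGA IV 15.6.6): finite presentation case
-/

set_option autoImplicit false
universe u
open CategoryTheory AlgebraicGeometry Limits Topology

namespace Groth.Agent.H38.SectionConst

open Groth.Agent.H54 Groth.Agent.H38.SectionComp

/-- The generic point of a valuation subring of the residue field at `z₁`, mapped through a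
morphism compatible with the canonical one, is `z₁`. -/
theorem dvr_generic {Z : Scheme.{u}} (z₁ : Z) (A : ValuationSubring (Z.residueField z₁))
    (h : Spec (CommRingCat.of A) ⟶ Z)
    (hgen : Spec.map (CommRingCat.ofHom A.subtype) ≫ h = Z.fromSpecResidueField z₁ ≫ 𝟙 Z) :
    h.base (genericPoint ↥(Spec (CommRingCat.of A))) = z₁ := by
  let pt : ↥(Spec (Z.residueField z₁)) := (⊥ : PrimeSpectrum (Z.residueField z₁))
  have h1 := congrArg (fun q => q.base pt) hgen
  simp only [Scheme.Hom.comp_base, TopCat.comp_app, Category.comp_id] at h1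
  rw [Scheme.fromSpecResidueField_apply] at h1
  refine Eq.trans ?_ h1
  congr 1
  rw [genericPoint_eq_bot_of_affine (CommRingCat.of A)]
  apply PrimeSpectrum.ext
  change (⊥ : Ideal A) = Ideal.comap A.subtype (⊥ : Ideal (Z.residueField z₁))
  rw [← RingHom.ker_eq_comap_bot]
  exact ((RingHom.injective_iff_ker_eq_bot _).mp A.subtype_injective).symm

/-- A discrete valuation ring through a specialization `y₁ ⤳ y₀`, `y₁ ≠ y₀`, when the local ring
at `y₀` is Noetherian. -/
theorem exists_dvr_of_isNoetherianRing_stalk {Y : Scheme.{u}} (y₀ y₁ : Y) (hy : y₁ ⤳ y₀)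
    (hne : y₁ ≠ y₀) [IsNoetherianRing (Y.presheaf.stalk y₀)] :
    ∃ (R : Type u) (_ : CommRing R) (_ : IsDomain R) (_ : IsDiscreteValuationRing R)
      (h : Spec (CommRingCat.of R) ⟶ Y), h.base (IsLocalRing.closedPoint R) = y₀ ∧
        h.base (genericPoint ↥(Spec (CommRingCat.of R))) = y₁ := by
  obtain ⟨t₁, ht₁⟩ : y₁ ∈ Set.range (Y.fromSpecStalk y₀).base := by
    rw [Scheme.range_fromSpecStalk]; exact hy
  let t₀ : ↥(Spec (Y.presheaf.stalk y₀)) := IsLocalRing.closedPoint (Y.presheaf.stalk y₀)
  have ht₀ : (Y.fromSpecStalk y₀).base t₀ = y₀ := Scheme.fromSpecStalk_closedPoint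
  have hsp : t₁ ⤳ t₀ :=
    (PrimeSpectrum.le_iff_specializes t₁ t₀).mp (IsLocalRing.le_maximalIdeal t₁.isPrime.ne_top)
  have hne' : t₀ ≠ t₁ := by
    intro hc
    apply hne
    rw [← ht₁, ← hc, ht₀]
  obtain ⟨A, h₀, hdvr, hcl, hgen⟩ := Groth.Agent.H73.KA.exists_dvr_through_specialization
    (𝟙 (Spec (Y.presheaf.stalk y₀))) t₁ t₀ (by simpa using hsp) (by simpa using hne')
  refine ⟨A, inferInstance, inferInstance, hdvr, h₀ ≫ Y.fromSpecStalk y₀, ?_, ?_⟩
  · change (Y.fromSpecStalk y₀).base (h₀.base (IsLocalRing.closedPoint A)) = y₀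
    rw [hcl]; exact ht₀
  · change (Y.fromSpecStalk y₀).base (h₀.base (genericPoint ↥(Spec (CommRingCat.of A)))) = y₁
    rw [dvr_generic t₁ A h₀ hgen]; exact ht₁

/-- For a morphism locally of finite presentation, the superlevel sets of the local fibre
dimension along a section are locally constructible. -/
theorem isLocallyConstructible_setOf_le_fibreDimAt {X Y : Scheme.{u}} (f : X ⟶ Y)
    [LocallyOfFinitePresentation f] (g : Y ⟶ X) (n : ℕ) :
    IsLocallyConstructible {y : Y | (n : WithBot ℕ∞) ≤ FlatMor.fibreDimAt f (g.base y)} := by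
  cases n with
  | zero =>
    convert IsLocallyConstructible.univ
    ext y
    simp only [Set.mem_ofPred_eq, Set.mem_univ, iff_true]
    obtain ⟨m, hm⟩ := Groth.Agent.H38.FibreDimCons.exists_fibreDimAt_eq f (g.base y)
    rw [hm]
    exact_mod_cast Nat.zero_le m
  | succ m =>
    have h1 := Groth.Agent.H7.isLocallyConstructible_preimage g
      (Groth.Agent.H38.FibreDimLC.isLocallyConstructible_setOf_fibreDimAt_le f m)
    have h2 : {y : Y | ((m + 1 : ℕ) : WithBot ℕ∞) ≤ FlatMor.fibreDimAt f (g.base y)} =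
        (g.base ⁻¹' {x : X | FlatMor.fibreDimAt f x ≤ (m : WithBot ℕ∞)})ᶜ := by
      ext y
      simp only [Set.mem_ofPred_eq, Set.mem_compl_iff, Set.mem_preimage]
      exact Groth.Agent.H9.FibDim.natCast_le_iff_not_le _ m
    rw [h2]
    intro y
    obtain ⟨U, hU, hUo, hc⟩ := h1 y
    exact ⟨U, hU, hUo, by simpa only [Set.preimage_compl] using hc.compl⟩

end Groth.Agent.H38.SectionConst
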