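import Mathlib
import Groth.Prelude.Def_W4stktopologysheavesBas

set_option autoImplicit false
universe u

namespace Groth.Agent.H38

open TopologicalSpace ShB

variable {X : Type u} [TopologicalSpace X] {B : Set (Opens X)}

theorem exists_basis_mem_le (hB : Opens.IsBasis B) {O : Opens X} {x : X} (hx : x ∈ O) :
    ∃ W : B, x ∈ (W : Opens X) ∧ (W : Opens X) ≤ O := by
  obtain ⟨W, hWB, hxW, hWO⟩ := Opens.isBasis_iff_nbhd.mp hB hx
  exact ⟨⟨W, hWB⟩, hxW, hWO⟩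

/-- `F` is separated: sections agreeing locally (on members of `B`) are equal. -/
def SepB (F : Pre B) : Prop :=
  ∀ (U : B) (t t' : F.obj U),
    (∀ x ∈ (U : Opens X), ∃ (V : B) (_ : x ∈ (V : Opens X)) (h : (V : Opens X) ≤ U),
      F.res h t = F.res h t') → t = t'

theorem res_eq_res_of_local (hB : Opens.IsBasis B) {F : Pre B} (hsep : SepB F) {U₁ U₂ W : B}
    (h₁ : (W : Opens X) ≤ U₁) (h₂ : (W : Opens X) ≤ U₂) (s₁ : F.obj U₁) (s₂ : F.obj U₂)
    (hloc : ∀ x ∈ (W : Opens X), ∃ (W' : B) (_ : x ∈ (W' : Opens X))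
      (h₁' : (W' : Opens X) ≤ U₁) (h₂' : (W' : Opens X) ≤ U₂), F.res h₁' s₁ = F.res h₂' s₂) :
    F.res h₁ s₁ = F.res h₂ s₂ := by
  apply hsep W
  intro x hx
  obtain ⟨W', hxW', h₁', h₂', heq⟩ := hloc x hx
  obtain ⟨W'', hxW'', hW''⟩ :=
    exists_basis_mem_le hB (show x ∈ (W : Opens X) ⊓ W' from ⟨hx, hxW'⟩)
  refine ⟨W'', hxW'', hW''.trans inf_le_left, ?_⟩
  rw [F.res_comp, F.res_comp]
  calc F.res _ s₁ = F.res (hW''.trans inf_le_right) (F.res h₁' s₁) := (F.res_comp _ _ _).symm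
    _ = F.res (hW''.trans inf_le_right) (F.res h₂' s₂) := by rw [heq]
    _ = F.res _ s₂ := F.res_comp _ _ _

theorem sepB_of_cofinal (F : Pre B)
    (h : ∀ (U : B) (ι : Type u) (V : ι → B), (∀ i, (V i : Opens X) ≤ U) →
      (U : Opens X) ≤ ⨆ i, (V i : Opens X) →
      ∃ (ι' : Type u) (V' : ι' → B) (hV' : ∀ i', (V' i' : Opens X) ≤ U),
        (∀ i', ∃ i, (V' i' : Opens X) ≤ V i) ∧
        ∀ t t' : F.obj U, (∀ i', F.res (hV' i') t = F.res (hV' i') t') → t = t') : SepB F := by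
  intro U t t' hloc
  have hloc' : ∀ x : (U : Opens X), ∃ (V : B) (_ : x.1 ∈ (V : Opens X))
      (h : (V : Opens X) ≤ U), F.res h t = F.res h t' := fun x => hloc x.1 x.2
  choose V hxV hVU hV using hloc'
  obtain ⟨ι', V', hV', href, huniq⟩ := h U _ V hVU
    (fun x hx => Opens.mem_iSup.mpr ⟨⟨x, hx⟩, hxV ⟨x, hx⟩⟩)
  apply huniq
  intro i'
  obtain ⟨x, hx⟩ := href i'
  calc F.res (hV' i') t = F.res hx (F.res (hVU x) t) := (F.res_comp _ _ _).symm
    _ = F.res hx (F.res (hVU x) t') := by rw [hV x]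
    _ = F.res (hV' i') t' := F.res_comp _ _ _

/-- The canonical covering datum attached to a covering of `U` by members of `B`. -/
def canonCover (hB : Opens.IsBasis B) (U : B) {ι : Type u} (V : ι → B)
    (hV : ∀ i, (V i : Opens X) ≤ U) (hcov : (U : Opens X) ≤ ⨆ i, (V i : Opens X)) : Cover B where
  U := U
  ι := ι
  V := V
  V_le := hV
  V_cover := hcov
  κ i j := {W : B // (W : Opens X) ≤ (V i : Opens X) ⊓ V j}
  W i j k := k.1
  W_le_left i j k := k.2.trans inf_le_left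
  W_le_right i j k := k.2.trans inf_le_right
  W_cover i j := by
    intro x hx
    obtain ⟨W, hxW, hWle⟩ := exists_basis_mem_le hB hx
    exact Opens.mem_iSup.mpr ⟨⟨W, hWle⟩, hxW⟩

theorem sepB_of_isSheaf (hB : Opens.IsBasis B) (F : Pre B) (hF : IsSheaf F) : SepB F := by
  apply sepB_of_cofinal
  intro U ι V hV hcov
  refine ⟨ι, V, hV, fun i' => ⟨i', le_rfl⟩, ?_⟩
  intro t t' htt'
  have h := hF (canonCover hB U V hV hcov) (fun i => F.res (hV i) t) (by
    intro i j k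
    show F.res _ (F.res (hV i) t) = F.res _ (F.res (hV j) t)
    rw [F.res_comp, F.res_comp])
  exact h.unique (fun i => rfl) (fun i => (htt' i).symm)

theorem isSheaf_of_cofinal (hB : Opens.IsBasis B) (F : Pre B) (hsep : SepB F)
    (h : ∀ (U : B) (ι : Type u) (V : ι → B), (∀ i, (V i : Opens X) ≤ U) →
      (U : Opens X) ≤ ⨆ i, (V i : Opens X) →
      ∃ (ι' : Type u) (V' : ι' → B) (hV' : ∀ i', (V' i' : Opens X) ≤ U),
        (U : Opens X) ≤ ⨆ i', (V' i' : Opens X) ∧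
        (∀ i', ∃ i, (V' i' : Opens X) ≤ V i) ∧
        ∀ s' : ∀ i', F.obj (V' i'),
          (∀ i' j' (W : B) (h₁ : (W : Opens X) ≤ V' i') (h₂ : (W : Opens X) ≤ V' j'),
            F.res h₁ (s' i') = F.res h₂ (s' j')) →
          ∃! t : F.obj U, ∀ i', F.res (hV' i') t = s' i') : IsSheaf F := by
  intro c₀ s hs
  obtain ⟨ι', V', hV', hcov', href, hglue⟩ := h c₀.U c₀.ι c₀.V c₀.V_le c₀.V_cover
  choose α hα using href
  -- the refined family
  have hcompat : ∀ i' j' (W : B) (h₁ : (W : Opens X) ≤ V' i') (h₂ : (W : Opens X) ≤ V' j'),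
      F.res h₁ (F.res (hα i') (s (α i'))) = F.res h₂ (F.res (hα j') (s (α j'))) := by
    intro i' j' W h₁ h₂
    rw [F.res_comp, F.res_comp]
    apply res_eq_res_of_local hB hsep
    intro x hx
    have hx' : x ∈ (c₀.V (α i') : Opens X) ⊓ c₀.V (α j') := ⟨hα i' (h₁ hx), hα j' (h₂ hx)⟩
    obtain ⟨k₀, hk₀⟩ := Opens.mem_iSup.mp (c₀.W_cover (α i') (α j') hx')
    exact ⟨c₀.W (α i') (α j') k₀, hk₀, c₀.W_le_left _ _ k₀, c₀.W_le_right _ _ k₀, hs _ _ k₀⟩
  obtain ⟨t, ht, htuniq⟩ := hglue (fun i' => F.res (hα i') (s (α i'))) hcompat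
  refine ⟨t, ?_, ?_⟩
  · intro i
    have key : F.res (c₀.V_le i) t = F.res (le_refl (c₀.V i : Opens X)) (s i) := by
      apply res_eq_res_of_local hB hsep
      intro x hx
      obtain ⟨i', hi'⟩ := Opens.mem_iSup.mp (hcov' (c₀.V_le i hx))
      have hx' : x ∈ (c₀.V i : Opens X) ⊓ c₀.V (α i') := ⟨hx, hα i' hi'⟩
      obtain ⟨k₀, hk₀⟩ := Opens.mem_iSup.mp (c₀.W_cover i (α i') hx')
      obtain ⟨W', hxW', hW'⟩ := exists_basis_mem_le hB
        (show x ∈ (V' i' : Opens X) ⊓ c₀.W i (α i') k₀ from ⟨hi', hk₀⟩)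
      have hW'V' : (W' : Opens X) ≤ V' i' := hW'.trans inf_le_left
      have hW'W : (W' : Opens X) ≤ c₀.W i (α i') k₀ := hW'.trans inf_le_right
      refine ⟨W', hxW', hW'V'.trans (hV' i'), hW'W.trans (c₀.W_le_left _ _ k₀), ?_⟩
      calc F.res _ t = F.res hW'V' (F.res (hV' i') t) := (F.res_comp _ _ _).symm
        _ = F.res hW'V' (F.res (hα i') (s (α i'))) := by rw [ht i']
        _ = F.res (hW'W.trans (c₀.W_le_right _ _ k₀)) (s (α i')) := F.res_comp _ _ _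
        _ = F.res hW'W (F.res (c₀.W_le_right _ _ k₀) (s (α i'))) := (F.res_comp _ _ _).symm
        _ = F.res hW'W (F.res (c₀.W_le_left _ _ k₀) (s i)) := by rw [hs i (α i') k₀]
        _ = F.res _ (s i) := F.res_comp _ _ _
    rw [key, F.res_id]
  · intro t' ht'
    apply htuniq
    intro i'
    calc F.res (hV' i') t' = F.res (hα i') (F.res (c₀.V_le (α i')) t') := (F.res_comp _ _ _).symm
      _ = F.res (hα i') (s (α i')) := by rw [ht' (α i')]

/-! ### Stalks -/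

theorem stalkRel_equivalence (hB : Opens.IsBasis B) (F : Pre B) (x : X) :
    Equivalence (StalkRel F x) := by
  refine ⟨fun a => ⟨a.1.1, a.1.2, le_rfl, le_rfl, rfl⟩, ?_, ?_⟩
  · rintro a b ⟨W, hxW, ha, hb, h⟩
    exact ⟨W, hxW, hb, ha, h.symm⟩
  · rintro a b c ⟨W₁, hxW₁, ha₁, hb₁, h₁⟩ ⟨W₂, hxW₂, hb₂, hc₂, h₂⟩
    obtain ⟨W₃, hxW₃, hW₃⟩ :=
      exists_basis_mem_le hB (show x ∈ (W₁ : Opens X) ⊓ W₂ from ⟨hxW₁, hxW₂⟩)
    have h31 : (W₃ : Opens X) ≤ W₁ := hW₃.trans inf_le_left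
    have h32 : (W₃ : Opens X) ≤ W₂ := hW₃.trans inf_le_right
    refine ⟨W₃, hxW₃, h31.trans ha₁, h32.trans hc₂, ?_⟩
    calc F.res _ a.2 = F.res h31 (F.res ha₁ a.2) := (F.res_comp _ _ _).symm
      _ = F.res h31 (F.res hb₁ b.2) := by rw [h₁]
      _ = F.res (h31.trans hb₁) b.2 := F.res_comp _ _ _
      _ = F.res h32 (F.res hb₂ b.2) := (F.res_comp _ _ _).symm
      _ = F.res h32 (F.res hc₂ c.2) := by rw [h₂]
      _ = F.res _ c.2 := F.res_comp _ _ _

theorem germ_eq_iff (hB : Opens.IsBasis B) (F : Pre B) {U V : B} (x : X)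
    (hxU : x ∈ (U : Opens X)) (hxV : x ∈ (V : Opens X)) (s : F.obj U) (s' : F.obj V) :
    germ F x hxU s = germ F x hxV s' ↔
      ∃ (W : B) (_ : x ∈ (W : Opens X)) (h₁ : (W : Opens X) ≤ U) (h₂ : (W : Opens X) ≤ V),
        F.res h₁ s = F.res h₂ s' := by
  constructor
  · intro h
    have h' : Quot.mk (StalkRel F x) ⟨⟨U, hxU⟩, s⟩ = Quot.mk (StalkRel F x) ⟨⟨V, hxV⟩, s'⟩ := h
    exact (stalkRel_equivalence hB F x).eqvGen_iff.mp (Quot.eq.mp h')
  · intro h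
    exact Quot.sound h

theorem germ_res (hB : Opens.IsBasis B) (F : Pre B) {U V : B} (h : (V : Opens X) ≤ U) (x : X)
    (hxV : x ∈ (V : Opens X)) (s : F.obj U) :
    germ F x hxV (F.res h s) = germ F x (h hxV) s := by
  rw [germ_eq_iff hB]
  exact ⟨V, hxV, le_rfl, h, by rw [F.res_id]⟩

theorem germ_injective (hB : Opens.IsBasis B) (F : Pre B) (hsep : SepB F) (U : B) :
    Function.Injective
      (fun (s : F.obj U) (x : (U : Opens X)) => germ F x.1 x.2 s) := by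
  intro s s' h
  apply hsep U
  intro x hx
  have hx' := congrFun h ⟨x, hx⟩
  obtain ⟨W, hxW, h₁, h₂, heq⟩ := (germ_eq_iff hB F x hx hx s s').mp hx'
  exact ⟨W, hxW, h₁, heq⟩

theorem exists_section_of_germs (hB : Opens.IsBasis B) (F : Pre B) (hF : IsSheaf F) (U : B)
    (f : ∀ x : (U : Opens X), Stalk F x.1)
    (hf : ∀ x : (U : Opens X), ∃ (V : B) (hxV : x.1 ∈ (V : Opens X))
        (hVU : (V : Opens X) ≤ (U : Opens X)) (σ : F.obj V),
        ∀ (y : X) (hy : y ∈ (V : Opens X)), germ F y hy σ = f ⟨y, hVU hy⟩) :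
    ∃ s : F.obj U, ∀ x, germ F x.1 x.2 s = f x := by
  have hsep := sepB_of_isSheaf hB F hF
  choose V hxV hVU σ hσ using hf
  have hcov : (U : Opens X) ≤ ⨆ x, (V x : Opens X) :=
    fun x hx => Opens.mem_iSup.mpr ⟨⟨x, hx⟩, hxV ⟨x, hx⟩⟩
  have hcompat : ∀ (i j : (U : Opens X)) (k : (canonCover hB U V hVU hcov).κ i j),
      F.res ((canonCover hB U V hVU hcov).W_le_left i j k) (σ i) =
        F.res ((canonCover hB U V hVU hcov).W_le_right i j k) (σ j) := by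
    intro i j k
    apply res_eq_res_of_local hB hsep
    intro z hz
    have hzi : z ∈ (V i : Opens X) := (canonCover hB U V hVU hcov).W_le_left i j k hz
    have hzj : z ∈ (V j : Opens X) := (canonCover hB U V hVU hcov).W_le_right i j k hz
    have hg : germ F z hzi (σ i) = germ F z hzj (σ j) := by rw [hσ i z hzi, hσ j z hzj]
    obtain ⟨W', hzW', h₁, h₂, heq⟩ := (germ_eq_iff hB F z hzi hzj _ _).mp hg
    exact ⟨W', hzW', h₁, h₂, heq⟩
  obtain ⟨s, hs, -⟩ := hF (canonCover hB U V hVU hcov) σ hcompat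
  refine ⟨s, fun y => ?_⟩
  have h1 : germ F y.1 (hxV y) (F.res (hVU y) s) = germ F y.1 y.2 s := germ_res hB F _ _ _ _
  rw [← h1]
  have h2 : F.res (hVU y) s = σ y := hs y
  rw [h2]
  exact hσ y y.1 (hxV y)

end Groth.Agent.H38
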