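import Mathlib
import Groth.Agent.H38.ShBasis

set_option autoImplicit false
universe u

namespace Groth.Agent.H38

open TopologicalSpace ShB CategoryTheory Opposite

variable {X : Type u} [TopologicalSpace X] {B : Set (Opens X)}

/-- the prelocal predicate: locally the family of germs of a section over a member of `B`. -/
def germPred (hB : Opens.IsBasis B) (F : Pre B) :
    TopCat.PrelocalPredicate (X := TopCat.of X) (fun x => Stalk F x) where
  pred {O} f := ∀ x : O, ∃ (V : B) (_ : x.1 ∈ (V : Opens X)) (hVO : (V : Opens X) ≤ O)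
      (σ : F.obj V), ∀ (y : X) (hy : y ∈ (V : Opens X)), germ F y hy σ = f ⟨y, hVO hy⟩
  res {O' O} i f hf x := by
    obtain ⟨V, hxV, hVO, σ, hσ⟩ := hf ⟨x.1, i.le x.2⟩
    obtain ⟨W, hxW, hW⟩ :=
      exists_basis_mem_le hB (show x.1 ∈ (V : Opens X) ⊓ O' from ⟨hxV, x.2⟩)
    refine ⟨W, hxW, hW.trans inf_le_right, F.res (hW.trans inf_le_left) σ, fun y hy => ?_⟩
    rw [germ_res hB]
    exact hσ y _

/-- it is local -/
def germLocalPred (hB : Opens.IsBasis B) (F : Pre B) :
    TopCat.LocalPredicate (X := TopCat.of X) (fun x => Stalk F x) where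
  toPrelocalPredicate := germPred hB F
  locality {O} f h x := by
    obtain ⟨O'', hxO'', i, hp⟩ := h x
    obtain ⟨V, hxV, hVO'', σ, hσ⟩ := hp ⟨x.1, hxO''⟩
    exact ⟨V, hxV, hVO''.trans i.le, σ, fun y hy => hσ y hy⟩

/-- the extension of a sheaf on a basis -/
noncomputable def extSheaf (hB : Opens.IsBasis B) (F : Pre B) :
    TopCat.Sheaf (Type u) (TopCat.of X) :=
  TopCat.subsheafToTypes (germLocalPred hB F)

/-- sections of the extension over a member of the basis -/
abbrev ExtSec (hB : Opens.IsBasis B) (F : Pre B) (U : B) : Type u :=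
  {f : ∀ x : (U : Opens X), Stalk F x.1 // (germPred hB F).pred (U := (U : Opens X)) f}

noncomputable def extHomApp (hB : Opens.IsBasis B) (F : Pre B) (hF : IsSheaf F) (U : B)
    (g : ExtSec hB F U) : F.obj U :=
  Classical.choose (exists_section_of_germs hB F hF U g.1 g.2)

theorem extHomApp_spec (hB : Opens.IsBasis B) (F : Pre B) (hF : IsSheaf F) (U : B)
    (g : ExtSec hB F U) (x : (U : Opens X)) :
    germ F x.1 x.2 (extHomApp hB F hF U g) = g.1 x :=
  Classical.choose_spec (exists_section_of_germs hB F hF U g.1 g.2) x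

def extInvApp (hB : Opens.IsBasis B) (F : Pre B) (U : B) (s : F.obj U) : ExtSec hB F U :=
  ⟨fun x => germ F x.1 x.2 s, fun x => ⟨U, x.2, le_rfl, s, fun _ _ => rfl⟩⟩

theorem extHomApp_extInvApp (hB : Opens.IsBasis B) (F : Pre B) (hF : IsSheaf F) (U : B)
    (s : F.obj U) : extHomApp hB F hF U (extInvApp hB F U s) = s := by
  apply germ_injective hB F (sepB_of_isSheaf hB F hF) U
  funext x
  exact extHomApp_spec hB F hF U (extInvApp hB F U s) x

theorem extInvApp_extHomApp (hB : Opens.IsBasis B) (F : Pre B) (hF : IsSheaf F) (U : B)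
    (g : ExtSec hB F U) : extInvApp hB F U (extHomApp hB F hF U g) = g := by
  apply Subtype.ext
  funext x
  exact extHomApp_spec hB F hF U g x

theorem extHomApp_natural (hB : Opens.IsBasis B) (F : Pre B) (hF : IsSheaf F) {U V : B}
    (h : (V : Opens X) ≤ U) (s : ExtSec hB F U) :
    F.res h (extHomApp hB F hF U s) =
      extHomApp hB F hF V ⟨fun y => s.1 ⟨y.1, h y.2⟩,
        (germPred hB F).res (homOfLE h) s.1 s.2⟩ := by
  apply germ_injective hB F (sepB_of_isSheaf hB F hF) V
  funext y
  show germ F y.1 y.2 (F.res h (extHomApp hB F hF U s)) =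
    germ F y.1 y.2 (extHomApp hB F hF V _)
  rw [germ_res hB, extHomApp_spec hB F hF V _ y]
  exact extHomApp_spec hB F hF U s ⟨y.1, h y.2⟩

theorem alpha_natural (F : Pre B) (G G' : TopCat.Sheaf (Type u) (TopCat.of X))
    (e : Iso (restrict B G.presheaf) F) (e' : Iso (restrict B G'.presheaf) F) {U V : B}
    (hle : (V : Opens X) ≤ U) (s : G.presheaf.obj (op (U : Opens X))) :
    e'.inv.app V (e.hom.app V (G.presheaf.map (homOfLE hle).op s)) =
      G'.presheaf.map (homOfLE hle).op (e'.inv.app U (e.hom.app U s)) := by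
  have e1 := e.hom.natural hle s
  have e2 := e'.inv.natural hle (e.hom.app U s)
  exact (congrArg (e'.inv.app V) e1.symm).trans e2.symm

/-- the isomorphism between the restriction of the extension and `F` -/
noncomputable def extIso (hB : Opens.IsBasis B) (F : Pre B) (hF : IsSheaf F) :
    Iso (restrict B (extSheaf hB F).presheaf) F where
  hom :=
    { app := fun U g => extHomApp hB F hF U g
      natural := fun h s => extHomApp_natural hB F hF h s }
  inv :=
    { app := fun U s => extInvApp hB F U s
      natural := by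
        intro U V h s
        apply Subtype.ext
        funext y
        exact (germ_res hB F h y.1 y.2 s).symm }
  hom_inv := fun U g => extInvApp_extHomApp hB F hF U g
  inv_hom := fun U s => extHomApp_extInvApp hB F hF U s

/-- uniqueness of the extension -/
theorem ext_unique (hB : Opens.IsBasis B) (F : Pre B)
    (G G' : TopCat.Sheaf (Type u) (TopCat.of X)) (e : Iso (restrict B G.presheaf) F)
    (e' : Iso (restrict B G'.presheaf) F) :
    ∃! φ : G ⟶ G', IsIso φ ∧ ∀ (U : B) (s : G.presheaf.obj (op (U : Opens X))),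
        e'.hom.app U (φ.1.app (op (U : Opens X)) s) = e.hom.app U s := by
  have hB' : Opens.IsBasis (Set.range (Subtype.val : B → Opens (TopCat.of X))) := by
    rw [Subtype.range_coe]; exact hB
  let α : (inducedFunctor (Subtype.val : B → Opens (TopCat.of X))).op ⋙ G.presheaf ⟶
      (inducedFunctor (Subtype.val : B → Opens (TopCat.of X))).op ⋙ G'.1 :=
    { app := fun U => ↾(fun s => e'.inv.app U.unop (e.hom.app U.unop s))
      naturality := by
        intro U V f
        ext s
        exact alpha_natural F G G' e e' f.unop.hom.le s }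
  have hα : ∀ U : B, (TopCat.Sheaf.restrictHomEquivHom G.presheaf G' hB' α).app (op (U : Opens X))
      = α.app (op U) := fun U => TopCat.Sheaf.extend_hom_app G.presheaf G' hB' α U
  let φ : G ⟶ G' := ObjectProperty.homMk (TopCat.Sheaf.restrictHomEquivHom G.presheaf G' hB' α)
  have hφ : ∀ (U : B) (s : G.presheaf.obj (op (U : Opens X))),
      φ.1.app (op (U : Opens X)) s = e'.inv.app U (e.hom.app U s) := by
    intro U s
    have := congrArg (fun k => k s) (hα U)
    exact this
  refine ⟨φ, ⟨?_, ?_⟩, ?_⟩
  · apply TopCat.Sheaf.isIso_iff_isIso_basis hB'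
    intro U
    rw [isIso_iff_bijective]
    constructor
    · intro s s' hss'
      have h1 : φ.1.app (op (U : Opens X)) s = φ.1.app (op (U : Opens X)) s' := hss'
      rw [hφ, hφ] at h1
      have h2 := congrArg (e'.hom.app U) h1
      rw [e'.inv_hom, e'.inv_hom] at h2
      have h3 := congrArg (e.inv.app U) h2
      rw [e.hom_inv, e.hom_inv] at h3
      exact h3
    · intro t
      refine ⟨e.inv.app U (e'.hom.app U t), ?_⟩
      show φ.1.app (op (U : Opens X)) _ = t
      rw [hφ, e.inv_hom, e'.hom_inv]
  · intro U s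
    rw [hφ, e'.inv_hom]
  · rintro φ' ⟨-, h'⟩
    apply Sheaf.hom_ext
    apply TopCat.Sheaf.hom_ext G.presheaf G' hB'
    intro U
    ext s
    show φ'.1.app (op (U : Opens X)) s = φ.1.app (op (U : Opens X)) s
    rw [hφ]
    have h1 := congrArg (e'.inv.app U) (h' U s)
    rw [e'.hom_inv] at h1
    exact h1

end Groth.Agent.H38
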