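import Mathlib
import Groth.Prelude.Def_W4stktopologysheavesDim

set_option autoImplicit false
universe u

namespace Groth.Agent.H38

open TopologicalSpace Topology Set PtTop

section
variable {X : Type u} [TopologicalSpace X]

/-- carrier set of a point of the soberification -/
local notation "cs(" Z ")" => @SetLike.coe (IrreducibleCloseds _) _ _ Z

/-- The basic open `D(U)` of the soberification. -/
def sobD (U : Set X) : Set (Sob X) :=
  {Z : IrreducibleCloseds X | ((Z : Set X) ∩ U).Nonempty}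

/-- the generating family of the topology of `Sob X`. -/
def sobGen (X : Type u) [TopologicalSpace X] : Set (Set (Sob X)) :=
  {S : Set (IrreducibleCloseds X) |
      ∃ U : Opens X, S = {Z : IrreducibleCloseds X | ((Z : Set X) ∩ (U : Set X)).Nonempty}}

theorem isOpen_sob_iff_generateOpen {S : Set (Sob X)} :
    IsOpen S ↔ TopologicalSpace.GenerateOpen (sobGen X) S := Iff.rfl

theorem isOpen_sobD {U : Set X} (hU : IsOpen U) : IsOpen (sobD U) :=
  isOpen_sob_iff_generateOpen.mpr (TopologicalSpace.GenerateOpen.basic _ ⟨⟨U, hU⟩, rfl⟩)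

theorem sobD_inter (U V : Set X) (hU : IsOpen U) (hV : IsOpen V) :
    sobD (U ∩ V) = sobD U ∩ sobD V := by
  ext Z
  constructor
  · rintro ⟨x, hxZ, hxU, hxV⟩; exact ⟨⟨x, hxZ, hxU⟩, ⟨x, hxZ, hxV⟩⟩
  · rintro ⟨h1, h2⟩
    exact (Z : IrreducibleCloseds X).isIrreducible.isPreirreducible U V hU hV h1 h2

theorem sobD_iUnion {ι : Sort*} (U : ι → Set X) : sobD (⋃ i, U i) = ⋃ i, sobD (U i) := by
  ext Z
  constructor
  · rintro ⟨x, hxZ, hx⟩
    obtain ⟨i, hi⟩ := mem_iUnion.mp hx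
    exact mem_iUnion.mpr ⟨i, x, hxZ, hi⟩
  · intro h
    obtain ⟨i, x, hxZ, hi⟩ := mem_iUnion.mp h
    exact ⟨x, hxZ, mem_iUnion.mpr ⟨i, hi⟩⟩

theorem sobD_univ : sobD (univ : Set X) = univ := by
  ext Z
  constructor
  · intro _; trivial
  · intro _
    obtain ⟨x, hx⟩ := (Z : IrreducibleCloseds X).isIrreducible.nonempty
    exact ⟨x, hx, trivial⟩

theorem isOpen_sob_iff {S : Set (Sob X)} : IsOpen S ↔ ∃ U : Set X, IsOpen U ∧ S = sobD U := by
  constructor
  · intro hS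
    have hS' : TopologicalSpace.GenerateOpen (sobGen X) S := hS
    induction hS' with
    | basic s hs => obtain ⟨U, rfl⟩ := hs; exact ⟨U, U.2, rfl⟩
    | univ => exact ⟨univ, isOpen_univ, sobD_univ.symm⟩
    | inter s t _ _ ihs iht =>
      obtain ⟨U, hU, rfl⟩ := ihs (isOpen_sob_iff_generateOpen.mpr ‹_›)
      obtain ⟨V, hV, rfl⟩ := iht (isOpen_sob_iff_generateOpen.mpr ‹_›)
      exact ⟨U ∩ V, hU.inter hV, (sobD_inter U V hU hV).symm⟩
    | sUnion 𝒮 h𝒮 ih =>
      have ih' : ∀ s ∈ 𝒮, ∃ U : Set X, IsOpen U ∧ s = sobD U := fun s hs =>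
        ih s hs (isOpen_sob_iff_generateOpen.mpr (h𝒮 s hs))
      choose! U hU hSU using ih'
      refine ⟨⋃ s ∈ 𝒮, U s, isOpen_iUnion fun s => isOpen_iUnion fun hs => hU s hs, ?_⟩
      ext Z
      constructor
      · rintro ⟨s, hs, hZs⟩
        obtain ⟨x, hxZ, hxU⟩ := (hSU s hs).subset hZs
        exact ⟨x, hxZ, mem_iUnion₂.mpr ⟨s, hs, hxU⟩⟩
      · rintro ⟨x, hxZ, hx⟩
        obtain ⟨s, hs, hxU⟩ := mem_iUnion₂.mp hx
        exact ⟨s, hs, (hSU s hs).superset ⟨x, hxZ, hxU⟩⟩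
  · rintro ⟨U, hU, rfl⟩; exact isOpen_sobD hU

theorem toSob_preimage_sobD {U : Set X} (hU : IsOpen U) : toSob X ⁻¹' sobD U = U := by
  ext x
  show (closure {x} ∩ U).Nonempty ↔ x ∈ U
  constructor
  · rintro ⟨y, hy, hyU⟩
    exact (specializes_iff_mem_closure.mpr hy).mem_open hU hyU
  · intro hx; exact ⟨x, subset_closure rfl, hx⟩

theorem continuous_toSob : Continuous (toSob X) := by
  rw [continuous_def]; intro S hS
  obtain ⟨U, hU, rfl⟩ := isOpen_sob_iff.mp hS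
  rw [toSob_preimage_sobD hU]; exact hU

theorem sobD_subset_iff {U V : Set X} (hU : IsOpen U) (hV : IsOpen V) :
    sobD U ⊆ sobD V ↔ U ⊆ V := by
  constructor
  · intro h
    rw [← toSob_preimage_sobD hU, ← toSob_preimage_sobD hV]; exact preimage_mono h
  · rintro h Z ⟨x, hxZ, hxU⟩; exact ⟨x, hxZ, h hxU⟩

theorem t0Space_sob : T0Space (Sob X) := by
  rw [t0Space_iff_inseparable]
  intro Z Z' h
  have key : ∀ A B : Sob X, Inseparable A B →
      cs(A) ⊆ cs(B) := by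
    intro A B hAB
    by_contra hne
    rw [not_subset] at hne
    obtain ⟨x, hxA, hxB⟩ := hne
    have hA : A ∈ sobD (cs(B))ᶜ := ⟨x, hxA, hxB⟩
    have hB : B ∈ sobD (cs(B))ᶜ :=
      (hAB.mem_open_iff (isOpen_sobD (B : IrreducibleCloseds X).isClosed.isOpen_compl)).mp hA
    obtain ⟨y, hyB, hyB'⟩ := hB
    exact hyB' hyB
  show @Eq (IrreducibleCloseds X) Z Z'
  exact SetLike.coe_injective (subset_antisymm (key Z Z' h) (key Z' Z h.symm))

theorem quasiSober_sob : QuasiSober (Sob X) := by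
  constructor
  intro 𝒞 hirr hcl
  obtain ⟨U, hU, hCU⟩ := isOpen_sob_iff.mp hcl.isOpen_compl
  have hmem : ∀ Z : Sob X, Z ∈ 𝒞 ↔ cs(Z) ⊆ Uᶜ := by
    intro Z
    have h1 : Z ∈ 𝒞 ↔ Z ∉ sobD U := by rw [← hCU]; simp
    rw [h1]
    show ¬ (cs(Z) ∩ U).Nonempty ↔ _
    rw [not_nonempty_iff_eq_empty, ← disjoint_iff_inter_eq_empty, subset_compl_iff_disjoint_right]
  have hF'U : closure (⋃ Z ∈ 𝒞, cs(Z)) ⊆ Uᶜ :=
    closure_minimal (iUnion₂_subset fun Z hZ => (hmem Z).mp hZ) hU.isClosed_compl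
  have hF'irr : IsIrreducible (closure (⋃ Z ∈ 𝒞, cs(Z))) := by
    obtain ⟨Z₀, hZ₀⟩ := hirr.nonempty
    refine ⟨?_, ?_⟩
    · obtain ⟨x, hx⟩ := (Z₀ : IrreducibleCloseds X).isIrreducible.nonempty
      exact ⟨x, subset_closure (mem_iUnion₂.mpr ⟨Z₀, hZ₀, hx⟩)⟩
    · intro V W hV hW hFV hFW
      obtain ⟨y, hyF, hyV⟩ := hFV
      obtain ⟨z, hzV, hz⟩ := mem_closure_iff.mp hyF V hV hyV
      obtain ⟨Z, hZ, hzZ⟩ := mem_iUnion₂.mp hz
      obtain ⟨y', hy'F, hy'W⟩ := hFW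
      obtain ⟨z', hz'W, hz'⟩ := mem_closure_iff.mp hy'F W hW hy'W
      obtain ⟨Z', hZ', hz'Z'⟩ := mem_iUnion₂.mp hz'
      obtain ⟨Z'', hZ''C, hZ''V, hZ''W⟩ := hirr.isPreirreducible (sobD V) (sobD W)
        (isOpen_sobD hV) (isOpen_sobD hW) ⟨Z, hZ, ⟨z, hzZ, hzV⟩⟩ ⟨Z', hZ', ⟨z', hz'Z', hz'W⟩⟩
      obtain ⟨x, hxZ'', hxVW⟩ :=
        (Z'' : IrreducibleCloseds X).isIrreducible.isPreirreducible V W hV hW hZ''V hZ''W
      exact ⟨x, subset_closure (mem_iUnion₂.mpr ⟨Z'', hZ''C, hxZ''⟩), hxVW⟩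
  let P : IrreducibleCloseds X := ⟨_, hF'irr, isClosed_closure⟩
  have hP : (P : Sob X) ∈ 𝒞 := (hmem P).mpr hF'U
  refine ⟨(P : Sob X), ?_⟩
  rw [isGenericPoint_iff_forall_closed hcl hP]
  intro 𝒵 h𝒵 hP𝒵 Z hZ
  obtain ⟨W, hW, h𝒵W⟩ := isOpen_sob_iff.mp h𝒵.isOpen_compl
  by_contra hZ𝒵
  have h1 : Z ∈ sobD W := by rw [← h𝒵W]; exact hZ𝒵
  obtain ⟨x, hxZ, hxW⟩ := h1
  have hxF' : x ∈ closure (⋃ Z ∈ 𝒞, cs(Z)) :=
    subset_closure (mem_iUnion₂.mpr ⟨Z, hZ, hxZ⟩)
  have h2 : (P : Sob X) ∈ sobD W := ⟨x, hxF', hxW⟩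
  rw [← h𝒵W] at h2
  exact h2 hP𝒵

theorem exists_lift_sob {Y : Type u} [TopologicalSpace Y] [QuasiSober Y] [T0Space Y]
    (f : X → Y) (hf : Continuous f) :
    ∃ g : Sob X → Y, Continuous g ∧ g ∘ toSob X = f := by
  have hirr : ∀ Z : Sob X,
      IsIrreducible (closure (f '' cs(Z))) := fun Z =>
    ((Z : IrreducibleCloseds X).isIrreducible.image f hf.continuousOn).closure
  let g : Sob X → Y := fun Z => (hirr Z).genericPoint
  have hg : ∀ Z : Sob X,
      IsGenericPoint (g Z) (closure (f '' cs(Z))) := fun Z =>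
    (hirr Z).isGenericPoint_genericPoint isClosed_closure
  refine ⟨g, ?_, ?_⟩
  · rw [continuous_def]
    intro V hV
    have hpre : g ⁻¹' V = sobD (f ⁻¹' V) := by
      ext Z
      show g Z ∈ V ↔ _
      rw [(hg Z).mem_open_set_iff hV]
      constructor
      · rintro ⟨y, hy, hyV⟩
        obtain ⟨y', hy'V, ⟨x, hxZ, rfl⟩⟩ := mem_closure_iff.mp hy V hV hyV
        exact ⟨x, hxZ, hy'V⟩
      · rintro ⟨x, hxZ, hxV⟩
        exact ⟨f x, subset_closure ⟨x, hxZ, rfl⟩, hxV⟩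
    rw [hpre]; exact isOpen_sobD (hV.preimage hf)
  · funext x
    show g (toSob X x) = f x
    apply (hg (toSob X x)).eq
    show closure {f x} = closure (f '' closure {x})
    apply subset_antisymm
    · exact closure_mono (singleton_subset_iff.mpr ⟨x, subset_closure rfl, rfl⟩)
    · apply closure_minimal _ isClosed_closure
      rw [image_subset_iff]
      exact closure_minimal (singleton_subset_iff.mpr (subset_closure rfl))
        (isClosed_closure.preimage hf)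

theorem bijOn_preimage_toSob :
    Set.BijOn (fun U' : Set (Sob X) => toSob X ⁻¹' U') {U' | IsOpen U'} {U : Set X | IsOpen U} := by
  refine ⟨fun U' hU' => hU'.preimage continuous_toSob, ?_, ?_⟩
  · intro S hS T hT hST
    obtain ⟨U, hU, rfl⟩ := isOpen_sob_iff.mp hS
    obtain ⟨V, hV, rfl⟩ := isOpen_sob_iff.mp hT
    have hST' : toSob X ⁻¹' sobD U = toSob X ⁻¹' sobD V := hST
    rw [toSob_preimage_sobD hU, toSob_preimage_sobD hV] at hST'
    rw [hST']
  · intro U hU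
    exact ⟨sobD U, isOpen_sobD hU, toSob_preimage_sobD hU⟩

theorem isCompact_sobD_iff {U : Set X} (hU : IsOpen U) : IsCompact (sobD U) ↔ IsCompact U := by
  constructor
  · intro hc
    rw [isCompact_iff_finite_subcover]
    intro ι W hWo hcov
    obtain ⟨t, ht⟩ := hc.elim_finite_subcover (fun i => sobD (W i)) (fun i => isOpen_sobD (hWo i))
      (by rw [← sobD_iUnion]; exact (sobD_subset_iff hU (isOpen_iUnion hWo)).mpr hcov)
    refine ⟨t, ?_⟩
    rw [← sobD_subset_iff hU (isOpen_iUnion fun i => isOpen_iUnion fun _ => hWo i)]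
    rw [sobD_iUnion]; simp_rw [sobD_iUnion]; exact ht
  · intro hc
    rw [isCompact_iff_finite_subcover]
    intro ι 𝒲 h𝒲o hcov
    choose W hWo hW using fun i => isOpen_sob_iff.mp (h𝒲o i)
    have hcov' : U ⊆ ⋃ i, W i := by
      rw [← sobD_subset_iff hU (isOpen_iUnion hWo), sobD_iUnion]
      simp_rw [← hW]; exact hcov
    obtain ⟨t, ht⟩ := hc.elim_finite_subcover W hWo hcov'
    refine ⟨t, ?_⟩
    have h := (sobD_subset_iff hU (isOpen_iUnion fun i => isOpen_iUnion fun _ => hWo i)).mpr ht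
    rw [sobD_iUnion] at h; simp_rw [sobD_iUnion] at h
    simp_rw [hW]; exact h

theorem compactSpace_sob [CompactSpace X] : CompactSpace (Sob X) := by
  constructor
  rw [← sobD_univ]
  exact (isCompact_sobD_iff isOpen_univ).mpr isCompact_univ

theorem spectralSpace_sob [CompactSpace X] [PrespectralSpace X] [QuasiSeparatedSpace X] :
    SpectralSpace (Sob X) := by
  haveI := t0Space_sob (X := X)
  haveI := compactSpace_sob (X := X)
  haveI := quasiSober_sob (X := X)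
  haveI : QuasiSeparatedSpace (Sob X) := by
    constructor
    intro S T hS hSc hT hTc
    obtain ⟨U, hU, rfl⟩ := isOpen_sob_iff.mp hS
    obtain ⟨V, hV, rfl⟩ := isOpen_sob_iff.mp hT
    rw [← sobD_inter U V hU hV, isCompact_sobD_iff (hU.inter hV)]
    exact ((isCompact_sobD_iff hU).mp hSc).inter_of_isOpen ((isCompact_sobD_iff hV).mp hTc) hU hV
  haveI : PrespectralSpace (Sob X) := by
    apply PrespectralSpace.of_isTopologicalBasis
      (B := {S | ∃ U : Set X, IsOpen U ∧ IsCompact U ∧ S = sobD U})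
    · apply TopologicalSpace.isTopologicalBasis_of_isOpen_of_nhds
      · rintro S ⟨U, hU, -, rfl⟩; exact isOpen_sobD hU
      · intro Z S hZS hS
        obtain ⟨W, hW, rfl⟩ := isOpen_sob_iff.mp hS
        obtain ⟨x, hxZ, hxW⟩ := hZS
        obtain ⟨U, ⟨hUo, hUc⟩, hxU, hUW⟩ :=
          PrespectralSpace.isTopologicalBasis.exists_subset_of_mem_open hxW hW
        exact ⟨sobD U, ⟨U, hUo, hUc, rfl⟩, ⟨x, hxZ, hxU⟩, (sobD_subset_iff hUo hW).mpr hUW⟩
    · rintro S ⟨U, hU, hUc, rfl⟩; exact (isCompact_sobD_iff hU).mpr hUc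
  exact { }

theorem noetherianSpace_sob [NoetherianSpace X] : NoetherianSpace (Sob X) := by
  rw [noetherianSpace_iff_opens]
  intro S
  obtain ⟨U, hU, hSU⟩ := isOpen_sob_iff.mp S.isOpen
  rw [hSU, isCompact_sobD_iff hU]
  exact NoetherianSpace.isCompact U

theorem spectralSpace_sob_of_noetherian [NoetherianSpace X] : SpectralSpace (Sob X) := by
  haveI : QuasiSeparatedSpace X := ⟨fun U V _ _ _ _ => NoetherianSpace.isCompact _⟩
  exact spectralSpace_sob

end

end Groth.Agent.H38
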