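import Mathlib
import Groth.Agent.H38.ValFibreDim
import Groth.Agent.H54.AffineTrdeg

/-!
# Ring-level preliminaries for density of fibre-closed points under specialization (helper38)
-/

set_option autoImplicit false
universe u
open TensorProduct

namespace Groth.Agent.H38.SpecDense

/-- `MvPolynomial (Fin n) R` is integrally closed when `R` is. -/
theorem isIntegrallyClosed_mvPolynomial_fin (R : Type u) [CommRing R] [IsDomain R]
    [IsIntegrallyClosed R] (n : ℕ) : IsIntegrallyClosed (MvPolynomial (Fin n) R) := by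
  induction n with
  | zero => exact IsIntegrallyClosed.of_equiv (MvPolynomial.isEmptyRingEquiv R (Fin 0)).symm
  | succ n ih =>
    haveI := ih
    exact IsIntegrallyClosed.of_equiv (MvPolynomial.finSuccEquiv R n).symm.toRingEquiv

section Saturation

variable {R B : Type*} [CommRing R] [CommRing B] [Algebra R B]

/-- Primes of the integral closure not containing `r` extend to primes of `B`, when `B` and the
integral closure agree after inverting `r`. -/
theorem exists_prime_of_saturation (r : B) (hr : IsIntegral R r)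
    (hsat : ∀ x : B, ∃ m : ℕ, IsIntegral R (r ^ m * x))
    (Q' : Ideal (integralClosure R B)) [hQ' : Q'.IsPrime]
    (hrQ' : (⟨r, hr⟩ : integralClosure R B) ∉ Q') :
    ∃ Q : Ideal B, Q.IsPrime ∧ Q.comap (algebraMap (integralClosure R B) B) = Q' ∧
      ∀ x, x ∈ Q ↔ ∃ (m : ℕ) (q : integralClosure R B), q ∈ Q' ∧ (q : B) = r ^ m * x := by
  classical
  set r' : integralClosure R B := ⟨r, hr⟩ with hr'
  have hr'pow : ∀ m : ℕ, r' ^ m ∉ Q' := fun m h => hrQ' (hQ'.mem_of_pow_mem m h)
  let Q : Ideal B :=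
    { carrier := {x | ∃ (m : ℕ) (q : integralClosure R B), q ∈ Q' ∧ (q : B) = r ^ m * x}
      zero_mem' := ⟨0, 0, Q'.zero_mem, by simp⟩
      add_mem' := by
        rintro x x' ⟨m, q, hq, e⟩ ⟨m', q', hq', e'⟩
        refine ⟨m + m', r' ^ m' * q + r' ^ m * q', Q'.add_mem (Q'.mul_mem_left _ hq)
          (Q'.mul_mem_left _ hq'), ?_⟩
        push_cast
        rw [e, e']
        show r ^ m' * (r ^ m * x) + r ^ m * (r ^ m' * x') = _
        ring
      smul_mem' := by
        rintro c x ⟨m, q, hq, e⟩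
        obtain ⟨mc, hc⟩ := hsat c
        refine ⟨mc + m, ⟨r ^ mc * c, hc⟩ * q, Q'.mul_mem_left _ hq, ?_⟩
        push_cast
        rw [e, smul_eq_mul]
        ring }
  have hmem : ∀ x, x ∈ Q ↔ ∃ (m : ℕ) (q : integralClosure R B), q ∈ Q' ∧ (q : B) = r ^ m * x :=
    fun x => Iff.rfl
  refine ⟨Q, ⟨?_, ?_⟩, ?_, hmem⟩
  · -- ne_top
    intro htop
    have h1 : (1 : B) ∈ Q := htop ▸ Submodule.mem_top
    obtain ⟨m, q, hq, e⟩ := (hmem 1).mp h1
    have : q = r' ^ m := Subtype.ext (by rw [e, mul_one]; rfl)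
    exact hr'pow m (this ▸ hq)
  · -- mul
    intro x x' hxx'
    obtain ⟨m, q, hq, e⟩ := (hmem _).mp hxx'
    obtain ⟨mx, hx⟩ := hsat x
    obtain ⟨mx', hx'⟩ := hsat x'
    set cx : integralClosure R B := ⟨r ^ mx * x, hx⟩
    set cx' : integralClosure R B := ⟨r ^ mx' * x', hx'⟩
    have hprod : cx * cx' * r' ^ m = r' ^ (mx + mx') * q := by
      apply Subtype.ext
      push_cast
      rw [e]
      show r ^ mx * x * (r ^ mx' * x') * r ^ m = r ^ (mx + mx') * (r ^ m * (x * x'))
      ring
    have hin : cx * cx' * r' ^ m ∈ Q' := hprod ▸ Q'.mul_mem_left _ hq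
    rcases hQ'.mem_or_mem hin with h | h
    · rcases hQ'.mem_or_mem h with h | h
      · exact Or.inl ((hmem x).mpr ⟨mx, cx, h, rfl⟩)
      · exact Or.inr ((hmem x').mpr ⟨mx', cx', h, rfl⟩)
    · exact absurd h (hr'pow m)
  · ext z
    rw [Ideal.mem_comap, hmem]
    constructor
    · rintro ⟨m, q, hq, e⟩
      have : q = r' ^ m * z := Subtype.ext (by rw [e]; rfl)
      rw [this] at hq
      rcases hQ'.mem_or_mem hq with h | h
      · exact absurd h (hr'pow m)
      · exact h
    · intro hz
      exact ⟨0, z, hz, by simp⟩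

end Saturation

end Groth.Agent.H38.SpecDense
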