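import Mathlib
import Groth.Agent.H38.SpecDense1

/-!
# Quasi-finiteness at a prime which is minimal and maximal in its fibre (helper38)
-/

set_option autoImplicit false
universe u
open TensorProduct

namespace Groth.Agent.H38.SpecDense

section QF

variable {R B : Type u} [CommRing R] [CommRing B] [Algebra R B] [Algebra.FiniteType R B]

/-- If `n0` is a maximal ideal of `R` and `P'` is a maximal ideal of `B` minimal over `n0 B`,
then `B` is quasi-finite over `R` at `P'`. -/
theorem quasiFiniteAt_of_minimal_maximal (P' : Ideal B) [hmax : P'.IsMaximal]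
    (n0 : Ideal R) [hn0 : n0.IsMaximal] (hmin : P' ∈ (n0.map (algebraMap R B)).minimalPrimes) :
    Algebra.QuasiFiniteAt R P' := by
  classical
  set J := n0.map (algebraMap R B) with hJ
  have hJP : J ≤ P' := hmin.1.2
  have hn0eq : P'.under R = n0 := by
    refine (hn0.eq_of_le ?_ (Ideal.map_le_iff_le_comap.mp hJP)).symm
    exact (Ideal.IsPrime.under R P').ne_top
  letI : Field (R ⧸ n0) := Ideal.Quotient.field n0
  haveI : Algebra.FiniteType R (B ⧸ J) := inferInstance
  haveI : Algebra.FiniteType (R ⧸ n0) (B ⧸ J) :=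
    Algebra.FiniteType.of_restrictScalars_finiteType R (R ⧸ n0) (B ⧸ J)
  haveI : IsNoetherianRing (B ⧸ J) := Algebra.FiniteType.isNoetherianRing (R ⧸ n0) (B ⧸ J)
  haveI : IsJacobsonRing (B ⧸ J) := isJacobsonRing_of_finiteType (A := R ⧸ n0)
  have hsurj : Function.Surjective (Ideal.Quotient.mk J) := Ideal.Quotient.mk_surjective
  have hrange : Set.range (PrimeSpectrum.comap (Ideal.Quotient.mk J)) =
      PrimeSpectrum.zeroLocus (J : Set B) := by
    rw [range_comap_of_surjective _ _ hsurj, Ideal.mk_ker]
  have hlift : ∀ q : PrimeSpectrum B, J ≤ q.asIdeal →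
      ∃ qb : PrimeSpectrum (B ⧸ J), PrimeSpectrum.comap (Ideal.Quotient.mk J) qb = q := by
    intro q hq
    have : q ∈ Set.range (PrimeSpectrum.comap (Ideal.Quotient.mk J)) := by
      rw [hrange]; exact hq
    exact this
  obtain ⟨Pb, hPb⟩ := hlift ⟨P', inferInstance⟩ hJP
  have hPb' : Pb.asIdeal.comap (Ideal.Quotient.mk J) = P' := congrArg PrimeSpectrum.asIdeal hPb
  have hinjc : Function.Injective (PrimeSpectrum.comap (Ideal.Quotient.mk J)) :=
    PrimeSpectrum.comap_injective_of_surjective _ hsurj
  have hopen : IsOpen ({Pb} : Set (PrimeSpectrum (B ⧸ J))) := by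
    refine ((PrimeSpectrum.isOpen_singleton_tfae_of_isNoetherian_of_isJacobsonRing Pb).out 0 2 rfl rfl).mpr
      ⟨?_, ?_⟩
    · apply (PrimeSpectrum.isClosed_singleton_iff_isMaximal Pb).mpr
      have h1 : Pb.asIdeal = P'.map (Ideal.Quotient.mk J) := by
        rw [← hPb', Ideal.map_comap_of_surjective _ hsurj]
      rw [h1]
      exact Ideal.IsMaximal.map_of_surjective_of_ker_le hsurj (by rwa [Ideal.mk_ker])
    · intro x y hyx hx
      rw [Set.mem_singleton_iff] at hx ⊢
      subst hx
      apply hinjc
      rw [hPb]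
      have hle : y.asIdeal ≤ x.asIdeal := (PrimeSpectrum.le_iff_specializes y x).mpr hyx
      have h1 : (PrimeSpectrum.comap (Ideal.Quotient.mk J) y).asIdeal ≤ P' := by
        rw [← hPb']; exact Ideal.comap_mono hle
      have h2 : J ≤ (PrimeSpectrum.comap (Ideal.Quotient.mk J) y).asIdeal := by
        have : PrimeSpectrum.comap (Ideal.Quotient.mk J) y ∈ PrimeSpectrum.zeroLocus (J : Set B) := by
          rw [← hrange]; exact ⟨y, rfl⟩
        exact this
      apply PrimeSpectrum.ext
      exact le_antisymm h1 (hmin.2 ⟨(PrimeSpectrum.comap (Ideal.Quotient.mk J) y).isPrime, h2⟩ h1)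
  obtain ⟨_, ⟨_, ⟨c', rfl⟩, rfl⟩, hc'mem, hc'sub⟩ :=
    PrimeSpectrum.isBasis_basic_opens.exists_subset_of_mem_open (Set.mem_singleton Pb) hopen
  obtain ⟨c, rfl⟩ := hsurj c'
  have key : Algebra.QuasiFiniteAt R (⟨P', inferInstance⟩ : PrimeSpectrum B).asIdeal := by
    apply Algebra.QuasiFiniteAt.of_isOpen_singleton_fiber
    have hset : ({⟨⟨P', inferInstance⟩, rfl⟩} : Set (PrimeSpectrum.comap (algebraMap R B) ⁻¹'
        {(⟨P', inferInstance⟩ : PrimeSpectrum B).comap (algebraMap R B)})) =
        Subtype.val ⁻¹' (PrimeSpectrum.basicOpen c : Set (PrimeSpectrum B)) := by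
      ext ⟨q, hq⟩
      rw [Set.mem_singleton_iff, Set.mem_preimage]
      constructor
      · intro h
        have h' : q = ⟨P', inferInstance⟩ := congrArg Subtype.val h
        subst h'
        show c ∉ P'
        intro hc
        apply hc'mem
        show Ideal.Quotient.mk J c ∈ Pb.asIdeal
        rw [← Ideal.mem_comap, hPb']
        exact hc
      · intro hcq
        have hq' : q.asIdeal.under R = n0 := by
          have := congrArg PrimeSpectrum.asIdeal hq
          rw [← hn0eq]; exact this
        have hJq : J ≤ q.asIdeal := by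
          rw [hJ, Ideal.map_le_iff_le_comap]; exact hq'.ge
        obtain ⟨qb, hqb⟩ := hlift q hJq
        have hqbmem : qb ∈ (PrimeSpectrum.basicOpen (Ideal.Quotient.mk J c) :
            Set (PrimeSpectrum (B ⧸ J))) := by
          show Ideal.Quotient.mk J c ∉ qb.asIdeal
          intro h
          apply hcq
          show c ∈ q.asIdeal
          rw [← hqb]
          exact h
        have := hc'sub hqbmem
        rw [Set.mem_singleton_iff] at this
        apply Subtype.ext
        show q = _
        rw [← hqb, this, hPb]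
    rw [hset]
    exact (PrimeSpectrum.basicOpen c).isOpen.preimage continuous_subtype_val
  exact key

end QF

end Groth.Agent.H38.SpecDense
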