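import Mathlib
import Groth.Agent.H38.SpecDense2

/-!
# The valuation ring case (helper38)

For a torsion-free domain `B` of finite type over a valuation ring `V` and a maximal ideal `P'` of
`B` over the (nonzero) maximal ideal of `V`, every nonempty open of `Spec B` contains a prime
`Q ⊆ P'` lying over `0` with `B ⧸ Q` algebraic over `V`.
-/

set_option autoImplicit false
set_option linter.style.haveILetI false
universe u
open TensorProduct IsLocalRing

namespace Groth.Agent.H38.SpecDense

section Val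

variable {V B : Type u} [CommRing V] [IsDomain V] [ValuationRing V] [CommRing B] [IsDomain B]
  [Algebra V B] [Algebra.FiniteType V B]

attribute [local instance] Algebra.TensorProduct.rightAlgebra in
theorem trdeg_eq_trdeg_fractionRing_tensor (hinj : Function.Injective (algebraMap V B))
    (K : Type u) [Field K] [Algebra V K] [IsFractionRing V K] :
    Algebra.trdeg V B = Algebra.trdeg K (K ⊗[V] B) := by
  haveI : IsDomain (K ⊗[V] B) := ValFibreDim.isDomain_fractionRing_tensor hinj K
  haveI : IsLocalization (Algebra.algebraMapSubmonoid B (nonZeroDivisors V)) (K ⊗[V] B) :=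
    IsLocalization.tensorRight K (nonZeroDivisors V)
  haveI : FaithfulSMul V B := (faithfulSMul_iff_algebraMap_injective V B).mpr hinj
  haveI : FaithfulSMul B (K ⊗[V] B) := (faithfulSMul_iff_algebraMap_injective _ _).mpr
    (ValFibreDim.injective_includeRight_fractionRing hinj K)
  haveI : Algebra.IsAlgebraic B (K ⊗[V] B) :=
    IsLocalization.isAlgebraic (K ⊗[V] B) (Algebra.algebraMapSubmonoid B (nonZeroDivisors V))
  haveI : Algebra.IsAlgebraic V K := IsLocalization.isAlgebraic K (nonZeroDivisors V)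
  have h1 := trdeg_add_eq V B (A := K ⊗[V] B)
  rw [trdeg_eq_zero (R := B) (A := K ⊗[V] B), add_zero] at h1
  have h2 := trdeg_add_eq V K (A := K ⊗[V] B)
  rw [trdeg_eq_zero (R := V) (A := K), zero_add] at h2
  rw [h1, h2]

theorem infinite_maximalIdeal (hm : maximalIdeal V ≠ ⊥) : ((maximalIdeal V : Ideal V) : Set V).Infinite := by
  obtain ⟨t, htm, ht0⟩ := Submodule.exists_mem_ne_zero_of_ne_bot hm
  have hnu : ¬ IsUnit t := (IsLocalRing.mem_maximalIdeal t).mp htm
  refine Set.infinite_of_injective_forall_mem (f := fun j : ℕ => t ^ (j + 1)) ?_ ?_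
  · intro i j hij
    have := pow_injective_of_not_isUnit hnu ht0 hij
    omega
  · intro j
    exact Ideal.pow_mem_of_mem _ htm _ (Nat.succ_pos j)

theorem val_case (hinj : Function.Injective (algebraMap V B))
    (P' : Ideal B) [hP'max : P'.IsMaximal] (hP' : maximalIdeal V ≤ P'.under V)
    (hm : maximalIdeal V ≠ ⊥) (b : B) (hb : b ≠ 0) :
    ∃ Q : Ideal B, Q.IsPrime ∧ Q ≤ P' ∧ Q.under V = ⊥ ∧ b ∉ Q ∧ Algebra.IsAlgebraic V (B ⧸ Q) := by
  classical
  set m := maximalIdeal V with hmdef
  set I0 : Ideal B := m.map (algebraMap V B) with hI0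
  have hI0P : I0 ≤ P' := Ideal.map_le_iff_le_comap.mpr hP'
  -- the special fibre
  letI : Field (V ⧸ m) := Ideal.Quotient.field m
  haveI : Algebra.FiniteType V (B ⧸ I0) := inferInstance
  haveI : Algebra.FiniteType (V ⧸ m) (B ⧸ I0) :=
    Algebra.FiniteType.of_restrictScalars_finiteType V (V ⧸ m) (B ⧸ I0)
  haveI : IsNoetherianRing (B ⧸ I0) := Algebra.FiniteType.isNoetherianRing (V ⧸ m) (B ⧸ I0)
  have hsurj : Function.Surjective (Ideal.Quotient.mk I0) := Ideal.Quotient.mk_surjective
  set nb : Ideal (B ⧸ I0) := P'.map (Ideal.Quotient.mk I0) with hnb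
  haveI hnbprime : nb.IsPrime :=
    Ideal.map_isPrime_of_surjective hsurj (by rwa [Ideal.mk_ker])
  have hnb_comap : nb.comap (Ideal.Quotient.mk I0) = P' := by
    rw [hnb, Ideal.comap_map_of_surjective _ hsurj, ← RingHom.ker_eq_comap_bot, Ideal.mk_ker]
    exact sup_eq_left.mpr hI0P
  obtain ⟨s, hsmin, hscard⟩ := Ideal.exists_finset_card_eq_height_of_isNoetherianRing nb
  -- dimension bound
  let K := FractionRing V
  haveI : IsDomain (K ⊗[V] B) := ValFibreDim.isDomain_fractionRing_tensor hinj K
  obtain ⟨n, htr, hdimK⟩ := Groth.Agent.H54.exists_ringKrullDim_eq_trdeg K (K ⊗[V] B)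
  have hdimC : ringKrullDim (B ⧸ I0) ≤ n := by
    let e := Algebra.TensorProduct.quotIdealMapEquivQuotTensor (A := V) B m
    rw [ringKrullDim_eq_of_ringEquiv e.toRingEquiv]
    haveI : Nontrivial (B ⧸ I0) := Ideal.Quotient.nontrivial_iff.mpr
      (fun h => hP'max.ne_top (top_le_iff.mp (h ▸ hI0P)))
    haveI : Nontrivial (ResidueField V ⊗[V] B) := e.toRingEquiv.injective.nontrivial
    have := ValFibreDim.ringKrullDim_residue_tensor_le hinj K
    rw [hdimK] at this
    exact this
  have hk : s.card ≤ n := by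
    have h1 : (nb.height : WithBot ℕ∞) ≤ ringKrullDim (B ⧸ I0) :=
      Ideal.height_le_ringKrullDim_of_ne_top hnbprime.ne_top
    have h2 : (nb.height : WithBot ℕ∞) ≤ (n : WithBot ℕ∞) := h1.trans hdimC
    rw [← hscard] at h2
    exact_mod_cast h2
  -- choose lifts of the parameters
  set k := s.card with hkdef
  let es : Fin k ≃ s := s.equivFin.symm
  choose lift hlift using fun c : B ⧸ I0 => hsurj c
  let y : Fin k → B := fun i => lift (es i).1
  have hy : ∀ i, Ideal.Quotient.mk I0 (y i) = (es i).1 := fun i => hlift _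
  have hspan : Ideal.span ((s : Set (B ⧸ I0))) =
      (Ideal.span (Set.range y)).map (Ideal.Quotient.mk I0) := by
    rw [Ideal.map_span]
    congr 1
    ext c
    constructor
    · intro hc
      exact ⟨y (es.symm ⟨c, hc⟩), ⟨_, rfl⟩, by rw [hy]; simp⟩
    · rintro ⟨_, ⟨i, rfl⟩, rfl⟩
      rw [hy]
      exact (es i).2
  have hyP : ∀ i, y i ∈ P' := by
    intro i
    rw [← hnb_comap, Ideal.mem_comap, hy]
    exact hsmin.1.2 (Ideal.subset_span (es i).2)
  have hminI : P' ∈ (I0 ⊔ Ideal.span (Set.range y)).minimalPrimes := by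
    have h1 := Ideal.minimalPrimes_comap_of_surjective hsurj hsmin
    rw [hnb_comap, hspan, Ideal.comap_map_of_surjective _ hsurj, ← RingHom.ker_eq_comap_bot,
      Ideal.mk_ker, sup_comm] at h1
    exact h1
  -- the polynomial ring
  let R := MvPolynomial (Fin k) V
  letI algRB : Algebra R B := (MvPolynomial.aeval y).toRingHom.toAlgebra
  have halgRB : ∀ p : R, algebraMap R B p = MvPolynomial.aeval y p := fun p => rfl
  haveI : IsScalarTower V R B := IsScalarTower.of_algebraMap_eq (fun v => by
    rw [halgRB, MvPolynomial.algebraMap_eq, MvPolynomial.aeval_C])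
  haveI : Algebra.FiniteType R B := Algebra.FiniteType.of_restrictScalars_finiteType V R B
  let ev0 : R →+* V ⧸ m := (Ideal.Quotient.mk m).comp (MvPolynomial.eval (0 : Fin k → V))
  have hev0surj : Function.Surjective ev0 := by
    intro c
    obtain ⟨v, rfl⟩ := Ideal.Quotient.mk_surjective c
    refine ⟨MvPolynomial.C v, ?_⟩
    show Ideal.Quotient.mk m (MvPolynomial.eval 0 (MvPolynomial.C v)) = _
    rw [MvPolynomial.eval_C]
  set n0 : Ideal R := RingHom.ker ev0 with hn0
  haveI hn0max : n0.IsMaximal := RingHom.ker_isMaximal_of_surjective ev0 hev0surj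
  set J : Ideal B := n0.map (algebraMap R B) with hJ
  have hIJ : I0 ⊔ Ideal.span (Set.range y) ≤ J := by
    apply sup_le
    · rw [hI0, Ideal.map_le_iff_le_comap]
      intro a ha
      rw [Ideal.mem_comap, IsScalarTower.algebraMap_apply V R B]
      apply Ideal.mem_map_of_mem
      rw [hn0, RingHom.mem_ker]
      show Ideal.Quotient.mk m (MvPolynomial.eval 0 (MvPolynomial.C a)) = 0
      rw [MvPolynomial.eval_C]
      exact Ideal.Quotient.eq_zero_iff_mem.mpr ha
    · rw [Ideal.span_le]
      rintro _ ⟨i, rfl⟩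
      have : y i = algebraMap R B (MvPolynomial.X i) := by
        rw [halgRB, MvPolynomial.aeval_X]
      rw [this]
      apply Ideal.mem_map_of_mem
      rw [hn0, RingHom.mem_ker]
      show Ideal.Quotient.mk m (MvPolynomial.eval 0 (MvPolynomial.X i)) = 0
      rw [MvPolynomial.eval_X]
      simp
  have hJP : J ≤ P' := by
    rw [hJ, Ideal.map_le_iff_le_comap]
    intro p hp
    rw [Ideal.mem_comap]
    have heq : (Ideal.Quotient.mk P').comp (algebraMap R B) =
        ((Ideal.Quotient.mk P').comp (algebraMap V B)).comp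
          (MvPolynomial.eval (0 : Fin k → V)) := by
      apply MvPolynomial.ringHom_ext
      · intro v
        simp only [RingHom.comp_apply, MvPolynomial.eval_C]
        rw [← MvPolynomial.algebraMap_eq, ← IsScalarTower.algebraMap_apply V R B]
      · intro i
        simp only [RingHom.comp_apply, MvPolynomial.eval_X, Pi.zero_apply, map_zero]
        rw [halgRB, MvPolynomial.aeval_X]
        exact Ideal.Quotient.eq_zero_iff_mem.mpr (hyP i)
    have h1 : Ideal.Quotient.mk P' (algebraMap R B p) = 0 := by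
      have := congrArg (fun φ => φ p) heq
      simp only [RingHom.comp_apply] at this
      rw [this]
      apply Ideal.Quotient.eq_zero_iff_mem.mpr
      apply hI0P
      apply Ideal.mem_map_of_mem
      rw [hn0, RingHom.mem_ker] at hp
      exact Ideal.Quotient.eq_zero_iff_mem.mp hp
    exact Ideal.Quotient.eq_zero_iff_mem.mp h1
  have hminJ : P' ∈ J.minimalPrimes := by
    refine ⟨⟨hP'max.isPrime, hJP⟩, ?_⟩
    rintro Q ⟨hQ, hJQ⟩ hQP
    exact hminI.2 ⟨hQ, hIJ.trans hJQ⟩ hQP
  haveI hqf : Algebra.QuasiFiniteAt R P' := quasiFiniteAt_of_minimal_maximal P' n0 hminJ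
  obtain ⟨r, hrP, hrint, hsat⟩ :=
    Algebra.zariskisMainProperty_iff.mp (Algebra.ZariskisMainProperty.of_finiteType (R := R) P')
  have hr0 : r ≠ 0 := fun h => hrP (h ▸ P'.zero_mem)
  have hrnzd : ∀ j : ℕ, r ^ j ∈ nonZeroDivisors B := fun j =>
    mem_nonZeroDivisors_of_ne_zero (pow_ne_zero j hr0)
  -- `B` is algebraic over the image of `R`
  let R' := Algebra.adjoin V (Set.range y)
  have hrange : ∀ p : R, MvPolynomial.aeval y p ∈ R' := by
    intro p
    show MvPolynomial.aeval y p ∈ Algebra.adjoin V (Set.range y)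
    rw [Algebra.adjoin_range_eq_range_aeval]
    exact ⟨p, rfl⟩
  let φ : R →+* R' := (MvPolynomial.aeval y).toRingHom.codRestrict R'.toSubring hrange
  have hφ : (algebraMap R' B).comp φ = (RingHom.id B).comp (algebraMap R B) := by
    ext p <;> rfl
  have hint' : ∀ z : B, IsIntegral R z → IsIntegral R' z := fun z hz => by
    simpa using IsIntegral.map_of_comp_eq φ (RingHom.id B) hφ hz
  haveI halgR' : Algebra.IsAlgebraic R' B := by
    refine ⟨fun x => ?_⟩
    obtain ⟨mx, hx⟩ := hsat x
    exact IsAlgebraic.of_mul (hrnzd mx) ((hint' r hrint).isAlgebraic.pow mx)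
      (hint' _ hx).isAlgebraic
  -- algebraic independence
  have htrB : Algebra.trdeg V B = (n : Cardinal.{u}) := by
    rw [trdeg_eq_trdeg_fractionRing_tensor hinj K, htr]
  haveI : FaithfulSMul V B := (faithfulSMul_iff_algebraMap_injective V B).mpr hinj
  have htb : IsTranscendenceBasis V y := by
    apply Algebra.IsAlgebraic.isTranscendenceBasis_of_lift_le_trdeg_of_finite V y
    rw [htrB]
    simp only [Cardinal.mk_fin, Cardinal.lift_natCast, Nat.cast_le]
    exact hk
  have hinjR : Function.Injective (algebraMap R B) := htb.1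
  -- `b` is algebraic over `R`
  have halgRb : IsAlgebraic R b := by
    obtain ⟨mb, hmb⟩ := hsat b
    exact IsAlgebraic.of_mul (hrnzd mb) (hrint.isAlgebraic.pow mb) hmb.isAlgebraic
  obtain ⟨pb, hpb0, hpb⟩ := halgRb.exists_nonzero_coeff_and_aeval_eq_zero
    (mem_nonZeroDivisors_of_ne_zero hb)
  set c0 : R := pb.coeff 0 with hc0
  have hc0b : algebraMap R B c0 ∈ Ideal.span ({b} : Set B) := by
    have h1 := congrArg (Polynomial.aeval b) (Polynomial.divX_mul_X_add pb)
    rw [hpb, map_add, map_mul, Polynomial.aeval_X, Polynomial.aeval_C] at h1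
    have h2 : algebraMap R B c0 = -(Polynomial.aeval b pb.divX * b) := eq_neg_of_add_eq_zero_right h1
    rw [h2]
    exact (Ideal.span ({b} : Set B)).neg_mem
      (Ideal.mul_mem_left _ _ (Ideal.subset_span (Set.mem_singleton b)))
  -- a point of the box where `c0` does not vanish
  obtain ⟨a, ham, hac0⟩ : ∃ a : Fin k → V, (∀ i, a i ∈ m) ∧ MvPolynomial.eval a c0 ≠ 0 := by
    by_contra hcon
    push Not at hcon
    apply hpb0
    apply MvPolynomial.funext_set (fun _ : Fin k => ((m : Ideal V) : Set V))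
      (fun _ => infinite_maximalIdeal hm)
    intro x hx
    rw [map_zero]
    exact hcon x (fun i => hx i (Set.mem_univ i))
  set n1 : Ideal R := RingHom.ker (MvPolynomial.eval a) with hn1
  haveI hn1prime : n1.IsPrime := RingHom.ker_isPrime _
  have hmkeq : (Ideal.Quotient.mk m).comp (MvPolynomial.eval a) = ev0 := by
    apply MvPolynomial.ringHom_ext
    · intro v
      simp only [ev0, RingHom.comp_apply, MvPolynomial.eval_C]
    · intro i
      simp only [ev0, RingHom.comp_apply, MvPolynomial.eval_X, Pi.zero_apply, map_zero]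
      exact Ideal.Quotient.eq_zero_iff_mem.mpr (ham i)
  have hn1n0 : n1 ≤ n0 := by
    intro p hp
    rw [hn1, RingHom.mem_ker] at hp
    rw [hn0, RingHom.mem_ker, ← hmkeq, RingHom.comp_apply, hp, map_zero]
  have hn0eq : P'.under R = n0 :=
    (hn0max.eq_of_le (Ideal.IsPrime.under R P').ne_top (Ideal.map_le_iff_le_comap.mp hJP)).symm
  -- going down in the integral closure
  haveI : IsIntegrallyClosed R := isIntegrallyClosed_mvPolynomial_fin V k
  let B' := integralClosure R B
  haveI : FaithfulSMul R B' := (faithfulSMul_iff_algebraMap_injective R B').mpr (by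
    intro p q hpq
    apply hinjR
    exact congrArg Subtype.val hpq)
  set PB' : Ideal B' := P'.comap (algebraMap B' B) with hPB'
  haveI : PB'.IsPrime := Ideal.comap_isPrime _ _
  haveI : PB'.LiesOver n0 := ⟨by
    rw [← hn0eq, hPB']
    ext p
    simp only [Ideal.under_def, Ideal.mem_comap]
    rfl⟩
  obtain ⟨Q', hQ'le, hQ'prime, hQ'lies⟩ :=
    Ideal.exists_ideal_le_liesOver_of_le (p := n1) (q := n0) PB' hn1n0
  have hr'Q' : (⟨r, hrint⟩ : B') ∉ Q' := fun h => hrP (hQ'le h)
  obtain ⟨Q, hQprime, hQcomap, hQmem⟩ := exists_prime_of_saturation r hrint hsat Q' hr'Q'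
  have hQP : Q ≤ P' := by
    intro x hx
    obtain ⟨mx, q, hq, e⟩ := (hQmem x).mp hx
    have h1 : (q : B) ∈ P' := hQ'le hq
    rw [e] at h1
    exact (hP'max.isPrime.mem_or_mem h1).resolve_left
      (fun h => hrP (hP'max.isPrime.mem_of_pow_mem mx h))
  have hQR : Q.under R = n1 := by
    rw [hQ'lies.over, ← hQcomap]
    ext p
    simp only [Ideal.under_def, Ideal.mem_comap]
    rfl
  refine ⟨Q, hQprime, hQP, ?_, ?_, ?_⟩
  · -- over zero
    rw [eq_bot_iff]
    intro v hv
    rw [Ideal.under_def, Ideal.mem_comap, IsScalarTower.algebraMap_apply V R B] at hv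
    have h1 : algebraMap V R v ∈ Q.under R := hv
    rw [hQR, hn1, RingHom.mem_ker, MvPolynomial.algebraMap_eq, MvPolynomial.eval_C] at h1
    exact h1
  · intro hbQ
    have h1 : algebraMap R B c0 ∈ Q := (Ideal.span_le.mpr (Set.singleton_subset_iff.mpr hbQ)) hc0b
    have h2 : c0 ∈ Q.under R := h1
    rw [hQR, hn1, RingHom.mem_ker] at h2
    exact hac0 h2
  · -- algebraicity of the quotient
    haveI := hQprime
    have hcomp : (algebraMap V (B ⧸ Q)).comp (MvPolynomial.eval a) =
        (Ideal.Quotient.mk Q).comp (algebraMap R B) := by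
      refine RingHom.ext fun p => ?_
      simp only [RingHom.comp_apply]
      have h1 : p - MvPolynomial.C (MvPolynomial.eval a p) ∈ Q.under R := by
        rw [hQR, hn1, RingHom.mem_ker, map_sub, MvPolynomial.eval_C, sub_self]
      have h2 : algebraMap R B (p - MvPolynomial.C (MvPolynomial.eval a p)) ∈ Q := h1
      rw [map_sub, ← MvPolynomial.algebraMap_eq, ← IsScalarTower.algebraMap_apply V R B] at h2
      rw [IsScalarTower.algebraMap_apply V B (B ⧸ Q), Ideal.Quotient.algebraMap_eq]
      exact ((Ideal.Quotient.mk_eq_mk_iff_sub_mem _ _).mpr h2).symm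
    have hintq : ∀ z : B, IsIntegral R z → IsIntegral V (Ideal.Quotient.mk Q z) := fun z hz =>
      IsIntegral.map_of_comp_eq (MvPolynomial.eval a) (Ideal.Quotient.mk Q) hcomp hz
    have hrQ : r ∉ Q := fun h => hrP (hQP h)
    have hrq0 : Ideal.Quotient.mk Q r ≠ 0 := fun h => hrQ (Ideal.Quotient.eq_zero_iff_mem.mp h)
    refine ⟨fun z => ?_⟩
    obtain ⟨x, rfl⟩ := Ideal.Quotient.mk_surjective z
    obtain ⟨mx, hx⟩ := hsat x
    have h1 := hintq _ hx
    rw [map_mul, map_pow] at h1
    exact IsAlgebraic.of_mul (mem_nonZeroDivisors_of_ne_zero (pow_ne_zero mx hrq0))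
      ((hintq r hrint).isAlgebraic.pow mx) h1.isAlgebraic

end Val

end Groth.Agent.H38.SpecDense
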