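import Mathlib
import Groth.Agent.H38.SpecDense3

/-!
# Residue fields of primes maximal in their fibre are algebraic (helper38)
-/

set_option autoImplicit false
set_option linter.style.haveILetI false
universe u
open TensorProduct

namespace Groth.Agent.H38.SpecDense

attribute [local instance] Algebra.TensorProduct.rightAlgebra in
/-- If a domain `B` of finite type over a subdomain `A` has no nonzero prime lying over `0`, then
`B` is algebraic over `A`. -/
theorem isAlgebraic_of_forall_prime_under_ne_bot {A B : Type u} [CommRing A] [IsDomain A]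
    [CommRing B] [IsDomain B] [Algebra A B] [Algebra.FiniteType A B]
    (hinj : Function.Injective (algebraMap A B))
    (h : ∀ q : Ideal B, q.IsPrime → q.under A = ⊥ → q = ⊥) (x : B) : IsAlgebraic A x := by
  let F := FractionRing A
  let T := F ⊗[A] B
  haveI hloc : IsLocalization (Algebra.algebraMapSubmonoid B (nonZeroDivisors A)) T :=
    IsLocalization.tensorRight F (nonZeroDivisors A)
  have hM : Algebra.algebraMapSubmonoid B (nonZeroDivisors A) ≤ nonZeroDivisors B := by
    rintro _ ⟨r, hr, rfl⟩
    apply mem_nonZeroDivisors_of_ne_zero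
    intro h0
    exact (nonZeroDivisors.ne_zero hr) (hinj (by rw [h0, map_zero]))
  haveI : IsDomain T := IsLocalization.isDomain_of_le_nonZeroDivisors T hM
  have hinjT : Function.Injective (algebraMap B T) := IsLocalization.injective T hM
  have hfield : IsField T := by
    by_contra hnf
    obtain ⟨𝔭, h𝔭ne, h𝔭⟩ := Ring.not_isField_iff_exists_prime.mp hnf
    haveI := h𝔭
    have h1 : (𝔭.comap (algebraMap B T)).under A = ⊥ := by
      rw [eq_bot_iff]
      intro a ha
      by_contra ha0
      have ha0' : a ≠ 0 := ha0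
      have hunit : IsUnit (algebraMap B T (algebraMap A B a)) :=
        IsLocalization.map_units T (⟨algebraMap A B a, a, mem_nonZeroDivisors_of_ne_zero ha0', rfl⟩ :
          Algebra.algebraMapSubmonoid B (nonZeroDivisors A))
      exact h𝔭.ne_top (Ideal.eq_top_of_isUnit_mem _ ha hunit)
    have h2 := h (𝔭.comap (algebraMap B T)) inferInstance h1
    apply h𝔭ne
    have h3 := IsLocalization.map_comap (Algebra.algebraMapSubmonoid B (nonZeroDivisors A)) T 𝔭
    change Ideal.map (algebraMap B T) (𝔭.comap (algebraMap B T)) = 𝔭 at h3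
    rw [h2, Ideal.map_bot] at h3
    exact h3.symm
  haveI hbotmax : (⊥ : Ideal T).IsMaximal := Ring.isField_iff_maximal_bot.mp hfield
  letI : Field (T ⧸ (⊥ : Ideal T)) := Ideal.Quotient.field ⊥
  haveI : Module.Finite F (T ⧸ (⊥ : Ideal T)) :=
    finite_of_finite_type_of_isJacobsonRing F (T ⧸ (⊥ : Ideal T))
  haveI : Algebra.IsIntegral F (T ⧸ (⊥ : Ideal T)) := Algebra.IsIntegral.of_finite F _
  have hint : IsIntegral F (Ideal.Quotient.mk (⊥ : Ideal T) (algebraMap B T x)) :=
    Algebra.IsIntegral.isIntegral _
  have halg : IsAlgebraic A (Ideal.Quotient.mk (⊥ : Ideal T) (algebraMap B T x)) :=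
    (IsFractionRing.isAlgebraic_iff A F _).mpr hint.isAlgebraic
  let ψ : B →ₐ[A] T ⧸ (⊥ : Ideal T) :=
    (Ideal.Quotient.mkₐ A (⊥ : Ideal T)).comp (IsScalarTower.toAlgHom A B T)
  have hψinj : Function.Injective ψ := by
    intro u v huv
    apply hinjT
    have : Ideal.Quotient.mk (⊥ : Ideal T) (algebraMap B T u) =
        Ideal.Quotient.mk (⊥ : Ideal T) (algebraMap B T v) := huv
    rw [Ideal.Quotient.eq, Ideal.mem_bot, sub_eq_zero] at this
    exact this
  exact (isAlgebraic_algHom_iff ψ hψinj).mp halg

end Groth.Agent.H38.SpecDense
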