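import Mathlib
import Groth.Agent.H38.SpecDense4

/-!
# Nullstellensatz form for primes maximal in their fibre (helper38)
-/

set_option autoImplicit false
set_option linter.style.haveILetI false
universe u
open TensorProduct IsLocalRing

namespace Groth.Agent.H38.SpecDense

/-- If `P'` is maximal among the primes of `B` with the same contraction to `A`, then `B ⧸ P'` is
algebraic over `A ⧸ (P' ∩ A)`; elementary form. -/
theorem exists_polynomial_of_maximal_in_fibre {A B : Type u} [CommRing A] [CommRing B]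
    [Algebra A B] [Algebra.FiniteType A B] (P' : Ideal B) [hP' : P'.IsPrime]
    (hmax : ∀ P'' : Ideal B, P''.IsPrime → P' ≤ P'' → P''.under A = P'.under A → P'' = P')
    (x : B) :
    ∃ g : Polynomial A, g.map (Ideal.Quotient.mk (P'.under A)) ≠ 0 ∧ Polynomial.aeval x g ∈ P' := by
  set p' := P'.under A with hp'
  haveI : p'.IsPrime := Ideal.IsPrime.under A P'
  haveI : P'.LiesOver p' := ⟨rfl⟩
  haveI : Algebra.FiniteType A (B ⧸ P') := inferInstance
  haveI : Algebra.FiniteType (A ⧸ p') (B ⧸ P') :=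
    Algebra.FiniteType.of_restrictScalars_finiteType A (A ⧸ p') (B ⧸ P')
  have hinj : Function.Injective (algebraMap (A ⧸ p') (B ⧸ P')) :=
    FaithfulSMul.algebraMap_injective _ _
  have hmk : Function.Surjective (Ideal.Quotient.mk P') := Ideal.Quotient.mk_surjective
  have hprimes : ∀ q : Ideal (B ⧸ P'), q.IsPrime → q.under (A ⧸ p') = ⊥ → q = ⊥ := by
    intro q hq hqu
    have h1 : P' ≤ q.comap (Ideal.Quotient.mk P') := by
      intro z hz
      rw [Ideal.mem_comap, Ideal.Quotient.eq_zero_iff_mem.mpr hz]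
      exact q.zero_mem
    have h2 : (q.comap (Ideal.Quotient.mk P')).under A = p' := by
      ext a
      rw [Ideal.under_def, Ideal.mem_comap, Ideal.mem_comap]
      have : Ideal.Quotient.mk P' (algebraMap A B a) =
          algebraMap (A ⧸ p') (B ⧸ P') (Ideal.Quotient.mk p' a) := rfl
      rw [this, ← Ideal.mem_comap, ← Ideal.under_def, hqu, Ideal.mem_bot,
        Ideal.Quotient.eq_zero_iff_mem]
    have h3 := hmax _ (Ideal.comap_isPrime _ _) h1 h2
    rw [← Ideal.map_comap_of_surjective _ hmk q, h3, Ideal.map_quotient_self]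
  obtain ⟨gb, hgb0, hgb⟩ := isAlgebraic_of_forall_prime_under_ne_bot hinj hprimes
    (Ideal.Quotient.mk P' x)
  obtain ⟨g, rfl⟩ := Polynomial.map_surjective (Ideal.Quotient.mk p') Ideal.Quotient.mk_surjective gb
  refine ⟨g, hgb0, ?_⟩
  rw [← Ideal.Quotient.eq_zero_iff_mem, ← hgb]
  rw [Polynomial.aeval_def, Polynomial.aeval_def, Polynomial.eval₂_map, Polynomial.hom_eval₂]
  rfl

theorem isMaximal_of_adjoin_integral {R0 R1 : Type*} [CommRing R0] [CommRing R1] [Algebra R0 R1]
    (m0 : Ideal R0) [hm0 : m0.IsMaximal] (P1 : Ideal R1) [P1.IsPrime] [P1.LiesOver m0]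
    (T : Set R1) (hT : Algebra.adjoin R0 T = ⊤)
    (hint : ∀ t ∈ T, IsIntegral (R0 ⧸ m0) (Ideal.Quotient.mk P1 t)) : P1.IsMaximal := by
  let S : Subalgebra R0 R1 :=
    Subalgebra.comap (Ideal.Quotient.mkₐ R0 P1)
      ((integralClosure (R0 ⧸ m0) (R1 ⧸ P1)).restrictScalars R0)
  have hS : (⊤ : Subalgebra R0 R1) ≤ S := by
    rw [← hT]
    apply Algebra.adjoin_le
    intro t ht
    exact hint t ht
  letI : Field (R0 ⧸ m0) := Ideal.Quotient.field m0
  haveI : Algebra.IsIntegral (R0 ⧸ m0) (R1 ⧸ P1) := ⟨fun z => by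
    obtain ⟨z, rfl⟩ := Ideal.Quotient.mk_surjective z
    exact hS (Algebra.mem_top : z ∈ (⊤ : Subalgebra R0 R1))⟩
  apply Ideal.Quotient.maximal_of_isField
  exact isField_of_isIntegral_of_isField' (R := R0 ⧸ m0) (Field.toIsField _)

end Groth.Agent.H38.SpecDense
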