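import Mathlib
import Groth.Agent.H38.SpecDense5

/-!
# Reduction of the domain case to the valuation ring case (helper38)
-/

set_option autoImplicit false
set_option linter.style.haveILetI false
universe u
open TensorProduct IsLocalRing

namespace Groth.Agent.H38.SpecDense

theorem dom_case {A B : Type u} [CommRing A] [IsDomain A] [CommRing B] [IsDomain B] [Algebra A B]
    [Algebra.FiniteType A B] (hinj : Function.Injective (algebraMap A B))
    (P' : Ideal B) [hP'prime : P'.IsPrime] (hne : P'.under A ≠ ⊥)
    (hmax : ∀ P'' : Ideal B, P''.IsPrime → P' ≤ P'' → P''.under A = P'.under A → P'' = P')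
    (b : B) (hb : b ≠ 0) :
    ∃ Q : Ideal B, Q.IsPrime ∧ Q ≤ P' ∧ Q.under A = ⊥ ∧ b ∉ Q ∧
      ∀ x : B, ∃ g : Polynomial A, g ≠ 0 ∧ Polynomial.aeval x g ∈ Q := by
  classical
  let L := FractionRing B
  let K := FractionRing A
  haveI : FaithfulSMul A B := (faithfulSMul_iff_algebraMap_injective A B).mpr hinj
  letI : Algebra K L := FractionRing.liftAlgebra A L
  haveI : IsScalarTower A K L := inferInstance
  have hBL : Function.Injective (algebraMap B L) := IsFractionRing.injective B L
  have hKL : Function.Injective (algebraMap K L) := (algebraMap K L).injective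
  let f : Localization.AtPrime P' →+* L :=
    IsLocalization.lift (M := P'.primeCompl) (g := algebraMap B L) (fun y => by
      apply IsUnit.mk0
      intro h0
      have : (y : B) = 0 := hBL (by rw [h0, map_zero])
      exact y.2 (this ▸ P'.zero_mem))
  have hf : ∀ x : B, f (algebraMap B (Localization.AtPrime P') x) = algebraMap B L x :=
    fun x => IsLocalization.lift_eq _ x
  obtain ⟨V, hV, hloc⟩ := IsLocalRing.exists_factor_valuationRing f
  have hBV : ∀ x : B, algebraMap B L x ∈ V := fun x => by rw [← hf]; exact hV _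
  -- membership in `P'` is detected by the maximal ideal of `V`
  have hP'V : ∀ x : B, x ∈ P' ↔ (⟨algebraMap B L x, hBV x⟩ : V) ∈ maximalIdeal V := by
    intro x
    have hx : f.codRestrict V.toSubring hV (algebraMap B (Localization.AtPrime P') x) =
        (⟨algebraMap B L x, hBV x⟩ : V) := Subtype.ext (hf x)
    constructor
    · intro hxP
      rw [mem_maximalIdeal, mem_nonunits_iff, ← hx]
      intro hu
      have := hloc.map_nonunit _ hu
      have h2 : algebraMap B (Localization.AtPrime P') x ∈ maximalIdeal (Localization.AtPrime P') :=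
        (IsLocalization.AtPrime.to_map_mem_maximal_iff _ P' x).mpr hxP
      exact (mem_maximalIdeal _).mp h2 this
    · intro hxV
      by_contra hxP
      have hu : IsUnit (algebraMap B (Localization.AtPrime P') x) :=
        IsLocalization.map_units _ (⟨x, hxP⟩ : P'.primeCompl)
      have := hu.map (f.codRestrict V.toSubring hV)
      rw [hx] at this
      exact (mem_maximalIdeal _).mp hxV this
  -- the induced valuation ring of `K`
  let V0 : ValuationSubring K := V.comap (algebraMap K L)
  letI algV0L : Algebra V0 L := ((algebraMap K L).comp (ValuationSubring.subtype V0)).toAlgebra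
  have halgV0L : ∀ v : V0, algebraMap V0 L v = algebraMap K L (v : K) := fun v => rfl
  have hV0V : ∀ v : V0, algebraMap V0 L v ∈ V := fun v => v.2
  have hAK : ∀ a : A, algebraMap K L (algebraMap A K a) = algebraMap B L (algebraMap A B a) := by
    intro a
    rw [← IsScalarTower.algebraMap_apply A K L, ← IsScalarTower.algebraMap_apply A B L]
  let σ : A →+* V0 := (algebraMap A K).codRestrict V0.toSubring (fun a => by
    show algebraMap K L (algebraMap A K a) ∈ V
    rw [hAK]; exact hBV _)
  have hσ : ∀ a : A, algebraMap V0 L (σ a) = algebraMap B L (algebraMap A B a) := fun a => by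
    rw [halgV0L]; exact hAK a
  have hσinj : Function.Injective σ := by
    intro a a' h
    apply IsFractionRing.injective A K
    exact congrArg Subtype.val h
  -- units of `V0`
  have hV0unit : ∀ v : V0, (⟨algebraMap V0 L v, hV0V v⟩ : V) ∈ maximalIdeal V ↔
      v ∈ maximalIdeal V0 := by
    intro v
    rw [mem_maximalIdeal, mem_nonunits_iff, mem_maximalIdeal, mem_nonunits_iff, not_iff_not]
    constructor
    · intro hu
      obtain ⟨w, hw⟩ := hu.exists_right_inv
      have hw' : algebraMap K L (v : K) * (w : L) = 1 := congrArg Subtype.val hw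
      have hv0 : (v : K) ≠ 0 := by
        intro h0
        rw [h0, map_zero, zero_mul] at hw'
        exact zero_ne_one hw'
      have hwinv : (w : L) = algebraMap K L ((v : K)⁻¹) := by
        rw [map_inv₀]
        exact eq_inv_of_mul_eq_one_right hw'
      have hmem : (v : K)⁻¹ ∈ V0 := by
        show algebraMap K L ((v : K)⁻¹) ∈ V
        rw [← hwinv]; exact w.2
      exact IsUnit.of_mul_eq_one (⟨(v : K)⁻¹, hmem⟩ : V0) (Subtype.ext (mul_inv_cancel₀ hv0))
    · intro hu
      exact hu.map ((algebraMap V0 L).codRestrict V.toSubring hV0V)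
  -- the subalgebra generated by `B`
  obtain ⟨s, hs⟩ := Algebra.FiniteType.out (R := A) (A := B)
  let B1 : Subalgebra V0 L := Algebra.adjoin V0 ((algebraMap B L) '' (s : Set B))
  have hBB1 : ∀ x : B, algebraMap B L x ∈ B1 := by
    intro x
    have hx : x ∈ Algebra.adjoin A (s : Set B) := by rw [hs]; trivial
    induction hx using Algebra.adjoin_induction with
    | mem x hx => exact Algebra.subset_adjoin ⟨x, hx, rfl⟩
    | algebraMap a => rw [← hσ]; exact Subalgebra.algebraMap_mem B1 (σ a)
    | add x y _ _ hx hy => rw [map_add]; exact B1.add_mem hx hy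
    | mul x y _ _ hx hy => rw [map_mul]; exact B1.mul_mem hx hy
  have hB1V : ∀ z ∈ B1, z ∈ V := by
    intro z hz
    induction hz using Algebra.adjoin_induction with
    | mem z hz =>
      obtain ⟨x, -, rfl⟩ := hz
      exact hBV x
    | algebraMap v => exact hV0V v
    | add x y _ _ hx hy => exact V.add_mem _ _ hx hy
    | mul x y _ _ hx hy => exact V.mul_mem _ _ hx hy
  let ι : B →+* B1 := (algebraMap B L).codRestrict B1.toSubring hBB1
  let j : B1 →+* V := (B1.val.toRingHom).codRestrict V.toSubring (fun z => hB1V z.1 z.2)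
  have hιinj : Function.Injective ι := by
    intro x x' h
    exact hBL (congrArg Subtype.val h)
  set P1 : Ideal B1 := (maximalIdeal V).comap j with hP1
  haveI hP1prime : P1.IsPrime := Ideal.comap_isPrime _ _
  have hιP1 : ∀ x : B, ι x ∈ P1 ↔ x ∈ P' := by
    intro x
    rw [hP'V x]
    rfl
  have hP1V0 : ∀ v : V0, algebraMap V0 B1 v ∈ P1 ↔ v ∈ maximalIdeal V0 := by
    intro v
    rw [← hV0unit v]
    rfl
  have hιalg : ∀ a : A, ι (algebraMap A B a) = algebraMap V0 B1 (σ a) := by
    intro a
    apply Subtype.ext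
    exact (hσ a).symm
  have hσm0 : ∀ c : A, σ c ∈ maximalIdeal V0 ↔ c ∈ P'.under A := by
    intro c
    rw [← hP1V0, ← hιalg, hιP1]
    rfl
  have hm0 : maximalIdeal V0 ≠ ⊥ := by
    obtain ⟨a, ha, ha0⟩ := Submodule.exists_mem_ne_zero_of_ne_bot hne
    intro hbot
    have h1 : σ a ∈ maximalIdeal V0 := (hσm0 a).mpr ha
    rw [hbot, Ideal.mem_bot] at h1
    exact ha0 (hσinj (h1.trans (map_zero σ).symm))
  have hP1under : P1.under V0 = maximalIdeal V0 := by
    ext v
    exact hP1V0 v
  haveI : P1.LiesOver (maximalIdeal V0) := ⟨hP1under.symm⟩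
  -- `P1` is maximal
  have hιint : ∀ x : B, IsIntegral (V0 ⧸ maximalIdeal V0) (Ideal.Quotient.mk P1 (ι x)) := by
    intro x
    obtain ⟨g, hg0, hg⟩ := exists_polynomial_of_maximal_in_fibre P' hmax x
    letI : Field (V0 ⧸ maximalIdeal V0) := Ideal.Quotient.field _
    apply IsAlgebraic.isIntegral
    refine ⟨g.map ((Ideal.Quotient.mk (maximalIdeal V0)).comp σ), ?_, ?_⟩
    · intro h0
      apply hg0
      ext i
      have h1 := congrArg (fun q => Polynomial.coeff q i) h0
      simp only [Polynomial.coeff_map, Polynomial.coeff_zero, RingHom.comp_apply] at h1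
      rw [Ideal.Quotient.eq_zero_iff_mem, hσm0] at h1
      simp only [Polynomial.coeff_map, Polynomial.coeff_zero]
      exact Ideal.Quotient.eq_zero_iff_mem.mpr h1
    · rw [Polynomial.aeval_def, Polynomial.eval₂_map]
      have hcomp : (algebraMap (V0 ⧸ maximalIdeal V0) (B1 ⧸ P1)).comp
          ((Ideal.Quotient.mk (maximalIdeal V0)).comp σ) =
          ((Ideal.Quotient.mk P1).comp ι).comp (algebraMap A B) := by
        refine RingHom.ext fun a => ?_
        simp only [RingHom.comp_apply]
        rw [hιalg]
        rfl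
      rw [hcomp]
      have h2 := Polynomial.hom_eval₂ g (algebraMap A B) ((Ideal.Quotient.mk P1).comp ι) x
      change Polynomial.eval₂ _ (((Ideal.Quotient.mk P1).comp ι) x) g = 0
      rw [← h2, ← Polynomial.aeval_def, RingHom.comp_apply]
      exact Ideal.Quotient.eq_zero_iff_mem.mpr ((hιP1 _).mpr hg)
  haveI hP1max : P1.IsMaximal := by
    apply isMaximal_of_adjoin_integral (maximalIdeal V0) P1
      (((↑) : B1 → L) ⁻¹' ((algebraMap B L) '' (s : Set B)))
      (Algebra.adjoin_adjoin_coe_preimage (R := V0) (s := (algebraMap B L) '' (s : Set B)))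
    intro z hz
    obtain ⟨x, -, hx⟩ : ∃ x, x ∈ (s : Set B) ∧ algebraMap B L x = (z : L) := hz
    have hz' : z = ι x := Subtype.ext hx.symm
    rw [hz']
    exact hιint x
  -- apply the valuation ring case
  haveI : Algebra.FiniteType V0 B1 := by
    have hfg : (Algebra.adjoin V0 ((algebraMap B L) '' (s : Set B))).FG := by
      rw [← Finset.coe_image]
      exact Subalgebra.fg_adjoin_finset _
    exact (Subalgebra.fg_iff_finiteType _).mp hfg
  have hinj1 : Function.Injective (algebraMap V0 B1) := by
    intro v v' h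
    have h1 : algebraMap K L (v : K) = algebraMap K L (v' : K) := congrArg Subtype.val h
    exact Subtype.ext (hKL h1)
  have hιb : ι b ≠ 0 := fun h => hb (hιinj (h.trans (map_zero ι).symm))
  obtain ⟨Q1, hQ1prime, hQ1P1, hQ1V0, hbQ1, hQ1alg⟩ :=
    val_case hinj1 P1 hP1under.ge hm0 (ι b) hιb
  haveI := hQ1prime
  refine ⟨Q1.comap ι, Ideal.comap_isPrime _ _, ?_, ?_, ?_, ?_⟩
  · intro x hx
    exact (hιP1 x).mp (hQ1P1 hx)
  · rw [eq_bot_iff]
    intro a ha
    rw [Ideal.under_def, Ideal.mem_comap, Ideal.mem_comap, hιalg] at ha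
    have h1 : σ a ∈ Q1.under V0 := ha
    rw [hQ1V0, Ideal.mem_bot] at h1
    exact hσinj (h1.trans (map_zero σ).symm)
  · exact hbQ1
  · intro x
    -- algebraic over `V0`, hence over `A`
    letI algAV0 : Algebra A V0 := σ.toAlgebra
    letI algAB1 : Algebra A B1 := ((algebraMap V0 B1).comp σ).toAlgebra
    haveI : IsScalarTower A V0 B1 := IsScalarTower.of_algebraMap_eq (fun a => rfl)
    haveI : IsScalarTower A V0 K := IsScalarTower.of_algebraMap_eq (fun a => rfl)
    haveI : Algebra.IsAlgebraic A V0 := by
      refine ⟨fun v => ?_⟩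
      have h1 : IsAlgebraic A (algebraMap V0 K v) :=
        (IsLocalization.isAlgebraic K (nonZeroDivisors A)).isAlgebraic _
      exact (isAlgebraic_algebraMap_iff (A := K) (IsFractionRing.injective V0 K)).mp h1
    have h2 : IsAlgebraic V0 (Ideal.Quotient.mk Q1 (ι x)) := hQ1alg.isAlgebraic _
    have h3 : IsAlgebraic A (Ideal.Quotient.mk Q1 (ι x)) := h2.restrictScalars A
    obtain ⟨g, hg0, hg⟩ := h3
    refine ⟨g, hg0, ?_⟩
    rw [Ideal.mem_comap, ← Ideal.Quotient.eq_zero_iff_mem, ← hg]
    rw [Polynomial.aeval_def, Polynomial.aeval_def]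
    have h4 := Polynomial.hom_eval₂ g (algebraMap A B) ((Ideal.Quotient.mk Q1).comp ι) x
    have hcomp : ((Ideal.Quotient.mk Q1).comp ι).comp (algebraMap A B) =
        algebraMap A (B1 ⧸ Q1) := by
      refine RingHom.ext fun a => ?_
      simp only [RingHom.comp_apply]
      rw [hιalg]
      rfl
    rw [hcomp] at h4
    exact h4

end Groth.Agent.H38.SpecDense
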