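import Mathlib
import Groth.Agent.H38.SpecDense6

/-!
# Primes between `P ⊆ P'`, closed in the fibre of `P` (helper38)
-/

set_option autoImplicit false
set_option linter.style.haveILetI false
universe u
open TensorProduct IsLocalRing

namespace Groth.Agent.H38.SpecDense

/-- Domain case with the maximality conclusion. -/
theorem dom_case' {A B : Type u} [CommRing A] [IsDomain A] [CommRing B] [IsDomain B] [Algebra A B]
    [Algebra.FiniteType A B] (hinj : Function.Injective (algebraMap A B))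
    (P' : Ideal B) [hP'prime : P'.IsPrime] (hne : P'.under A ≠ ⊥)
    (hmax : ∀ P'' : Ideal B, P''.IsPrime → P' ≤ P'' → P''.under A = P'.under A → P'' = P')
    (b : B) (hb : b ≠ 0) :
    ∃ Q : Ideal B, Q.IsPrime ∧ Q ≤ P' ∧ Q.under A = ⊥ ∧ b ∉ Q ∧
      ∀ Q' : Ideal B, Q'.IsPrime → Q ≤ Q' → Q'.under A = ⊥ → Q' = Q := by
  obtain ⟨Q, hQ, hQP, hQA, hbQ, halg⟩ := dom_case hinj P' hne hmax b hb
  refine ⟨Q, hQ, hQP, hQA, hbQ, ?_⟩
  intro Q' hQ' hQQ' hQ'A
  by_contra hne'
  have hlt : ¬ Q' ≤ Q := fun h => hne' (le_antisymm h hQQ')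
  obtain ⟨z, hzQ', hzQ⟩ := Set.not_subset.mp hlt
  obtain ⟨g, hg0, hg⟩ := halg z
  haveI := hQ
  have hzalg : IsAlgebraic A (Ideal.Quotient.mk Q z) := by
    refine ⟨g, hg0, ?_⟩
    have := Polynomial.aeval_algHom_apply (Ideal.Quotient.mkₐ A Q) z g
    rw [Ideal.Quotient.mkₐ_eq_mk] at this
    rw [this]
    exact Ideal.Quotient.eq_zero_iff_mem.mpr hg
  have hz0 : Ideal.Quotient.mk Q z ≠ 0 := fun h => hzQ (Ideal.Quotient.eq_zero_iff_mem.mp h)
  have hzI : Ideal.Quotient.mk Q z ∈ Q'.map (Ideal.Quotient.mk Q) := Ideal.mem_map_of_mem _ hzQ'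
  have h1 := Ideal.comap_ne_bot_of_algebraic_mem hz0 hzI hzalg
  obtain ⟨a, ha, ha0⟩ := Submodule.exists_mem_ne_zero_of_ne_bot h1
  rw [Ideal.mem_comap] at ha
  have h2 : algebraMap A B a ∈ Q' := by
    have : algebraMap A (B ⧸ Q) a = Ideal.Quotient.mk Q (algebraMap A B a) := rfl
    rw [this, ← Ideal.mem_comap, Ideal.comap_map_of_surjective _ Ideal.Quotient.mk_surjective,
      ← RingHom.ker_eq_comap_bot, Ideal.mk_ker, sup_eq_left.mpr hQQ'] at ha
    exact ha
  have h3 : a ∈ Q'.under A := h2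
  rw [hQ'A, Ideal.mem_bot] at h3
  exact ha0 h3

/-- **Main algebraic statement.** For primes `P ⊆ P'` of a finite type `A`-algebra `B` over
different primes of `A`, with `P'` maximal in its fibre, every basic open `D(b) ∋ P` contains a
prime `Q` with `P ⊆ Q ⊆ P'` in the fibre of `P` and maximal in that fibre. -/
theorem exists_prime_between {A B : Type u} [CommRing A] [CommRing B] [Algebra A B]
    [Algebra.FiniteType A B] (P P' : Ideal B) [hP : P.IsPrime] [hP' : P'.IsPrime] (hPP' : P ≤ P')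
    (hne : P.under A ≠ P'.under A)
    (hmax : ∀ P'' : Ideal B, P''.IsPrime → P' ≤ P'' → P''.under A = P'.under A → P'' = P')
    (b : B) (hb : b ∉ P) :
    ∃ Q : Ideal B, Q.IsPrime ∧ P ≤ Q ∧ Q ≤ P' ∧ Q.under A = P.under A ∧ b ∉ Q ∧
      ∀ Q' : Ideal B, Q'.IsPrime → Q ≤ Q' → Q'.under A = P.under A → Q' = Q := by
  set p := P.under A with hp
  haveI : p.IsPrime := Ideal.IsPrime.under A P
  haveI : P.LiesOver p := ⟨rfl⟩
  haveI : Algebra.FiniteType A (B ⧸ P) := inferInstance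
  haveI : Algebra.FiniteType (A ⧸ p) (B ⧸ P) :=
    Algebra.FiniteType.of_restrictScalars_finiteType A (A ⧸ p) (B ⧸ P)
  have hinj : Function.Injective (algebraMap (A ⧸ p) (B ⧸ P)) :=
    FaithfulSMul.algebraMap_injective _ _
  have hmk : Function.Surjective (Ideal.Quotient.mk P) := Ideal.Quotient.mk_surjective
  have halg : ∀ a : A, Ideal.Quotient.mk P (algebraMap A B a) =
      algebraMap (A ⧸ p) (B ⧸ P) (Ideal.Quotient.mk p a) := fun a => rfl
  -- contraction of primes of `B ⧸ P`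
  have hcm : ∀ I : Ideal B, P ≤ I → (I.map (Ideal.Quotient.mk P)).comap (Ideal.Quotient.mk P) = I := by
    intro I hI
    rw [Ideal.comap_map_of_surjective _ hmk, ← RingHom.ker_eq_comap_bot, Ideal.mk_ker,
      sup_eq_left.mpr hI]
  have hunder : ∀ (I : Ideal (B ⧸ P)) (a : A),
      Ideal.Quotient.mk p a ∈ I.under (A ⧸ p) ↔ a ∈ (I.comap (Ideal.Quotient.mk P)).under A := by
    intro I a
    rw [Ideal.under_def, Ideal.mem_comap, ← halg, Ideal.under_def, Ideal.mem_comap, Ideal.mem_comap]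
  set Pb' : Ideal (B ⧸ P) := P'.map (Ideal.Quotient.mk P) with hPb'
  haveI hPb'prime : Pb'.IsPrime := Ideal.map_isPrime_of_surjective hmk (by rwa [Ideal.mk_ker])
  have hPb'comap : Pb'.comap (Ideal.Quotient.mk P) = P' := hcm P' hPP'
  have hple : p ≤ P'.under A := Ideal.comap_mono hPP'
  have hne' : Pb'.under (A ⧸ p) ≠ ⊥ := by
    have hlt : ¬ P'.under A ≤ p := fun h => hne (le_antisymm hple h)
    obtain ⟨a, haP', hap⟩ := Set.not_subset.mp hlt
    intro hbot
    have h1 : Ideal.Quotient.mk p a ∈ Pb'.under (A ⧸ p) := by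
      rw [hunder, hPb'comap]; exact haP'
    rw [hbot, Ideal.mem_bot, Ideal.Quotient.eq_zero_iff_mem] at h1
    exact hap h1
  have hmaxb : ∀ P'' : Ideal (B ⧸ P), P''.IsPrime → Pb' ≤ P'' →
      P''.under (A ⧸ p) = Pb'.under (A ⧸ p) → P'' = Pb' := by
    intro P'' hP'' hle hu
    have h1 : P' ≤ P''.comap (Ideal.Quotient.mk P) := by
      rw [← hPb'comap]; exact Ideal.comap_mono hle
    have h2 : (P''.comap (Ideal.Quotient.mk P)).under A = P'.under A := by
      ext a
      rw [← hunder, hu, hunder, hPb'comap]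
    have h3 := hmax _ (Ideal.comap_isPrime _ _) h1 h2
    rw [← Ideal.map_comap_of_surjective _ hmk P'', h3]
  have hb0 : Ideal.Quotient.mk P b ≠ 0 := fun h => hb (Ideal.Quotient.eq_zero_iff_mem.mp h)
  obtain ⟨Qb, hQb, hQbP, hQbA, hbQb, hQbmax⟩ :=
    dom_case' hinj Pb' hne' hmaxb (Ideal.Quotient.mk P b) hb0
  haveI := hQb
  have hPQ : P ≤ Qb.comap (Ideal.Quotient.mk P) := by
    intro z hz
    rw [Ideal.mem_comap, Ideal.Quotient.eq_zero_iff_mem.mpr hz]
    exact Qb.zero_mem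
  have hQunder : (Qb.comap (Ideal.Quotient.mk P)).under A = p := by
    ext a
    rw [← hunder, hQbA, Ideal.mem_bot, Ideal.Quotient.eq_zero_iff_mem]
  refine ⟨Qb.comap (Ideal.Quotient.mk P), Ideal.comap_isPrime _ _, hPQ, ?_, hQunder, hbQb, ?_⟩
  · rw [← hPb'comap]; exact Ideal.comap_mono hQbP
  · intro Q' hQ' hQQ' hQ'A
    have hPQ' : P ≤ Q' := hPQ.trans hQQ'
    have hQ'prime : (Q'.map (Ideal.Quotient.mk P)).IsPrime :=
      Ideal.map_isPrime_of_surjective hmk (by rwa [Ideal.mk_ker])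
    have h1 : Qb ≤ Q'.map (Ideal.Quotient.mk P) := by
      rw [← Ideal.map_comap_of_surjective _ hmk Qb]
      exact Ideal.map_mono hQQ'
    have h2 : (Q'.map (Ideal.Quotient.mk P)).under (A ⧸ p) = ⊥ := by
      rw [eq_bot_iff]
      intro a ha
      obtain ⟨a, rfl⟩ := Ideal.Quotient.mk_surjective a
      rw [hunder, hcm Q' hPQ', hQ'A] at ha
      rw [Ideal.mem_bot]
      exact Ideal.Quotient.eq_zero_iff_mem.mpr ha
    have h3 := hQbmax _ hQ'prime h1 h2
    rw [← h3, hcm Q' hPQ']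

end Groth.Agent.H38.SpecDense
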