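import Mathlib
import Groth.Agent.H38.SpecDense7

/-!
# Density of fibre-closed points under specialization: scheme level (helper38)
-/

set_option autoImplicit false
set_option linter.style.haveILetI false
universe u
open AlgebraicGeometry CategoryTheory Topology

namespace Groth.Agent.H38.SpecDense

/-- Density in `closure {x} ∩ F` can be checked on open neighbourhoods of `x`. -/
theorem dense_of_forall_open {X : Type*} [TopologicalSpace X] (x : X) (F D : Set X)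
    (hD : D ⊆ closure {x} ∩ F) (h : ∀ O : Set X, IsOpen O → x ∈ O → (O ∩ D).Nonempty) :
    Dense (Subtype.val ⁻¹' D : Set ↑(closure {x} ∩ F)) := by
  rw [dense_iff_inter_open]
  intro U hU hUne
  obtain ⟨O, hO, rfl⟩ := isOpen_induced_iff.mp hU
  obtain ⟨e, he⟩ := hUne
  have hxe : x ⤳ e.1 := specializes_iff_mem_closure.mpr e.2.1
  have hxO : x ∈ O := hxe.mem_open hO he
  obtain ⟨x₁, hx₁O, hx₁D⟩ := h O hO hxO
  exact ⟨⟨x₁, hD hx₁D⟩, hx₁O, hx₁D⟩

/-- In a fibre of a morphism locally of finite type, a point closed in an open part of the fibre is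
closed in the fibre. -/
theorem isClosed_singleton_fibre {X S : Scheme.{u}} (f : X ⟶ S) [LocallyOfFiniteType f] (s : S)
    (x₁ : X) (hx₁ : f x₁ = s) (W : X.Opens) (hx₁W : x₁ ∈ W)
    (h : ∀ y : X, y ∈ W → f y = s → x₁ ⤳ y → y = x₁) :
    IsClosed (Subtype.val ⁻¹' {x₁} : Set ↑(f ⁻¹' {s})) := by
  haveI : JacobsonSpace ↑(f ⁻¹' {s}) :=
    JacobsonSpace.of_isOpenEmbedding (f.fiberHomeo s).symm.isOpenEmbedding
  let p : ↑(f ⁻¹' {s}) := ⟨x₁, hx₁⟩
  have hset : (Subtype.val ⁻¹' {x₁} : Set ↑(f ⁻¹' {s})) = {p} := by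
    ext q
    simp only [Set.mem_preimage, Set.mem_singleton_iff]
    exact ⟨fun hq => Subtype.ext hq, fun hq => congrArg Subtype.val hq⟩
  rw [hset]
  apply isClosed_singleton_of_isLocallyClosed_singleton
  refine ⟨Subtype.val ⁻¹' (W : Set X), closure {p}, W.isOpen.preimage continuous_subtype_val,
    isClosed_closure, ?_⟩
  ext q
  simp only [Set.mem_singleton_iff, Set.mem_inter_iff, Set.mem_preimage]
  constructor
  · rintro rfl
    exact ⟨hx₁W, subset_closure rfl⟩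
  · rintro ⟨hqW, hqcl⟩
    have h1 : p ⤳ q := specializes_iff_mem_closure.mpr hqcl
    have h2 : x₁ ⤳ q.1 := (subtype_specializes_iff p q).mp h1
    exact Subtype.ext (h q.1 hqW q.2 h2)

/-- Main geometric statement: in every open neighbourhood of `x` there is a point of the fibre of
`x`, closed in that fibre, between `x` and `x'`. -/
theorem exists_closed_point_between {X S : Scheme.{u}} (f : X ⟶ S) [LocallyOfFiniteType f]
    (x x' : X) (hsp : x ⤳ x') (hne : f x ≠ f x')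
    (hcl : IsClosed (Subtype.val ⁻¹' {x'} : Set ↑(f ⁻¹' {f x'})))
    (O : Set X) (hO : IsOpen O) (hxO : x ∈ O) :
    ∃ x₁ ∈ O, f x₁ = f x ∧ IsClosed (Subtype.val ⁻¹' {x₁} : Set ↑(f ⁻¹' {f x})) ∧
      x ⤳ x₁ ∧ x₁ ⤳ x' := by
  obtain ⟨U, hU, hsU, -⟩ :=
    exists_isAffineOpen_mem_and_subset (X := S) (x := f x') (U := ⊤) trivial
  obtain ⟨W, hW, hx'W, hWU₀⟩ :=
    exists_isAffineOpen_mem_and_subset (X := X) (x := x') (U := f ⁻¹ᵁ U) hsU
  have hWU : W ≤ f ⁻¹ᵁ U := hWU₀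
  have hxW : x ∈ W := hsp.mem_open W.isOpen hx'W
  have hfin : (f.appLE U W hWU).hom.FiniteType :=
    HasRingHomProperty.appLE (P := @LocallyOfFiniteType) f inferInstance ⟨U, hU⟩ ⟨W, hW⟩ hWU
  letI : Algebra Γ(S, U) Γ(X, W) := (f.appLE U W hWU).hom.toAlgebra
  haveI : Algebra.FiniteType Γ(S, U) Γ(X, W) := hfin
  have hcomm : Spec.map (f.appLE U W hWU) ≫ hU.fromSpec = hW.fromSpec ≫ f :=
    IsAffineOpen.SpecMap_appLE_fromSpec f hU hW hWU
  have hfg : ∀ Q : Spec Γ(X, W), f (hW.fromSpec Q) =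
      hU.fromSpec ((Spec.map (f.appLE U W hWU)) Q) := fun Q => by
    rw [← Scheme.Hom.comp_apply, ← Scheme.Hom.comp_apply, hcomm]
  have hginj : Function.Injective hW.fromSpec := hW.fromSpec.isOpenEmbedding.injective
  have hhinj : Function.Injective hU.fromSpec := hU.fromSpec.isOpenEmbedding.injective
  have hfeq : ∀ Q₁ Q₂ : Spec Γ(X, W), f (hW.fromSpec Q₁) = f (hW.fromSpec Q₂) ↔
      Q₁.asIdeal.under Γ(S, U) = Q₂.asIdeal.under Γ(S, U) := by
    intro Q₁ Q₂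
    rw [hfg, hfg]
    constructor
    · intro h
      exact congrArg PrimeSpectrum.asIdeal (hhinj h)
    · intro h
      congr 1
      exact PrimeSpectrum.ext h
  have hspec : ∀ Q₁ Q₂ : Spec Γ(X, W), hW.fromSpec Q₁ ⤳ hW.fromSpec Q₂ ↔
      Q₁.asIdeal ≤ Q₂.asIdeal := by
    intro Q₁ Q₂
    rw [hW.fromSpec.isOpenEmbedding.isInducing.specializes_iff]
    exact (PrimeSpectrum.le_iff_specializes Q₁ Q₂).symm
  have hrange : ∀ y : X, y ∈ W → ∃ Q : Spec Γ(X, W), hW.fromSpec Q = y := by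
    intro y hy
    have : y ∈ Set.range hW.fromSpec := by rw [hW.range_fromSpec]; exact hy
    exact this
  obtain ⟨P, rfl⟩ := hrange x hxW
  obtain ⟨P', rfl⟩ := hrange x' hx'W
  have hPP' : P.asIdeal ≤ P'.asIdeal := (hspec P P').mp hsp
  have hne' : P.asIdeal.under Γ(S, U) ≠ P'.asIdeal.under Γ(S, U) :=
    fun h => hne ((hfeq P P').mpr h)
  have hmax : ∀ P'' : Ideal Γ(X, W), P''.IsPrime → P'.asIdeal ≤ P'' →
      P''.under Γ(S, U) = P'.asIdeal.under Γ(S, U) → P'' = P'.asIdeal := by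
    intro P'' hP'' hle hu
    let Q'' : Spec Γ(X, W) := ⟨P'', hP''⟩
    have h1 : hW.fromSpec P' ⤳ hW.fromSpec Q'' := (hspec P' Q'').mpr hle
    have h2 : f (hW.fromSpec Q'') = f (hW.fromSpec P') := (hfeq Q'' P').mpr hu
    let p : ↑(f ⁻¹' {f (hW.fromSpec P')}) := ⟨hW.fromSpec P', rfl⟩
    let q : ↑(f ⁻¹' {f (hW.fromSpec P')}) := ⟨hW.fromSpec Q'', h2⟩
    have h3 : p ⤳ q := (subtype_specializes_iff p q).mpr h1
    have h4 : q ∈ closure ({p} : Set ↑(f ⁻¹' {f (hW.fromSpec P')})) :=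
      specializes_iff_mem_closure.mp h3
    have h5 : closure ({p} : Set ↑(f ⁻¹' {f (hW.fromSpec P')})) ⊆
        Subtype.val ⁻¹' {hW.fromSpec P'} :=
      closure_minimal (Set.singleton_subset_iff.mpr rfl) hcl
    have h6 : hW.fromSpec Q'' = hW.fromSpec P' := h5 h4
    exact congrArg PrimeSpectrum.asIdeal (hginj h6)
  -- a basic open inside `O`
  have hOpre : IsOpen (hW.fromSpec ⁻¹' O) := hO.preimage hW.fromSpec.continuous
  obtain ⟨_, ⟨_, ⟨b, rfl⟩, rfl⟩, hPb, hbO⟩ :=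
    PrimeSpectrum.isBasis_basic_opens.exists_subset_of_mem_open (show P ∈ hW.fromSpec ⁻¹' O from hxO)
      hOpre
  haveI hPprime : P.asIdeal.IsPrime := P.isPrime
  haveI hP'prime : P'.asIdeal.IsPrime := P'.isPrime
  obtain ⟨Q, hQprime, hPQ, hQP', hQu, hbQ, hQmax⟩ :=
    exists_prime_between P.asIdeal P'.asIdeal hPP' hne' hmax b hPb
  let Q₁ : Spec Γ(X, W) := ⟨Q, hQprime⟩
  have hfQ : f (hW.fromSpec Q₁) = f (hW.fromSpec P) := (hfeq Q₁ P).mpr hQu
  refine ⟨hW.fromSpec Q₁, hbO (show Q₁ ∈ (PrimeSpectrum.basicOpen b : Set (PrimeSpectrum Γ(X, W))) from hbQ), hfQ, ?_,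
    (hspec P Q₁).mpr hPQ, (hspec Q₁ P').mpr hQP'⟩
  apply isClosed_singleton_fibre f _ _ hfQ W
  · have : hW.fromSpec Q₁ ∈ Set.range hW.fromSpec := ⟨Q₁, rfl⟩
    rw [hW.range_fromSpec] at this
    exact this
  · intro y hyW hfy hsy
    obtain ⟨Y, rfl⟩ := hrange y hyW
    have h1 : Q ≤ Y.asIdeal := (hspec Q₁ Y).mp hsy
    have h2 : Y.asIdeal.under Γ(S, U) = P.asIdeal.under Γ(S, U) := (hfeq Y P).mp hfy
    have h3 := hQmax Y.asIdeal Y.isPrime h1 h2
    congr 1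
    exact PrimeSpectrum.ext h3

end Groth.Agent.H38.SpecDense
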