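import Mathlib
import Groth.Agent.H38.Constr

set_option autoImplicit false
universe u

namespace Groth.Agent.H38

open Topology Set

/-- Stacks 09YF: if `T` is retrocompact in a prespectral space, then the trace on `T` of a
constructible set is constructible in `T`. -/
theorem isConstructible_preimage_val_of_isRetrocompact {X : Type u} [TopologicalSpace X]
    [PrespectralSpace X] (T : Set X) (hT : IsRetrocompact T) (E : Set X) (hE : IsConstructible E) :
    IsConstructible ((Subtype.val : T → X) ⁻¹' E) := by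
  refine hE.preimage continuous_subtype_val ?_
  intro U hUo hUr W hWc hWo
  obtain ⟨O, hO, rfl⟩ := isOpen_induced_iff.mp hWo
  obtain ⟨O', hO'c, hO'o, h1, h2⟩ := PrespectralSpace.exists_isCompact_and_isOpen_between
    (hWc.image continuous_subtype_val) hO
    (by rw [Subtype.image_preimage_coe]; exact inter_subset_right)
  have hW : (Subtype.val ⁻¹' O : Set T) = Subtype.val ⁻¹' O' := by
    apply subset_antisymm
    · intro x hx; exact h1 ⟨x, hx, rfl⟩
    · exact preimage_mono h2
  rw [hW, ← preimage_inter, Subtype.isCompact_iff, Subtype.image_preimage_coe]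
  exact hT (hUr hO'c hO'o) (hUo.inter hO'o)

/-- Every constructible set is saturated for the equivalence relation defined by finitely many
retrocompact opens. -/
theorem exists_finset_retrocompact_saturated {X : Type u} [TopologicalSpace X] {T : Set X}
    (hT : IsConstructible T) :
    ∃ 𝒲 : Finset (Set X), (∀ W ∈ 𝒲, IsOpen W ∧ IsRetrocompact W) ∧
      ∀ x y, (∀ W ∈ 𝒲, x ∈ W ↔ y ∈ W) → (x ∈ T ↔ y ∈ T) := by
  classical
  induction hT using IsConstructible.empty_union_induction with
  | open_retrocompact U hUo hUr =>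
    refine ⟨{U}, ?_, fun x y h => h U (Finset.mem_singleton_self U)⟩
    intro W hW
    rw [Finset.mem_singleton] at hW
    subst hW
    exact ⟨hUo, hUr⟩
  | union s hs t ht hs' ht' =>
    obtain ⟨𝒲₁, h1, h1'⟩ := hs'
    obtain ⟨𝒲₂, h2, h2'⟩ := ht'
    refine ⟨𝒲₁ ∪ 𝒲₂, ?_, ?_⟩
    · intro W hW
      rcases Finset.mem_union.mp hW with h | h
      · exact h1 W h
      · exact h2 W h
    · intro x y h
      have e1 := h1' x y fun W hW => h W (Finset.mem_union_left _ hW)
      have e2 := h2' x y fun W hW => h W (Finset.mem_union_right _ hW)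
      simp only [mem_union, e1, e2]
  | compl s hs hs' =>
    obtain ⟨𝒲, h1, h1'⟩ := hs'
    exact ⟨𝒲, h1, fun x y h => by simp only [mem_compl_iff, h1' x y h]⟩

/-- The stratum of points lying in exactly the opens `W a`, `a ∈ A`. -/
def strat {X : Type u} {ι : Type} (W : ι → Set X) (A : Finset ι) : Set X :=
  {x | ∀ a, x ∈ W a ↔ a ∈ A}

section strat

variable {X : Type u} [TopologicalSpace X] {ι : Type} [Fintype ι] [DecidableEq ι]
  (W : ι → Set X)

theorem strat_eq_inter (A : Finset ι) :
    strat W A = (⋂ a ∈ A, W a) ∩ (⋂ a ∈ Aᶜ, (W a)ᶜ) := by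
  ext x
  simp only [strat, Set.mem_ofPred_eq, mem_inter_iff, mem_iInter, Finset.mem_compl, mem_compl_iff]
  constructor
  · intro h; exact ⟨fun a ha => (h a).2 ha, fun a ha hx => ha ((h a).1 hx)⟩
  · rintro ⟨h1, h2⟩ a
    exact ⟨fun hx => by_contra fun ha => h2 a ha hx, h1 a⟩

theorem strat_eq_iInter (A : Finset ι) :
    strat W A = ⋂ a, (if a ∈ A then W a else (W a)ᶜ) := by
  ext x
  simp only [strat, Set.mem_ofPred_eq, mem_iInter]
  refine forall_congr' fun a => ?_
  by_cases ha : a ∈ A <;> simp [ha]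

theorem isLocallyClosed_strat (hW : ∀ a, IsOpen (W a)) (A : Finset ι) :
    IsLocallyClosed (strat W A) := by
  rw [strat_eq_inter]
  exact (isOpen_biInter_finset fun a _ => hW a).isLocallyClosed.inter
    (isClosed_iInter fun a => isClosed_iInter fun _ => (hW a).isClosed_compl).isLocallyClosed

theorem isConstructible_strat (hW : ∀ a, IsOpen (W a)) (hWr : ∀ a, IsRetrocompact (W a))
    (A : Finset ι) : IsConstructible (strat W A) := by
  rw [strat_eq_iInter]
  refine IsConstructible.iInter fun a => ?_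
  by_cases ha : a ∈ A
  · simp only [ha, if_true]; exact (hWr a).isConstructible (hW a)
  · simp only [ha, if_false]; exact ((hWr a).isConstructible (hW a)).compl

theorem mem_strat_filter (x : X) [DecidablePred fun a => x ∈ W a] :
    x ∈ strat W (Finset.univ.filter fun a => x ∈ W a) := by
  intro a; simp

theorem iUnion_strat : ⋃ A, strat W A = univ := by
  classical
  rw [eq_univ_iff_forall]; intro x
  exact mem_iUnion.mpr ⟨_, mem_strat_filter W x⟩

theorem disjoint_strat (A B : Finset ι) (hAB : A ≠ B) : Disjoint (strat W A) (strat W B) := by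
  rw [Set.disjoint_left]
  intro x hxA hxB
  exact hAB (Finset.ext fun a => (hxA a).symm.trans (hxB a))

theorem closure_strat_subset (hW : ∀ a, IsOpen (W a)) (B : Finset ι) :
    closure (strat W B) ⊆ ⋃ A ∈ Set.Iic B, strat W A := by
  classical
  have hcl : IsClosed (⋂ a ∈ Bᶜ, (W a)ᶜ) :=
    isClosed_iInter fun a => isClosed_iInter fun _ => (hW a).isClosed_compl
  have hsub : strat W B ⊆ ⋂ a ∈ Bᶜ, (W a)ᶜ := by
    rw [strat_eq_inter]; exact inter_subset_right
  intro x hx
  have hx' := closure_minimal hsub hcl hx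
  simp only [mem_iInter, Finset.mem_compl, mem_compl_iff] at hx'
  refine mem_iUnion₂.mpr ⟨Finset.univ.filter (fun a => x ∈ W a), ?_, mem_strat_filter W x⟩
  rw [mem_Iic]
  intro a ha
  have hxa : x ∈ W a := by simpa using ha
  by_contra hB
  exact hx' a hB hxa

theorem strat_subset_of_saturated (T : Set X)
    (hT : ∀ x y, (∀ a, x ∈ W a ↔ y ∈ W a) → (x ∈ T ↔ y ∈ T)) (A : Finset ι)
    (h : (strat W A ∩ T).Nonempty) : strat W A ⊆ T := by
  obtain ⟨x, hxA, hxT⟩ := h
  intro y hyA
  exact (hT x y fun a => (hxA a).trans (hyA a).symm).mp hxT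

end strat

/-- Finite stratification by constructible strata refining a finite family of constructible
sets. -/
theorem exists_constructible_stratification {X : Type u} [TopologicalSpace X] {n : ℕ}
    (T : Fin n → Set X) (hT : ∀ k, IsConstructible (T k)) :
    ∃ (I : Type) (_ : Fintype I) (_ : PartialOrder I) (S : I → Set X),
      (∀ i, IsLocallyClosed (S i) ∧ IsConstructible (S i)) ∧ (⋃ i, S i = Set.univ) ∧
      (∀ i j, i ≠ j → Disjoint (S i) (S j)) ∧
      (∀ j, closure (S j) ⊆ ⋃ i ∈ Set.Iic j, S i) ∧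
      (∀ i k, (S i ∩ T k).Nonempty → S i ⊆ T k) := by
  classical
  choose 𝒲k h𝒲k hsat using fun k => exists_finset_retrocompact_saturated (hT k)
  let 𝒲 : Finset (Set X) := Finset.univ.biUnion 𝒲k
  have h𝒲 : ∀ W ∈ 𝒲, IsOpen W ∧ IsRetrocompact W := by
    intro W hW
    obtain ⟨k, -, hk⟩ := Finset.mem_biUnion.mp hW
    exact h𝒲k k W hk
  have hsat' : ∀ k x y, (∀ W ∈ 𝒲, x ∈ W ↔ y ∈ W) → (x ∈ T k ↔ y ∈ T k) := by
    intro k x y h
    exact hsat k x y fun W hW => h W (Finset.mem_biUnion.mpr ⟨k, Finset.mem_univ k, hW⟩)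
  let e : 𝒲 ≃ Fin 𝒲.card := 𝒲.equivFin
  let W : Fin 𝒲.card → Set X := fun a => (e.symm a).1
  have hWo : ∀ a, IsOpen (W a) := fun a => (h𝒲 _ (e.symm a).2).1
  have hWr : ∀ a, IsRetrocompact (W a) := fun a => (h𝒲 _ (e.symm a).2).2
  have hWsat : ∀ k x y, (∀ a, x ∈ W a ↔ y ∈ W a) → (x ∈ T k ↔ y ∈ T k) := by
    intro k x y h
    apply hsat' k x y
    intro V hV
    have := h (e ⟨V, hV⟩)
    simpa [W] using this
  exact ⟨Finset (Fin 𝒲.card), inferInstance, inferInstance, strat W,
    fun A => ⟨isLocallyClosed_strat W hWo A, isConstructible_strat W hWo hWr A⟩,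
    iUnion_strat W, disjoint_strat W, closure_strat_subset W hWo,
    fun A k h => strat_subset_of_saturated W (T k) (hWsat k) A h⟩

/-- Finite stratification refining a finite family of locally closed sets. -/
theorem exists_stratification_of_isLocallyClosed {X : Type u} [TopologicalSpace X] {n : ℕ}
    (P : Fin n → Set X) (hP : ∀ k, IsLocallyClosed (P k)) :
    ∃ (I : Type) (_ : Fintype I) (_ : PartialOrder I) (S : I → Set X),
      (∀ i, IsLocallyClosed (S i)) ∧ (⋃ i, S i = Set.univ) ∧
      (∀ i j, i ≠ j → Disjoint (S i) (S j)) ∧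
      (∀ j, closure (S j) ⊆ ⋃ i ∈ Set.Iic j, S i) ∧
      (∀ i k, (S i ∩ P k).Nonempty → S i ⊆ P k) := by
  classical
  choose U Z hU hZ hUZ using hP
  let W : Fin n ⊕ Fin n → Set X := Sum.elim U (fun k => (Z k)ᶜ)
  have hWo : ∀ a, IsOpen (W a) := by
    rintro (a | a)
    · exact hU a
    · exact (hZ a).isOpen_compl
  have hWsat : ∀ k x y, (∀ a, x ∈ W a ↔ y ∈ W a) → (x ∈ P k ↔ y ∈ P k) := by
    intro k x y h
    have h1 : x ∈ U k ↔ y ∈ U k := h (Sum.inl k)
    have h2 : x ∈ (Z k)ᶜ ↔ y ∈ (Z k)ᶜ := h (Sum.inr k)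
    rw [hUZ k]
    simp only [mem_inter_iff, mem_compl_iff] at h2 ⊢
    rw [h1, not_iff_not.mp h2]
  exact ⟨Finset (Fin n ⊕ Fin n), inferInstance, inferInstance, strat W,
    isLocallyClosed_strat W hWo,
    iUnion_strat W, disjoint_strat W, closure_strat_subset W hWo,
    fun A k h => strat_subset_of_saturated W (P k) (hWsat k) A h⟩

end Groth.Agent.H38
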