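import Mathlib

/-!
# Pullback of sheaves commutes with composition by a left adjoint (general nonsense)
-/

set_option autoImplicit false
universe v₁ v₂ v₃ v₄ u₁ u₂ u₃ u₄
open CategoryTheory CategoryTheory.Limits Opposite

namespace Groth.Agent.H38.UMGen

variable {C : Type u₁} [Category.{v₁} C] {D : Type u₂} [Category.{v₂} D] (ε : C ⥤ D)
  (J : GrothendieckTopology C) (K : GrothendieckTopology D) [ε.IsContinuous J K]
  {A : Type u₃} [Category.{v₃} A] {B : Type u₄} [Category.{v₄} B] {φ : A ⥤ B} {θ : B ⥤ A}
  (adjφ : φ ⊣ θ)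

section adj
variable [J.HasSheafCompose φ] [J.HasSheafCompose θ]

/-- (P1) the sheaf-level adjunction induced by an adjunction of value categories both of whose
functors preserve sheaves. -/
noncomputable def sheafComposeAdj : sheafCompose J φ ⊣ sheafCompose J θ :=
  (adjφ.whiskerRight Cᵒᵖ).restrictFullyFaithful (fullyFaithfulSheafToPresheaf J A)
    (fullyFaithfulSheafToPresheaf J B) (Iso.refl _) (Iso.refl _)

end adj

variable [J.HasSheafCompose φ] [J.HasSheafCompose θ] [K.HasSheafCompose φ] [K.HasSheafCompose θ]
  [(ε.sheafPushforwardContinuous A J K).IsRightAdjoint]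
  [(ε.sheafPushforwardContinuous B J K).IsRightAdjoint]

/-- the right adjoints commute strictly. -/
noncomputable def pushCompIso :
    ε.sheafPushforwardContinuous B J K ⋙ sheafCompose J θ ≅
      sheafCompose K θ ⋙ ε.sheafPushforwardContinuous A J K :=
  Iso.refl _

/-- (P3) `ε⁻¹` commutes with composition by the left adjoint `φ`. -/
noncomputable def pullCompIso :
    ε.sheafPullback A J K ⋙ sheafCompose K φ ≅ sheafCompose J φ ⋙ ε.sheafPullback B J K :=
  Adjunction.leftAdjointUniq
    ((ε.sheafAdjunctionContinuous A J K).comp (sheafComposeAdj K adjφ))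
    (((sheafComposeAdj J adjφ).comp (ε.sheafAdjunctionContinuous B J K)).ofNatIsoRight
      (pushCompIso ε J K))

end Groth.Agent.H38.UMGen
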