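import Mathlib
import Groth.Prelude.Def_EtModW
import Groth.Prelude.Def_ARSys
import Groth.Agent.H38.Adic_B
import Groth.Agent.H38.UM_Gen
import Groth.Agent.H73.UM_P2
import Groth.Agent.H73.UM_P5
import Groth.Agent.S0717

/-!
# (UM) `ε⁻¹` is fully faithful on sheaves of `Λ`-modules
-/

set_option autoImplicit false
universe u v w
open CategoryTheory CategoryTheory.Limits AlgebraicGeometry Opposite

namespace Groth.Agent.H38.UM

open Groth.Agent.H38.UMGen

/-- the forgetful functor. -/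
abbrev fg (Λ : Type v) [CommRing Λ] : ModuleCat.{v} Λ ⥤ AddCommGrpCat.{v} := forget₂ _ _

section general

universe v₁ v₂ u₁ u₂

variable {C : Type u₁} [Category.{v₁} C] {D : Type u₂} [Category.{v₂} D] (ε : C ⥤ D)
  (J : GrothendieckTopology C) (K : GrothendieckTopology D) [ε.IsContinuous J K]
  (Λ : Type v) [CommRing Λ]

variable {θ : AddCommGrpCat.{v} ⥤ ModuleCat.{v} Λ} (adjφ : fg Λ ⊣ θ)
  [J.HasSheafCompose (fg Λ)] [J.HasSheafCompose θ] [K.HasSheafCompose (fg Λ)]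
  [K.HasSheafCompose θ]
  [(ε.sheafPushforwardContinuous (ModuleCat.{v} Λ) J K).IsRightAdjoint]
  [(ε.sheafPushforwardContinuous AddCommGrpCat.{v} J K).IsRightAdjoint]

include adjφ in
theorem faithful_pull (hB : (ε.sheafPullback AddCommGrpCat.{v} J K).Faithful) :
    (ε.sheafPullback (ModuleCat.{v} Λ) J K).Faithful := by
  haveI : (sheafCompose J (fg Λ) ⋙ ε.sheafPullback AddCommGrpCat.{v} J K).Faithful :=
    Functor.Faithful.comp _ _
  haveI : (ε.sheafPullback (ModuleCat.{v} Λ) J K ⋙ sheafCompose K (fg Λ)).Faithful :=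
    Functor.Faithful.of_iso (pullCompIso ε J K adjφ).symm
  exact Functor.Faithful.of_comp (ε.sheafPullback (ModuleCat.{v} Λ) J K) (sheafCompose K (fg Λ))

include adjφ in
theorem full_pull (hBfull : (ε.sheafPullback AddCommGrpCat.{v} J K).Full)
    (hBfaith : (ε.sheafPullback AddCommGrpCat.{v} J K).Faithful) :
    (ε.sheafPullback (ModuleCat.{v} Λ) J K).Full := by
  constructor
  intro F' F g
  let LA := ε.sheafPullback (ModuleCat.{v} Λ) J K
  let LB := ε.sheafPullback AddCommGrpCat.{v} J K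
  let ΦJ := sheafCompose J (fg Λ)
  let ΦK := sheafCompose K (fg Λ)
  let c : LA ⋙ ΦK ≅ ΦJ ⋙ LB := pullCompIso ε J K adjφ
  have hR : ∀ {P Q : Sheaf K (ModuleCat.{v} Λ)} (a : Λ) (f : P ⟶ Q),
      (ε.sheafPushforwardContinuous (ModuleCat.{v} Λ) J K).map (a • f) =
        a • (ε.sheafPushforwardContinuous (ModuleCat.{v} Λ) J K).map f := fun a f => rfl
  have hLs : ∀ {P Q : Sheaf J (ModuleCat.{v} Λ)} (a : Λ) (f : P ⟶ Q),
      LA.map (a • f) = a • LA.map f := fun a f =>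
    Groth.Agent.H38.Adic_B.L_map_smul (ε.sheafAdjunctionContinuous (ModuleCat.{v} Λ) J K) hR a f
  let h' : LB.obj (ΦJ.obj F') ⟶ LB.obj (ΦJ.obj F) := c.inv.app F' ≫ ΦK.map g ≫ c.hom.app F
  let h : ΦJ.obj F' ⟶ ΦJ.obj F := LB.preimage h'
  have hh : LB.map h = h' := LB.map_preimage h'
  have key : ∀ (a : Λ) (G : Sheaf J (ModuleCat.{v} Λ)),
      LB.map (ΦJ.map (a • 𝟙 G)) = c.inv.app G ≫ ΦK.map (LA.map (a • 𝟙 G)) ≫ c.hom.app G := by
    intro a G
    have hn := c.hom.naturality (a • 𝟙 G)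
    simp only [Functor.comp_map] at hn
    rw [hn, Iso.inv_hom_id_app_assoc]
  have hcomm1 : ∀ a : Λ, LA.map (a • 𝟙 F') ≫ g = g ≫ LA.map (a • 𝟙 F) := by
    intro a
    rw [hLs, hLs, LA.map_id, LA.map_id, Linear.smul_comp, Linear.comp_smul, Category.id_comp,
      Category.comp_id]
  have hcomm : ∀ a : Λ, ΦJ.map (a • 𝟙 F') ≫ h = h ≫ ΦJ.map (a • 𝟙 F) := by
    intro a
    apply LB.map_injective
    rw [LB.map_comp, LB.map_comp, hh, key, key]
    show (c.inv.app F' ≫ ΦK.map (LA.map (a • 𝟙 F')) ≫ c.hom.app F') ≫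
        c.inv.app F' ≫ ΦK.map g ≫ c.hom.app F =
      (c.inv.app F' ≫ ΦK.map g ≫ c.hom.app F) ≫
        c.inv.app F ≫ ΦK.map (LA.map (a • 𝟙 F)) ≫ c.hom.app F
    simp only [Category.assoc, Iso.hom_inv_id_app_assoc]
    rw [← ΦK.map_comp_assoc, hcomm1, ΦK.map_comp_assoc]
  obtain ⟨a0, ha0⟩ := Groth.Agent.H73.UM_P5.exists_lift_of_comm J Λ h hcomm
  refine ⟨a0, ?_⟩
  apply ΦK.map_injective
  have hn := c.hom.naturality a0
  simp only [Functor.comp_map] at hn
  have h2 : ΦK.map (LA.map a0) = c.hom.app F' ≫ LB.map (ΦJ.map a0) ≫ c.inv.app F := by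
    rw [← Category.assoc, ← hn, Category.assoc, Iso.hom_inv_id_app, Category.comp_id]
  rw [h2, ha0, hh]
  show c.hom.app F' ≫ (c.inv.app F' ≫ ΦK.map g ≫ c.hom.app F) ≫ c.inv.app F = ΦK.map g
  simp only [Category.assoc, Iso.hom_inv_id_app, Iso.hom_inv_id_app_assoc]
  exact Category.comp_id _

end general

/-- (UM) `ε⁻¹` is full and faithful on sheaves of `Λ`-modules. -/
theorem epsPullMod_full_faithful (Λ : Type (u + 1)) [CommRing Λ] (X : Scheme.{u})
    [ProEtS.EpsCont X] :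
    (EtModW.epsPullMod Λ X).Full ∧ (EtModW.epsPullMod Λ X).Faithful := by
  haveI : (fg Λ).IsLeftAdjoint := Groth.Agent.H73.UM_P2.isLeftAdjoint_forget₂ Λ
  let adjφ : fg Λ ⊣ (fg Λ).rightAdjoint := Adjunction.ofIsLeftAdjoint (fg Λ)
  haveI : PreservesLimitsOfSize.{u + 1, u + 1} (fg Λ).rightAdjoint :=
    adjφ.rightAdjoint_preservesLimits
  haveI : ∀ F : EtCoh.Ab X, IsIso ((ProEtS.epsAdj X).unit.app F) :=
    fun F => Groth.Agent.S0717.result X F
  haveI : IsIso (ProEtS.epsAdj X).unit := NatIso.isIso_of_isIso_app _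
  have hff := (ProEtS.epsAdj X).fullyFaithfulLOfIsIsoUnit
  have hBfull : (ProEtS.epsPull X).Full := hff.full
  have hBfaith : (ProEtS.epsPull X).Faithful := hff.faithful
  exact ⟨full_pull (ProEtS.eps X) X.smallEtaleTopology (Scheme.ProEt.topology X) Λ adjφ hBfull
    hBfaith, faithful_pull (ProEtS.eps X) X.smallEtaleTopology (Scheme.ProEt.topology X) Λ adjφ
    hBfaith⟩

end Groth.Agent.H38.UM
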