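import Mathlib
import Groth.Agent.H38.ValFibreDim3
import Groth.Agent.H38.ProdLocalDim
import Groth.Agent.H38.DimZero
import Groth.Agent.H38.FibreDimCons

/-!
# Flat proper generically finite over a valuation ring implies finite
-/

set_option autoImplicit false
universe u
open CategoryTheory AlgebraicGeometry Limits

namespace Groth.Agent.H38.ValFinite

open Groth.Agent.H54

/-- A finite scheme locally of finite type over a field has dimension at most zero. -/
theorem dim_le_zero_of_finite {k : Type u} [Field k] {F : Scheme.{u}}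
    (s : F ⟶ Spec (CommRingCat.of k)) [LocallyOfFiniteType s] [Finite F] :
    topologicalKrullDim F ≤ 0 := by
  haveI : JacobsonSpace (Spec (CommRingCat.of k)) :=
    inferInstanceAs (JacobsonSpace (PrimeSpectrum k))
  haveI : JacobsonSpace F := LocallyOfFiniteType.jacobsonSpace s
  exact topologicalKrullDim_zero_of_discreteTopology F

/-- A quasi-compact scheme locally of finite type over a field of dimension at most zero is
finite. -/
theorem finite_of_dim_le_zero {k : Type u} [Field k] {F : Scheme.{u}}
    (s : F ⟶ Spec (CommRingCat.of k)) [LocallyOfFiniteType s] [QuasiCompact s]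
    (h : topologicalKrullDim F ≤ 0) : Finite F := by
  haveI : IsFinite s := Groth.Agent.H38.DimZero.isFinite_of_dim_le_zero s h
  have h1 := s.finite_preimage_singleton (IsLocalRing.closedPoint k)
  refine Set.finite_univ_iff.mp (h1.subset ?_)
  intro x _
  exact Subsingleton.elim (α := PrimeSpectrum k) _ _

/-- If the fibre `f⁻¹{y}` is finite then the fibre dimension at its points is at most zero. -/
theorem fibreDimAt_le_zero_of_finite {X Y : Scheme.{u}} (f : X ⟶ Y) [LocallyOfFiniteType f]
    (y : Y) (hfin : (f.base ⁻¹' {y}).Finite) (x : X) (hx : f.base x = y) :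
    FlatMor.fibreDimAt f x ≤ 0 := by
  subst hx
  haveI : Finite ↥(f.fiber (f.base x)) :=
    (f.fiberHomeo (f.base x)).toEquiv.finite_iff.mpr hfin
  unfold FlatMor.fibreDimAt
  exact (Groth.Agent.H9.FibDim.localDim_le_dim _ _).trans
    (dim_le_zero_of_finite (fiberQ f (f.base x)))

/-- If all fibre dimensions over `y` are at most zero and `f` is quasi-compact then `f⁻¹{y}` is
finite. -/
theorem finite_fibre_of_fibreDimAt_le_zero {X Y : Scheme.{u}} (f : X ⟶ Y) [LocallyOfFiniteType f]
    [QuasiCompact f] (y : Y) (h : ∀ x : X, f.base x = y → FlatMor.fibreDimAt f x ≤ 0) :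
    (f.base ⁻¹' {y}).Finite := by
  have hd : topologicalKrullDim ↥(f.fiber y) ≤ 0 :=
    (Groth.Agent.H9.FibDim.dim_fiber_le_iff f y 0).mpr h
  haveI : QuasiCompact (fiberQ f y) :=
    inferInstanceAs (QuasiCompact (pullback.snd f (Y.fromSpecResidueField y)))
  haveI : Finite ↥(f.fiber y) := finite_of_dim_le_zero (fiberQ f y) hd
  exact (f.fiberHomeo y).toEquiv.finite_iff.mp inferInstance

section Val

variable {A : Type u} [CommRing A] [IsDomain A] [ValuationRing A] {Y : Scheme.{u}}
  (f : Y ⟶ Spec (CommRingCat.of A))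

/-- The part of the closed fibre lying in the closure of a point of the (finite) generic fibre is
finite. -/
theorem finite_closure_inter_fibre [LocallyOfFiniteType f] [QuasiCompact f] (ξ : Y)
    (hξ : f.base ξ = genericPoint (Spec (CommRingCat.of A)))
    (hfin : (f.base ⁻¹' {genericPoint (Spec (CommRingCat.of A))}).Finite) :
    (closure {ξ} ∩ f.base ⁻¹' {IsLocalRing.closedPoint A}).Finite := by
  haveI : IrreducibleSpace (Spec (CommRingCat.of A)) :=
    inferInstanceAs (IrreducibleSpace (PrimeSpectrum A))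
  obtain ⟨Z, j, hj, hZ, hr⟩ := Groth.Agent.H38.ProdLocalDim.exists_integral_closedImmersion ξ
  haveI : IrreducibleSpace Z := inferInstance
  have hξr : ξ ∈ Set.range j.base := by rw [hr]; exact subset_closure rfl
  obtain ⟨w₀, hw₀⟩ := hξr
  have hdom : DenseRange (j ≫ f).base := by
    have h1 : Dense ({genericPoint (Spec (CommRingCat.of A))} : Set (Spec (CommRingCat.of A))) :=
      dense_iff_closure_eq.mpr (genericPoint_spec _).def
    refine h1.mono ?_
    rw [Set.singleton_subset_iff]
    refine ⟨w₀, ?_⟩
    rw [Scheme.Hom.comp_base]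
    show f.base (j.base w₀) = _
    rw [hw₀, hξ]
  have hfinZ : ((j ≫ f).base ⁻¹' {genericPoint (Spec (CommRingCat.of A))}).Finite := by
    have h1 : (j ≫ f).base ⁻¹' {genericPoint (Spec (CommRingCat.of A))} =
        j.base ⁻¹' (f.base ⁻¹' {genericPoint (Spec (CommRingCat.of A))}) := by
      ext w; rfl
    rw [h1]
    exact hfin.preimage (j.isClosedEmbedding.injective.injOn)
  haveI : Finite ↥((j ≫ f).fiber (genericPoint (Spec (CommRingCat.of A)))) :=
    ((j ≫ f).fiberHomeo _).toEquiv.finite_iff.mpr hfinZ
  have hd0 : topologicalKrullDim ↥((j ≫ f).fiber (genericPoint (Spec (CommRingCat.of A)))) ≤ 0 :=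
    dim_le_zero_of_finite (fiberQ (j ≫ f) (genericPoint (Spec (CommRingCat.of A))))
  have hfib := finite_fibre_of_fibreDimAt_le_zero (j ≫ f) (IsLocalRing.closedPoint A)
    (fun w hw => by
      rw [Groth.Agent.H38.ValFibreDim.fibreDimAt_eq_dim_generic_fiber (j ≫ f) hdom w hw]
      exact hd0)
  refine (hfib.image j.base).subset ?_
  rintro y ⟨hy1, hy2⟩
  rw [← hr] at hy1
  obtain ⟨w, rfl⟩ := hy1
  exact ⟨w, hy2, rfl⟩

/-- A flat proper morphism to the spectrum of a valuation ring with finite generic fibre is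
finite. -/
theorem isFinite_of_flat_proper [Flat f] [IsProper f]
    (hfin : (f.base ⁻¹' {genericPoint (Spec (CommRingCat.of A))}).Finite) : IsFinite f := by
  haveI : IrreducibleSpace (Spec (CommRingCat.of A)) :=
    inferInstanceAs (IrreducibleSpace (PrimeSpectrum A))
  -- maximal points map to the generic point
  have hmax : ∀ ξ : Y, closure ({ξ} : Set Y) ∈ irreducibleComponents (Y : Type u) →
      f.base ξ = genericPoint (Spec (CommRingCat.of A)) := by
    intro ξ hξ
    have hsp : genericPoint (Spec (CommRingCat.of A)) ⤳ f.base ξ :=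
      (genericPoint_spec _).specializes trivial
    obtain ⟨ξ', hξ'ξ, hξ'⟩ := Flat.generalizingMap f hsp
    rw [← hξ', eq_of_specializes_generic hξ hξ'ξ]
  -- the closed fibre is finite
  have hclosed : (f.base ⁻¹' {IsLocalRing.closedPoint A}).Finite := by
    have h1 : f.base ⁻¹' {IsLocalRing.closedPoint A} ⊆
        ⋃ ξ ∈ f.base ⁻¹' {genericPoint (Spec (CommRingCat.of A))},
          (closure {ξ} ∩ f.base ⁻¹' {IsLocalRing.closedPoint A}) := by
      intro y hy
      obtain ⟨ξ, hξy, hξ⟩ := exists_generic_specializes y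
      simp only [Set.mem_iUnion]
      exact ⟨ξ, hmax ξ hξ, specializes_iff_mem_closure.mp hξy, hy⟩
    refine (Set.Finite.biUnion hfin fun ξ hξ => ?_).subset h1
    exact finite_closure_inter_fibre f ξ hξ hfin
  -- all fibre dimensions are zero
  have hall : ∀ y : Y, FlatMor.fibreDimAt f y ≤ 0 := by
    by_contra hcon
    push Not at hcon
    obtain ⟨y₀, hy₀⟩ := hcon
    have hE : IsClosed {y : Y | ((1 : ℕ) : WithBot ℕ∞) ≤ FlatMor.fibreDimAt f y} :=
      Groth.Agent.H9.FibDim.isClosed_setOf_natCast_le_fibreDimAt f 1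
    have hy₀E : y₀ ∈ {y : Y | ((1 : ℕ) : WithBot ℕ∞) ≤ FlatMor.fibreDimAt f y} := by
      have := (Groth.Agent.H9.FibDim.natCast_le_iff_not_le (FlatMor.fibreDimAt f y₀) 0).mpr
        (by rw [Nat.cast_zero]; exact not_le.mpr hy₀)
      simpa using this
    have hfE := f.isClosedMap _ hE
    have hm : IsLocalRing.closedPoint A ∈
        f.base '' {y : Y | ((1 : ℕ) : WithBot ℕ∞) ≤ FlatMor.fibreDimAt f y} := by
      have hsp : f.base y₀ ⤳ (IsLocalRing.closedPoint A : Spec (CommRingCat.of A)) :=
        IsLocalRing.specializes_closedPoint (R := A) (f.base y₀)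
      exact hsp.mem_closed hfE ⟨y₀, hy₀E, rfl⟩
    obtain ⟨y, hyE, hy⟩ := hm
    have h0 := fibreDimAt_le_zero_of_finite f _ hclosed y hy
    have h1 : ((1 : ℕ) : WithBot ℕ∞) ≤ 0 := le_trans hyE h0
    exact absurd h1 (by simp)
  -- conclude
  haveI : LocallyQuasiFinite f :=
    locallyQuasiFinite_iff_finite_preimage_singleton.mpr
      (fun p => finite_fibre_of_fibreDimAt_le_zero f p (fun y _ => hall y))
  exact IsFinite.of_isProper_of_locallyQuasiFinite f

end Val

end Groth.Agent.H38.ValFinite
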